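import Mathlib

set_option autoImplicit false

namespace Cfsg.Agent.Helper17

open Equiv

/-- A nonabelian simple group has no nontrivial homomorphism to a commutative group. -/
theorem hom_to_comm_trivial {G : Type*} [Group G] [IsSimpleGroup G] (hG : ¬ IsMulCommutative G)
    {A : Type*} [CommGroup A] (f : G →* A) (g : G) : f g = 1 := by
  have hker : f.ker = ⊥ ∨ f.ker = ⊤ := (f.normal_ker).eq_bot_or_eq_top
  rcases hker with h | h
  · exfalso
    apply hG
    have hinj : Function.Injective f := (MonoidHom.ker_eq_bot_iff f).1 h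
    refine ⟨⟨fun a b => hinj ?_⟩⟩
    simp [mul_comm]
  · have : g ∈ f.ker := by rw [h]; trivial
    exact this

/-- Embedding theorem: a nonabelian simple group with a proper subgroup `H` embeds into the alternating group
on `Fin H.index`. -/
theorem embed_alt {G : Type*} [Group G] [Finite G] [IsSimpleGroup G] (hG : ¬ IsMulCommutative G)
    (H : Subgroup G) (hH : H ≠ ⊤) :
    ∃ f : G →* ↥(alternatingGroup (Fin H.index)), Function.Injective f := by
  classical
  haveI : Fintype (G ⧸ H) := Fintype.ofFinite _
  have hcard : Fintype.card (G ⧸ H) = H.index := by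
    rw [Subgroup.index_eq_card, Nat.card_eq_fintype_card]
  let e : (G ⧸ H) ≃ Fin H.index := Fintype.equivFinOfCardEq hcard
  let φ : G →* Perm (G ⧸ H) := MulAction.toPermHom G (G ⧸ H)
  let ψ : G →* Perm (Fin H.index) := (e.permCongrHom.toMonoidHom).comp φ
  have hφker : φ.ker ≠ ⊤ := by
    intro htop
    apply hH
    rw [eq_top_iff]
    intro g _
    have hg : g ∈ φ.ker := by rw [htop]; trivial
    have h1 : φ g = 1 := hg
    have h2 : φ g (QuotientGroup.mk 1 : G ⧸ H) = (QuotientGroup.mk 1 : G ⧸ H) := by rw [h1]; rfl
    have h3 : (QuotientGroup.mk (g * 1) : G ⧸ H) = QuotientGroup.mk 1 := h2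
    rw [mul_one] at h3
    have := QuotientGroup.eq.1 h3
    simpa using this
  have hφinj : Function.Injective φ := by
    rw [← MonoidHom.ker_eq_bot_iff]
    exact (φ.normal_ker.eq_bot_or_eq_top).resolve_right hφker
  have hψinj : Function.Injective ψ := by
    intro a b hab
    apply hφinj
    exact e.permCongrHom.injective hab
  have hmem : ∀ g, ψ g ∈ alternatingGroup (Fin H.index) := by
    intro g
    rw [Equiv.Perm.mem_alternatingGroup]
    exact hom_to_comm_trivial hG (Equiv.Perm.sign.comp ψ) g
  refine ⟨ψ.codRestrict _ hmem, ?_⟩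
  intro a b hab
  apply hψinj
  have := congrArg Subtype.val hab
  simpa using this

end Cfsg.Agent.Helper17
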