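import Mathlib
import Cfsg.Agent.Lib.Helper17.Embed

set_option autoImplicit false

namespace Cfsg.Agent.Helper17

open Nat

/-- A commutative finite simple group has prime order. -/
theorem prime_card_of_comm {G : Type*} [Group G] [Finite G] [IsSimpleGroup G]
    (h : IsMulCommutative G) : (Nat.card G).Prime := by
  let _ : CommGroup G := { ‹Group G› with mul_comm := h.is_comm.comm }
  exact IsSimpleGroup.prime_card

/-- A finite simple group whose order is not prime is not commutative. -/
theorem not_comm_of_not_prime {G : Type*} [Group G] [Finite G] [IsSimpleGroup G]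
    (h : ¬ (Nat.card G).Prime) : ¬ IsMulCommutative G := fun hc => h (prime_card_of_comm hc)

/-- In a simple group, a normal subgroup whose order is neither `1` nor `|G|` does not exist. -/
theorem normal_card_absurd {G : Type*} [Group G] [Finite G] [IsSimpleGroup G] (H : Subgroup G)
    (hn : H.Normal) (h1 : Nat.card H ≠ 1) (h2 : Nat.card H ≠ Nat.card G) : False := by
  rcases hn.eq_bot_or_eq_top with h | h
  · apply h1; rw [h]; exact Subgroup.card_bot
  · apply h2; rw [h]; exact Subgroup.card_top

/-- Index bound: a nonabelian simple group with a proper subgroup of index `n` has order dividing `n!/2`. -/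
theorem two_mul_card_dvd_factorial {G : Type*} [Group G] [Finite G] [IsSimpleGroup G]
    (hG : ¬ IsMulCommutative G) (H : Subgroup G) (hH : H ≠ ⊤) :
    2 * Nat.card G ∣ (H.index)! := by
  classical
  obtain ⟨f, hf⟩ := embed_alt hG H hH
  have h2 : 2 ≤ H.index := by
    have h0 : H.index ≠ 0 := Subgroup.index_ne_zero_of_finite
    have h1 : H.index ≠ 1 := fun h => hH (Subgroup.index_eq_one.1 h)
    omega
  have : Nontrivial (Fin H.index) := Fin.nontrivial_iff_two_le.2 h2
  have hdvd : Nat.card G ∣ Nat.card (alternatingGroup (Fin H.index)) :=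
    Subgroup.card_dvd_of_injective f hf
  have hA : 2 * Nat.card (alternatingGroup (Fin H.index)) = (H.index)! := by
    rw [Nat.card_eq_fintype_card, two_mul_card_alternatingGroup, Fintype.card_perm, Fintype.card_fin]
  rw [← hA]
  exact Nat.mul_dvd_mul_left 2 hdvd

/-- Order of a Sylow subgroup from a factorization of the group order. -/
theorem sylow_card_eq {G : Type*} [Group G] [Finite G] {p : ℕ} [hp : Fact p.Prime] (P : Sylow p G)
    {k m : ℕ} (hG : Nat.card G = p ^ k * m) (hm : ¬ p ∣ m) : Nat.card P = p ^ k := by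
  rw [Sylow.card_eq_multiplicity, hG]
  have hm0 : m ≠ 0 := fun h => hm (h ▸ dvd_zero p)
  rw [Nat.factorization_mul (pow_ne_zero _ hp.out.ne_zero) hm0]
  simp [hp.out.factorization_pow, Nat.factorization_eq_zero_of_not_dvd hm]

/-- Index of a Sylow subgroup from a factorization of the group order. -/
theorem sylow_index_eq {G : Type*} [Group G] [Finite G] {p : ℕ} [hp : Fact p.Prime] (P : Sylow p G)
    {k m : ℕ} (hG : Nat.card G = p ^ k * m) (hm : ¬ p ∣ m) : (P : Subgroup G).index = m := by
  have h1 := sylow_card_eq P hG hm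
  have h2 := (P : Subgroup G).card_mul_index
  rw [h1, hG] at h2
  exact Nat.eq_of_mul_eq_mul_left (pow_pos hp.out.pos k) h2

/-- The number of Sylow `p`-subgroups divides `m` and is `1` mod `p`. -/
theorem sylow_count {G : Type*} [Group G] [Finite G] {p : ℕ} [hp : Fact p.Prime]
    {k m : ℕ} (hG : Nat.card G = p ^ k * m) (hm : ¬ p ∣ m) :
    Nat.card (Sylow p G) ∣ m ∧ Nat.card (Sylow p G) % p = 1 := by
  obtain ⟨P⟩ : Nonempty (Sylow p G) := inferInstance
  refine ⟨?_, ?_⟩
  · rw [← sylow_index_eq P hG hm]; exact P.card_dvd_index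
  · have := card_sylow_modEq_one p G
    rw [Nat.ModEq, Nat.mod_eq_of_lt hp.out.one_lt] at this
    exact this

/-- In a simple group a proper nontrivial Sylow subgroup is not unique. -/
theorem sylow_count_ne_one {G : Type*} [Group G] [Finite G] [IsSimpleGroup G] {p : ℕ}
    [hp : Fact p.Prime] {k m : ℕ} (hG : Nat.card G = p ^ k * m) (hm : ¬ p ∣ m) (hk : k ≠ 0)
    (hm1 : m ≠ 1) : Nat.card (Sylow p G) ≠ 1 := by
  intro h1
  obtain ⟨P⟩ : Nonempty (Sylow p G) := inferInstance
  have : Subsingleton (Sylow p G) := (Nat.card_eq_one_iff_unique.1 h1).1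
  have hn : (P : Subgroup G).Normal := P.normal_of_subsingleton
  have hc := sylow_card_eq P hG hm
  apply normal_card_absurd (P : Subgroup G) hn
  · rw [hc]
    exact (Nat.one_lt_pow hk hp.out.one_lt).ne'
  · rw [hc, hG]
    intro h
    have hpos : 0 < p ^ k := pow_pos hp.out.pos k
    have : p ^ k * 1 = p ^ k * m := by rw [mul_one]; exact h
    exact hm1 (Nat.eq_of_mul_eq_mul_left hpos this).symm

/-- The normalizer of a Sylow subgroup has index the number of Sylow subgroups; in a nonabelian simple group
this gives the factorial bound. -/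
theorem sylow_count_factorial {G : Type*} [Group G] [Finite G] [IsSimpleGroup G]
    (hG : ¬ IsMulCommutative G) {p : ℕ} [hp : Fact p.Prime] (hne : Nat.card (Sylow p G) ≠ 1) :
    2 * Nat.card G ∣ (Nat.card (Sylow p G))! := by
  obtain ⟨P⟩ : Nonempty (Sylow p G) := inferInstance
  rw [P.card_eq_index_normalizer] at hne ⊢
  apply two_mul_card_dvd_factorial hG
  intro h
  exact hne (h ▸ Subgroup.index_top)

end Cfsg.Agent.Helper17
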