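import Mathlib

set_option autoImplicit false

namespace Cfsg.Agent.Helper17

/-- `|H ∩ K| * [K : H ∩ K] = |K|`. -/
theorem card_inf_mul_relIndex {G : Type*} [Group G] (H K : Subgroup G) :
    Nat.card ↥(H ⊓ K) * H.relIndex K = Nat.card K := by
  have h1 := (H.subgroupOf K).card_mul_index
  have h2 : Nat.card ↥(H.subgroupOf K) = Nat.card ↥(H ⊓ K) := by
    rw [← Subgroup.inf_subgroupOf_right H K]
    exact Nat.card_congr (Subgroup.subgroupOfEquivOfLe inf_le_right).toEquiv
  rw [h2] at h1
  exact h1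

/-- If `[P : P ∩ R] = p` for Sylow `p`-subgroups `P`, `R`, then `P` normalizes `P ∩ R`. -/
theorem le_normalizer_inf_of_relIndex_eq_prime {G : Type*} [Group G] [Finite G] {p : ℕ}
    [hp : Fact p.Prime] (P : Sylow p G) (R : Subgroup G)
    (h : R.relIndex (P : Subgroup G) = p) :
    (P : Subgroup G) ≤ Subgroup.normalizer (((P : Subgroup G) ⊓ R : Subgroup G) : Set G) := by
  rw [inf_comm, ← Subgroup.normal_subgroupOf_iff_le_normalizer_inf]
  apply Subgroup.normal_of_index_eq_minFac_card
  obtain ⟨n, hn⟩ := IsPGroup.iff_card.1 P.2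
  have hn0 : n ≠ 0 := by
    rintro rfl
    have hdvd : R.relIndex (P : Subgroup G) ∣ Nat.card (P : Subgroup G) :=
      Subgroup.relIndex_dvd_card _ _
    rw [h, hn, pow_zero] at hdvd
    exact hp.out.one_lt.ne' (Nat.dvd_one.1 hdvd)
  rw [hn, Nat.pow_minFac hn0, hp.out.minFac_eq]
  exact h

/-- Sylow subgroups have symmetric relative indices. -/
theorem sylow_relIndex_symm {G : Type*} [Group G] [Finite G] {p : ℕ}
    [hp : Fact p.Prime] (P R : Sylow p G) :
    (R : Subgroup G).relIndex (P : Subgroup G) = (P : Subgroup G).relIndex (R : Subgroup G) := by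
  have h1 := card_inf_mul_relIndex (R : Subgroup G) (P : Subgroup G)
  have h2 := card_inf_mul_relIndex (P : Subgroup G) (R : Subgroup G)
  have hc : Nat.card (P : Subgroup G) = Nat.card (R : Subgroup G) := by
    rw [Sylow.card_eq_multiplicity, Sylow.card_eq_multiplicity]
  rw [inf_comm, hc, ← h2] at h1
  have hpos : 0 < Nat.card ↥((P : Subgroup G) ⊓ (R : Subgroup G)) := Nat.card_pos
  exact Nat.eq_of_mul_eq_mul_left hpos h1

end Cfsg.Agent.Helper17
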