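import Mathlib
import Cfsg.Agent.Lib.Helper17.Simple

set_option autoImplicit false

namespace Cfsg.Agent.Helper17

/-- Burnside's normal `p`-complement theorem, packaged. -/
theorem exists_normal_pcomplement {G : Type*} [Group G] [Finite G] {p : ℕ} [Fact p.Prime]
    (P : Sylow p G)
    (hP : Subgroup.normalizer ((P : Subgroup G) : Set G) ≤
      Subgroup.centralizer ((P : Subgroup G) : Set G)) :
    ∃ K : Subgroup G, K.Normal ∧ Nat.card K * Nat.card (P : Subgroup G) = Nat.card G ∧
      ¬ p ∣ Nat.card K := by
  refine ⟨(MonoidHom.transferSylow P hP).ker, inferInstance, ?_, ?_⟩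
  · exact (MonoidHom.ker_transferSylow_isComplement' P hP).card_mul_card
  · exact MonoidHom.not_dvd_card_ker_transferSylow P hP

/-- In a simple group, a proper nontrivial Sylow subgroup is not central in its normalizer. -/
theorem not_normalizer_le_centralizer {G : Type*} [Group G] [Finite G] [IsSimpleGroup G] {p : ℕ}
    [Fact p.Prime] (P : Sylow p G) (h1 : Nat.card (P : Subgroup G) ≠ 1)
    (h2 : Nat.card (P : Subgroup G) ≠ Nat.card G) :
    ¬ Subgroup.normalizer ((P : Subgroup G) : Set G) ≤
      Subgroup.centralizer ((P : Subgroup G) : Set G) := by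
  intro hP
  obtain ⟨K, hKn, hKc, _⟩ := exists_normal_pcomplement P hP
  have hpos : 0 < Nat.card (P : Subgroup G) := Nat.card_pos
  apply normal_card_absurd K hKn
  · intro hK1
    rw [hK1, one_mul] at hKc
    exact h2 hKc
  · intro hKG
    rw [hKG] at hKc
    have : Nat.card G * Nat.card (P : Subgroup G) = Nat.card G * 1 := by rw [hKc, mul_one]
    exact h1 (Nat.eq_of_mul_eq_mul_left Nat.card_pos this)

end Cfsg.Agent.Helper17
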