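import Mathlib
import Cfsg.Agent.Lib.Helper17.SylowInter2

set_option autoImplicit false

namespace Cfsg.Agent.Helper17

open Equiv

/-- A `p`-subgroup of a symmetric group with `p` odd lies in the alternating group. -/
theorem pgroup_le_alternating {α : Type*} [Fintype α] [DecidableEq α] {p : ℕ} [hp : Fact p.Prime]
    (hp2 : p ≠ 2) (P : Subgroup (Perm α)) (hP : IsPGroup p P) : P ≤ alternatingGroup α := by
  intro g hg
  rw [Perm.mem_alternatingGroup]
  obtain ⟨k, hk⟩ := hP ⟨g, hg⟩
  have hk' : g ^ (p ^ k) = 1 := by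
    have := congrArg Subtype.val hk
    simpa using this
  have hodd : Odd (p ^ k) := (hp.out.odd_of_ne_two hp2).pow
  rcases Int.units_eq_one_or (Perm.sign g) with h | h
  · exact h
  · exfalso
    have h1 : Perm.sign (g ^ (p ^ k)) = 1 := by rw [hk']; simp
    rw [map_pow, h, hodd.neg_one_pow] at h1
    exact absurd h1 (by decide)

/-- Frattini for the alternating group: the normalizer in `A_n` of an odd Sylow subgroup has index two in
the normalizer in `S_n`. -/
theorem two_mul_card_alt_normalizer {α : Type*} [Fintype α] [DecidableEq α]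
    (hα : 2 ≤ Fintype.card α) (p : ℕ) [Fact p.Prime] (hp : p ≠ 2) (P : Sylow p (Perm α)) :
    2 * Nat.card ↥(Subgroup.normalizer
      ((((P : Subgroup (Perm α)).subgroupOf (alternatingGroup α) :
        Subgroup ↥(alternatingGroup α)) : Set ↥(alternatingGroup α)))) =
    Nat.card ↥(Subgroup.normalizer ((P : Subgroup (Perm α)) : Set (Perm α))) := by
  have : Nontrivial α := Fintype.one_lt_card_iff_nontrivial.1 (by omega)
  have hPA : (P : Subgroup (Perm α)) ≤ alternatingGroup α := pgroup_le_alternating hp _ P.2
  set A : Subgroup (Perm α) := alternatingGroup α with hA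
  set NS : Subgroup (Perm α) := Subgroup.normalizer ((P : Subgroup (Perm α)) : Set (Perm α)) with hNS
  have hfr : NS ⊔ A = ⊤ := Sylow.normalizer_sup_eq_top' P hPA
  have hrel : A.relIndex NS = 2 := by
    rw [← Subgroup.relIndex_sup_right, hfr, Subgroup.relIndex_top_right]
    exact alternatingGroup.index_eq_two
  have h1 := card_inf_mul_relIndex A NS
  rw [hrel] at h1
  have h2 : Nat.card ↥(Subgroup.normalizer
      ((((P : Subgroup (Perm α)).subgroupOf A : Subgroup ↥A) : Set ↥A))) = Nat.card ↥(A ⊓ NS) := by
    rw [← Subgroup.subgroupOf_normalizer_eq hPA, inf_comm, ← Subgroup.inf_subgroupOf_right NS A]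
    exact Nat.card_congr (Subgroup.subgroupOfEquivOfLe inf_le_right).toEquiv
  rw [h2, ← h1, mul_comm]

end Cfsg.Agent.Helper17
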