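import Mathlib

set_option autoImplicit false

namespace Cfsg.Agent.Helper17

theorem card_ne_subtype {α : Type*} [Finite α] (a : α) :
    Nat.card {x : α // x ≠ a} = Nat.card α - 1 := by
  classical
  have := Fintype.ofFinite α
  rw [Nat.card_eq_fintype_card, Nat.card_eq_fintype_card]
  simp [Fintype.card_subtype_compl]

/-- In a subgroup of prime order, any nontrivial element generates the subgroup. -/
theorem zpowers_eq_of_card_prime {G : Type*} [Group G] {p : ℕ} [hp : Fact p.Prime]
    (P : Subgroup G) (hP : Nat.card P = p) (g : G) (hg : g ∈ P) (hg1 : g ≠ 1) :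
    Subgroup.zpowers g = P ∧ orderOf g = p := by
  have : Finite P := Nat.finite_of_card_ne_zero (by rw [hP]; exact hp.out.ne_zero)
  have hord : orderOf g = p := by
    have h1 : orderOf (⟨g, hg⟩ : P) ∣ p := by rw [← hP]; exact orderOf_dvd_natCard _
    have h2 : orderOf (⟨g, hg⟩ : P) = orderOf g := Subgroup.orderOf_mk g hg
    rw [h2] at h1
    rcases (Nat.dvd_prime hp.out).1 h1 with h | h
    · exact absurd (orderOf_eq_one_iff.1 h) hg1
    · exact h
  refine ⟨?_, hord⟩
  have hle : Subgroup.zpowers g ≤ P := (Subgroup.zpowers_le).2 hg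
  apply Subgroup.eq_of_le_of_card_ge hle
  rw [Nat.card_zpowers, hord, hP]

/-- An element of order `p` lies in some Sylow `p`-subgroup. -/
theorem exists_sylow_mem_of_orderOf {G : Type*} [Group G] [Finite G] {p : ℕ} [Fact p.Prime]
    (g : G) (hg : orderOf g = p) : ∃ P : Sylow p G, g ∈ (P : Subgroup G) := by
  have hpg : IsPGroup p (Subgroup.zpowers g) := by
    apply IsPGroup.of_card (n := 1)
    rw [Nat.card_zpowers, hg, pow_one]
  obtain ⟨P, hP⟩ := hpg.exists_le_sylow
  exact ⟨P, hP (Subgroup.mem_zpowers g)⟩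

theorem sigma_sylow_ext {G : Type*} [Group G] {p : ℕ} (P Q : Sylow p G)
    (x : {x : ↥(P : Subgroup G) // x ≠ 1}) (y : {y : ↥(Q : Subgroup G) // y ≠ 1}) (hPQ : P = Q)
    (hxy : (x.1.1 : G) = y.1.1) :
    (⟨P, x⟩ : Σ P : Sylow p G, {x : ↥(P : Subgroup G) // x ≠ 1}) = ⟨Q, y⟩ := by
  subst hPQ
  congr
  exact Subtype.ext (Subtype.ext hxy)

/-- If Sylow `p`-subgroups have order `p`, the number of elements of order `p` is `n_p * (p - 1)`. -/
theorem card_orderOf_eq_prime {G : Type*} [Group G] [Finite G] {p : ℕ} [hp : Fact p.Prime]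
    (h : ∀ P : Sylow p G, Nat.card (P : Subgroup G) = p) :
    Nat.card {g : G // orderOf g = p} = Nat.card (Sylow p G) * (p - 1) := by
  classical
  have := Fintype.ofFinite (Sylow p G)
  have hp1 : p ≠ 1 := hp.out.one_lt.ne'
  let e : {g : G // orderOf g = p} ≃ Σ P : Sylow p G, {x : ↥(P : Subgroup G) // x ≠ 1} :=
    { toFun := fun g =>
        ⟨Classical.choose (exists_sylow_mem_of_orderOf g.1 g.2),
          ⟨⟨g.1, Classical.choose_spec (exists_sylow_mem_of_orderOf g.1 g.2)⟩, by
            intro h1
            have h2 : g.1 = 1 := congrArg Subtype.val h1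
            have h3 := g.2
            rw [h2, orderOf_one] at h3
            exact hp1 h3.symm⟩⟩
      invFun := fun x =>
        ⟨x.2.1.1, (zpowers_eq_of_card_prime _ (h x.1) x.2.1.1 x.2.1.2 (by
            intro h1
            apply x.2.2
            exact Subtype.ext h1)).2⟩
      left_inv := fun g => rfl
      right_inv := by
        rintro ⟨P, ⟨⟨x, hx⟩, hx1⟩⟩
        have hx1' : x ≠ 1 := fun h1 => hx1 (Subtype.ext h1)
        have hord : orderOf x = p := (zpowers_eq_of_card_prime _ (h P) x hx hx1').2
        have hQ := Classical.choose_spec (exists_sylow_mem_of_orderOf x hord)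
        have hPQ : Classical.choose (exists_sylow_mem_of_orderOf x hord) = P := by
          apply Sylow.ext
          rw [← (zpowers_eq_of_card_prime _ (h P) x hx hx1').1,
            ← (zpowers_eq_of_card_prime _ (h _) x hQ hx1').1]
        exact sigma_sylow_ext _ _ _ _ hPQ rfl }
  rw [Nat.card_congr e, Nat.card_sigma]
  have : ∀ P : Sylow p G, Nat.card {x : ↥(P : Subgroup G) // x ≠ 1} = p - 1 := by
    intro P
    rw [card_ne_subtype, h P]
  simp only [this, Finset.sum_const, Finset.card_univ, smul_eq_mul, Nat.card_eq_fintype_card]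

end Cfsg.Agent.Helper17
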