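import Mathlib
import Cfsg.Agent.Lib.Helper17.PrimeSylow
import Cfsg.Agent.Lib.Helper17.Simple

set_option autoImplicit false

namespace Cfsg.Agent.Helper17

open Equiv Nat

/-- In `S_n` with `n < p + 2`, elements of order `p` are exactly the `p`-cycles. -/
theorem orderOf_eq_prime_iff_cycleType {α : Type*} [Fintype α] [DecidableEq α] {p : ℕ}
    [hp : Fact p.Prime] (hα : Fintype.card α < p + 2) (g : Perm α) :
    orderOf g = p ↔ g.cycleType = {p} := by
  constructor
  · intro h
    have hpr : (orderOf g).Prime := by rw [h]; exact hp.out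
    obtain ⟨k, hk⟩ := Perm.cycleType_prime_order hpr
    have hmem : p ∈ g.cycleType := by
      rw [hk, h]; simp
    exact Perm.cycleType_of_card_le_mem_cycleType_add_two hα hmem
  · intro h
    rw [← Perm.lcm_cycleType, h, Multiset.lcm_singleton, normalize_eq]

/-- The number of elements of order `p` in `S_n`, `n ∈ {p, p+1}`, times `p` is `n!`. -/
theorem card_orderOf_prime_perm {α : Type*} [Fintype α] [DecidableEq α] {p : ℕ}
    [hp : Fact p.Prime] (hα : Fintype.card α = p ∨ Fintype.card α = p + 1) :
    Nat.card {g : Perm α // orderOf g = p} * p = (Fintype.card α)! := by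
  have hlt : Fintype.card α < p + 2 := by rcases hα with h | h <;> omega
  have h1 : Nat.card {g : Perm α // orderOf g = p} =
      (Finset.univ.filter fun g : Perm α => g.cycleType = {p}).card := by
    rw [Nat.card_eq_fintype_card, Fintype.card_subtype]
    congr 1
    ext g
    simp [orderOf_eq_prime_iff_cycleType hlt g]
  rw [h1, Perm.card_of_cycleType]
  have hp2 : 2 ≤ p := hp.out.two_le
  have hcond : ({p} : Multiset ℕ).sum ≤ Fintype.card α ∧ ∀ a ∈ ({p} : Multiset ℕ), 2 ≤ a := by
    refine ⟨?_, ?_⟩
    · simp; rcases hα with h | h <;> omega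
    · intro a ha
      simp at ha
      omega
  rw [if_pos hcond]
  have hsub : (Fintype.card α - ({p} : Multiset ℕ).sum)! = 1 := by
    simp
    rcases hα with h | h
    · rw [h]; simp
    · rw [h]; simp
  rw [hsub]
  simp only [Multiset.prod_singleton, Multiset.toFinset_singleton, Finset.prod_singleton,
    Multiset.count_singleton_self, Nat.factorial_one, one_mul, mul_one]
  apply Nat.div_mul_cancel
  apply (hp.out.dvd_factorial).2
  rcases hα with h | h <;> omega

/-- Sylow `p`-subgroups of `S_p` and `S_{p+1}` have order `p`. -/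
theorem sylow_perm_card {α : Type*} [Fintype α] [DecidableEq α] {p : ℕ}
    [hp : Fact p.Prime] (hα : Fintype.card α = p ∨ Fintype.card α = p + 1)
    (P : Sylow p (Perm α)) : Nat.card (P : Subgroup (Perm α)) = p := by
  have hp1 : 1 ≤ p := hp.out.one_le
  have hnd : ¬ p ∣ (p - 1)! := by
    rw [hp.out.dvd_factorial]; omega
  have hfac : (p)! = p * (p - 1)! := by
    conv_lhs => rw [show p = (p - 1) + 1 by omega, Nat.factorial_succ]
    rw [show p - 1 + 1 = p by omega]
  suffices hs : Nat.card (P : Subgroup (Perm α)) = p ^ 1 by rw [hs, pow_one]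
  rcases hα with h | h
  · apply sylow_card_eq P (m := (p - 1)!) _ hnd
    rw [Nat.card_eq_fintype_card, Fintype.card_perm, h, pow_one, hfac]
  · apply sylow_card_eq P (m := (p + 1) * (p - 1)!)
    · rw [Nat.card_eq_fintype_card, Fintype.card_perm, h, pow_one, Nat.factorial_succ, hfac]
      ring
    · intro hd
      rcases (hp.out.dvd_mul).1 hd with h1 | h1
      · have : p ∣ 1 := (Nat.dvd_add_right (dvd_refl p)).1 h1
        exact hp.out.one_lt.ne' (Nat.dvd_one.1 this)
      · exact hnd h1

/-- In the symmetric group on `p` or `p + 1` letters the normalizer of a Sylow `p`-subgroup has order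
`p * (p - 1)`. -/
theorem card_normalizer_sylow_perm {α : Type*} [Fintype α] [DecidableEq α] (p : ℕ)
    [hp : Fact p.Prime] (hα : Fintype.card α = p ∨ Fintype.card α = p + 1)
    (P : Sylow p (Perm α)) :
    Nat.card ↥(Subgroup.normalizer ((P : Subgroup (Perm α)) : Set (Perm α))) = p * (p - 1) := by
  have hE := card_orderOf_eq_prime (G := Perm α) (p := p) (fun Q => sylow_perm_card hα Q)
  have hE2 := card_orderOf_prime_perm (α := α) (p := p) hα
  have hN := (Subgroup.normalizer ((P : Subgroup (Perm α)) : Set (Perm α))).card_mul_index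
  have hidx : (Subgroup.normalizer ((P : Subgroup (Perm α)) : Set (Perm α))).index =
      Nat.card (Sylow p (Perm α)) := P.card_eq_index_normalizer.symm
  rw [hidx, Nat.card_eq_fintype_card (α := Perm α), Fintype.card_perm,
    ← hE2, hE] at hN
  have hs : 0 < Nat.card (Sylow p (Perm α)) := Nat.card_pos
  have : Nat.card ↥(Subgroup.normalizer ((P : Subgroup (Perm α)) : Set (Perm α))) *
      Nat.card (Sylow p (Perm α)) = (p * (p - 1)) * Nat.card (Sylow p (Perm α)) := by
    rw [hN]; ring
  exact Nat.eq_of_mul_eq_mul_right hs this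

end Cfsg.Agent.Helper17
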