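import Mathlib
import Cfsg.Agent.Lib.Helper17.AltNormalizer
import Cfsg.Agent.Lib.Helper17.SymNormalizer
import Cfsg.Agent.Lib.Helper17.Simple

set_option autoImplicit false

namespace Cfsg.Agent.Helper17

open Equiv

/-- `|N_G(P)| * n_p = |G|`. -/
theorem card_normalizer_mul_sylow_count {G : Type*} [Group G] [Finite G] {p : ℕ} [Fact p.Prime]
    (P : Sylow p G) :
    Nat.card ↥(Subgroup.normalizer ((P : Subgroup G) : Set G)) * Nat.card (Sylow p G) =
      Nat.card G := by
  have hidx : (Subgroup.normalizer ((P : Subgroup G) : Set G)).index = Nat.card (Sylow p G) :=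
    P.card_eq_index_normalizer.symm
  rw [← hidx]
  exact Subgroup.card_mul_index _

/-- Frattini for the alternating group, intersection form. -/
theorem two_mul_card_alt_inf_normalizer {α : Type*} [Fintype α] [DecidableEq α]
    (hα : 2 ≤ Fintype.card α) (p : ℕ) [Fact p.Prime] (hp : p ≠ 2) (P : Sylow p (Perm α)) :
    2 * Nat.card ↥(alternatingGroup α ⊓
      Subgroup.normalizer ((P : Subgroup (Perm α)) : Set (Perm α))) =
    Nat.card ↥(Subgroup.normalizer ((P : Subgroup (Perm α)) : Set (Perm α))) := by
  have : Nontrivial α := Fintype.one_lt_card_iff_nontrivial.1 (by omega)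
  have hPA : (P : Subgroup (Perm α)) ≤ alternatingGroup α := pgroup_le_alternating hp _ P.2
  set A : Subgroup (Perm α) := alternatingGroup α with hA
  set NS : Subgroup (Perm α) := Subgroup.normalizer ((P : Subgroup (Perm α)) : Set (Perm α)) with hNS
  have hfr : NS ⊔ A = ⊤ := Sylow.normalizer_sup_eq_top' P hPA
  have hrel : A.relIndex NS = 2 := by
    rw [← Subgroup.relIndex_sup_right, hfr, Subgroup.relIndex_top_right]
    exact alternatingGroup.index_eq_two
  have h1 := card_inf_mul_relIndex A NS
  rw [hrel] at h1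
  rw [← h1, mul_comm]

/-- If a nonabelian simple group has Sylow `p`-subgroups of odd prime order `p` and exactly `p + 1` of them,
then twice the order of a Sylow normalizer divides `p * (p - 1)`. -/
theorem two_mul_card_normalizer_dvd {G : Type*} [Group G] [Finite G] [IsSimpleGroup G]
    (hG : ¬ IsMulCommutative G) {p : ℕ} [hp : Fact p.Prime] (hp2 : p ≠ 2) (P : Sylow p G)
    (hP : Nat.card (P : Subgroup G) = p) (hn : Nat.card (Sylow p G) = p + 1) :
    2 * Nat.card ↥(Subgroup.normalizer ((P : Subgroup G) : Set G)) ∣ p * (p - 1) := by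
  classical
  set N : Subgroup G := Subgroup.normalizer ((P : Subgroup G) : Set G) with hN
  have hidx : N.index = p + 1 := by rw [← hn]; exact P.card_eq_index_normalizer.symm
  have hNtop : N ≠ ⊤ := by
    intro h
    rw [h, Subgroup.index_top] at hidx
    have := hp.out.pos
    omega
  generalize hn' : N.index = n at hidx
  obtain ⟨f, hf⟩ : ∃ f : G →* ↥(alternatingGroup (Fin n)), Function.Injective f := by
    rw [← hn']; exact embed_alt hG N hNtop
  let ι : G →* Perm (Fin n) := (alternatingGroup (Fin n)).subtype.comp f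
  have hι : Function.Injective ι := fun a b hab => hf (Subtype.ext hab)
  have hcardα : Fintype.card (Fin n) = p ∨ Fintype.card (Fin n) = p + 1 := by
    right; rw [Fintype.card_fin]; exact hidx
  have hP' : IsPGroup p ((P : Subgroup G).map ι) := P.2.map ι
  obtain ⟨Q, hQ⟩ := hP'.exists_le_sylow
  have hQc : Nat.card (Q : Subgroup (Perm (Fin n))) = p := sylow_perm_card hcardα Q
  have hPc : Nat.card ((P : Subgroup G).map ι) = p := by
    rw [Subgroup.card_map_of_injective hι]; exact hP
  have hPQ : (P : Subgroup G).map ι = (Q : Subgroup (Perm (Fin n))) :=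
    Subgroup.eq_of_le_of_card_ge hQ (by rw [hQc, hPc])
  have hle : N.map ι ≤ alternatingGroup (Fin n) ⊓
      Subgroup.normalizer ((Q : Subgroup (Perm (Fin n))) : Set (Perm (Fin n))) := by
    apply le_inf
    · rintro _ ⟨g, _, rfl⟩
      exact (f g).2
    · rw [← hPQ]
      exact Subgroup.le_normalizer_map ι
  have hcN : Nat.card (N.map ι) = Nat.card N := Subgroup.card_map_of_injective hι
  have hdvd := Subgroup.card_dvd_of_le hle
  rw [hcN] at hdvd
  have h2 : 2 ≤ Fintype.card (Fin n) := by
    rw [Fintype.card_fin, hidx]; have := hp.out.two_le; omega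
  have hfr := two_mul_card_alt_inf_normalizer h2 p hp2 Q
  rw [card_normalizer_sylow_perm p hcardα Q] at hfr
  rw [← hfr]
  exact Nat.mul_dvd_mul_left 2 hdvd

end Cfsg.Agent.Helper17
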