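import Mathlib
import Cfsg.Agent.Lib.Helper17.PrimeSylow
import Cfsg.Agent.Lib.Helper17.SylowInter2

set_option autoImplicit false

namespace Cfsg.Agent.Helper17

/-- Counting fibres of a function. -/
theorem sum_card_fiber_le {G : Type*} [Finite G] (f : G → ℕ) (S : Finset ℕ) :
    ∑ d ∈ S, Nat.card {g : G // f g = d} ≤ Nat.card G := by
  classical
  let F : (Σ d : ↥S, {g : G // f g = d.1}) → G := fun x => x.2.1
  have hF : Function.Injective F := by
    rintro ⟨⟨d, hd⟩, ⟨g, hg⟩⟩ ⟨⟨d', hd'⟩, ⟨g', hg'⟩⟩ h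
    change g = g' at h
    subst h
    have : d = d' := hg.symm.trans hg'
    subst this
    rfl
  have h1 := Nat.card_le_card_of_injective F hF
  rw [Nat.card_sigma] at h1
  rw [← Finset.sum_coe_sort S (fun d => Nat.card {g : G // f g = d})]
  exact h1

/-- `|C(P)| * |N(P) : C(P)| = |N(P)|`. -/
theorem card_centralizer_mul_relIndex {G : Type*} [Group G] (P : Subgroup G) :
    Nat.card (Subgroup.centralizer (P : Set G)) *
      (Subgroup.centralizer (P : Set G)).relIndex (Subgroup.normalizer (P : Set G)) =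
        Nat.card (Subgroup.normalizer (P : Set G)) := by
  have h := card_inf_mul_relIndex (Subgroup.centralizer (P : Set G))
    (Subgroup.normalizer (P : Set G))
  rwa [inf_of_le_left (Subgroup.centralizer_le_normalizer _)] at h

/-- For a subgroup of prime order `p`, the index of the centralizer in the normalizer divides
`p - 1`. -/
theorem relIndex_centralizer_dvd {G : Type*} [Group G] [Finite G] {p : ℕ} [hp : Fact p.Prime]
    (P : Subgroup G) (hP : Nat.card P = p) :
    (Subgroup.centralizer (P : Set G)).relIndex (Subgroup.normalizer (P : Set G)) ∣ p - 1 := by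
  have hcyc : IsCyclic ↥P := isCyclic_of_prime_card hP
  have key := Subgroup.card_dvd_of_injective _
    (QuotientGroup.kerLift_injective P.normalizerMonoidHom)
  rw [Subgroup.normalizerMonoidHom_ker, ← Subgroup.index, ← Subgroup.relIndex] at key
  rwa [hcyc.card_mulAut, hP, Nat.totient_prime hp.out] at key

/-- A family of elements `y * s`, with `y` of order `p` in a Sylow subgroup `P` of order `p` and `s`
in a subgroup of order `m` of the centralizer of `P`; they are recovered by the power map `g ↦ g ^ N`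
when `N ≡ 1` mod `p` and `m ∣ N`. -/
theorem card_family_le {G : Type*} [Group G] [Finite G] {p : ℕ} [hp : Fact p.Prime] (N m : ℕ)
    (hN : N % p = 1) (hm : m ∣ N) (hP : ∀ P : Sylow p G, Nat.card (P : Subgroup G) = p)
    (hT : ∀ P : Sylow p G, ∃ T : Subgroup G,
      T ≤ Subgroup.centralizer ((P : Subgroup G) : Set G) ∧ Nat.card T = m) :
    Nat.card (Sylow p G) * (p - 1) * m ≤ Nat.card {g : G // orderOf (g ^ N) = p} := by
  classical
  have := Fintype.ofFinite (Sylow p G)
  obtain ⟨T, hTle, hTc⟩ : ∃ T : Sylow p G → Subgroup G,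
      (∀ P, T P ≤ Subgroup.centralizer ((P : Subgroup G) : Set G)) ∧ ∀ P, Nat.card (T P) = m :=
    ⟨fun P => Classical.choose (hT P), fun P => (Classical.choose_spec (hT P)).1,
      fun P => (Classical.choose_spec (hT P)).2⟩
  have hyN : ∀ y : G, y ^ p = 1 → y ^ N = y := by
    intro y hy
    have h1 : N = p * (N / p) + 1 := by
      have := Nat.div_add_mod N p
      omega
    rw [h1, pow_succ, pow_mul, hy, one_pow, one_mul]
  have hsN : ∀ (P : Sylow p G) (s : G), s ∈ T P → s ^ N = 1 := by
    intro P s hs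
    obtain ⟨k, hk⟩ := hm
    have h1 : s ^ m = 1 := by
      have := Subgroup.orderOf_dvd_natCard _ hs
      rw [hTc P] at this
      exact orderOf_dvd_iff_pow_eq_one.1 this
    rw [hk, pow_mul, h1, one_pow]
  have hyp : ∀ (P : Sylow p G) (y : G), y ∈ (P : Subgroup G) → y ^ p = 1 := by
    intro P y hy
    have := Subgroup.orderOf_dvd_natCard _ hy
    rw [hP P] at this
    exact orderOf_dvd_iff_pow_eq_one.1 this
  have hpow : ∀ (P : Sylow p G) (y s : G), y ∈ (P : Subgroup G) → s ∈ T P →
      (y * s) ^ N = y := by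
    intro P y s hy hs
    have hc : Commute y s := by
      have := hTle P hs
      rw [Subgroup.mem_centralizer_iff] at this
      exact this y hy
    rw [hc.mul_pow, hsN P s hs, mul_one, hyN y (hyp P y hy)]
  let Φ : (Σ P : Sylow p G, {y : ↥(P : Subgroup G) // y ≠ 1} × ↥(T P)) →
      {g : G // orderOf (g ^ N) = p} := fun x =>
    ⟨(x.2.1.1 : G) * (x.2.2 : G), by
      rw [hpow x.1 _ _ x.2.1.1.2 x.2.2.2]
      exact (zpowers_eq_of_card_prime _ (hP x.1) _ x.2.1.1.2
        (fun h1 => x.2.1.2 (Subtype.ext h1))).2⟩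
  have hΦ : Function.Injective Φ := by
    rintro ⟨P, ⟨⟨y, hy⟩, hy1⟩, ⟨s, hs⟩⟩ ⟨P', ⟨⟨y', hy'⟩, hy1'⟩, ⟨s', hs'⟩⟩ h
    have h0 : y * s = y' * s' := congrArg Subtype.val h
    have hyy : y = y' := by
      have h1 : (y * s) ^ N = (y' * s') ^ N := by rw [h0]
      rwa [hpow P y s hy hs, hpow P' y' s' hy' hs'] at h1
    subst hyy
    have hy1G : y ≠ 1 := fun h1 => hy1 (Subtype.ext h1)
    have hPP : P = P' := by
      apply Sylow.ext
      rw [← (zpowers_eq_of_card_prime _ (hP P) y hy hy1G).1,
        ← (zpowers_eq_of_card_prime _ (hP P') y hy' hy1G).1]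
    subst hPP
    have hss : s = s' := mul_left_cancel h0
    subst hss
    rfl
  have h1 := Nat.card_le_card_of_injective Φ hΦ
  rw [Nat.card_sigma] at h1
  have h2 : ∀ P : Sylow p G,
      Nat.card ({y : ↥(P : Subgroup G) // y ≠ 1} × ↥(T P)) = (p - 1) * m := by
    intro P
    rw [Nat.card_prod, card_ne_subtype, hP P, hTc P]
  simp only [h2, Finset.sum_const, Finset.card_univ, smul_eq_mul] at h1
  rw [Nat.card_eq_fintype_card, mul_assoc]
  exact h1

end Cfsg.Agent.Helper17
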