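import Mathlib
import Cfsg.Agent.Lib.Helper17.PrimeSylow
import Cfsg.Agent.Lib.Helper17.SylowInter2
import Cfsg.Agent.Lib.Helper17.Burnside
import Cfsg.Agent.Lib.Helper17.FamilyCount

set_option autoImplicit false

namespace Cfsg.Agent.Helper17

/-- A subgroup of prime power order inside a given subgroup. -/
theorem exists_subgroup_le_card {G : Type*} [Group G] [Finite G] (C : Subgroup G) (q k : ℕ)
    [Fact q.Prime] (h : q ^ k ∣ Nat.card C) : ∃ T : Subgroup G, T ≤ C ∧ Nat.card T = q ^ k := by
  obtain ⟨K, hK⟩ := Sylow.exists_subgroup_card_pow_prime (G := ↥C) q h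
  refine ⟨K.map C.subtype, Subgroup.map_subtype_le K, ?_⟩
  rw [Subgroup.card_map_of_injective C.subtype_injective, hK]

/-- If `q` divides the order of the centralizer of a Sylow `p`-subgroup of order `p`, then `p`
divides the order of the centralizer of some Sylow `q`-subgroup of order `q`. -/
theorem sylow_link {G : Type*} [Group G] [Finite G] {p q : ℕ} [hp : Fact p.Prime]
    [hq : Fact q.Prime] (hP : ∀ P : Sylow p G, Nat.card (P : Subgroup G) = p)
    (hQ : ∀ Q : Sylow q G, Nat.card (Q : Subgroup G) = q) (P : Sylow p G)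
    (h : q ∣ Nat.card (Subgroup.centralizer ((P : Subgroup G) : Set G))) :
    ∃ Q : Sylow q G, p ∣ Nat.card (Subgroup.centralizer ((Q : Subgroup G) : Set G)) := by
  obtain ⟨z', hz'⟩ := exists_prime_orderOf_dvd_card'
    (G := ↥(Subgroup.centralizer ((P : Subgroup G) : Set G))) q h
  obtain ⟨z, hz⟩ : ∃ z : G, z = (z' : G) := ⟨_, rfl⟩
  have hzo : orderOf z = q := by rw [hz, Subgroup.orderOf_coe, hz']
  have hzC : z ∈ Subgroup.centralizer ((P : Subgroup G) : Set G) := hz ▸ z'.2
  obtain ⟨y', hy'⟩ := exists_prime_orderOf_dvd_card' (G := ↥(P : Subgroup G)) p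
    (by rw [hP P])
  obtain ⟨y, hy⟩ : ∃ y : G, y = (y' : G) := ⟨_, rfl⟩
  have hyo : orderOf y = p := by rw [hy, Subgroup.orderOf_coe, hy']
  have hyP : y ∈ (P : Subgroup G) := hy ▸ y'.2
  have hcomm : y * z = z * y := (Subgroup.mem_centralizer_iff.1 hzC) y hyP
  obtain ⟨Q, hzQ⟩ := exists_sylow_mem_of_orderOf z hzo
  have hz1 : z ≠ 1 := by
    rintro rfl
    rw [orderOf_one] at hzo
    exact hq.out.one_lt.ne' hzo.symm
  have hQz := (zpowers_eq_of_card_prime (Q : Subgroup G) (hQ Q) z hzQ hz1).1
  refine ⟨Q, ?_⟩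
  have hyC : y ∈ Subgroup.centralizer ((Q : Subgroup G) : Set G) := by
    rw [Subgroup.mem_centralizer_iff]
    intro w hw
    rw [← hQz] at hw
    obtain ⟨k, rfl⟩ := Subgroup.mem_zpowers_iff.1 hw
    have : Commute y z := hcomm
    exact ((this.zpow_right k).eq).symm
  have := Subgroup.orderOf_dvd_natCard _ hyC
  rwa [hyo] at this

/-- The normalizer of a Sylow subgroup inside a subgroup containing it. -/
theorem card_normalizer_subtype {G : Type*} [Group G] {p : ℕ} (M : Subgroup G) (P : Sylow p G)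
    (hPM : (P : Subgroup G) ≤ M) :
    Nat.card (Subgroup.normalizer (((P.subtype hPM : Sylow p ↥M) : Subgroup ↥M) : Set ↥M)) =
      Nat.card ↥(Subgroup.normalizer ((P : Subgroup G) : Set G) ⊓ M) := by
  rw [Sylow.coe_subtype, ← Subgroup.subgroupOf_normalizer_eq hPM,
    ← Subgroup.inf_subgroupOf_right]
  exact Nat.card_congr (Subgroup.subgroupOfEquivOfLe inf_le_right).toEquiv

/-- In a simple group, the index `e` of the centralizer in the normalizer of a Sylow subgroup of
prime order `p` divides `p - 1` and is not `1`. -/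
theorem exists_e {G : Type*} [Group G] [Finite G] [IsSimpleGroup G] {p : ℕ} [hp : Fact p.Prime]
    (P : Sylow p G) (hP : Nat.card (P : Subgroup G) = p) (hG : Nat.card G ≠ p) :
    ∃ e : ℕ, e ∣ p - 1 ∧ e ≠ 1 ∧
      Nat.card (Subgroup.centralizer ((P : Subgroup G) : Set G)) * e =
        Nat.card (Subgroup.normalizer ((P : Subgroup G) : Set G)) := by
  refine ⟨_, relIndex_centralizer_dvd (P : Subgroup G) hP, ?_,
    card_centralizer_mul_relIndex (P : Subgroup G)⟩
  intro h1
  apply not_normalizer_le_centralizer P (by rw [hP]; exact hp.out.one_lt.ne')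
    (by rw [hP]; exact hG.symm)
  exact Subgroup.relIndex_eq_one.1 h1

end Cfsg.Agent.Helper17
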