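import Mathlib
import Cfsg.Agent.Lib.Helper17.Simple
import Cfsg.Agent.Lib.Helper17.Burnside
import Cfsg.Agent.Lib.Helper17.EmbedNormalizer
import Cfsg.Agent.Lib.Helper17.SylowLink
import Cfsg.Agent.S1010
import Cfsg.Agent.S0144

/-!
# A verified sieve for orders of nonabelian simple groups

`Bad n p k m d` collects numerical reasons why a nonabelian simple group of order `n = p ^ k * m`
cannot have exactly `d` Sylow `p`-subgroups; `Cert` is a certificate that no nonabelian simple group
of order `n` exists (either `n` has at most two prime divisors, or every candidate for the number of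
Sylow `p`-subgroups is bad).
-/

set_option autoImplicit false

namespace Cfsg.Agent.Helper17.Sieve

open Nat

/-- The candidate `d` for the number of Sylow `p`-subgroups of a nonabelian simple group of order
`n = p ^ k * m` is impossible, for one of six numerical reasons. -/
def Bad (n p k m d : ℕ) : Prop :=
  d = 1 ∨ (k = 1 ∧ Nat.gcd (m / d) (p - 1) = 1) ∨ (k = 2 ∧ d = m) ∨
    (k = 1 ∧ d = p + 1 ∧ p ≠ 2 ∧ ¬ (2 * (n / d) ∣ p * (p - 1))) ∨ (p = 5 ∧ d = 21) ∨
    ¬ (2 * n ∣ d !)

instance (n p k m d : ℕ) : Decidable (Bad n p k m d) := by unfold Bad; infer_instance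

/-- A primality test by trial division, evaluated by the kernel. -/
def PrimeT (p : ℕ) : Prop := 2 ≤ p ∧ ∀ d ∈ List.range p, 2 ≤ d → ¬ d ∣ p

instance (p : ℕ) : Decidable (PrimeT p) := by unfold PrimeT; infer_instance

theorem PrimeT.prime {p : ℕ} (h : PrimeT p) : p.Prime := by
  rw [Nat.prime_def_lt']
  refine ⟨h.1, fun d hd2 hdp => ?_⟩
  exact h.2 d (List.mem_range.2 hdp) hd2

/-- No nonabelian simple group has order `n`. -/
def NoSimple.{u} (n : ℕ) : Prop :=
  ∀ (G : Type u) [Group G] [Finite G] [IsSimpleGroup G], ¬ IsMulCommutative G → Nat.card G ≠ n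

/-- The Sylow part of the sieve. -/
theorem sylow_kill {G : Type*} [Group G] [Finite G] [IsSimpleGroup G] (hna : ¬ IsMulCommutative G)
    (p k m : ℕ) [hp : Fact p.Prime] (hk : k ≠ 0) (hm1 : m ≠ 1) (hn : Nat.card G = p ^ k * m)
    (hpm : ¬ p ∣ m) (h : ∀ d, d ∣ m → d % p = 1 → Bad (p ^ k * m) p k m d) : False := by
  obtain ⟨hd1, hd2⟩ := sylow_count (G := G) hn hpm
  have hne := sylow_count_ne_one (G := G) hn hpm hk hm1
  obtain ⟨P⟩ : Nonempty (Sylow p G) := inferInstance
  have hPc := sylow_card_eq P hn hpm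
  have hNd := card_normalizer_mul_sylow_count P
  have hm0 : m ≠ 0 := fun h0 => hpm (h0 ▸ dvd_zero p)
  have hdpos : 0 < Nat.card (Sylow p G) := Nat.card_pos
  have hppos : 0 < p := hp.out.pos
  rcases h _ hd1 hd2 with h1 | ⟨hk1, hg⟩ | ⟨hk2, hdm⟩ | ⟨hk1, hdp, hp2, hnd⟩ | ⟨hp5, hd21⟩ | h2
  · exact hne h1
  · -- Burnside transfer, Sylow subgroup of prime order
    subst hk1
    rw [pow_one] at hPc hn
    have hGp : Nat.card G ≠ p := by
      rw [hn]; intro h
      have : p * m = p * 1 := by rw [h, mul_one]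
      exact hm1 (Nat.eq_of_mul_eq_mul_left hppos this)
    obtain ⟨e, he1, he2, he3⟩ := exists_e P hPc hGp
    have hcyc : IsCyclic ↥(P : Subgroup G) := isCyclic_of_prime_card hPc
    have hcomm : IsMulCommutative ↥(P : Subgroup G) := ⟨⟨IsCyclic.commGroup.mul_comm⟩⟩
    have hPC : (P : Subgroup G) ≤ Subgroup.centralizer ((P : Subgroup G) : Set G) :=
      Subgroup.le_centralizer_iff_isMulCommutative.2 hcomm
    obtain ⟨c, hc⟩ : p ∣ Nat.card ↥(Subgroup.centralizer ((P : Subgroup G) : Set G)) := by
      conv_lhs => rw [← hPc]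
      exact Subgroup.card_dvd_of_le hPC
    obtain ⟨j, hj⟩ := hd1
    -- |N| * d = p * m = p * (d * j)
    have hNj : Nat.card ↥(Subgroup.normalizer ((P : Subgroup G) : Set G)) = p * j := by
      have : Nat.card ↥(Subgroup.normalizer ((P : Subgroup G) : Set G)) * Nat.card (Sylow p G) =
          (p * j) * Nat.card (Sylow p G) := by rw [hNd, hn, hj]; ring
      exact Nat.eq_of_mul_eq_mul_right hdpos this
    have hmd : m / Nat.card (Sylow p G) = j := by
      rw [hj]; exact Nat.mul_div_cancel_left j hdpos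
    rw [hmd] at hg
    have hej : e ∣ j := by
      rw [hc, hNj] at he3
      have : c * e = j := by
        apply Nat.eq_of_mul_eq_mul_left hppos
        rw [← he3]; ring
      exact ⟨c, by rw [← this]; ring⟩
    have : e ∣ 1 := by rw [← hg]; exact Nat.dvd_gcd hej he1
    exact he2 (Nat.dvd_one.1 this)
  · -- Sylow subgroup of order `p ^ 2` equal to its normalizer
    subst hk2
    have hNP : Nat.card ↥(Subgroup.normalizer ((P : Subgroup G) : Set G)) = p ^ 2 := by
      have : Nat.card ↥(Subgroup.normalizer ((P : Subgroup G) : Set G)) * Nat.card (Sylow p G) =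
          p ^ 2 * Nat.card (Sylow p G) := by rw [hNd, hn, hdm]
      exact Nat.eq_of_mul_eq_mul_right hdpos this
    have hle : (P : Subgroup G) ≤ Subgroup.normalizer ((P : Subgroup G) : Set G) :=
      Subgroup.le_normalizer
    have heq : (P : Subgroup G) = Subgroup.normalizer ((P : Subgroup G) : Set G) :=
      Subgroup.eq_of_le_of_card_ge hle (by rw [hNP, hPc])
    have hcomm : IsMulCommutative ↥(P : Subgroup G) :=
      IsPGroup.isMulCommutative_of_card_eq_prime_sq hPc
    have hPC : (P : Subgroup G) ≤ Subgroup.centralizer ((P : Subgroup G) : Set G) :=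
      Subgroup.le_centralizer_iff_isMulCommutative.2 hcomm
    apply not_normalizer_le_centralizer P
    · rw [hPc]; exact (Nat.one_lt_pow two_ne_zero hp.out.one_lt).ne'
    · rw [hPc, hn]; intro h
      have : p ^ 2 * 1 = p ^ 2 * m := by rw [mul_one]; exact h
      exact hm1 (Nat.eq_of_mul_eq_mul_left (pow_pos hppos 2) this).symm
    · rw [← heq]; exact hPC
  · -- `p + 1` Sylow subgroups: normalizer inside the alternating group of degree `p + 1`
    subst hk1
    rw [pow_one] at hPc hn hnd
    have h2 := two_mul_card_normalizer_dvd hna hp2 P hPc hdp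
    apply hnd
    have hN : Nat.card ↥(Subgroup.normalizer ((P : Subgroup G) : Set G)) = p * m / (p + 1) := by
      rw [← hn, ← hNd, hdp]
      exact (Nat.mul_div_cancel _ (by omega)).symm
    rw [hdp, ← hN]
    exact h2
  · -- no group has exactly `21` Sylow `5`-subgroups
    subst hp5
    exact Cfsg.Agent.S1010.result hd21
  · -- the group embeds in the alternating group on its Sylow subgroups
    apply h2
    rw [← hn]
    exact sylow_count_factorial hna hne

/-- Groups whose order has at most two prime divisors. -/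
theorem two_prime_kill {G : Type*} [Group G] [Finite G] [IsSimpleGroup G]
    (hna : ¬ IsMulCommutative G) (p q a b : ℕ) (hp : p.Prime) (hq : q.Prime)
    (hn : Nat.card G = p ^ a * q ^ b) : False := by
  have hs : Group.IsSolvable G := Cfsg.Agent.S0144.result p q a b hp hq hn
  exact hna ⟨⟨IsSimpleGroup.comm_iff_isSolvable.2 hs⟩⟩

/-- A certificate that no nonabelian simple group of order `n` exists. -/
def Cert (n p k m q b : ℕ) : Prop :=
  PrimeT p ∧ ((q ≠ 0 ∧ PrimeT q ∧ n = p ^ k * q ^ b) ∨
    (q = 0 ∧ k ≠ 0 ∧ m ≠ 1 ∧ ¬ p ∣ m ∧ n = p ^ k * m ∧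
      ∀ d ∈ List.range (m + 1), d ∣ m → d % p = 1 → Bad n p k m d))

instance (n p k m q b : ℕ) : Decidable (Cert n p k m q b) := by unfold Cert; infer_instance

theorem cert_sound.{u} {n p k m q b : ℕ} (h : Cert n p k m q b) : NoSimple.{u} n := by
  intro G _ _ _ hna hn
  obtain ⟨hp, h | h⟩ := h
  · obtain ⟨_, hq, hnn⟩ := h
    exact two_prime_kill hna p q k b hp.prime hq.prime (hn.trans hnn)
  · obtain ⟨_, hk, hm1, hpm, hnn, hall⟩ := h
    have : Fact p.Prime := ⟨hp.prime⟩
    have hm0 : m ≠ 0 := fun h0 => hpm (h0 ▸ dvd_zero p)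
    apply sylow_kill hna p k m hk hm1 (hn.trans hnn) hpm
    intro d hdm hdp
    have := hall d (List.mem_range.2 (Nat.lt_succ_of_le (Nat.le_of_dvd (Nat.pos_of_ne_zero hm0) hdm)))
      hdm hdp
    rwa [hnn] at this

end Cfsg.Agent.Helper17.Sieve
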