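import Mathlib
import Cfsg.Agent.Lib.Helper82.CAFamily

/-!
# Abelian T.I. subgroup with Frobenius normalizer: sums of the relevant characters of the normalizer
-/

set_option autoImplicit false
set_option linter.style.haveILetI false
set_option linter.unusedSectionVars false

namespace Cfsg.Agent.Helper17.PrimeTI

open Cfsg Cfsg.Agent.Helper81 Cfsg.Agent.Helper82
open scoped ComplexConjugate

universe u

section abstract

variable {X : Type u} [Group X] [Fintype X]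

open Classical in
/-- Splitting a sum over the irreducible characters into the irrelevant and the relevant ones. -/
theorem sum_split (K : Subgroup X) (F : IrrCharacter X → ℂ) :
    ∑ ζ : IrrCharacter X, F ζ =
      (∑ ζ : {ζ : IrrCharacter X // K ≤ Cfsg.Agent.Helper79.irrKer ζ}, F ζ.1) +
      ∑ χ : {χ : IrrCharacter X // ∃ k ∈ K, (χ : X → ℂ) k ≠ (χ : X → ℂ) 1}, F χ.1 := by
  classical
  rw [← Finset.sum_filter_add_sum_filter_not (Finset.univ : Finset (IrrCharacter X))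
    (fun ζ => K ≤ Cfsg.Agent.Helper79.irrKer ζ) F]
  congr 1
  · rw [Finset.sum_subtype (Finset.univ.filter
      (fun ζ : IrrCharacter X => K ≤ Cfsg.Agent.Helper79.irrKer ζ))
      (p := fun ζ : IrrCharacter X => K ≤ Cfsg.Agent.Helper79.irrKer ζ) (by simp) F]
  · rw [Finset.sum_subtype (Finset.univ.filter
      (fun ζ : IrrCharacter X => ¬ K ≤ Cfsg.Agent.Helper79.irrKer ζ))
      (p := fun χ : IrrCharacter X => ∃ k ∈ K, (χ : X → ℂ) k ≠ (χ : X → ℂ) 1)
      (by intro x; simp only [Finset.mem_filter, Finset.mem_univ, true_and]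
          exact not_le_irrKer_iff K x) F]

open Classical in
/-- The sum of the squares of the degrees of the irrelevant characters. -/
theorem sum_irrel_sq (K : Subgroup X) [K.Normal] :
    ∑ ζ : {ζ : IrrCharacter X // K ≤ Cfsg.Agent.Helper79.irrKer ζ},
      (ζ.1 : X → ℂ) 1 * (ζ.1 : X → ℂ) 1 = (K.index : ℂ) := by
  classical
  rw [← sum_sq_le_ker_complex K]
  rw [Finset.sum_subtype (Finset.univ.filter
      (fun ζ : IrrCharacter X => K ≤ Cfsg.Agent.Helper79.irrKer ζ))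
      (p := fun ζ : IrrCharacter X => K ≤ Cfsg.Agent.Helper79.irrKer ζ) (by simp)
      (fun ζ => (ζ : X → ℂ) 1 * (ζ : X → ℂ) 1)]

theorem rel_degree_index (K : Subgroup X) [K.Normal]
    (hC : ∀ n ∈ K, n ≠ 1 → Subgroup.centralizer ({n} : Set X) ≤ K)
    (hab : ∀ a ∈ K, ∀ b ∈ K, a * b = b * a)
    (χ : {χ : IrrCharacter X // ∃ k ∈ K, (χ : X → ℂ) k ≠ (χ : X → ℂ) 1}) :
    (χ.1 : X → ℂ) 1 = (K.index : ℂ) := by
  rw [relevant_degree K hC hab χ.1.2 χ.2, index_cast_eq]

open Classical in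
/-- The relevant characters sum to `-1` at each non-identity element of `K`. -/
theorem rel_sum_value (K : Subgroup X) [K.Normal]
    (hC : ∀ n ∈ K, n ≠ 1 → Subgroup.centralizer ({n} : Set X) ≤ K)
    (hab : ∀ a ∈ K, ∀ b ∈ K, a * b = b * a) {k : X} (hk : k ∈ K) (hk1 : k ≠ 1) :
    ∑ χ : {χ : IrrCharacter X // ∃ k ∈ K, (χ : X → ℂ) k ≠ (χ : X → ℂ) 1},
      (χ.1 : X → ℂ) k = -1 := by
  have h0 := Cfsg.Agent.Helper79.sum_degree_mul k hk1
  rw [sum_split K] at h0
  have h1 : ∑ ζ : {ζ : IrrCharacter X // K ≤ Cfsg.Agent.Helper79.irrKer ζ},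
      (ζ.1 : X → ℂ) 1 * (ζ.1 : X → ℂ) k = (K.index : ℂ) := by
    rw [← sum_irrel_sq K]
    apply Finset.sum_congr rfl
    intro ζ _
    rw [(Cfsg.Agent.Helper79.mem_irrKer ζ.1 k).1 (ζ.2 hk)]
  have h2 : ∑ χ : {χ : IrrCharacter X // ∃ k ∈ K, (χ : X → ℂ) k ≠ (χ : X → ℂ) 1},
      (χ.1 : X → ℂ) 1 * (χ.1 : X → ℂ) k = (K.index : ℂ) *
      ∑ χ : {χ : IrrCharacter X // ∃ k ∈ K, (χ : X → ℂ) k ≠ (χ : X → ℂ) 1},
        (χ.1 : X → ℂ) k := by
    rw [Finset.mul_sum]
    apply Finset.sum_congr rfl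
    intro χ _
    rw [rel_degree_index K hC hab χ]
  rw [h1, h2] at h0
  have hi0 : (K.index : ℂ) ≠ 0 := by exact_mod_cast Subgroup.index_ne_zero_of_finite (H := K)
  have h3 : (K.index : ℂ) * (1 + ∑ χ : {χ : IrrCharacter X // ∃ k ∈ K,
      (χ : X → ℂ) k ≠ (χ : X → ℂ) 1}, (χ.1 : X → ℂ) k) = 0 := by
    rw [mul_add, mul_one]; exact h0
  have h4 := (mul_eq_zero.1 h3).resolve_left hi0
  linear_combination h4

/-- The centralizer of a non-identity element of `K` is `K`. -/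
theorem card_centralizer_eq (K : Subgroup X)
    (hC : ∀ n ∈ K, n ≠ 1 → Subgroup.centralizer ({n} : Set X) ≤ K)
    (hab : ∀ a ∈ K, ∀ b ∈ K, a * b = b * a) {k : X} (hk : k ∈ K) (hk1 : k ≠ 1) :
    Nat.card (Subgroup.centralizer ({k} : Set X)) = Nat.card K := by
  have : Subgroup.centralizer ({k} : Set X) = K := by
    apply le_antisymm (hC k hk hk1)
    intro x hx
    rw [Subgroup.mem_centralizer_iff]
    intro y hy
    rw [Set.mem_singleton_iff] at hy
    subst hy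
    exact hab y hk x hx
  rw [this]

open Classical in
/-- The squared absolute values of the relevant characters sum to `|K| - |X : K|` at each
non-identity element of `K`. -/
theorem rel_sum_norm (K : Subgroup X) [K.Normal]
    (hC : ∀ n ∈ K, n ≠ 1 → Subgroup.centralizer ({n} : Set X) ≤ K)
    (hab : ∀ a ∈ K, ∀ b ∈ K, a * b = b * a) {k : X} (hk : k ∈ K) (hk1 : k ≠ 1) :
    ∑ χ : {χ : IrrCharacter X // ∃ k ∈ K, (χ : X → ℂ) k ≠ (χ : X → ℂ) 1},
      (χ.1 : X → ℂ) k * conj ((χ.1 : X → ℂ) k) = (Nat.card K : ℂ) - (K.index : ℂ) := by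
  have h0 := Cfsg.Agent.Helper79.col_orth_self k
  rw [sum_split K, card_centralizer_eq K hC hab hk hk1] at h0
  have h1 : ∑ ζ : {ζ : IrrCharacter X // K ≤ Cfsg.Agent.Helper79.irrKer ζ},
      (ζ.1 : X → ℂ) k * conj ((ζ.1 : X → ℂ) k) = (K.index : ℂ) := by
    rw [← sum_irrel_sq K]
    apply Finset.sum_congr rfl
    intro ζ _
    rw [(Cfsg.Agent.Helper79.mem_irrKer ζ.1 k).1 (ζ.2 hk),
      (Cfsg.Agent.Helper79.irr_one_eq ζ.1).1, Complex.conj_natCast]
  rw [h1] at h0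
  linear_combination h0

/-- A relevant character sums to zero over `K`. -/
theorem rel_sum_over (K : Subgroup X) [K.Normal] [Fintype K]
    (hC : ∀ n ∈ K, n ≠ 1 → Subgroup.centralizer ({n} : Set X) ≤ K)
    (χ : {χ : IrrCharacter X // ∃ k ∈ K, (χ : X → ℂ) k ≠ (χ : X → ℂ) 1}) :
    ∑ k : K, (χ.1 : X → ℂ) k = 0 := by
  classical
  have hne : (χ.1 : X → ℂ) ≠ fun _ => 1 := by
    intro h
    obtain ⟨k, _, hk⟩ := χ.2
    apply hk
    rw [h]
  have h0 := irr_orthonormal χ.1.2 isIrrCharacter_one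
  rw [if_neg hne] at h0
  unfold classInner at h0
  have hc0 : ((Nat.card X : ℂ))⁻¹ ≠ 0 := by
    apply inv_ne_zero
    exact_mod_cast Nat.card_pos.ne'
  have h1 := (mul_eq_zero.1 h0).resolve_left hc0
  have h2 : ∑ g : X, (χ.1 : X → ℂ) g * conj ((fun _ : X => (1 : ℂ)) g) =
      ∑ g : X, if g ∈ K then (χ.1 : X → ℂ) g else 0 := by
    apply Finset.sum_congr rfl
    intro g _
    by_cases hg : g ∈ K
    · rw [if_pos hg, map_one, mul_one]
    · rw [if_neg hg, rel_vanish K hC χ.1.2 χ.2 hg, zero_mul]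
  rw [h2, ← Finset.sum_filter] at h1
  rw [← h1]
  rw [Finset.sum_subtype (Finset.univ.filter (fun g : X => g ∈ K)) (p := fun g : X => g ∈ K)
    (by simp) (fun g => (χ.1 : X → ℂ) g)]

end abstract

end Cfsg.Agent.Helper17.PrimeTI
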