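import Mathlib
import Cfsg.Agent.Lib.Helper17.PrimeTIA

/-!
# Abelian T.I. subgroup with Frobenius normalizer: values of the exceptional characters
-/

set_option autoImplicit false
set_option linter.style.haveILetI false
set_option linter.unusedSectionVars false

namespace Cfsg.Agent.Helper17.PrimeTI

open Cfsg Cfsg.Agent.Helper81 Cfsg.Agent.Helper82
open scoped ComplexConjugate

universe u

section concrete

variable {G : Type u} [Group G] [Fintype G] (N : Subgroup G) [Fintype N] (K' : Subgroup N)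
  [hKn : K'.Normal]
  (hC' : ∀ n ∈ K', n ≠ 1 → Subgroup.centralizer ({n} : Set N) ≤ K')
  (hind : ∀ ϑ : N → ℂ, IsClassFunction N ϑ → (∀ x : N, x ∉ K' → ϑ x = 0) → ϑ 1 = 0 →
    ∀ x : N, Cfsg.indFun N ϑ x = ϑ x)
  (hab : ∀ a ∈ K', ∀ b ∈ K', a * b = b * a)
  (ε : ℂ) (hε : ε = 1 ∨ ε = -1)
  (f : {χ : IrrCharacter N // ∃ k ∈ K', (χ : N → ℂ) k ≠ (χ : N → ℂ) 1} → IrrCharacter G)
  (hinj : Function.Injective f)
  (hf : ∀ χ ξ, indFun N ((χ.1 : N → ℂ) - (ξ.1 : N → ℂ)) = ε • ((f χ : G → ℂ) - (f ξ : G → ℂ)))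

include hC' hind hab hε hf in
/-- Differences of exceptional characters on `N`. -/
theorem exc_diff (χ ξ : {χ : IrrCharacter N // ∃ k ∈ K', (χ : N → ℂ) k ≠ (χ : N → ℂ) 1})
    (k : N) :
    (f χ : G → ℂ) k - (f ξ : G → ℂ) k = ε * ((χ.1 : N → ℂ) k - (ξ.1 : N → ℂ) k) := by
  have hcl : IsClassFunction N ((χ.1 : N → ℂ) - (ξ.1 : N → ℂ)) := by
    intro g h
    rw [Pi.sub_apply, Pi.sub_apply,
      isClassFunction_of_isCharacter (IsIrrCharacter.isCharacter χ.1.2) g h,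
      isClassFunction_of_isCharacter (IsIrrCharacter.isCharacter ξ.1.2) g h]
  have hvan : ∀ x : N, x ∉ K' → ((χ.1 : N → ℂ) - (ξ.1 : N → ℂ)) x = 0 := by
    intro x hx
    rw [Pi.sub_apply, rel_vanish K' hC' χ.1.2 χ.2 hx, rel_vanish K' hC' ξ.1.2 ξ.2 hx, sub_zero]
  have hone : ((χ.1 : N → ℂ) - (ξ.1 : N → ℂ)) 1 = 0 := by
    rw [Pi.sub_apply, relevant_degree K' hC' hab χ.1.2 χ.2,
      relevant_degree K' hC' hab ξ.1.2 ξ.2, sub_self]
  have h1 := hind _ hcl hvan hone k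
  rw [hf, Pi.smul_apply, Pi.sub_apply, smul_eq_mul, Pi.sub_apply] at h1
  have hε2 : ε * ε = 1 := by rcases hε with h | h <;> rw [h] <;> norm_num
  calc (f χ : G → ℂ) k - (f ξ : G → ℂ) k
      = (ε * ε) * ((f χ : G → ℂ) k - (f ξ : G → ℂ) k) := by rw [hε2, one_mul]
    _ = ε * (ε * ((f χ : G → ℂ) k - (f ξ : G → ℂ) k)) := by ring
    _ = ε * ((χ.1 : N → ℂ) k - (ξ.1 : N → ℂ) k) := by rw [h1]

include hC' hind hab hε hf in
open Classical in
/-- The value of an exceptional character at a non-identity element of `K'`, in terms of the sum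
`w` of all of them. -/
theorem exc_formula (χ : {χ : IrrCharacter N // ∃ k ∈ K', (χ : N → ℂ) k ≠ (χ : N → ℂ) 1})
    {k : N} (hk : k ∈ K') (hk1 : k ≠ 1) :
    (Fintype.card {χ : IrrCharacter N // ∃ k ∈ K', (χ : N → ℂ) k ≠ (χ : N → ℂ) 1} : ℂ) *
      (f χ : G → ℂ) k =
    ε * (Fintype.card {χ : IrrCharacter N // ∃ k ∈ K', (χ : N → ℂ) k ≠ (χ : N → ℂ) 1} : ℂ) *
      (χ.1 : N → ℂ) k + ε +
      ∑ ξ : {χ : IrrCharacter N // ∃ k ∈ K', (χ : N → ℂ) k ≠ (χ : N → ℂ) 1},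
        (f ξ : G → ℂ) k := by
  have h1 : ∑ ξ : {χ : IrrCharacter N // ∃ k ∈ K', (χ : N → ℂ) k ≠ (χ : N → ℂ) 1},
      ((f χ : G → ℂ) k - (f ξ : G → ℂ) k) =
      ∑ ξ : {χ : IrrCharacter N // ∃ k ∈ K', (χ : N → ℂ) k ≠ (χ : N → ℂ) 1},
      ε * ((χ.1 : N → ℂ) k - (ξ.1 : N → ℂ) k) :=
    Finset.sum_congr rfl (fun ξ _ => exc_diff N K' hC' hind hab ε hε f hf χ ξ k)
  rw [Finset.sum_sub_distrib, ← Finset.mul_sum, Finset.sum_sub_distrib,
    rel_sum_value K' hC' hab hk hk1] at h1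
  simp only [Finset.sum_const, Finset.card_univ, nsmul_eq_mul] at h1
  linear_combination h1

include hC' hind hab hε hf in
open Classical in
/-- The sum of the squared absolute values of the exceptional characters at a non-identity element
of `K'`, when the sum `w` of their values there is real. -/
theorem exc_norm {k : N} (hk : k ∈ K') (hk1 : k ≠ 1) (w : ℂ) (hw : conj w = w)
    (hwk : ∑ ξ : {χ : IrrCharacter N // ∃ k ∈ K', (χ : N → ℂ) k ≠ (χ : N → ℂ) 1},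
        (f ξ : G → ℂ) k = w)
    (ht : Fintype.card {χ : IrrCharacter N // ∃ k ∈ K', (χ : N → ℂ) k ≠ (χ : N → ℂ) 1} ≠ 0) :
    (Fintype.card {χ : IrrCharacter N // ∃ k ∈ K', (χ : N → ℂ) k ≠ (χ : N → ℂ) 1} : ℂ) *
      ∑ χ : {χ : IrrCharacter N // ∃ k ∈ K', (χ : N → ℂ) k ≠ (χ : N → ℂ) 1},
        (f χ : G → ℂ) k * conj ((f χ : G → ℂ) k) =
    (Fintype.card {χ : IrrCharacter N // ∃ k ∈ K', (χ : N → ℂ) k ≠ (χ : N → ℂ) 1} : ℂ) *
      ((Nat.card K' : ℂ) - (K'.index : ℂ)) + w * w - 1 := by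
  set t : ℂ := (Fintype.card {χ : IrrCharacter N // ∃ k ∈ K',
    (χ : N → ℂ) k ≠ (χ : N → ℂ) 1} : ℂ) with ht_def
  have ht0 : t ≠ 0 := by rw [ht_def]; exact_mod_cast ht
  have htc : conj t = t := by rw [ht_def, Complex.conj_natCast]
  have hε2 : ε * ε = 1 := by rcases hε with h | h <;> rw [h] <;> norm_num
  have hεc : conj ε = ε := by
    rcases hε with h | h
    · rw [h, map_one]
    · rw [h, map_neg, map_one]
  have key : ∀ χ : {χ : IrrCharacter N // ∃ k ∈ K', (χ : N → ℂ) k ≠ (χ : N → ℂ) 1},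
      t * t * ((f χ : G → ℂ) k * conj ((f χ : G → ℂ) k)) =
      (t * t) * ((χ.1 : N → ℂ) k * conj ((χ.1 : N → ℂ) k)) + (ε * t * (ε + w)) * (χ.1 : N → ℂ) k
        + (ε * t * (ε + w)) * conj ((χ.1 : N → ℂ) k) + (ε + w) * (ε + w) := by
    intro χ
    have h1 := exc_formula N K' hC' hind hab ε hε f hf χ hk hk1
    rw [hwk] at h1
    have h2 : t * t * ((f χ : G → ℂ) k * conj ((f χ : G → ℂ) k)) =
        (t * (f χ : G → ℂ) k) * conj (t * (f χ : G → ℂ) k) := by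
      rw [map_mul, htc]; ring
    rw [h2, h1, map_add, map_add, map_mul, map_mul, hεc, htc, hw]
    linear_combination (t * t * ((χ.1 : N → ℂ) k * conj ((χ.1 : N → ℂ) k))) * hε2
  have hsum : t * t * ∑ χ : {χ : IrrCharacter N // ∃ k ∈ K', (χ : N → ℂ) k ≠ (χ : N → ℂ) 1},
        (f χ : G → ℂ) k * conj ((f χ : G → ℂ) k) =
      (t * t) * ((Nat.card K' : ℂ) - (K'.index : ℂ)) + (ε * t * (ε + w)) * (-1)
        + (ε * t * (ε + w)) * (-1) + t * ((ε + w) * (ε + w)) := by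
    rw [Finset.mul_sum, Finset.sum_congr rfl (fun χ _ => key χ), Finset.sum_add_distrib,
      Finset.sum_add_distrib, Finset.sum_add_distrib, ← Finset.mul_sum, ← Finset.mul_sum,
      ← Finset.mul_sum, rel_sum_norm K' hC' hab hk hk1, rel_sum_value K' hC' hab hk hk1,
      ← map_sum, rel_sum_value K' hC' hab hk hk1, map_neg, map_one]
    simp only [Finset.sum_const, Finset.card_univ, nsmul_eq_mul]
    rw [← ht_def]
  have h3 : t * (t * ∑ χ : {χ : IrrCharacter N // ∃ k ∈ K', (χ : N → ℂ) k ≠ (χ : N → ℂ) 1},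
        (f χ : G → ℂ) k * conj ((f χ : G → ℂ) k) -
      (t * ((Nat.card K' : ℂ) - (K'.index : ℂ)) + w * w - 1)) = 0 := by
    linear_combination hsum - t * hε2
  have h4 := (mul_eq_zero.1 h3).resolve_left ht0
  linear_combination h4

end concrete

end Cfsg.Agent.Helper17.PrimeTI
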