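import Mathlib
import Cfsg.Agent.Lib.Helper17.PrimeTIB

/-!
# Abelian T.I. subgroup with Frobenius normalizer: the degree equation (Brauer, Suzuki)
-/

set_option autoImplicit false
set_option linter.style.haveILetI false
set_option linter.unusedSectionVars false

namespace Cfsg.Agent.Helper17.PrimeTI

open Cfsg Cfsg.Agent.Helper81 Cfsg.Agent.Helper82
open scoped ComplexConjugate

universe u

/-- Splitting a sum along the image of an injective map. -/
theorem sum_split_image {ι κ : Type*} [Fintype ι] [Fintype κ] [DecidableEq κ] (f : ι → κ)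
    (hinj : Function.Injective f) (F A : κ → ℂ)
    (hA0 : ∀ ψ ∈ Finset.univ.image f, A ψ = 0)
    (hFA : ∀ ψ, ψ ∉ Finset.univ.image f → F ψ = A ψ) :
    ∑ ψ, F ψ = ∑ ψ, A ψ + ∑ i, F (f i) := by
  rw [← Finset.sum_add_sum_compl (Finset.univ.image f) F,
    ← Finset.sum_add_sum_compl (Finset.univ.image f) A,
    Finset.sum_eq_zero hA0, zero_add, Finset.sum_image (fun _ _ _ _ h => hinj h), add_comm]
  congr 1
  apply Finset.sum_congr rfl
  intro ψ hψ
  exact hFA ψ (Finset.mem_compl.1 hψ)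

/-- The sum of a character over a subgroup is a multiple of the order of the subgroup. -/
theorem sum_over_subgroup_int {G : Type u} [Group G] [Fintype G] (K : Subgroup G) [Fintype K]
    {ψ : G → ℂ} (hψ : IsCharacter G ψ) :
    ∃ m : ℤ, ∑ k : K, ψ k = (Nat.card K : ℂ) * (m : ℂ) := by
  have hgen := isGeneralizedCharacter_restrict K (isGeneralizedCharacter_of_isCharacter hψ)
  obtain ⟨m, hm⟩ := genChar_inner_int hgen
    (isGeneralizedCharacter_of_isCharacter (IsIrrCharacter.isCharacter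
      (isIrrCharacter_one (G := K))))
  refine ⟨m, ?_⟩
  unfold classInner at hm
  have hK0 : (Nat.card K : ℂ) ≠ 0 := by exact_mod_cast Nat.card_pos.ne'
  have h1 : ∑ g : K, (fun x : K => ψ x) g * conj ((fun _ : K => (1 : ℂ)) g) = ∑ k : K, ψ k := by
    apply Finset.sum_congr rfl
    intro g _
    rw [map_one, mul_one]
  rw [h1] at hm
  rw [← hm]
  field_simp

/-- **Degree equation** for an abelian T.I. subgroup `K` with Frobenius normalizer `N`, where
`e = |N : K|` and the number `t = (|K| - 1) / e` of exceptional characters is at least `2`: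
there are a set `E` of `t` exceptional characters of a common degree `d`, an integer `w` (the
sum of the exceptional characters on `K ∖ {1}`), and integers `a ψ` (the constant value of the
non-exceptional `ψ` on `K ∖ {1}`) such that `t * ∑ a ψ ^ 2 + w ^ 2 = |K|` and
`∑ a ψ * ψ 1 + d * w = 0`. -/
theorem ti_degree_equation {G : Type u} [Group G] [Fintype G] (K : Subgroup G)
    (hTI : ∀ g : G, g ∉ Subgroup.normalizer (K : Set G) → ∀ k ∈ K, g * k * g⁻¹ ∈ K → k = 1)
    (hlt : K < Subgroup.normalizer (K : Set G))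
    (hC : ∀ k ∈ K, k ≠ 1 → Subgroup.centralizer ({k} : Set G) ≤ K)
    (hab : ∀ a ∈ K, ∀ b ∈ K, a * b = b * a)
    (e t : ℕ) (he : K.relIndex (Subgroup.normalizer (K : Set G)) = e)
    (hte : t * e + 1 = Nat.card K) (ht : 2 ≤ t) :
    ∃ (w : ℤ) (d : ℕ) (E : Finset (IrrCharacter G)) (a : IrrCharacter G → ℤ),
      E.card = t ∧ (∀ ψ ∈ E, charDegree (ψ : G → ℂ) = d) ∧
      (∀ ψ ∈ E, (ψ : G → ℂ) ≠ fun _ => 1) ∧
      (∀ ψ ∈ E, a ψ = 0) ∧
      (∀ ψ, ψ ∉ E → ∀ k ∈ K, k ≠ 1 → (ψ : G → ℂ) k = (a ψ : ℂ)) ∧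
      (∀ ψ, ψ ∉ E → (Nat.card K : ℤ) ∣ (charDegree (ψ : G → ℂ) : ℤ) - a ψ) ∧
      ((t : ℤ) * ∑ ψ : IrrCharacter G, (a ψ) ^ 2 + w ^ 2 = Nat.card K) ∧
      (∑ ψ : IrrCharacter G, a ψ * (charDegree (ψ : G → ℂ) : ℤ) + d * w = 0) := by
  classical
  have hle : K ≤ Subgroup.normalizer (K : Set G) := hlt.le
  have hC' := tifn_hC' K (Subgroup.normalizer (K : Set G)) hC
  have hind := tifn_hind K hTI hlt hC
  have hab' : ∀ a ∈ K.subgroupOf (Subgroup.normalizer (K : Set G)),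
      ∀ b ∈ K.subgroupOf (Subgroup.normalizer (K : Set G)), a * b = b * a :=
    fun a ha b hb => Subtype.ext (hab a ha b hb)
  obtain ⟨ε, f, hε, hinj, hf⟩ := tifn_exceptional_abelian (Subgroup.normalizer (K : Set G))
    (K.subgroupOf (Subgroup.normalizer (K : Set G))) hC' hind hab'
  have hcard := rel_card (K.subgroupOf (Subgroup.normalizer (K : Set G))) hC' hab'
  have hcK : Nat.card (K.subgroupOf (Subgroup.normalizer (K : Set G))) = Nat.card K :=
    Nat.card_congr (Subgroup.subgroupOfEquivOfLe hle).toEquiv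
  have hidx : (K.subgroupOf (Subgroup.normalizer (K : Set G))).index = e := he
  rw [hcK, Nat.card_eq_fintype_card, hidx] at hcard
  have he0 : 0 < e := by
    rw [← hidx]
    exact Nat.pos_of_ne_zero Subgroup.index_ne_zero_of_finite
  have htR : Fintype.card {χ : IrrCharacter (Subgroup.normalizer (K : Set G)) //
      ∃ k ∈ K.subgroupOf (Subgroup.normalizer (K : Set G)),
        (χ : Subgroup.normalizer (K : Set G) → ℂ) k ≠
          (χ : Subgroup.normalizer (K : Set G) → ℂ) 1} = t := by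
    have h1 : Fintype.card {χ : IrrCharacter (Subgroup.normalizer (K : Set G)) //
      ∃ k ∈ K.subgroupOf (Subgroup.normalizer (K : Set G)),
        (χ : Subgroup.normalizer (K : Set G) → ℂ) k ≠
          (χ : Subgroup.normalizer (K : Set G) → ℂ) 1} * e = t * e := by omega
    exact Nat.eq_of_mul_eq_mul_right he0 h1
  have hex : ∀ χ : {χ : IrrCharacter (Subgroup.normalizer (K : Set G)) //
      ∃ k ∈ K.subgroupOf (Subgroup.normalizer (K : Set G)),
        (χ : Subgroup.normalizer (K : Set G) → ℂ) k ≠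
          (χ : Subgroup.normalizer (K : Set G) → ℂ) 1}, ∃ ξ, ξ ≠ χ :=
    fun χ => Fintype.exists_ne_of_one_lt_card (by omega) χ
  have hχ₀ : Nonempty {χ : IrrCharacter (Subgroup.normalizer (K : Set G)) //
      ∃ k ∈ K.subgroupOf (Subgroup.normalizer (K : Set G)),
        (χ : Subgroup.normalizer (K : Set G) → ℂ) k ≠
          (χ : Subgroup.normalizer (K : Set G) → ℂ) 1} := by
    rw [← Fintype.card_pos_iff]
    omega
  obtain ⟨χ₀⟩ := hχ₀
  -- transfer from `N` to `G`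
  have htrans : ∀ {Φ : G → ℂ}, (∃ z : ℤ, ∀ k : Subgroup.normalizer (K : Set G),
      k ∈ K.subgroupOf (Subgroup.normalizer (K : Set G)) → k ≠ 1 → Φ k = (z : ℂ)) →
      ∃ z : ℤ, ∀ k ∈ K, k ≠ 1 → Φ k = (z : ℂ) := by
    rintro Φ ⟨z, hz⟩
    refine ⟨z, fun k hk hk1 => ?_⟩
    exact hz ⟨k, hle hk⟩ (Subgroup.mem_subgroupOf.2 hk) (fun h => hk1 (congrArg Subtype.val h))
  -- the exceptional set
  set E : Finset (IrrCharacter G) := Finset.univ.image f with hE
  have hEcard : E.card = t := by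
    rw [hE, Finset.card_image_of_injective _ hinj, Finset.card_univ, htR]
  have hEmem : ∀ ψ, ψ ∈ E ↔ ∃ χ, f χ = ψ := by
    intro ψ
    rw [hE, Finset.mem_image]
    constructor
    · rintro ⟨χ, _, h⟩; exact ⟨χ, h⟩
    · rintro ⟨χ, h⟩; exact ⟨χ, Finset.mem_univ _, h⟩
  -- the common degree
  have hdeg : ∀ χ, (f χ : G → ℂ) 1 = (f χ₀ : G → ℂ) 1 := fun χ =>
    caf_supp (Subgroup.normalizer (K : Set G))
      (K.subgroupOf (Subgroup.normalizer (K : Set G))) hC' hab' ε hε f hf χ χ₀ 1 (Or.inl rfl)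
  have hdeg' : ∀ χ, charDegree (f χ : G → ℂ) = charDegree (f χ₀ : G → ℂ) := by
    intro χ
    unfold charDegree
    rw [hdeg χ]
  -- constants of the non-exceptional characters
  have hconst : ∀ ψ : IrrCharacter G, ∃ z : ℤ, (ψ ∈ E → z = 0) ∧
      (ψ ∉ E → ∀ k ∈ K, k ≠ 1 → (ψ : G → ℂ) k = (z : ℂ)) := by
    intro ψ
    by_cases hψ : ψ ∈ E
    · exact ⟨0, fun _ => rfl, fun h => absurd hψ h⟩
    · have hψ' : ∀ χ, f χ ≠ ψ := fun χ h => hψ ((hEmem ψ).2 ⟨χ, h⟩)
      have h1 : ∃ z : ℤ, ∀ k ∈ K, k ≠ 1 → (ψ : G → ℂ) k = (z : ℂ) := by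
        apply htrans
        apply caf_const (Subgroup.normalizer (K : Set G))
          (K.subgroupOf (Subgroup.normalizer (K : Set G))) hC' hab' ε hε f hf
          (isGeneralizedCharacter_of_isCharacter (IsIrrCharacter.isCharacter ψ.2)) _ χ₀
        intro χ ξ
        have h1 : (ψ : G → ℂ) ≠ (f χ : G → ℂ) := fun h => hψ' χ (Subtype.ext h.symm)
        have h2 : (ψ : G → ℂ) ≠ (f ξ : G → ℂ) := fun h => hψ' ξ (Subtype.ext h.symm)
        rw [irr_orthonormal ψ.2 (f χ).2, if_neg h1, irr_orthonormal ψ.2 (f ξ).2, if_neg h2]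
      obtain ⟨z, hz⟩ := h1
      exact ⟨z, fun h => absurd h hψ, fun _ => hz⟩
  choose a ha using hconst
  -- the sum of the exceptional characters
  have hw : ∃ z : ℤ, ∀ k ∈ K, k ≠ 1 → ∑ χ, (f χ : G → ℂ) k = (z : ℂ) := by
    have hsum : ∀ χ', classInner (∑ χ, (f χ : G → ℂ)) (f χ' : G → ℂ) = 1 := by
      intro χ'
      rw [classInner_sum_left]
      rw [Finset.sum_eq_single χ']
      · rw [irr_orthonormal (f χ').2 (f χ').2, if_pos rfl]
      · intro b _ hb
        rw [irr_orthonormal (f b).2 (f χ').2, if_neg]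
        intro h
        exact hb (hinj (Subtype.ext h))
      · intro h
        exact absurd (Finset.mem_univ _) h
    have hgen : IsGeneralizedCharacter G (∑ χ, (f χ : G → ℂ)) :=
      isGeneralizedCharacter_sum _ _ (fun χ _ =>
        isGeneralizedCharacter_of_isCharacter (IsIrrCharacter.isCharacter (f χ).2))
    have := htrans (caf_const (Subgroup.normalizer (K : Set G))
      (K.subgroupOf (Subgroup.normalizer (K : Set G))) hC' hab' ε hε f hf hgen
      (fun χ ξ => by rw [hsum χ, hsum ξ]) χ₀)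
    obtain ⟨z, hz⟩ := this
    refine ⟨z, fun k hk hk1 => ?_⟩
    rw [← hz k hk hk1, Finset.sum_apply]
  obtain ⟨w, hw⟩ := hw
  -- a non-identity element
  have hKcard : 1 < Nat.card K := by
    rw [← hte]
    nlinarith
  obtain ⟨k0', hk0'⟩ := Fintype.exists_ne_of_one_lt_card (by rwa [Nat.card_eq_fintype_card] at hKcard :
    1 < Fintype.card K) (1 : K)
  have hk0 : (k0' : G) ∈ K := k0'.2
  have hk01 : (k0' : G) ≠ 1 := fun h => hk0' (Subtype.ext h)
  set k0 : G := (k0' : G) with hk0def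
  -- the element of `N`
  have hkN : (⟨k0, hle hk0⟩ : Subgroup.normalizer (K : Set G)) ∈
      K.subgroupOf (Subgroup.normalizer (K : Set G)) := Subgroup.mem_subgroupOf.2 hk0
  have hkN1 : (⟨k0, hle hk0⟩ : Subgroup.normalizer (K : Set G)) ≠ 1 :=
    fun h => hk01 (congrArg Subtype.val h)
  refine ⟨w, charDegree (f χ₀ : G → ℂ), E, a, hEcard, ?_, ?_, fun ψ hψ => (ha ψ).1 hψ,
    fun ψ hψ => (ha ψ).2 hψ, ?_, ?_, ?_⟩
  · intro ψ hψ
    obtain ⟨χ, rfl⟩ := (hEmem ψ).1 hψ
    exact hdeg' χ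
  · intro ψ hψ
    obtain ⟨χ, rfl⟩ := (hEmem ψ).1 hψ
    obtain ⟨ξ, hξ⟩ := hex χ
    exact caf_ne_one (Subgroup.normalizer (K : Set G))
      (K.subgroupOf (Subgroup.normalizer (K : Set G))) ε hε f hinj hf χ ξ hξ
  · -- congruences
    intro ψ hψ
    obtain ⟨m, hm⟩ := sum_over_subgroup_int K (IsIrrCharacter.isCharacter ψ.2)
    have h1 : ∑ k : K, (ψ : G → ℂ) k = (ψ : G → ℂ) 1 + ((Nat.card K : ℂ) - 1) * (a ψ : ℂ) := by
      rw [← Finset.add_sum_erase Finset.univ _ (Finset.mem_univ (1 : K))]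
      congr 1
      have h2 : ∀ k ∈ Finset.univ.erase (1 : K), (ψ : G → ℂ) k = (a ψ : ℂ) := by
        intro k hk
        have hk1 : k ≠ 1 := (Finset.mem_erase.1 hk).1
        exact (ha ψ).2 hψ k k.2 (fun h => hk1 (Subtype.ext h))
      rw [Finset.sum_congr rfl h2, Finset.sum_const, Finset.card_erase_of_mem (Finset.mem_univ _),
        Finset.card_univ, nsmul_eq_mul, Nat.card_eq_fintype_card]
      rw [Nat.cast_sub Fintype.card_pos]
      push_cast
      ring
    rw [h1, (Cfsg.Agent.Helper79.irr_one_eq ψ).1] at hm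
    refine ⟨m - a ψ, ?_⟩
    have h3 : ((charDegree (ψ : G → ℂ) : ℤ) : ℂ) - ((a ψ : ℤ) : ℂ) =
        ((Nat.card K : ℤ) : ℂ) * (((m - a ψ : ℤ)) : ℂ) := by
      push_cast
      linear_combination hm
    exact_mod_cast h3
  · -- the norm equation
    have h0 := Cfsg.Agent.Helper79.col_orth_self k0
    rw [card_centralizer_eq K hC hab hk0 hk01] at h0
    rw [sum_split_image f hinj
      (fun ψ : IrrCharacter G => (ψ : G → ℂ) k0 * conj ((ψ : G → ℂ) k0))
      (fun ψ : IrrCharacter G => ((a ψ : ℤ) : ℂ) ^ 2)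
      (fun ψ hψ => by
        show ((a ψ : ℤ) : ℂ) ^ 2 = 0
        rw [(ha ψ).1 hψ]; simp)
      (fun ψ hψ => by
        show (ψ : G → ℂ) k0 * conj ((ψ : G → ℂ) k0) = ((a ψ : ℤ) : ℂ) ^ 2
        rw [(ha ψ).2 hψ k0 hk0 hk01, map_intCast]; ring)] at h0
    have h1 := exc_norm (Subgroup.normalizer (K : Set G))
      (K.subgroupOf (Subgroup.normalizer (K : Set G))) hC' hind hab' ε hε f hf hkN hkN1
      (w : ℂ) (map_intCast (starRingEnd ℂ) w) (hw k0 hk0 hk01) (by rw [htR]; omega)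
    rw [htR, hcK, hidx] at h1
    have h2 : ((t : ℤ) : ℂ) * ∑ ψ : IrrCharacter G, ((a ψ : ℤ) : ℂ) ^ 2 + ((w : ℤ) : ℂ) ^ 2 =
        ((Nat.card K : ℤ) : ℂ) := by
      have h3 : ((t * e + 1 : ℕ) : ℂ) = (Nat.card K : ℂ) := by rw [hte]
      push_cast at h3 ⊢
      linear_combination (t : ℂ) * h0 - h1 + h3
    have h4 : (((t : ℤ) * ∑ ψ : IrrCharacter G, (a ψ) ^ 2 + w ^ 2 : ℤ) : ℂ) =
        ((Nat.card K : ℤ) : ℂ) := by
      push_cast
      push_cast at h2
      exact h2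
    exact_mod_cast h4
  · -- the degree equation
    have h0 := Cfsg.Agent.Helper79.sum_degree_mul k0 hk01
    rw [sum_split_image f hinj
      (fun ψ : IrrCharacter G => (ψ : G → ℂ) 1 * (ψ : G → ℂ) k0)
      (fun ψ : IrrCharacter G => ((a ψ : ℤ) : ℂ) * ((charDegree (ψ : G → ℂ) : ℤ) : ℂ))
      (fun ψ hψ => by
        show ((a ψ : ℤ) : ℂ) * ((charDegree (ψ : G → ℂ) : ℤ) : ℂ) = 0
        rw [(ha ψ).1 hψ]; simp)
      (fun ψ hψ => by
        show (ψ : G → ℂ) 1 * (ψ : G → ℂ) k0 =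
          ((a ψ : ℤ) : ℂ) * ((charDegree (ψ : G → ℂ) : ℤ) : ℂ)
        rw [(ha ψ).2 hψ k0 hk0 hk01, (Cfsg.Agent.Helper79.irr_one_eq ψ).1]
        push_cast; ring)] at h0
    have h1 : ∑ χ, (f χ : G → ℂ) 1 * (f χ : G → ℂ) k0 =
        ((charDegree (f χ₀ : G → ℂ) : ℤ) : ℂ) * ((w : ℤ) : ℂ) := by
      rw [← hw k0 hk0 hk01, Finset.mul_sum]
      apply Finset.sum_congr rfl
      intro χ _
      rw [hdeg χ, (Cfsg.Agent.Helper79.irr_one_eq (f χ₀)).1]
      push_cast; ring
    rw [h1] at h0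
    have h4 : ((∑ ψ : IrrCharacter G, a ψ * (charDegree (ψ : G → ℂ) : ℤ) +
        (charDegree (f χ₀ : G → ℂ) : ℤ) * w : ℤ) : ℂ) = ((0 : ℤ) : ℂ) := by
      push_cast
      push_cast at h0
      exact h0
    exact_mod_cast h4

end Cfsg.Agent.Helper17.PrimeTI
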