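import Mathlib
import Cfsg.Agent.Lib.Helper17.PrimeTIC
import Cfsg.Agent.Lib.Helper17.PrimeSylow

/-!
# The degree equation for a self-centralizing subgroup of prime order
-/

set_option autoImplicit false
set_option linter.style.haveILetI false
set_option linter.unusedSectionVars false

namespace Cfsg.Agent.Helper17.PrimeTI

open Cfsg

universe u

/-- A subgroup of prime order is a T.I. subgroup. -/
theorem prime_TI {G : Type*} [Group G] {p : ℕ} [hp : Fact p.Prime] (P : Subgroup G)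
    (hP : Nat.card P = p) :
    ∀ g : G, g ∉ Subgroup.normalizer (P : Set G) → ∀ k ∈ P, g * k * g⁻¹ ∈ P → k = 1 := by
  intro g hg k hk hgk
  by_contra hk1
  apply hg
  have hk' : g * k * g⁻¹ ≠ 1 := by
    intro h
    apply hk1
    have : g * k * g⁻¹ = g * 1 * g⁻¹ := by rw [h]; group
    exact mul_left_cancel (mul_right_cancel this)
  obtain ⟨hz, _⟩ := zpowers_eq_of_card_prime P hP k hk hk1
  obtain ⟨hz', _⟩ := zpowers_eq_of_card_prime P hP (g * k * g⁻¹) hgk hk'
  rw [Subgroup.mem_normalizer_iff]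
  intro h
  constructor
  · intro hh
    rw [← hz] at hh
    obtain ⟨n, rfl⟩ := Subgroup.mem_zpowers_iff.1 hh
    rw [← hz']
    exact Subgroup.mem_zpowers_iff.2 ⟨n, conj_zpow⟩
  · intro hh
    rw [← hz'] at hh
    obtain ⟨n, hn⟩ := Subgroup.mem_zpowers_iff.1 hh
    rw [conj_zpow] at hn
    have h1 : k ^ n = h := mul_left_cancel (mul_right_cancel hn)
    rw [← h1, ← hz]
    exact Subgroup.zpow_mem_zpowers k n

/-- **Degree equation** for a self-centralizing subgroup `P` of prime order `p` with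
`|N(P)| = p * e`, `2 ≤ e`, and `t = (p - 1) / e ≥ 2`. -/
theorem prime_degree_equation {G : Type u} [Group G] [Fintype G] (P : Subgroup G) (p e t : ℕ)
    [hp : Fact p.Prime] (hP : Nat.card P = p)
    (hC : Subgroup.centralizer (P : Set G) = P)
    (hN : Nat.card (Subgroup.normalizer (P : Set G)) = p * e) (he : 2 ≤ e)
    (hte : t * e + 1 = p) (ht : 2 ≤ t) :
    ∃ (w : ℤ) (d : ℕ) (E : Finset (IrrCharacter G)) (a : IrrCharacter G → ℤ),
      E.card = t ∧ (∀ ψ ∈ E, charDegree (ψ : G → ℂ) = d) ∧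
      (∀ ψ ∈ E, (ψ : G → ℂ) ≠ fun _ => 1) ∧
      (∀ ψ ∈ E, a ψ = 0) ∧
      (∀ ψ, ψ ∉ E → ∀ k ∈ P, k ≠ 1 → (ψ : G → ℂ) k = (a ψ : ℂ)) ∧
      (∀ ψ, ψ ∉ E → (p : ℤ) ∣ (charDegree (ψ : G → ℂ) : ℤ) - a ψ) ∧
      ((t : ℤ) * ∑ ψ : IrrCharacter G, (a ψ) ^ 2 + w ^ 2 = p) ∧
      (∑ ψ : IrrCharacter G, a ψ * (charDegree (ψ : G → ℂ) : ℤ) + d * w = 0) := by
  have hle : P ≤ Subgroup.normalizer (P : Set G) := Subgroup.le_normalizer
  have hlt : P < Subgroup.normalizer (P : Set G) := by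
    apply lt_of_le_of_ne hle
    intro h
    have h1 : Nat.card P = Nat.card (Subgroup.normalizer (P : Set G)) := by rw [← h]
    rw [hP, hN] at h1
    have hp0 := hp.out.pos
    nlinarith
  have hCk : ∀ k ∈ P, k ≠ 1 → Subgroup.centralizer ({k} : Set G) ≤ P := by
    intro k hk hk1
    obtain ⟨hz, _⟩ := zpowers_eq_of_card_prime P hP k hk hk1
    rw [← Subgroup.centralizer_closure, ← Subgroup.zpowers_eq_closure, hz, hC]
  have hab : ∀ a ∈ P, ∀ b ∈ P, a * b = b * a := by
    intro a ha b hb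
    have hcyc : IsCyclic P := isCyclic_of_prime_card hP
    have := IsCyclic.commGroup.mul_comm (⟨a, ha⟩ : P) ⟨b, hb⟩
    exact congrArg Subtype.val this
  have hrel : P.relIndex (Subgroup.normalizer (P : Set G)) = e := by
    have h1 := (P.subgroupOf (Subgroup.normalizer (P : Set G))).card_mul_index
    have h2 : Nat.card (P.subgroupOf (Subgroup.normalizer (P : Set G))) = Nat.card P :=
      Nat.card_congr (Subgroup.subgroupOfEquivOfLe hle).toEquiv
    rw [h2, hP, hN] at h1
    exact Nat.eq_of_mul_eq_mul_left hp.out.pos h1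
  have h := ti_degree_equation P (prime_TI P hP) hlt hCk hab e t hrel (by rw [hP]; exact hte) ht
  rw [hP] at h
  exact h

end Cfsg.Agent.Helper17.PrimeTI
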