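import Mathlib
import Cfsg.Agent.Lib.Helper17.PrimeTI
import Cfsg.Agent.Lib.Helper17.Simple
import Cfsg.Agent.Lib.Helper79.LinearChars

/-!
# Applications of the degree equation: perfect groups, small sums of squares, dihedral normalizers
-/

set_option autoImplicit false
set_option linter.style.haveILetI false
set_option linter.unusedSectionVars false

namespace Cfsg.Agent.Helper17.PrimeTI

open Cfsg
open scoped ComplexConjugate commutatorElement

universe u

/-- A perfect group has no non-trivial linear character. -/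
theorem linear_trivial_of_perfect {G : Type u} [Group G] [Finite G] (hperf : commutator G = ⊤)
    (ψ : IrrCharacter G) (h : charDegree (ψ : G → ℂ) = 1) : (ψ : G → ℂ) = fun _ => 1 := by
  have hmul : ∀ z g : G, (ψ : G → ℂ) (z * g) = (ψ : G → ℂ) z * (ψ : G → ℂ) g :=
    fun z g => (Cfsg.Agent.Helper79.irr_mul_of_degree_one ψ h z g).1
  have h1 : (ψ : G → ℂ) 1 = 1 := by
    rw [(Cfsg.Agent.Helper79.irr_one_eq ψ).1, h]; simp
  have hinv : ∀ a : G, (ψ : G → ℂ) a * (ψ : G → ℂ) a⁻¹ = 1 := by
    intro a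
    rw [← hmul, mul_inv_cancel, h1]
  have hcomm : ∀ a b : G, (ψ : G → ℂ) ⁅a, b⁆ = 1 := by
    intro a b
    rw [commutatorElement_def, hmul, hmul, hmul]
    have ha := hinv a
    have hb := hinv b
    calc (ψ : G → ℂ) a * (ψ : G → ℂ) b * (ψ : G → ℂ) a⁻¹ * (ψ : G → ℂ) b⁻¹
        = ((ψ : G → ℂ) a * (ψ : G → ℂ) a⁻¹) * ((ψ : G → ℂ) b * (ψ : G → ℂ) b⁻¹) := by ring
      _ = 1 := by rw [ha, hb, one_mul]
  have hall : ∀ g ∈ commutator G, (ψ : G → ℂ) g = 1 := by
    intro g hg
    rw [commutator_def, Subgroup.commutator_def] at hg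
    induction hg using Subgroup.closure_induction with
    | mem x hx =>
      obtain ⟨a, _, b, _, rfl⟩ := hx
      exact hcomm a b
    | one => exact h1
    | mul x y _ _ hx hy => rw [hmul, hx, hy, one_mul]
    | inv x _ hx =>
      have := hinv x
      rw [hx, one_mul] at this
      exact this
  funext g
  exact hall g (by rw [hperf]; exact Subgroup.mem_top g)

/-- A finite simple group of non-prime order is perfect. -/
theorem perfect_of_simple {G : Type*} [Group G] [Finite G] [IsSimpleGroup G]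
    (h : ¬ (Nat.card G).Prime) : commutator G = ⊤ := by
  rcases (inferInstance : (commutator G).Normal).eq_bot_or_eq_top with hc | hc
  · exfalso
    apply Cfsg.Agent.Helper17.not_comm_of_not_prime h
    rw [commutator_eq_bot_iff_center_eq_top] at hc
    refine ⟨⟨fun a b => ?_⟩⟩
    have hb : b ∈ Subgroup.center G := by rw [hc]; exact Subgroup.mem_top b
    exact (Subgroup.mem_center_iff.1 hb a)
  · exact hc

/-- The degree of the trivial character. -/
theorem charDegree_one {G : Type u} [Group G] : charDegree (fun _ : G => (1 : ℂ)) = 1 := by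
  unfold charDegree
  simp

/-- Peeling off one term of a small sum of squares. -/
theorem peel {ι : Type*} [DecidableEq ι] (s : Finset ι) (a : ι → ℤ) (n : ℕ) (hn : n < 3)
    (h : ∑ i ∈ s, (a i) ^ 2 = n + 1) :
    ∃ j ∈ s, (a j = 1 ∨ a j = -1) ∧ ∑ i ∈ s.erase j, (a i) ^ 2 = n := by
  have hex : ∃ j ∈ s, a j ≠ 0 := by
    by_contra hno
    push Not at hno
    rw [Finset.sum_eq_zero (fun i hi => by rw [hno i hi]; ring)] at h
    omega
  obtain ⟨j, hj, hj0⟩ := hex
  have hsplit := Finset.add_sum_erase s (fun i => (a i) ^ 2) hj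
  have hnonneg : 0 ≤ ∑ i ∈ s.erase j, (a i) ^ 2 := Finset.sum_nonneg (fun i _ => sq_nonneg _)
  have h1 : (a j) ^ 2 ≤ 3 := by
    have : (a j) ^ 2 + ∑ i ∈ s.erase j, (a i) ^ 2 = n + 1 := by rw [hsplit, h]
    have hn' : (n : ℤ) < 3 := by exact_mod_cast hn
    linarith
  have h2 : a j = 1 ∨ a j = -1 := by
    have hle : a j ≤ 1 := by nlinarith
    have hge : -1 ≤ a j := by nlinarith
    have : a j = -1 ∨ a j = 0 ∨ a j = 1 := by omega
    rcases this with h | h | h
    · exact Or.inr h
    · exact absurd h hj0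
    · exact Or.inl h
  refine ⟨j, hj, h2, ?_⟩
  have h3 : (a j) ^ 2 = 1 := by rcases h2 with h | h <;> rw [h] <;> norm_num
  have : (a j) ^ 2 + ∑ i ∈ s.erase j, (a i) ^ 2 = n + 1 := by rw [hsplit, h]
  linarith

/-- A vanishing sum of squares. -/
theorem all_zero {ι : Type*} (s : Finset ι) (a : ι → ℤ) (h : ∑ i ∈ s, (a i) ^ 2 = 0) :
    ∀ i ∈ s, a i = 0 := by
  intro i hi
  have := (Finset.sum_eq_zero_iff_of_nonneg (fun i _ => sq_nonneg (a i))).1 h i hi
  exact pow_eq_zero_iff (two_ne_zero) |>.1 this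

/-- A subgroup of prime order has a non-identity element. -/
theorem exists_ne_one_of_prime_card {G : Type*} [Group G] {p : ℕ} [hp : Fact p.Prime]
    (P : Subgroup G) (hP : Nat.card P = p) : ∃ k ∈ P, k ≠ 1 := by
  have : Finite P := Nat.finite_of_card_ne_zero (by rw [hP]; exact hp.out.ne_zero)
  have h1 : 1 < Nat.card P := by rw [hP]; exact hp.out.one_lt
  rw [Subgroup.one_lt_card_iff_ne_bot] at h1
  obtain ⟨k, hk, hk1⟩ := (Subgroup.ne_bot_iff_exists_ne_one (H := P)).1 h1 |> fun ⟨k, hk⟩ =>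
    (⟨(k : G), k.2, fun h => hk (Subtype.ext h)⟩ : ∃ k ∈ P, k ≠ 1)
  exact ⟨k, hk, hk1⟩

/-- **Dihedral normalizer**: if a perfect group has a self-centralizing subgroup of prime order
`p ≥ 5` with normalizer of order `2p`, then there is a degree `x > 1` with `x ≡ ±1 (mod p)`,
`x ∣ |G|` and `x ± 1 ∣ |G|` (the degree of the exceptional characters). -/
theorem dihedral_normalizer_degrees {G : Type u} [Group G] [Fintype G]
    (hperf : commutator G = ⊤) (P : Subgroup G) (p t : ℕ) [hp : Fact p.Prime]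
    (hP : Nat.card P = p) (hC : Subgroup.centralizer (P : Set G) = P)
    (hN : Nat.card (Subgroup.normalizer (P : Set G)) = p * 2) (hte : t * 2 + 1 = p)
    (ht : 2 ≤ t) :
    ∃ x : ℕ, 1 < x ∧ x ∣ Nat.card G ∧
      ((p ∣ x - 1 ∧ x + 1 ∣ Nat.card G) ∨ (p ∣ x + 1 ∧ x - 1 ∣ Nat.card G)) := by
  classical
  obtain ⟨w, d, E, a, hEcard, hEdeg, hEne, haE, haK, hcong, hnorm, hdegeq⟩ :=
    prime_degree_equation P p 2 t hP hC hN le_rfl hte ht
  set ψ1 : IrrCharacter G := ⟨fun _ => 1, Cfsg.Agent.Helper81.isIrrCharacter_one⟩ with hψ1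
  have hψ1E : ψ1 ∉ E := fun h => hEne ψ1 h rfl
  obtain ⟨k, hk, hk1⟩ := exists_ne_one_of_prime_card P hP
  have ha1 : a ψ1 = 1 := by
    have h := haK ψ1 hψ1E k hk hk1
    have h' : ((1 : ℤ) : ℂ) = ((a ψ1 : ℤ) : ℂ) := by
      rw [← h]; simp [hψ1]
    exact_mod_cast h'.symm
  have hdeg1 : charDegree (ψ1 : G → ℂ) = 1 := charDegree_one
  have hd : d ∣ Nat.card G := by
    obtain ⟨ψ, hψ⟩ := Finset.card_pos.1 (by omega : 0 < E.card)
    rw [← hEdeg ψ hψ]
    exact Cfsg.Agent.Helper79.irr_degree_dvd_card ψ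
  have hsplit1 := Finset.add_sum_erase Finset.univ (fun ψ => (a ψ) ^ 2) (Finset.mem_univ ψ1)
  have hsplit2 := Finset.add_sum_erase Finset.univ
    (fun ψ => a ψ * (charDegree (ψ : G → ℂ) : ℤ)) (Finset.mem_univ ψ1)
  simp only [ha1, hdeg1] at hsplit1 hsplit2
  have hrest : 0 ≤ ∑ ψ ∈ Finset.univ.erase ψ1, (a ψ) ^ 2 :=
    Finset.sum_nonneg (fun i _ => sq_nonneg _)
  rw [← hsplit1] at hnorm
  rw [← hsplit2] at hdegeq
  have hp2 : (p : ℤ) = 2 * t + 1 := by rw [← hte]; push_cast; ring
  have ht' : (2 : ℤ) ≤ t := by exact_mod_cast ht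
  have hle1 : ∑ ψ ∈ Finset.univ.erase ψ1, (a ψ) ^ 2 ≤ 1 := by
    by_contra hgt
    push Not at hgt
    have h2 : (2 : ℤ) ≤ ∑ ψ ∈ Finset.univ.erase ψ1, (a ψ) ^ 2 := hgt
    nlinarith [sq_nonneg w]
  have hcases : ∑ ψ ∈ Finset.univ.erase ψ1, (a ψ) ^ 2 = 0 ∨
      ∑ ψ ∈ Finset.univ.erase ψ1, (a ψ) ^ 2 = 1 := by omega
  rcases hcases with h0 | h1
  · -- only the trivial character: impossible
    exfalso
    have hz := all_zero _ a h0
    have hs0 : ∑ ψ ∈ Finset.univ.erase ψ1, a ψ * (charDegree (ψ : G → ℂ) : ℤ) = 0 :=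
      Finset.sum_eq_zero (fun ψ hψ => by rw [hz ψ hψ, zero_mul])
    rw [hs0] at hdegeq
    rw [h0] at hnorm
    push_cast at hdegeq
    have hdw : (d : ℤ) * w = -1 := by linarith
    have hd0 : (0 : ℤ) ≤ d := by positivity
    have hd1 : (1 : ℤ) ≤ d := by
      by_contra h
      have h0 : (d : ℤ) = 0 := by omega
      rw [h0] at hdw
      simp at hdw
    have hwneg : w ≤ -1 := by
      by_contra h
      push Not at h
      have : 0 ≤ w := by omega
      nlinarith
    have hwge : -1 ≤ w := by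
      by_contra h
      push Not at h
      have : w ≤ -2 := by omega
      nlinarith
    have hw1 : w = -1 := by omega
    rw [hw1] at hnorm
    nlinarith
  · -- one more character
    obtain ⟨X, hX, haX, hrest0⟩ := peel (Finset.univ.erase ψ1) a 0 (by norm_num)
      (by rw [h1]; norm_num)
    have hXne : X ≠ ψ1 := (Finset.mem_erase.1 hX).1
    have hz := all_zero _ a (by exact_mod_cast hrest0)
    have hsplit3 := Finset.add_sum_erase (Finset.univ.erase ψ1)
      (fun ψ => a ψ * (charDegree (ψ : G → ℂ) : ℤ)) hX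
    have hs0 : ∑ ψ ∈ (Finset.univ.erase ψ1).erase X, a ψ * (charDegree (ψ : G → ℂ) : ℤ) = 0 :=
      Finset.sum_eq_zero (fun ψ hψ => by rw [hz ψ hψ, zero_mul])
    rw [hs0, add_zero] at hsplit3
    rw [← hsplit3] at hdegeq
    push_cast at hdegeq
    rw [h1] at hnorm
    have hw1 : w ^ 2 = 1 := by nlinarith
    have hw : w = 1 ∨ w = -1 := by
      have h : (w - 1) * (w + 1) = 0 := by ring_nf; linarith
      rcases mul_eq_zero.1 h with h | h
      · left; linarith
      · right; linarith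
    have hXE : X ∉ E := by
      intro h
      have := haE X h
      rcases haX with h' | h' <;> rw [h'] at this <;> norm_num at this
    have hxdvd : charDegree (X : G → ℂ) ∣ Nat.card G := Cfsg.Agent.Helper79.irr_degree_dvd_card X
    have hxpos : 0 < charDegree (X : G → ℂ) := (Cfsg.Agent.Helper79.irr_one_eq X).2
    have hx1 : charDegree (X : G → ℂ) ≠ 1 := by
      intro h
      apply hXne
      apply Subtype.ext
      exact linear_trivial_of_perfect hperf X h
    have hcX := hcong X hXE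
    refine ⟨charDegree (X : G → ℂ), by omega, hxdvd, ?_⟩
    set x := charDegree (X : G → ℂ) with hx
    have hd0 : (0 : ℤ) ≤ d := by positivity
    have hx2 : (2 : ℤ) ≤ x := by omega
    rcases haX with haX | haX
    · -- a X = 1
      left
      rw [haX] at hcX hdegeq
      rcases hw with hw | hw
      · rw [hw] at hdegeq; nlinarith
      · rw [hw] at hdegeq
        have hdx : d = x + 1 := by omega
        refine ⟨?_, by rw [← hdx]; exact hd⟩
        have : ((x - 1 : ℕ) : ℤ) = (x : ℤ) - 1 := by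
          rw [Nat.cast_sub (by omega)]; simp
        exact_mod_cast (this ▸ hcX)
    · -- a X = -1
      right
      rw [haX] at hcX hdegeq
      rcases hw with hw | hw
      · rw [hw] at hdegeq
        have hdx : d = x - 1 := by omega
        refine ⟨?_, by rw [← hdx]; exact hd⟩
        have : ((x + 1 : ℕ) : ℤ) = (x : ℤ) - (-1) := by push_cast; ring
        exact_mod_cast (this ▸ hcX)
      · rw [hw] at hdegeq; nlinarith

end Cfsg.Agent.Helper17.PrimeTI
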