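import Mathlib
import Cfsg.Agent.Lib.Helper17.PrimeTIApp

/-!
# Applications of the degree equation: normalizer of order `3p`
-/

set_option autoImplicit false
set_option linter.style.haveILetI false
set_option linter.unusedSectionVars false

namespace Cfsg.Agent.Helper17.PrimeTI

open Cfsg
open scoped ComplexConjugate

universe u

set_option maxHeartbeats 1000000 in
/-- **Normalizer of order `3p`**: if a perfect group has a self-centralizing subgroup of prime
order `p = 3t + 1` (`t ≥ 2`, `t + 1` not a square) with normalizer of order `3p`, then there are two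
degrees `x₁, x₂ > 1` with `xᵢ ≡ ±1 (mod p)`, dividing `|G|`, such that `|1 ± x₁ ± x₂|` (the degree
of the exceptional characters) divides `|G|`. -/
theorem frob3_normalizer_degrees {G : Type u} [Group G] [Fintype G]
    (hperf : commutator G = ⊤) (P : Subgroup G) (p t : ℕ) [hp : Fact p.Prime]
    (hP : Nat.card P = p) (hC : Subgroup.centralizer (P : Set G) = P)
    (hN : Nat.card (Subgroup.normalizer (P : Set G)) = p * 3) (hte : t * 3 + 1 = p)
    (ht : 2 ≤ t) (hsq : ∀ w : ℤ, w ^ 2 ≠ t + 1) :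
    ∃ x₁ x₂ : ℕ, 1 < x₁ ∧ 1 < x₂ ∧ x₁ ∣ Nat.card G ∧ x₂ ∣ Nat.card G ∧
      ((p ∣ x₁ - 1 ∧ p ∣ x₂ - 1 ∧ 1 + x₁ + x₂ ∣ Nat.card G) ∨
       (p ∣ x₁ - 1 ∧ p ∣ x₂ + 1 ∧ (1 + x₁ - x₂ ∣ Nat.card G ∨ x₂ - x₁ - 1 ∣ Nat.card G)) ∨
       (p ∣ x₁ + 1 ∧ p ∣ x₂ - 1 ∧ (1 + x₂ - x₁ ∣ Nat.card G ∨ x₁ - x₂ - 1 ∣ Nat.card G)) ∨
       (p ∣ x₁ + 1 ∧ p ∣ x₂ + 1 ∧ x₁ + x₂ - 1 ∣ Nat.card G)) := by
  classical
  obtain ⟨w, d, E, a, hEcard, hEdeg, hEne, haE, haK, hcong, hnorm, hdegeq⟩ :=
    prime_degree_equation P p 3 t hP hC hN (by norm_num) hte ht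
  set ψ1 : IrrCharacter G := ⟨fun _ => 1, Cfsg.Agent.Helper81.isIrrCharacter_one⟩ with hψ1
  have hψ1E : ψ1 ∉ E := fun h => hEne ψ1 h rfl
  obtain ⟨k, hk, hk1⟩ := exists_ne_one_of_prime_card P hP
  have ha1 : a ψ1 = 1 := by
    have h := haK ψ1 hψ1E k hk hk1
    have h' : ((1 : ℤ) : ℂ) = ((a ψ1 : ℤ) : ℂ) := by
      rw [← h]; simp [hψ1]
    exact_mod_cast h'.symm
  have hdeg1 : charDegree (ψ1 : G → ℂ) = 1 := charDegree_one
  have hd : d ∣ Nat.card G := by
    obtain ⟨ψ, hψ⟩ := Finset.card_pos.1 (by omega : 0 < E.card)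
    rw [← hEdeg ψ hψ]
    exact Cfsg.Agent.Helper79.irr_degree_dvd_card ψ
  have hdpos : 0 < d := by
    obtain ⟨ψ, hψ⟩ := Finset.card_pos.1 (by omega : 0 < E.card)
    rw [← hEdeg ψ hψ]
    exact (Cfsg.Agent.Helper79.irr_one_eq ψ).2
  have hsplit1 := Finset.add_sum_erase Finset.univ (fun ψ => (a ψ) ^ 2) (Finset.mem_univ ψ1)
  have hsplit2 := Finset.add_sum_erase Finset.univ
    (fun ψ => a ψ * (charDegree (ψ : G → ℂ) : ℤ)) (Finset.mem_univ ψ1)
  simp only [ha1, hdeg1] at hsplit1 hsplit2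
  have hrest : 0 ≤ ∑ ψ ∈ Finset.univ.erase ψ1, (a ψ) ^ 2 :=
    Finset.sum_nonneg (fun i _ => sq_nonneg _)
  rw [← hsplit1] at hnorm
  rw [← hsplit2] at hdegeq
  have hp2 : (p : ℤ) = 3 * t + 1 := by rw [← hte]; push_cast; ring
  have ht' : (2 : ℤ) ≤ t := by exact_mod_cast ht
  have hle1 : ∑ ψ ∈ Finset.univ.erase ψ1, (a ψ) ^ 2 ≤ 2 := by
    by_contra hgt
    push Not at hgt
    have h2 : (3 : ℤ) ≤ ∑ ψ ∈ Finset.univ.erase ψ1, (a ψ) ^ 2 := hgt
    nlinarith [sq_nonneg w]
  have hcases : ∑ ψ ∈ Finset.univ.erase ψ1, (a ψ) ^ 2 = 0 ∨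
      ∑ ψ ∈ Finset.univ.erase ψ1, (a ψ) ^ 2 = 1 ∨
      ∑ ψ ∈ Finset.univ.erase ψ1, (a ψ) ^ 2 = 2 := by omega
  rcases hcases with h0 | h1 | h2
  · -- only the trivial character: impossible
    exfalso
    have hz := all_zero _ a h0
    have hs0 : ∑ ψ ∈ Finset.univ.erase ψ1, a ψ * (charDegree (ψ : G → ℂ) : ℤ) = 0 :=
      Finset.sum_eq_zero (fun ψ hψ => by rw [hz ψ hψ, zero_mul])
    rw [hs0] at hdegeq
    rw [h0] at hnorm
    push_cast at hdegeq
    have hdw : (d : ℤ) * w = -1 := by linarith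
    have hd0 : (0 : ℤ) ≤ d := by positivity
    have hd1 : (1 : ℤ) ≤ d := by exact_mod_cast hdpos
    have hwneg : w ≤ -1 := by
      by_contra h
      push Not at h
      have : 0 ≤ w := by omega
      nlinarith
    have hwge : -1 ≤ w := by
      by_contra h
      push Not at h
      have : w ≤ -2 := by omega
      nlinarith
    have hw1 : w = -1 := by omega
    rw [hw1] at hnorm
    nlinarith
  · -- one more character: `w ^ 2 = t + 1`, excluded
    exfalso
    rw [h1] at hnorm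
    apply hsq w
    nlinarith
  · -- two more characters
    obtain ⟨X, hX, haX, hrestX⟩ := peel (Finset.univ.erase ψ1) a 1 (by norm_num)
      (by rw [h2]; norm_num)
    obtain ⟨Y, hY, haY, hrestY⟩ := peel ((Finset.univ.erase ψ1).erase X) a 0 (by norm_num)
      (by rw [hrestX]; norm_num)
    have hXne : X ≠ ψ1 := (Finset.mem_erase.1 hX).1
    have hYne : Y ≠ ψ1 := (Finset.mem_erase.1 (Finset.mem_erase.1 hY).2).1
    have hz := all_zero _ a (by exact_mod_cast hrestY)
    have hsplit3 := Finset.add_sum_erase (Finset.univ.erase ψ1)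
      (fun ψ => a ψ * (charDegree (ψ : G → ℂ) : ℤ)) hX
    have hsplit4 := Finset.add_sum_erase ((Finset.univ.erase ψ1).erase X)
      (fun ψ => a ψ * (charDegree (ψ : G → ℂ) : ℤ)) hY
    have hs0 : ∑ ψ ∈ ((Finset.univ.erase ψ1).erase X).erase Y,
        a ψ * (charDegree (ψ : G → ℂ) : ℤ) = 0 :=
      Finset.sum_eq_zero (fun ψ hψ => by rw [hz ψ hψ, zero_mul])
    rw [hs0, add_zero] at hsplit4
    rw [← hsplit4] at hsplit3
    rw [← hsplit3] at hdegeq
    push_cast at hdegeq
    rw [h2] at hnorm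
    have hw1 : w ^ 2 = 1 := by nlinarith
    have hw : w = 1 ∨ w = -1 := by
      have h : (w - 1) * (w + 1) = 0 := by ring_nf; linarith
      rcases mul_eq_zero.1 h with h | h
      · left; linarith
      · right; linarith
    have hnotE : ∀ Z : IrrCharacter G, (a Z = 1 ∨ a Z = -1) → Z ∉ E := by
      intro Z haZ h
      have := haE Z h
      rcases haZ with h' | h' <;> rw [h'] at this <;> norm_num at this
    have hXE := hnotE X haX
    have hYE := hnotE Y haY
    have hdeg_gt : ∀ Z : IrrCharacter G, Z ≠ ψ1 → 1 < charDegree (Z : G → ℂ) := by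
      intro Z hZ
      have hpos : 0 < charDegree (Z : G → ℂ) := (Cfsg.Agent.Helper79.irr_one_eq Z).2
      have hne1 : charDegree (Z : G → ℂ) ≠ 1 := by
        intro h
        apply hZ
        apply Subtype.ext
        exact linear_trivial_of_perfect hperf Z h
      omega
    have hcX := hcong X hXE
    have hcY := hcong Y hYE
    refine ⟨charDegree (X : G → ℂ), charDegree (Y : G → ℂ), hdeg_gt X hXne, hdeg_gt Y hYne,
      Cfsg.Agent.Helper79.irr_degree_dvd_card X, Cfsg.Agent.Helper79.irr_degree_dvd_card Y, ?_⟩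
    have hx2 := hdeg_gt X hXne
    have hy2 := hdeg_gt Y hYne
    set x := charDegree (X : G → ℂ) with hx
    set y := charDegree (Y : G → ℂ) with hy
    have hd0 : (1 : ℤ) ≤ d := by exact_mod_cast hdpos
    have hx2' : (2 : ℤ) ≤ x := by exact_mod_cast hx2
    have hy2' : (2 : ℤ) ≤ y := by exact_mod_cast hy2
    have cast_sub_one : ∀ n : ℕ, 1 < n → ((n - 1 : ℕ) : ℤ) = (n : ℤ) - 1 := by
      intro n hn
      rw [Nat.cast_sub (by omega)]; simp
    have dvd_sub : ∀ n : ℕ, 1 < n → (p : ℤ) ∣ (n : ℤ) - 1 → p ∣ n - 1 := by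
      intro n hn h
      rw [← cast_sub_one n hn] at h
      exact_mod_cast h
    have dvd_add : ∀ n : ℕ, (p : ℤ) ∣ (n : ℤ) - (-1) → p ∣ n + 1 := by
      intro n h
      have : ((n + 1 : ℕ) : ℤ) = (n : ℤ) - (-1) := by push_cast; ring
      rw [← this] at h
      exact_mod_cast h
    rcases haX with haX | haX <;> rcases haY with haY | haY
    · -- (+, +)
      left
      rw [haX] at hcX hdegeq
      rw [haY] at hcY hdegeq
      refine ⟨dvd_sub x hx2 hcX, dvd_sub y hy2 hcY, ?_⟩
      rcases hw with hw | hw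
      · rw [hw] at hdegeq; exfalso; linarith
      · rw [hw] at hdegeq
        have hdx : d = 1 + x + y := by omega
        rw [← hdx]; exact hd
    · -- (+, -)
      right; left
      rw [haX] at hcX hdegeq
      rw [haY] at hcY hdegeq
      refine ⟨dvd_sub x hx2 hcX, dvd_add y hcY, ?_⟩
      rcases hw with hw | hw
      · rw [hw] at hdegeq
        right
        have hdx : d = y - x - 1 := by omega
        rw [← hdx]; exact hd
      · rw [hw] at hdegeq
        left
        have hdx : d = 1 + x - y := by omega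
        rw [← hdx]; exact hd
    · -- (-, +)
      right; right; left
      rw [haX] at hcX hdegeq
      rw [haY] at hcY hdegeq
      refine ⟨dvd_add x hcX, dvd_sub y hy2 hcY, ?_⟩
      rcases hw with hw | hw
      · rw [hw] at hdegeq
        right
        have hdx : d = x - y - 1 := by omega
        rw [← hdx]; exact hd
      · rw [hw] at hdegeq
        left
        have hdx : d = 1 + y - x := by omega
        rw [← hdx]; exact hd
    · -- (-, -)
      right; right; right
      rw [haX] at hcX hdegeq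
      rw [haY] at hcY hdegeq
      refine ⟨dvd_add x hcX, dvd_add y hcY, ?_⟩
      rcases hw with hw | hw
      · rw [hw] at hdegeq
        have hdx : d = x + y - 1 := by omega
        rw [← hdx]; exact hd
      · rw [hw] at hdegeq; exfalso; linarith

end Cfsg.Agent.Helper17.PrimeTI
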