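import Mathlib
import Cfsg.Agent.Lib.Helper17.Simple
import Cfsg.Agent.Lib.Helper17.SylowInter2

set_option autoImplicit false

namespace Cfsg.Agent.Helper17

/-- Elements of pairwise distinct orders are distinct: the sum of the numbers of elements of given orders
is at most the group order. -/
theorem sum_card_orderOf_le {G : Type*} [Group G] [Finite G] (S : Finset ℕ) :
    ∑ d ∈ S, Nat.card {g : G // orderOf g = d} ≤ Nat.card G := by
  classical
  let f : (Σ d : ↥S, {g : G // orderOf g = d.1}) → G := fun x => x.2.1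
  have hf : Function.Injective f := by
    rintro ⟨⟨d, hd⟩, ⟨g, hg⟩⟩ ⟨⟨d', hd'⟩, ⟨g', hg'⟩⟩ h
    change g = g' at h
    subst h
    have : d = d' := hg.symm.trans hg'
    subst this
    rfl
  have h1 := Nat.card_le_card_of_injective f hf
  rw [Nat.card_sigma] at h1
  rw [← Finset.sum_coe_sort S (fun d => Nat.card {g : G // orderOf g = d})]
  exact h1

/-- Divisors of a product of two primes. -/
theorem dvd_prime_mul_prime {n p q : ℕ} (hp : p.Prime) (hq : q.Prime) (h : n ∣ p * q) :
    n = 1 ∨ n = p ∨ n = q ∨ n = p * q := by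
  obtain ⟨a, b, ha, hb, rfl⟩ := (Nat.dvd_mul).1 h
  rcases (Nat.dvd_prime hp).1 ha with rfl | rfl <;> rcases (Nat.dvd_prime hq).1 hb with rfl | rfl <;>
    simp

/-- Order of the join of a subgroup with a normal subgroup of coprime order. -/
theorem card_sup_of_normal_coprime {G : Type*} [Group G] [Finite G] (H S : Subgroup G) [S.Normal]
    (hco : (Nat.card H).Coprime (Nat.card S)) : Nat.card ↥(H ⊔ S) = Nat.card S * Nat.card H := by
  have h1 := card_inf_mul_relIndex S (H ⊔ S)
  rw [inf_of_le_left le_sup_right, Subgroup.relIndex_sup_right] at h1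
  have h2 := card_inf_mul_relIndex S H
  have h3 : Nat.card ↥(S ⊓ H) = 1 := by
    have d1 : Nat.card ↥(S ⊓ H) ∣ Nat.card S := Subgroup.card_dvd_of_le inf_le_left
    have d2 : Nat.card ↥(S ⊓ H) ∣ Nat.card H := Subgroup.card_dvd_of_le inf_le_right
    exact Nat.eq_one_of_dvd_coprimes hco d2 d1
  rw [h3, one_mul] at h2
  rw [← h1, h2]

/-- If `S` is a normal subgroup of prime order `s < r` and `R` is a Sylow `r`-subgroup of order `r`, then
`s * r` divides the order of the normalizer of `R`. -/
theorem mul_dvd_card_normalizer_of_normal {G : Type*} [Group G] [Finite G] {r : ℕ}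
    [hr : Fact r.Prime] (R : Sylow r G) (hR : Nat.card (R : Subgroup G) = r) (S : Subgroup G)
    [S.Normal] (s : ℕ) (hS : Nat.card S = s) (hs : s.Prime) (hsr : s < r) :
    s * r ∣ Nat.card ↥(Subgroup.normalizer ((R : Subgroup G) : Set G)) := by
  set K : Subgroup G := (R : Subgroup G) ⊔ S with hK
  have hco : (Nat.card (R : Subgroup G)).Coprime (Nat.card S) := by
    rw [hR, hS]
    exact (Nat.coprime_primes hr.out hs).2 hsr.ne'
  have hcK : Nat.card K = s * r := by
    rw [hK, card_sup_of_normal_coprime _ _ hco, hR, hS]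
  have hRK : (R : Subgroup G) ≤ K := le_sup_left
  have hfac : Nat.card K = r ^ 1 * s := by rw [hcK, pow_one, mul_comm]
  have hnd : ¬ r ∣ s := fun h => absurd (Nat.le_of_dvd hs.pos h) (by omega)
  obtain ⟨hdvd, hmod⟩ := sylow_count (G := ↥K) hfac hnd
  have h1 : Nat.card (Sylow r ↥K) = 1 := by
    rcases (Nat.dvd_prime hs).1 hdvd with h | h
    · exact h
    · rw [h, Nat.mod_eq_of_lt hsr] at hmod
      exact absurd hmod hs.one_lt.ne'
  have : Subsingleton (Sylow r ↥K) := (Nat.card_eq_one_iff_unique.1 h1).1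
  have hn : ((R.subtype hRK : Sylow r ↥K) : Subgroup ↥K).Normal :=
    (R.subtype hRK).normal_of_subsingleton
  rw [Sylow.coe_subtype, Subgroup.normal_subgroupOf_iff_le_normalizer hRK] at hn
  rw [← hcK]
  exact Subgroup.card_dvd_of_le hn

end Cfsg.Agent.Helper17
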