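import Mathlib
import Cfsg.Agent.Lib.Helper17.Burnside
import Cfsg.Agent.Lib.Helper17.Counting
import Cfsg.Agent.Lib.Helper17.PrimeSylow

set_option autoImplicit false

namespace Cfsg.Agent.Helper17

/-- In a simple group, a Sylow subgroup of prime order `p` whose normalizer has order `p * q` with
`q` prime is its own centralizer. -/
theorem centralizer_eq_of_card_normalizer {G : Type*} [Group G] [Finite G] [IsSimpleGroup G]
    {p : ℕ} [hp : Fact p.Prime] (P : Sylow p G) (hP : Nat.card ↥(P : Subgroup G) = p)
    (hG : Nat.card G ≠ p) {q : ℕ} (hq : q.Prime)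
    (hN : Nat.card ↥(Subgroup.normalizer ((P : Subgroup G) : Set G)) = p * q) :
    Subgroup.centralizer ((P : Subgroup G) : Set G) = (P : Subgroup G) := by
  have hcyc : IsCyclic ↥(P : Subgroup G) := isCyclic_of_prime_card hP
  have hcomm : IsMulCommutative ↥(P : Subgroup G) := ⟨⟨IsCyclic.commGroup.mul_comm⟩⟩
  have hPC : (P : Subgroup G) ≤ Subgroup.centralizer ((P : Subgroup G) : Set G) :=
    Subgroup.le_centralizer_iff_isMulCommutative.2 hcomm
  have hCN : Subgroup.centralizer ((P : Subgroup G) : Set G) ≤
      Subgroup.normalizer ((P : Subgroup G) : Set G) := Subgroup.centralizer_le_normalizer _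
  have hnot := not_normalizer_le_centralizer P (by rw [hP]; exact hp.out.one_lt.ne')
    (by rw [hP]; exact hG.symm)
  have hd1 : Nat.card ↥(Subgroup.centralizer ((P : Subgroup G) : Set G)) ∣ p * q := by
    rw [← hN]; exact Subgroup.card_dvd_of_le hCN
  have hd2 : p ∣ Nat.card ↥(Subgroup.centralizer ((P : Subgroup G) : Set G)) := by
    conv_lhs => rw [← hP]
    exact Subgroup.card_dvd_of_le hPC
  have hcard : Nat.card ↥(Subgroup.centralizer ((P : Subgroup G) : Set G)) = p := by
    rcases dvd_prime_mul_prime hp.out hq hd1 with h | h | h | h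
    · rw [h] at hd2; exact absurd (Nat.le_of_dvd one_pos hd2) (not_le.2 hp.out.one_lt)
    · exact h
    · rw [h] at hd2
      rw [h]; exact ((Nat.prime_dvd_prime_iff_eq hp.out hq).1 hd2).symm
    · exfalso
      apply hnot
      have := Subgroup.eq_of_le_of_card_ge hCN (by rw [h, hN])
      rw [this]
  exact (Subgroup.eq_of_le_of_card_ge hPC (by rw [hcard, hP])).symm

/-- Under the hypotheses of `centralizer_eq_of_card_normalizer`, an element of order `p` is
self-centralizing. -/
theorem centralizer_singleton_eq_of_card_normalizer {G : Type*} [Group G] [Finite G]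
    [IsSimpleGroup G] {p : ℕ} [hp : Fact p.Prime]
    (hP : ∀ P : Sylow p G, Nat.card ↥(P : Subgroup G) = p)
    (hG : Nat.card G ≠ p) {q : ℕ} (hq : q.Prime)
    (hN : ∀ P : Sylow p G, Nat.card ↥(Subgroup.normalizer ((P : Subgroup G) : Set G)) = p * q)
    (x : G) (hx : orderOf x = p) :
    Subgroup.centralizer ({x} : Set G) = Subgroup.zpowers x := by
  obtain ⟨P, hxP⟩ := exists_sylow_mem_of_orderOf x hx
  have hx1 : x ≠ 1 := by
    rintro rfl
    rw [orderOf_one] at hx
    exact hp.out.one_lt.ne' hx.symm
  have hz := (zpowers_eq_of_card_prime (P : Subgroup G) (hP P) x hxP hx1).1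
  rw [← Subgroup.centralizer_closure, ← Subgroup.zpowers_eq_closure, hz]
  exact centralizer_eq_of_card_normalizer P (hP P) hG hq (hN P)

/-- If every element of order `p` is self-centralizing, then every element whose order is divisible
by `p` has order `p`. -/
theorem orderOf_eq_of_dvd_of_self_centralizing {G : Type*} [Group G] [Finite G] {p : ℕ}
    [hp : Fact p.Prime]
    (hC : ∀ x : G, orderOf x = p → Subgroup.centralizer ({x} : Set G) = Subgroup.zpowers x)
    (g : G) (hg : p ∣ orderOf g) : orderOf g = p := by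
  obtain ⟨k, hk⟩ := hg
  have hpos : 0 < orderOf g := orderOf_pos g
  have hk0 : k ≠ 0 := by
    rintro rfl
    rw [mul_zero] at hk; omega
  have hx : orderOf (g ^ k) = p := by
    rw [orderOf_pow' g hk0, hk, Nat.gcd_mul_left_left, Nat.mul_div_cancel _ (Nat.pos_of_ne_zero hk0)]
  have hmem : g ∈ Subgroup.centralizer ({g ^ k} : Set G) := by
    rw [Subgroup.mem_centralizer_iff]
    intro y hy
    rw [Set.mem_singleton_iff] at hy
    subst hy
    exact (pow_mul_comm' g k).symm ▸ rfl
  rw [hC _ hx] at hmem
  have hd : orderOf g ∣ p := by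
    have := orderOf_dvd_of_mem_zpowers hmem
    rwa [hx] at this
  rcases (Nat.dvd_prime hp.out).1 hd with h | h
  · rw [h] at hk
    have : p ∣ 1 := ⟨k, hk⟩
    exact absurd (Nat.le_of_dvd one_pos this) (not_le.2 hp.out.one_lt)
  · exact h

end Cfsg.Agent.Helper17
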