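import Mathlib
import Cfsg.Agent.Lib.Helper17.PrimeTIApp
import Cfsg.Agent.Lib.Helper17.SelfCent

/-!
# Orders whose only possible Sylow configuration is a self-centralizing Sylow subgroup of prime order
-/

set_option autoImplicit false

namespace Cfsg.Agent.Helper17.PrimeTI

open Cfsg

/-- If the order of a simple group is `p * m` with `p ∤ m`, and the only admissible number of
Sylow `p`-subgroups other than `1` is `m / q` for a prime `q`, then a Sylow `p`-subgroup is
self-centralizing with normalizer of order `p * q`. -/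
theorem forced_sylow {G : Type*} [Group G] [Finite G] [IsSimpleGroup G] (p m q : ℕ)
    [hp : Fact p.Prime] (hq : q.Prime) (hG : Nat.card G = p * m) (hm : ¬ p ∣ m) (hm1 : m ≠ 1)
    (hcount : ∀ n, n ∣ m → n % p = 1 → n ≠ 1 → n * q = m) (P : Sylow p G) :
    Nat.card (P : Subgroup G) = p ∧
    Nat.card (Subgroup.normalizer ((P : Subgroup G) : Set G)) = p * q ∧
    Subgroup.centralizer ((P : Subgroup G) : Set G) = (P : Subgroup G) := by
  have hG' : Nat.card G = p ^ 1 * m := by rw [pow_one, hG]
  have hP : Nat.card (P : Subgroup G) = p := by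
    have := Cfsg.Agent.Helper17.sylow_card_eq P hG' hm
    rwa [pow_one] at this
  obtain ⟨hn1, hn2⟩ := Cfsg.Agent.Helper17.sylow_count (G := G) hG' hm
  have hn3 := Cfsg.Agent.Helper17.sylow_count_ne_one (G := G) hG' hm one_ne_zero hm1
  have hnq := hcount _ hn1 hn2 hn3
  have hidx : (Subgroup.normalizer ((P : Subgroup G) : Set G)).index = Nat.card (Sylow p G) :=
    P.card_eq_index_normalizer.symm
  have hmul := (Subgroup.normalizer ((P : Subgroup G) : Set G)).card_mul_index
  rw [hidx, hG, ← hnq] at hmul
  have hnpos : 0 < Nat.card (Sylow p G) := Nat.card_pos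
  have hN : Nat.card (Subgroup.normalizer ((P : Subgroup G) : Set G)) = p * q := by
    have : Nat.card (Subgroup.normalizer ((P : Subgroup G) : Set G)) * Nat.card (Sylow p G) =
        (p * q) * Nat.card (Sylow p G) := by rw [hmul]; ring
    exact Nat.eq_of_mul_eq_mul_right hnpos this
  refine ⟨hP, hN, ?_⟩
  apply Cfsg.Agent.Helper17.centralizer_eq_of_card_normalizer P hP _ hq hN
  rw [hG]
  intro h
  have hp0 := hp.out.pos
  have : p * m = p * 1 := by rw [h, mul_one]
  exact hm1 (Nat.eq_of_mul_eq_mul_left hp0 this)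

end Cfsg.Agent.Helper17.PrimeTI
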