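import Mathlib

set_option autoImplicit false

namespace Cfsg.Agent.Helper17

open MulAction

/-- Orbit counting modulo `m`: if `a₀` is a fixed point and every other point has stabilizer of index
divisible by `m`, then the number of points is `1` modulo `m`. -/
theorem card_modEq_one_of_stabilizer_index {H α : Type*} [Group H] [MulAction H α] [Finite α] (m : ℕ)
    (a₀ : α) (hfix : ∀ h : H, h • a₀ = a₀)
    (hdiv : ∀ a : α, a ≠ a₀ → m ∣ (stabilizer H a).index) : Nat.card α ≡ 1 [MOD m] := by
  classical
  have : Fintype (orbitRel.Quotient H α) := Fintype.ofFinite _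
  have e := selfEquivSigmaOrbits' H α
  rw [Nat.card_congr e, Nat.card_sigma]
  have horb : ∀ a : α, Nat.card (orbitRel.Quotient.orbit (Quotient.mk'' a : orbitRel.Quotient H α))
      = (stabilizer H a).index := by
    intro a
    rw [orbitRel.Quotient.orbit_mk, index_stabilizer, Nat.card_coe_set_eq]
  let ω₀ : orbitRel.Quotient H α := Quotient.mk'' a₀
  rw [← Finset.add_sum_erase Finset.univ _ (Finset.mem_univ ω₀)]
  have h1 : Nat.card (orbitRel.Quotient.orbit ω₀) = 1 := by
    rw [horb a₀]
    have : stabilizer H a₀ = ⊤ := by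
      rw [eq_top_iff]; intro h _; exact hfix h
    rw [this, Subgroup.index_top]
  rw [h1]
  have h2 : m ∣ ∑ ω ∈ Finset.univ.erase ω₀, Nat.card (orbitRel.Quotient.orbit ω) := by
    apply Finset.dvd_sum
    intro ω hω
    induction ω using Quotient.inductionOn' with
    | h a =>
      have hne : a ≠ a₀ := by
        rintro rfl
        exact (Finset.mem_erase.1 hω).1 rfl
      rw [horb a]
      exact hdiv a hne
  obtain ⟨c, hc⟩ := h2
  rw [hc]
  simp [Nat.ModEq]

end Cfsg.Agent.Helper17
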