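import Mathlib
import Cfsg.Agent.Lib.Helper17.Orbits

set_option autoImplicit false

namespace Cfsg.Agent.Helper17

open MulAction

/-- The stabilizer of a Sylow subgroup `R` under conjugation by a Sylow subgroup `P` is `P ∩ R`. -/
theorem sylow_stabilizer_eq {G : Type*} [Group G] {p : ℕ} [Fact p.Prime] (P R : Sylow p G) :
    stabilizer (↥(P : Subgroup G)) R = (R : Subgroup G).subgroupOf (P : Subgroup G) := by
  ext ⟨g, hg⟩
  rw [mem_stabilizer_iff, Subgroup.mem_subgroupOf]
  change g • R = R ↔ g ∈ (R : Subgroup G)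
  rw [Sylow.smul_eq_iff_mem_normalizer]
  have h := IsPGroup.inf_normalizer_sylow P.2 R
  constructor
  · intro hn
    have : g ∈ (P : Subgroup G) ⊓ (R : Subgroup G) := h.le ⟨hg, hn⟩
    exact this.2
  · intro hr
    exact Subgroup.le_normalizer hr

/-- If the number of Sylow `p`-subgroups is not `1` modulo `p ^ k`, then for every Sylow `P` there is
another Sylow `R` with `[P : P ∩ R] ≤ p ^ (k - 1)`. -/
theorem exists_sylow_large_inter {G : Type*} [Group G] [Finite G] (p k : ℕ) [Fact p.Prime]
    (h : ¬ Nat.card (Sylow p G) ≡ 1 [MOD p ^ k]) (P : Sylow p G) :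
    ∃ R : Sylow p G, P ≠ R ∧
      ((R : Subgroup G).subgroupOf (P : Subgroup G)).index ≤ p ^ (k - 1) := by
  by_contra hcon
  push Not at hcon
  apply h
  have hp : p.Prime := Fact.out
  apply card_modEq_one_of_stabilizer_index (H := ↥(P : Subgroup G)) (p ^ k) P
  · rintro ⟨g, hg⟩
    change g • P = P
    rw [Sylow.smul_eq_iff_mem_normalizer]
    exact Subgroup.le_normalizer hg
  · intro R hR
    rw [sylow_stabilizer_eq]
    have hlt := hcon R (Ne.symm hR)
    obtain ⟨n, hn⟩ := IsPGroup.iff_card.1 P.2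
    have hdvd : ((R : Subgroup G).subgroupOf (P : Subgroup G)).index ∣ p ^ n := by
      rw [← hn]; exact Subgroup.index_dvd_card _
    obtain ⟨e, _, he⟩ := (Nat.dvd_prime_pow hp).1 hdvd
    rw [he] at hlt ⊢
    have : k - 1 < e := (Nat.pow_lt_pow_iff_right hp.one_lt).1 hlt
    exact pow_dvd_pow p (by omega)

end Cfsg.Agent.Helper17
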