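import Mathlib
import Cfsg.Agent.Lib.Helper17.Simple
import Cfsg.Agent.Lib.Helper17.SylowInter
import Cfsg.Agent.Lib.Helper17.SylowInter2

/-!
# Large Sylow intersections

If the number of Sylow `p`-subgroups of a nonabelian simple group is not `1` modulo `p ^ 2`, two of
them meet in a subgroup of index `p`, whose normalizer has small index.
-/

set_option autoImplicit false

namespace Cfsg.Agent.Helper17.Sieve

open Nat Cfsg.Agent.Helper17

/-- If `|G| = p ^ k * m` (`k ≥ 2`), the number of Sylow `p`-subgroups is not `1` modulo `p ^ 2`, and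
every factorization `m = a * b` with `p ≤ a` has `b ≤ B` where `2 |G| ∤ B!`, then `G` is not
nonabelian simple. -/
theorem inter_kill {G : Type*} [Group G] [Finite G] [IsSimpleGroup G] (hna : ¬ IsMulCommutative G)
    (p k m B : ℕ) [hp : Fact p.Prime] (hk : 2 ≤ k) (hn : Nat.card G = p ^ k * m) (hpm : ¬ p ∣ m)
    (hmod : ¬ Nat.card (Sylow p G) ≡ 1 [MOD p ^ 2])
    (hB : ∀ a b, a * b = m → p ≤ a → b ≤ B) (hfact : ¬ 2 * (p ^ k * m) ∣ B !) : False := by
  obtain ⟨P⟩ : Nonempty (Sylow p G) := inferInstance
  obtain ⟨R, hPR, hidx⟩ := exists_sylow_large_inter p 2 hmod P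
  have hcP : Nat.card (P : Subgroup G) = p ^ k := sylow_card_eq P hn hpm
  have hcR : Nat.card (R : Subgroup G) = p ^ k := sylow_card_eq R hn hpm
  have hp1 : 1 < p := hp.out.one_lt
  have hppos : 0 < p := hp.out.pos
  change (R : Subgroup G).relIndex (P : Subgroup G) ≤ p ^ (2 - 1) at hidx
  rw [show 2 - 1 = 1 from rfl, pow_one] at hidx
  have hd : (R : Subgroup G).relIndex (P : Subgroup G) ∣ p ^ k := by
    rw [← hcP]; exact Subgroup.relIndex_dvd_card _ _
  have hne : (R : Subgroup G).relIndex (P : Subgroup G) ≠ 1 := by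
    intro h1
    rw [Subgroup.relIndex_eq_one] at h1
    apply hPR
    apply Sylow.ext
    exact Subgroup.eq_of_le_of_card_ge h1 (by rw [hcP, hcR])
  have h5 : (R : Subgroup G).relIndex (P : Subgroup G) = p := by
    obtain ⟨e, _, he⟩ := (Nat.dvd_prime_pow hp.out).1 hd
    rw [he] at hidx hne ⊢
    have he0 : e ≠ 0 := by rintro rfl; exact hne (pow_zero p)
    have he1 : e ≤ 1 := by
      by_contra hgt
      push Not at hgt
      have : p ^ 1 < p ^ e := Nat.pow_lt_pow_right hp1 hgt
      rw [pow_one] at this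
      omega
    have : e = 1 := by omega
    rw [this, pow_one]
  have h5' : (P : Subgroup G).relIndex (R : Subgroup G) = p := by
    rw [← sylow_relIndex_symm]; exact h5
  have hcD : Nat.card ↥((P : Subgroup G) ⊓ (R : Subgroup G)) * p = p ^ k := by
    have := card_inf_mul_relIndex (P : Subgroup G) (R : Subgroup G)
    rw [h5', hcR] at this
    exact this
  set D : Subgroup G := (P : Subgroup G) ⊓ (R : Subgroup G) with hD
  have hcD' : Nat.card D = p ^ (k - 1) := by
    have h1 : p ^ k = p ^ (k - 1) * p := by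
      rw [← pow_succ]; congr 1; omega
    rw [h1] at hcD
    exact Nat.eq_of_mul_eq_mul_right hppos hcD
  have hPN : (P : Subgroup G) ≤ Subgroup.normalizer (D : Set G) :=
    le_normalizer_inf_of_relIndex_eq_prime P R h5
  have hRN : (R : Subgroup G) ≤ Subgroup.normalizer (D : Set G) := by
    rw [hD, inf_comm]
    exact le_normalizer_inf_of_relIndex_eq_prime R P h5'
  set N : Subgroup G := Subgroup.normalizer (D : Set G) with hN
  have hm0 : m ≠ 0 := fun h0 => hpm (h0 ▸ dvd_zero p)
  have hNtop : N ≠ ⊤ := by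
    intro htop
    have hnorm : D.Normal := Subgroup.normalizer_eq_top_iff.1 htop
    apply normal_card_absurd D hnorm
    · rw [hcD']
      exact (Nat.one_lt_pow (by omega) hp1).ne'
    · rw [hcD', hn]
      intro h
      have h1 : p ^ (k - 1) < p ^ k := Nat.pow_lt_pow_right hp1 (by omega)
      have h2 : p ^ k ≤ p ^ k * m := Nat.le_mul_of_pos_right _ (Nat.pos_of_ne_zero hm0)
      omega
  have hfactN := two_mul_card_dvd_factorial hna N hNtop
  have h1 := Subgroup.relIndex_mul_index hPN
  have hPi : (P : Subgroup G).index = m := sylow_index_eq P hn hpm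
  rw [hPi] at h1
  have hrel : (P : Subgroup G).relIndex (R : Subgroup G) ≤ (P : Subgroup G).relIndex N := by
    apply Subgroup.relIndex_le_of_le_right hRN
    intro h0
    rw [h0, zero_mul] at h1
    exact hm0 h1.symm
  rw [h5'] at hrel
  have hle := hB _ _ h1 hrel
  have hdvd : (N.index)! ∣ B ! := Nat.factorial_dvd_factorial hle
  apply hfact
  rw [← hn]
  exact hfactN.trans hdvd

end Cfsg.Agent.Helper17.Sieve
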