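import Mathlib
import Cfsg.Agent.Lib.Helper17.SieveInter
import Cfsg.Agent.Lib.Helper17.PrimeTIOrders
import Cfsg.Agent.Lib.Helper17.PrimeTIApp3

/-!
# Special orders below `1092`, part A: `480`, `960`, `612`, `1040`, `756`
-/

set_option autoImplicit false

namespace Cfsg.Agent.Helper17.Sieve

open Nat Cfsg.Agent.Helper17

theorem fifteen_aux : ∀ a b : ℕ, a * b = 15 → 2 ≤ a → b ≤ 5 := by
  intro a b hab ha
  have ha15 : a ≤ 15 := Nat.le_of_dvd (by norm_num) (Dvd.intro _ hab)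
  have hb15 : b ≤ 15 := Nat.le_of_dvd (by norm_num) (Dvd.intro_left _ hab)
  interval_cases a <;> omega

/-- No simple group has order `2 ^ k * 15` for `k = 5, 6`. -/
theorem no_two_pow_mul_fifteen {G : Type*} [Group G] [Finite G] [IsSimpleGroup G] (k : ℕ)
    (hk : k = 5 ∨ k = 6) : Nat.card G ≠ 2 ^ k * 15 := by
  intro hcard
  have hk2 : 2 ≤ k := by omega
  have hG : ¬ IsMulCommutative G := not_comm_of_not_prime (by
    rw [hcard]
    rcases hk with rfl | rfl <;> norm_num)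
  have : Fact (Nat.Prime 2) := ⟨Nat.prime_two⟩
  have h215 : ¬ 2 ∣ 15 := by norm_num
  obtain ⟨hdvd, hmod⟩ := sylow_count (G := G) hcard h215
  have hne1 := sylow_count_ne_one (G := G) hcard h215 (by omega) (by norm_num)
  have hfact := sylow_count_factorial (p := 2) hG hne1
  have hle : Nat.card (Sylow 2 G) ≤ 15 := Nat.le_of_dvd (by norm_num) hdvd
  have hcases : Nat.card (Sylow 2 G) = 3 ∨ Nat.card (Sylow 2 G) = 5 ∨
      Nat.card (Sylow 2 G) = 15 := by
    generalize Nat.card (Sylow 2 G) = n at *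
    interval_cases n <;> omega
  have h480 : 480 ∣ Nat.card G := by
    rw [hcard]
    rcases hk with rfl | rfl <;> norm_num
  rcases hcases with h3 | h5 | h15
  · rw [h3] at hfact
    have := (Dvd.dvd.mul_left h480 2).trans hfact
    revert this; decide
  · rw [h5] at hfact
    have := (Dvd.dvd.mul_left h480 2).trans hfact
    revert this; decide
  · apply inter_kill hG 2 k 15 5 hk2 hcard h215
    · rw [h15]; decide
    · exact fifteen_aux
    · intro h
      have h960 : 2 * 480 ∣ 2 * (2 ^ k * 15) := by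
        rcases hk with rfl | rfl <;> norm_num
      have := h960.trans h
      revert this; decide

theorem count612_aux : ∀ n ∈ Nat.divisors 36, n % 17 = 1 → n ≠ 1 → n * 2 = 36 := by decide +kernel

theorem arith612_aux : ∀ x ∈ Nat.divisors 612, 1 < x →
    ¬ ((17 ∣ x - 1 ∧ x + 1 ∣ 612) ∨ (17 ∣ x + 1 ∧ x - 1 ∣ 612)) := by decide +kernel

/-- No simple group has order `612 = 2^2 * 3^2 * 17`. -/
theorem no_612 {G : Type*} [Group G] [Finite G] [IsSimpleGroup G] : Nat.card G ≠ 612 := by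
  intro hG
  have : Fact (Nat.Prime 17) := ⟨by norm_num⟩
  have := Fintype.ofFinite G
  obtain ⟨P⟩ : Nonempty (Sylow 17 G) := inferInstance
  obtain ⟨hP, hN, hC⟩ := Cfsg.Agent.Helper17.PrimeTI.forced_sylow 17 36 2 Nat.prime_two
    (by rw [hG]) (by norm_num) (by norm_num)
    (fun n hn => count612_aux n (Nat.mem_divisors.2 ⟨hn, by norm_num⟩)) P
  have hperf : commutator G = ⊤ :=
    Cfsg.Agent.Helper17.PrimeTI.perfect_of_simple (by rw [hG]; norm_num)
  obtain ⟨x, hx1, hxd, hx⟩ := Cfsg.Agent.Helper17.PrimeTI.dihedral_normalizer_degrees hperf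
    (P : Subgroup G) 17 8 hP hC hN (by norm_num) (by norm_num)
  rw [hG] at hxd hx
  exact arith612_aux x (Nat.mem_divisors.2 ⟨hxd, by norm_num⟩) hx1 hx

theorem count1040_aux : ∀ n ∈ Nat.divisors 80, n % 13 = 1 → n ≠ 1 → n * 2 = 80 := by decide +kernel

theorem arith1040_aux : ∀ x ∈ Nat.divisors 1040, 1 < x →
    ¬ ((13 ∣ x - 1 ∧ x + 1 ∣ 1040) ∨ (13 ∣ x + 1 ∧ x - 1 ∣ 1040)) := by decide +kernel

/-- No simple group has order `1040 = 2^4 * 5 * 13`. -/
theorem no_1040 {G : Type*} [Group G] [Finite G] [IsSimpleGroup G] : Nat.card G ≠ 1040 := by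
  intro hG
  have : Fact (Nat.Prime 13) := ⟨by norm_num⟩
  have := Fintype.ofFinite G
  obtain ⟨P⟩ : Nonempty (Sylow 13 G) := inferInstance
  obtain ⟨hP, hN, hC⟩ := Cfsg.Agent.Helper17.PrimeTI.forced_sylow 13 80 2 Nat.prime_two
    (by rw [hG]) (by norm_num) (by norm_num)
    (fun n hn => count1040_aux n (Nat.mem_divisors.2 ⟨hn, by norm_num⟩)) P
  have hperf : commutator G = ⊤ :=
    Cfsg.Agent.Helper17.PrimeTI.perfect_of_simple (by rw [hG]; norm_num)
  obtain ⟨x, hx1, hxd, hx⟩ := Cfsg.Agent.Helper17.PrimeTI.dihedral_normalizer_degrees hperf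
    (P : Subgroup G) 13 6 hP hC hN (by norm_num) (by norm_num)
  rw [hG] at hxd hx
  exact arith1040_aux x (Nat.mem_divisors.2 ⟨hxd, by norm_num⟩) hx1 hx

theorem count756_aux : ∀ n ∈ Nat.divisors 108, n % 7 = 1 → n ≠ 1 → n * 3 = 108 := by decide +kernel

theorem arith756_aux : ∀ x ∈ Nat.divisors 756, 1 < x →
    (7 ∣ x - 1 → x = 36) ∧ (7 ∣ x + 1 → x = 6 ∨ x = 27) := by decide +kernel

/-- No simple group has order `756 = 2^2 * 3^3 * 7`. -/
theorem no_756 {G : Type*} [Group G] [Finite G] [IsSimpleGroup G] : Nat.card G ≠ 756 := by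
  intro hG
  have : Fact (Nat.Prime 7) := ⟨by norm_num⟩
  have := Fintype.ofFinite G
  obtain ⟨P⟩ : Nonempty (Sylow 7 G) := inferInstance
  obtain ⟨hP, hN, hC⟩ := Cfsg.Agent.Helper17.PrimeTI.forced_sylow 7 108 3 Nat.prime_three
    (by rw [hG]) (by norm_num) (by norm_num)
    (fun n hn => count756_aux n (Nat.mem_divisors.2 ⟨hn, by norm_num⟩)) P
  have hperf : commutator G = ⊤ :=
    Cfsg.Agent.Helper17.PrimeTI.perfect_of_simple (by rw [hG]; norm_num)
  have hsq : ∀ w : ℤ, w ^ 2 ≠ ((2 : ℕ) : ℤ) + 1 := by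
    intro w h
    push_cast at h
    have h1 : w ≤ 1 := by nlinarith
    have h2 : -1 ≤ w := by nlinarith
    interval_cases w <;> norm_num at h
  obtain ⟨x₁, x₂, hx1, hx2, hxd1, hxd2, hx⟩ :=
    Cfsg.Agent.Helper17.PrimeTI.frob3_normalizer_degrees hperf
      (P : Subgroup G) 7 2 hP hC hN (by norm_num) (by norm_num) hsq
  rw [hG] at hxd1 hxd2 hx
  obtain ⟨ha1, hb1⟩ := arith756_aux x₁ (Nat.mem_divisors.2 ⟨hxd1, by norm_num⟩) hx1
  obtain ⟨ha2, hb2⟩ := arith756_aux x₂ (Nat.mem_divisors.2 ⟨hxd2, by norm_num⟩) hx2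
  rcases hx with ⟨h1, h2, h3⟩ | ⟨h1, h2, h3⟩ | ⟨h1, h2, h3⟩ | ⟨h1, h2, h3⟩
  · rw [ha1 h1, ha2 h2] at h3
    norm_num at h3
  · rw [ha1 h1] at h3
    rcases hb2 h2 with h | h <;> rw [h] at h3 <;> norm_num at h3
  · rw [ha2 h2] at h3
    rcases hb1 h1 with h | h <;> rw [h] at h3 <;> norm_num at h3
  · rcases hb1 h1 with h | h <;> rcases hb2 h2 with h' | h' <;> rw [h, h'] at h3 <;>
      norm_num at h3

end Cfsg.Agent.Helper17.Sieve
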