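import Mathlib

set_option autoImplicit false

namespace Cfsg.Agent.Helper17

open MulAction

/-- Class size times centralizer order is the group order. -/
theorem card_carrier_mul_card_centralizer {G : Type*} [Group G] [Finite G] (g : G) :
    Nat.card (ConjClasses.mk g).carrier * Nat.card (Subgroup.centralizer ({g} : Set G)) =
      Nat.card G := by
  rw [Subgroup.nat_card_centralizer_nat_card_stabilizer, ← ConjAct.orbit_eq_carrier_conjClasses,
    Nat.card_coe_set_eq, ← index_stabilizer, mul_comm, Subgroup.card_mul_index]
  exact Nat.card_congr ConjAct.ofConjAct.toEquiv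

/-- Conjugate elements have the same order. -/
theorem orderOf_eq_of_isConj {G : Type*} [Group G] {a b : G} (h : IsConj a b) :
    orderOf a = orderOf b := by
  obtain ⟨c, rfl⟩ := isConj_iff.1 h
  have : c * a * c⁻¹ = (MulAut.conj c).toMonoidHom a := by simp
  rw [this, orderOf_injective _ (MulAut.conj c).injective]

/-- If all classes of elements of order `d` have the same size `s`, then the number of elements of order `d` is
the number of such classes times `s`. -/
theorem card_orderOf_eq_classes_mul {G : Type*} [Group G] [Finite G] (d s : ℕ)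
    (hs : ∀ g : G, orderOf g = d → Nat.card (ConjClasses.mk g).carrier = s) :
    Nat.card {g : G // orderOf g = d} =
      Nat.card {c : ConjClasses G // ∃ g : G, ConjClasses.mk g = c ∧ orderOf g = d} * s := by
  classical
  have := Fintype.ofFinite {c : ConjClasses G // ∃ g : G, ConjClasses.mk g = c ∧ orderOf g = d}
  let e : {g : G // orderOf g = d} ≃
      Σ c : {c : ConjClasses G // ∃ g : G, ConjClasses.mk g = c ∧ orderOf g = d}, c.1.carrier :=
    { toFun := fun g => ⟨⟨ConjClasses.mk g.1, g.1, rfl, g.2⟩, ⟨g.1, ConjClasses.mem_carrier_mk⟩⟩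
      invFun := fun x => ⟨x.2.1, by
        obtain ⟨⟨c, g, hg, hgd⟩, ⟨y, hy⟩⟩ := x
        simp only
        have hy2 : ConjClasses.mk y = c := ConjClasses.mem_carrier_iff_mk_eq.1 hy
        rw [← hg, ConjClasses.mk_eq_mk_iff_isConj] at hy2
        rw [orderOf_eq_of_isConj hy2]; exact hgd⟩
      left_inv := fun g => rfl
      right_inv := by
        rintro ⟨⟨c, g, hg, hgd⟩, ⟨y, hy⟩⟩
        have hy' : ConjClasses.mk y = c := ConjClasses.mem_carrier_iff_mk_eq.1 hy
        subst hy'
        rfl }
  rw [Nat.card_congr e, Nat.card_sigma]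
  have : ∀ c : {c : ConjClasses G // ∃ g : G, ConjClasses.mk g = c ∧ orderOf g = d},
      Nat.card c.1.carrier = s := by
    rintro ⟨c, g, rfl, hgd⟩
    exact hs g hgd
  simp only [this, Finset.sum_const, Finset.card_univ, smul_eq_mul, Nat.card_eq_fintype_card]

end Cfsg.Agent.Helper17
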