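import Mathlib

set_option autoImplicit false

namespace Cfsg.Agent.Helper17

open MulAction

/-- The number of fixed points of a conjugate equals the number of fixed points. -/
theorem card_fixedBy_conj {G α : Type*} [Group G] [MulAction G α] (a x : G) :
    Nat.card {q : α // (a * x * a⁻¹) • q = q} = Nat.card {q : α // x • q = q} := by
  apply Nat.card_congr
  refine (Equiv.subtypeEquiv (MulAction.toPerm a⁻¹ : Equiv.Perm α) ?_)
  intro q
  simp only [MulAction.toPerm_apply]
  constructor
  · intro h
    calc x • a⁻¹ • q = a⁻¹ • ((a * x * a⁻¹) • q) := by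
          simp only [smul_smul]; congr 1; group
      _ = a⁻¹ • q := by rw [h]
  · intro h
    have : a • (x • a⁻¹ • q) = a • (a⁻¹ • q) := by rw [h]
    simp only [smul_smul] at this
    rw [mul_inv_cancel, one_smul] at this
    rw [← mul_assoc] at this
    exact this

/-- Fixed cosets of `y` on `G ⧸ H` at the coset `gH`: `y • gH = gH ↔ g⁻¹ y g ∈ H`. -/
theorem smul_mk_eq_iff {G : Type*} [Group G] (H : Subgroup G) (y g : G) :
    y • (QuotientGroup.mk g : G ⧸ H) = QuotientGroup.mk g ↔ g⁻¹ * y * g ∈ H := by
  rw [MulAction.Quotient.smul_mk, eq_comm, QuotientGroup.eq, smul_eq_mul, mul_assoc]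

/-- Fixed-point counting formula for the coset action. -/
theorem card_fixedBy_mul_card_conj {G : Type*} [Group G] [Finite G] (H : Subgroup G) (x : G) :
    Nat.card (MulAction.fixedBy (G ⧸ H) x) * Nat.card {g : G // IsConj x g} =
      H.index * Nat.card {g : G // IsConj x g ∧ g ∈ H} := by
  classical
  have := Fintype.ofFinite {g : G // IsConj x g}
  have := Fintype.ofFinite (G ⧸ H)
  let p : {g : G // IsConj x g} → G ⧸ H → Prop := fun y q => y.1 • q = q
  let e1 : {pr : {g : G // IsConj x g} × (G ⧸ H) // p pr.1 pr.2} ≃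
      Σ y : {g : G // IsConj x g}, {q // p y q} := Equiv.subtypeProdEquivSigmaSubtype p
  let e2 : {pr : {g : G // IsConj x g} × (G ⧸ H) // p pr.1 pr.2} ≃
      Σ q : G ⧸ H, {y : {g : G // IsConj x g} // p y q} :=
    (Equiv.subtypeEquiv (Equiv.prodComm _ _) (by intro a; rfl)).trans
      (Equiv.subtypeProdEquivSigmaSubtype (fun q y => p y q))
  have h1 : ∀ y : {g : G // IsConj x g}, Nat.card {q // p y q} =
      Nat.card (MulAction.fixedBy (G ⧸ H) x) := by
    rintro ⟨y, hy⟩
    obtain ⟨a, rfl⟩ := isConj_iff.1 hy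
    exact card_fixedBy_conj a x
  have h2 : ∀ q : G ⧸ H, Nat.card {y : {g : G // IsConj x g} // p y q} =
      Nat.card {g : G // IsConj x g ∧ g ∈ H} := by
    intro q
    induction q using QuotientGroup.induction_on with
    | H g =>
      apply Nat.card_congr
      refine
        { toFun := fun y => ⟨g⁻¹ * y.1.1 * g, ?_, ?_⟩
          invFun := fun z => ⟨⟨g * z.1 * g⁻¹, ?_⟩, ?_⟩
          left_inv := ?_
          right_inv := ?_ }
      · refine y.1.2.trans ?_
        rw [isConj_iff]
        exact ⟨g⁻¹, by simp⟩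
      · exact (smul_mk_eq_iff H y.1.1 g).1 y.2
      · refine z.2.1.trans ?_
        rw [isConj_iff]
        exact ⟨g, rfl⟩
      · change (g * z.1 * g⁻¹) • (QuotientGroup.mk g : G ⧸ H) = QuotientGroup.mk g
        rw [smul_mk_eq_iff]
        have : g⁻¹ * (g * z.1 * g⁻¹) * g = z.1 := by group
        rw [this]
        exact z.2.2
      · rintro ⟨⟨y, hy⟩, hp⟩
        apply Subtype.ext
        apply Subtype.ext
        simp only
        group
      · rintro ⟨z, hz⟩
        apply Subtype.ext
        simp only
        group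
  have hc := Nat.card_congr (e1.symm.trans e2)
  rw [Nat.card_sigma, Nat.card_sigma] at hc
  simp only [h1, h2, Finset.sum_const, Finset.card_univ, smul_eq_mul] at hc
  rw [mul_comm, Subgroup.index_eq_card, Nat.card_eq_fintype_card (α := {g : G // IsConj x g}),
    Nat.card_eq_fintype_card (α := G ⧸ H)]
  exact hc

end Cfsg.Agent.Helper17
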