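import Mathlib
import Cfsg.Agent.Lib.Helper17.FixedCount
import Cfsg.Agent.Lib.Helper17.PrimeSylow
import Cfsg.Agent.Lib.Helper17.ConjCount
import Cfsg.Agent.S1017

/-!
# Counting fixed Sylow subgroups

The fixed-point counting formula for the conjugation action on Sylow subgroups, and the structure of
a centralizer of order `p * r` of a Sylow subgroup of order `p`.
-/

set_option autoImplicit false

namespace Cfsg.Agent.Helper17.SylowCount

open MulAction

variable {G : Type*} [Group G]

/-- The map from cosets of the normalizer of a Sylow subgroup to Sylow subgroups. -/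
noncomputable def toSylow {p : ℕ} [Fact p.Prime] (P : Sylow p G) :
    G ⧸ Subgroup.normalizer ((P : Subgroup G) : Set G) → Sylow p G :=
  fun q => Quotient.liftOn' q (fun g => g • P) (by
    intro a b hab
    rw [QuotientGroup.leftRel_apply] at hab
    have h : (a⁻¹ * b) • P = P := Sylow.smul_eq_iff_mem_normalizer.2 hab
    change a • P = b • P
    calc a • P = a • ((a⁻¹ * b) • P) := by rw [h]
      _ = b • P := by rw [smul_smul, mul_inv_cancel_left])

theorem toSylow_mk {p : ℕ} [Fact p.Prime] (P : Sylow p G) (g : G) :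
    toSylow P (QuotientGroup.mk g) = g • P := rfl

theorem toSylow_smul {p : ℕ} [Fact p.Prime] (P : Sylow p G) (x : G)
    (q : G ⧸ Subgroup.normalizer ((P : Subgroup G) : Set G)) :
    toSylow P (x • q) = x • toSylow P q := by
  induction q using QuotientGroup.induction_on with
  | H g =>
    rw [MulAction.Quotient.smul_mk, toSylow_mk, toSylow_mk, smul_eq_mul, mul_smul]

theorem toSylow_injective {p : ℕ} [Fact p.Prime] (P : Sylow p G) :
    Function.Injective (toSylow P) := by
  intro q q' h
  induction q using QuotientGroup.induction_on with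
  | H a =>
    induction q' using QuotientGroup.induction_on with
    | H b =>
      rw [toSylow_mk, toSylow_mk] at h
      rw [QuotientGroup.eq]
      apply Sylow.smul_eq_iff_mem_normalizer.1
      rw [mul_smul, ← h, smul_smul, inv_mul_cancel, one_smul]

theorem toSylow_surjective [Finite G] {p : ℕ} [Fact p.Prime] (P : Sylow p G) :
    Function.Surjective (toSylow P) := by
  intro Q
  obtain ⟨g, hg⟩ := MulAction.exists_smul_eq G P Q
  exact ⟨QuotientGroup.mk g, hg⟩

/-- The numbers of fixed points on cosets of the normalizer and on Sylow subgroups agree. -/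
theorem card_fixedBy_coset_eq [Finite G] {p : ℕ} [Fact p.Prime] (P : Sylow p G) (x : G) :
    Nat.card (fixedBy (G ⧸ Subgroup.normalizer ((P : Subgroup G) : Set G)) x) =
      Nat.card (fixedBy (Sylow p G) x) := by
  apply Nat.card_congr
  refine Equiv.subtypeEquiv (Equiv.ofBijective (toSylow P)
    ⟨toSylow_injective P, toSylow_surjective P⟩) ?_
  intro q
  change x • q = q ↔ x • toSylow P q = toSylow P q
  constructor
  · intro h
    rw [← toSylow_smul, h]
  · intro h
    rw [← toSylow_smul] at h
    exact toSylow_injective P h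

/-- Fixed-point counting formula for the action on Sylow subgroups. -/
theorem card_fixedBy_sylow_mul_card_conj [Finite G] {p : ℕ} [Fact p.Prime] (P : Sylow p G)
    (x : G) :
    Nat.card (fixedBy (Sylow p G) x) * Nat.card {g : G // IsConj x g} =
      Nat.card (Sylow p G) *
        Nat.card {g : G // IsConj x g ∧ g ∈ Subgroup.normalizer ((P : Subgroup G) : Set G)} := by
  rw [← card_fixedBy_coset_eq P x, card_fixedBy_mul_card_conj]
  congr 1
  exact P.card_eq_index_normalizer.symm

/-- The number of conjugates times the order of the centralizer is the group order. -/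
theorem card_conj_mul_card_centralizer [Finite G] (x : G) :
    Nat.card {g : G // IsConj x g} * Nat.card (Subgroup.centralizer ({x} : Set G)) =
      Nat.card G := by
  rw [← card_carrier_mul_card_centralizer x]
  congr 1

/-- Conjugate elements have the same number of fixed points. -/
theorem card_fixedBy_of_isConj {α : Type*} [MulAction G α] {x y : G} (h : IsConj x y) :
    Nat.card (fixedBy α y) = Nat.card (fixedBy α x) := by
  obtain ⟨a, rfl⟩ := isConj_iff.1 h
  exact card_fixedBy_conj a x

/-- If the centralizer `C` of a subgroup `P` of prime order `p` has order `p * r` with `r ≠ p` prime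
and `u ∈ C` has order `r`, then every `g ∈ C` with `g ^ r = 1` is a power of `u`. -/
theorem mem_zpowers_of_pow_eq_one [Finite G] {p r : ℕ} [hp : Fact p.Prime] (hr : r.Prime)
    (hpr : p ≠ r) (P : Subgroup G) (hP : Nat.card P = p)
    (hC : Nat.card (Subgroup.centralizer (P : Set G)) = p * r) (u : G)
    (hu : u ∈ Subgroup.centralizer (P : Set G)) (huo : orderOf u = r) (g : G)
    (hg : g ∈ Subgroup.centralizer (P : Set G)) (hgr : g ^ r = 1) : g ∈ Subgroup.zpowers u := by
  obtain ⟨k, hk, hk1⟩ : ∃ k ∈ P, k ≠ 1 := by
    have : Finite P := Nat.finite_of_card_ne_zero (by rw [hP]; exact hp.out.ne_zero)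
    have h1 : 1 < Nat.card P := by rw [hP]; exact hp.out.one_lt
    rw [Subgroup.one_lt_card_iff_ne_bot] at h1
    obtain ⟨k, hk⟩ := (Subgroup.ne_bot_iff_exists_ne_one (H := P)).1 h1
    exact ⟨(k : G), k.2, fun h => hk (Subtype.ext h)⟩
  obtain ⟨hzk, hko⟩ := zpowers_eq_of_card_prime P hP k hk hk1
  have hcomm : Commute k u := (Subgroup.mem_centralizer_iff.1 hu k hk)
  have hcop : Nat.Coprime (orderOf k) (orderOf u) := by
    rw [hko, huo]; exact (Nat.coprime_primes hp.out hr).2 hpr
  have hord : orderOf (k * u) = p * r := by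
    rw [hcomm.orderOf_mul_eq_mul_orderOf_of_coprime hcop, hko, huo]
  have hkC : k ∈ Subgroup.centralizer (P : Set G) := by
    rw [Subgroup.mem_centralizer_iff]
    intro y hy
    rw [← hzk] at hy
    obtain ⟨j, rfl⟩ := hy
    exact ((Commute.refl k).zpow_right j).eq.symm
  have hxC : k * u ∈ Subgroup.centralizer (P : Set G) := Subgroup.mul_mem _ hkC hu
  have hle : Subgroup.zpowers (k * u) ≤ Subgroup.centralizer (P : Set G) :=
    (Subgroup.zpowers_le).2 hxC
  have heq : Subgroup.zpowers (k * u) = Subgroup.centralizer (P : Set G) :=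
    Subgroup.eq_of_le_of_card_ge hle (by rw [Nat.card_zpowers, hord, hC])
  rw [← heq] at hg
  obtain ⟨j, hj⟩ := (Subgroup.mem_zpowers_iff).1 hg
  -- `g = (k u)^j`, and `g ^ r = 1` forces `p ∣ j`
  have h1 : (k * u) ^ (j * (r : ℤ)) = 1 := by
    rw [zpow_mul, hj, zpow_natCast, hgr]
  have h2 : ((p * r : ℕ) : ℤ) ∣ j * (r : ℤ) := by
    rw [← hord]; exact orderOf_dvd_iff_zpow_eq_one.2 h1
  have h3 : (p : ℤ) ∣ j := by
    push_cast at h2
    have hr0 : (r : ℤ) ≠ 0 := by exact_mod_cast hr.ne_zero
    exact (mul_dvd_mul_iff_right hr0).1 h2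
  obtain ⟨i, rfl⟩ := h3
  rw [← hj, hcomm.mul_zpow, zpow_mul, zpow_natCast, ← hko, pow_orderOf_eq_one, one_zpow, one_mul]
  exact Subgroup.zpow_mem_zpowers u _

end Cfsg.Agent.Helper17.SylowCount
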