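import Mathlib

set_option autoImplicit false

namespace Cfsg.Agent.Helper17

/-- The elements of a cyclic group of order four. -/
theorem mem_zpowers_of_orderOf_four {T : Type*} [Group T] (a x : T) (ha : orderOf a = 4)
    (hx : x ∈ Subgroup.zpowers a) : x = 1 ∨ x = a ∨ x = a ^ 2 ∨ x = a ^ 3 := by
  classical
  have hfin : IsOfFinOrder a := orderOf_pos_iff.1 (by rw [ha]; norm_num)
  rw [hfin.mem_zpowers_iff_mem_range_orderOf, ha] at hx
  obtain ⟨k, hk, rfl⟩ := Finset.mem_image.1 hx
  rw [Finset.mem_range] at hk
  interval_cases k <;> simp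

/-- Every element of `zpowers a` is a natural power. -/
theorem exists_pow_of_mem_zpowers_four {T : Type*} [Group T] (a x : T) (ha : orderOf a = 4)
    (hx : x ∈ Subgroup.zpowers a) : ∃ k : ℕ, x = a ^ k := by
  rcases mem_zpowers_of_orderOf_four a x ha hx with h | h | h | h
  · exact ⟨0, by simpa using h⟩
  · exact ⟨1, by simpa using h⟩
  · exact ⟨2, h⟩
  · exact ⟨3, h⟩

/-- A nonabelian group of order `8` is either generated by two involutions whose product has order
four, or has a unique involution. -/
theorem order8_dichotomy {T : Type*} [Group T] (hT : Nat.card T = 8)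
    (hna : ¬ ∀ x y : T, x * y = y * x) :
    (∃ x y : T, orderOf x = 2 ∧ orderOf y = 2 ∧ x ≠ y ∧ orderOf (x * y) = 4 ∧
      Subgroup.closure ({x, y} : Set T) = ⊤) ∨
    (∃ z : T, orderOf z = 2 ∧ ∀ t : T, orderOf t = 2 → t = z) := by
  classical
  have hfin : Finite T := Nat.finite_of_card_ne_zero (by rw [hT]; norm_num)
  -- Step 1: an element of order four
  have h4 : ∃ a : T, orderOf a = 4 := by
    by_contra hno
    push Not at hno
    apply hna
    have hord : ∀ x : T, orderOf x = 1 ∨ orderOf x = 2 ∨ orderOf x = 8 := by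
      intro x
      have hd : orderOf x ∣ 8 := hT ▸ orderOf_dvd_natCard x
      have hle := Nat.le_of_dvd (by norm_num) hd
      have h4 := hno x
      generalize orderOf x = n at *
      interval_cases n <;> first | omega | (exfalso; revert hd; decide)
    by_cases h8 : ∃ x : T, orderOf x = 8
    · obtain ⟨x, hx⟩ := h8
      have hcyc : IsCyclic T := isCyclic_of_orderOf_eq_card x (by rw [hx, hT])
      exact IsCyclic.commGroup.mul_comm
    · push Not at h8
      have hsq : ∀ x : T, x * x = 1 := by
        intro x
        rcases hord x with h | h | h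
        · rw [orderOf_eq_one_iff] at h; rw [h, one_mul]
        · rw [← pow_two, ← h]; exact pow_orderOf_eq_one x
        · exact absurd h (h8 x)
      intro x y
      have h1 : (x * y)⁻¹ = x * y := inv_eq_of_mul_eq_one_left (hsq (x * y))
      have h2 : x⁻¹ = x := inv_eq_of_mul_eq_one_left (hsq x)
      have h3 : y⁻¹ = y := inv_eq_of_mul_eq_one_left (hsq y)
      rw [← h1, mul_inv_rev, h2, h3]
  obtain ⟨a, ha⟩ := h4
  have ha4 : a ^ 4 = 1 := by rw [← ha]; exact pow_orderOf_eq_one a
  set A : Subgroup T := Subgroup.zpowers a with hA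
  have hcA : Nat.card A = 4 := by rw [hA, Nat.card_zpowers, ha]
  have hidx : A.index = 2 := by
    have := A.card_mul_index
    rw [hcA, hT] at this
    omega
  have hnorm : A.Normal := Subgroup.normal_of_index_eq_two hidx
  have haA : a ∈ A := Subgroup.mem_zpowers a
  -- Step 3: an element outside `A`
  have hb : ∃ b : T, b ∉ A := by
    by_contra hall
    push Not at hall
    have : A = ⊤ := (Subgroup.eq_top_iff' A).2 hall
    rw [← Subgroup.card_eq_iff_eq_top, hcA, hT] at this
    omega
  obtain ⟨b, hb⟩ := hb
  -- every element is `a ^ k` or `b * a ^ k`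
  have hform : ∀ x : T, (∃ k : ℕ, x = a ^ k) ∨ ∃ k : ℕ, x = b * a ^ k := by
    intro x
    by_cases hx : x ∈ A
    · exact Or.inl (exists_pow_of_mem_zpowers_four a x ha hx)
    · right
      have hmem : b⁻¹ * x ∈ A := by
        rw [Subgroup.mul_mem_iff_of_index_two hidx]
        simp [hx, hb]
      obtain ⟨k, hk⟩ := exists_pow_of_mem_zpowers_four a _ ha hmem
      exact ⟨k, by rw [← hk]; group⟩
  -- Step 4: the conjugate of `a` by `b`
  have hcA' : b * a * b⁻¹ ∈ A := hnorm.conj_mem a haA b
  have hco : orderOf (b * a * b⁻¹) = 4 := by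
    have : b * a * b⁻¹ = (MulAut.conj b).toMonoidHom a := by simp
    rw [this, orderOf_injective _ (MulAut.conj b).injective, ha]
  have ho2 : orderOf (a ^ 2) = 2 := by
    rw [orderOf_pow' a (by norm_num), ha]; norm_num
  have ho3 : orderOf (a ^ 3) = 4 := by
    rw [orderOf_pow' a (by norm_num), ha]; norm_num
  have hconj : b * a * b⁻¹ = a ∨ b * a * b⁻¹ = a ^ 3 := by
    rcases mem_zpowers_of_orderOf_four a _ ha hcA' with h | h | h | h
    · rw [h, orderOf_one] at hco; omega
    · exact Or.inl h
    · rw [h, ho2] at hco; omega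
    · exact Or.inr h
  rcases hconj with hc | hc
  · -- `a` and `b` commute: the group is abelian
    exfalso
    apply hna
    have hab : Commute b a := by
      have : b * a = a * b := by
        calc b * a = b * a * b⁻¹ * b := by group
          _ = a * b := by rw [hc]
      exact this
    have hca : ∀ g : T, Commute g a := by
      intro g
      rcases hform g with ⟨k, rfl⟩ | ⟨k, rfl⟩
      · exact (Commute.refl a).pow_left k
      · exact hab.mul_left ((Commute.refl a).pow_left k)
    have hcb : ∀ g : T, Commute g b := by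
      intro g
      rcases hform g with ⟨k, rfl⟩ | ⟨k, rfl⟩
      · exact hab.symm.pow_left k
      · exact (Commute.refl b).mul_left (hab.symm.pow_left k)
    intro x y
    rcases hform y with ⟨k, rfl⟩ | ⟨k, rfl⟩
    · exact (hca x).pow_right k
    · exact (hcb x).mul_right ((hca x).pow_right k)
  -- now `b * a * b⁻¹ = a ^ 3`
  have hba : ∀ k : ℕ, b * a ^ k = (a ^ 3) ^ k * b := by
    intro k
    have := conj_pow (i := k) (a := b) (b := a)
    rw [hc] at this
    rw [this]; group
  have hb2A : b ^ 2 ∈ A := Subgroup.sq_mem_of_index_two hidx b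
  have ha2ne : a ^ 2 ≠ 1 := by
    intro h
    rw [h, orderOf_one] at ho2; omega
  have hb2 : b ^ 2 = 1 ∨ b ^ 2 = a ^ 2 := by
    have hcomm : b * b ^ 2 * b⁻¹ = b ^ 2 := by group
    rcases mem_zpowers_of_orderOf_four a _ ha hb2A with h | h | h | h
    · exact Or.inl h
    · exfalso
      rw [h, hc] at hcomm
      apply ha2ne
      calc a ^ 2 = a ^ 3 * a⁻¹ := by group
        _ = 1 := by rw [hcomm]; group
    · exact Or.inr h
    · exfalso
      rw [h] at hcomm
      have h1 := conj_pow (i := 3) (a := b) (b := a)
      rw [hc] at h1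
      rw [← h1] at hcomm
      -- `(a^3)^3 = a^3`, i.e. `a^9 = a^3`, so `a^6 = 1`, so `a^2 = 1`
      apply ha2ne
      have h6 : a ^ 6 = 1 := by
        have : (a ^ 3) ^ 3 * (a ^ 3)⁻¹ = 1 := by rw [hcomm]; group
        calc a ^ 6 = (a ^ 3) ^ 3 * (a ^ 3)⁻¹ := by group
          _ = 1 := this
      calc a ^ 2 = a ^ 6 * (a ^ 4)⁻¹ := by group
        _ = 1 := by rw [h6, ha4]; group
  have hb1 : b ≠ 1 := fun h => hb (h ▸ A.one_mem)
  rcases hb2 with hb2 | hb2
  · -- dihedral case
    left
    have hob : orderOf b = 2 := orderOf_eq_prime hb2 hb1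
    have hy2 : (b * a) ^ 2 = 1 := by
      have h1 := hba 1
      rw [pow_one, pow_one] at h1
      calc (b * a) ^ 2 = b * a * (b * a) := pow_two _
        _ = a ^ 3 * b * (b * a) := by rw [h1]
        _ = a ^ 3 * b ^ 2 * a := by simp only [pow_two, mul_assoc]
        _ = a ^ 4 := by rw [hb2]; group
        _ = 1 := ha4
    have hy1 : b * a ≠ 1 := by
      intro h
      apply hb
      have : b = a⁻¹ := eq_inv_of_mul_eq_one_left h
      rw [this]
      exact A.inv_mem haA
    have hoy : orderOf (b * a) = 2 := orderOf_eq_prime hy2 hy1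
    have hxy : b * (b * a) = a := by
      calc b * (b * a) = b ^ 2 * a := by simp only [pow_two, mul_assoc]
        _ = a := by rw [hb2, one_mul]
    refine ⟨b, b * a, hob, hoy, ?_, by rw [hxy, ha], ?_⟩
    · intro h
      have : a = 1 := by
        calc a = b⁻¹ * (b * a) := by group
          _ = 1 := by rw [← h]; group
      rw [this, orderOf_one] at ha; omega
    · set K : Subgroup T := Subgroup.closure ({b, b * a} : Set T) with hK
      have hbK : b ∈ K := Subgroup.subset_closure (by simp)
      have hbaK : b * a ∈ K := Subgroup.subset_closure (by simp)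
      have haK : a ∈ K := by
        have : a = b⁻¹ * (b * a) := by group
        rw [this]
        exact K.mul_mem (K.inv_mem hbK) hbaK
      have hAK : A ≤ K := by
        rw [hA, Subgroup.zpowers_le]; exact haK
      have hd1 : 4 ∣ Nat.card K := hcA ▸ Subgroup.card_dvd_of_le hAK
      have hd2 : Nat.card K ∣ 8 := hT ▸ Subgroup.card_subgroup_dvd_card K
      have hne : Nat.card K ≠ 4 := by
        intro h
        have := Subgroup.eq_of_le_of_card_ge hAK (by rw [h, hcA])
        exact hb (this ▸ hbK)
      rw [← Subgroup.card_eq_iff_eq_top, hT]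
      have hle := Nat.le_of_dvd (by norm_num) hd2
      generalize Nat.card K = n at *
      interval_cases n <;> omega
  · -- quaternion case
    right
    refine ⟨a ^ 2, ho2, ?_⟩
    intro t ht
    rcases hform t with ⟨k, rfl⟩ | ⟨k, rfl⟩
    · have hmem : a ^ k ∈ A := A.pow_mem haA k
      rcases mem_zpowers_of_orderOf_four a _ ha hmem with h | h | h | h
      · rw [h, orderOf_one] at ht; omega
      · rw [h, ha] at ht; omega
      · exact h
      · rw [h, ho3] at ht; omega
    · exfalso
      have hsq : (b * a ^ k) ^ 2 = a ^ 2 := by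
        calc (b * a ^ k) ^ 2 = b * a ^ k * (b * a ^ k) := pow_two _
          _ = (a ^ 3) ^ k * b * (b * a ^ k) := by rw [hba k]
          _ = (a ^ 3) ^ k * b ^ 2 * a ^ k := by simp only [pow_two, mul_assoc]
          _ = (a ^ 3) ^ k * a ^ 2 * a ^ k := by rw [hb2]
          _ = (a ^ 4) ^ k * a ^ 2 := by
            rw [← pow_mul, ← pow_mul, ← pow_add, ← pow_add, ← pow_add]
            congr 1; ring
          _ = a ^ 2 := by rw [ha4, one_pow, one_mul]
      apply ha2ne
      rw [← hsq, ← ht]
      exact pow_orderOf_eq_one _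

end Cfsg.Agent.Helper17
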