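import Mathlib
import Cfsg.Agent.S0206
import Cfsg.Agent.Lib.Helper17.Order8

set_option autoImplicit false

namespace Cfsg.Agent.Helper17

/-- A nonabelian group of order `8` is dihedral or has a unique involution. -/
theorem order8_dihedral_or_unique_involution {T : Type*} [Group T] (hT : Nat.card T = 8)
    (hna : ¬ ∀ x y : T, x * y = y * x) :
    Nonempty (T ≃* DihedralGroup 4) ∨
    (∃ z : T, orderOf z = 2 ∧ ∀ t : T, orderOf t = 2 → t = z) := by
  have hfin : Finite T := Nat.finite_of_card_ne_zero (by rw [hT]; norm_num)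
  rcases order8_dichotomy hT hna with ⟨x, y, hx, hy, hxy, h4, hcl⟩ | h
  · left
    have h1 : Nonempty (↥(Subgroup.closure ({x, y} : Set T)) ≃* DihedralGroup 4) := by
      rw [← h4]
      exact Cfsg.Agent.S0206.result x y hx hy hxy
    obtain ⟨e⟩ := h1
    exact ⟨(Subgroup.topEquiv.symm.trans (MulEquiv.subgroupCongr hcl.symm)).trans e⟩
  · exact Or.inr h

end Cfsg.Agent.Helper17
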