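import Cfsg.Agent.Lib.Helper17.BG11Facts
import Cfsg.Agent.Lib.Helper24.BG11.Basic
import Cfsg.Agent.Lib.Helper58.BG11W3
import Cfsg.Agent.Lib.Helper65.BG11b
import Cfsg.Agent.Lib.Helper79.BG11b2
import Cfsg.Agent.S1412

/-!
# B–G Section 11 under Hypothesis 11.1: the bundle `Facts G`, unconditionally

`facts hG : Helper24.BG11.Facts G` for a minimal simple group of odd order: assembled from
`M_σ ≠ 1` (helper58 W3), helper65 (`A` central in the Sylow `p`-subgroups of `M` over it, `Ω₁ = A`),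
helper79 (`sylow_comm`, via S1412), helper24 (`Exc.maxEA`, via S1408) and helper33's `BG11I`.
-/

set_option autoImplicit false

namespace Cfsg.Agent.Helper17.BG11Final

open Subgroup Cfsg
open Cfsg.Agent.Helper24.BG11

variable {G : Type*} [Group G] [Finite G]

/-- Clause (b) of Section 11 under Hypothesis 11.1: the Sylow `p`-subgroups of `M` are abelian,
and `Ω₁(P) ≤ A` for those over `A`. -/
theorem exc_b (hG : IsMinSimpleOddOrder G) {M A A0 : Subgroup G} {p : ℕ} (hE : Exc M p A A0)
    (P : Sylow p M) :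
    IsMulCommutative (P : Subgroup M) ∧
      (A ≤ (P : Subgroup M).map M.subtype →
        ∀ x ∈ (P : Subgroup M).map M.subtype, x ^ p = 1 → x ∈ A) := by
  haveI hpp : Fact p.Prime := hE.fact
  refine ⟨?_, fun hAP x hx hxp =>
    ((Cfsg.Agent.Helper65.BG11b.omega_eq hG hE P hAP).2.1 x hx).mp hxp⟩
  obtain ⟨P0, hAP0⟩ := Cfsg.Agent.Helper65.BG11b.exists_sylow_ge (p := p)
    (Cfsg.Agent.Helper34.BG.isElementaryAbelian_isPGroup hE.elem) hE.le
  exact Cfsg.Agent.Helper79.BG11b2.sylow_comm hG p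
    (fun S hr => Cfsg.Agent.S1412.result hG p S hr) M hE.coatom A hE.hA hE.cent_le
    (hE.maxEA hG) P0 hAP0 (Cfsg.Agent.Helper65.BG11b.le_center hG hE P0 hAP0) P

/-- **B–G 11.1–11.6**: the bundle `Facts G` holds in every minimal simple group of odd order. -/
theorem facts (hG : IsMinSimpleOddOrder G) : Facts G :=
  Cfsg.Agent.Helper17.BG11Facts.facts_of hG
    (fun M hM => Cfsg.Agent.Helper58.BG11.sigmaCore_ne_bot hG M hM)
    (fun hE P => exc_b hG hE P)

end Cfsg.Agent.Helper17.BG11Final
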