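import Cfsg.Agent.Lib.Helper24.BG11.Facts
import Cfsg.Agent.Lib.Helper33.BG11I

/-!
# B–G Section 11 under Hypothesis 11.1 alone: assembling `Facts G`, and principle (P1)

`facts_of`: the bundle `Helper24.BG11.Facts G` from `M_σ ≠ 1` (W3), clause (b) of Section 11
(Sylow `p`-subgroups of `M` abelian with `Ω₁ = A`) and helper33's `BG11I` (Lemma I, (a), (d), (f2)).
`p1`: if `H` is a proper subgroup over `A` with `H ∩ M_σ ≠ 1`, every `h ∈ H` with `A^h ≤ M` lies
in `M`.  No use of S1416 / S1417.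
-/

set_option autoImplicit false
open Pointwise

namespace Cfsg.Agent.Helper17.BG11Facts

open Subgroup Cfsg
open Cfsg.Agent.Helper24.BG11
open Cfsg.Agent.Helper33
open Cfsg.Agent.Helper33.BG11I
open Cfsg.Agent.Helper34.BG (isElementaryAbelian_isPGroup not_normalizer_le_of_not_mem_sigma)

variable {G : Type*} [Group G] [Finite G]

/-- `N_G(A) ⊄ M` under Hypothesis 11.1, given `Ω₁(T) ≤ A` for the Sylow `p`-subgroups `T ⊇ A`. -/
theorem exc_norm {M A A0 : Subgroup G} {p : ℕ} (hE : Exc M p A A0)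
    (hΩ : ∀ P : Sylow p M, A ≤ (P : Subgroup M).map M.subtype →
      ∀ x ∈ (P : Subgroup M).map M.subtype, x ^ p = 1 → x ∈ A) :
    ¬ Subgroup.normalizer (A : Set G) ≤ M := by
  haveI hpp : Fact p.Prime := hE.fact
  have hdvd : p ∣ Nat.card M := by
    have h1 : p ∣ Nat.card A := by rw [hE.card]; exact dvd_pow_self p (by norm_num)
    exact h1.trans (Subgroup.card_dvd_of_le hE.le)
  obtain ⟨T, hT, hAT⟩ := exists_isSylIn_ge (p := p) (isElementaryAbelian_isPGroup hE.elem) hE.le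
  have hTmap : ((hT.toSylow : Sylow p M) : Subgroup M).map M.subtype = T := by
    rw [hT.coe_toSylow, Subgroup.subgroupOf_map_subtype, inf_eq_left.mpr hT.le]
  have hΩT : ∀ x ∈ T, x ^ p = 1 ↔ x ∈ A := by
    intro x hx
    constructor
    · intro hxp
      exact hΩ hT.toSylow (by rw [hTmap]; exact hAT) x (by rw [hTmap]; exact hx) hxp
    · intro hxA
      exact hE.elem.2 x hxA
  exact not_normalizer_le_of_omega hAT hΩT
    (not_normalizer_le_of_not_mem_sigma hT hdvd hE.not_sigma)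

/-- `Facts G` from `M_σ ≠ 1` (W3) and clause (b) of Section 11. -/
theorem facts_of (hG : IsMinSimpleOddOrder G)
    (hW3 : ∀ M : Subgroup G, IsCoatom M → Cfsg.sigmaCore M ≠ ⊥)
    (hb : ∀ {M A A0 : Subgroup G} {p : ℕ}, Exc M p A A0 → ∀ P : Sylow p M,
      IsMulCommutative (P : Subgroup M) ∧
        (A ≤ (P : Subgroup M).map M.subtype →
          ∀ x ∈ (P : Subgroup M).map M.subtype, x ^ p = 1 → x ∈ A)) :
    Facts G where
  ne_bot := hW3
  nil := fun hE => exc_nilpotent hG hE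
  syl := fun hE => hb hE
  norm := fun hE => exc_norm hE (fun P => (hb hE P).2)
  cent := fun hE => exc_d hG hE (exc_norm hE (fun P => (hb hE P).2))
  fpf2 := fun hE => exc_f2 hG hE (exc_norm hE (fun P => (hb hE P).2))

/-- Principle (P1): for a proper subgroup `H ≥ A` meeting `M_σ` nontrivially, every `h ∈ H` with
`A^h ≤ M` lies in `M`. -/
theorem p1 (hG : Cfsg.IsMinSimpleOddOrder G) (M : Subgroup G) (hM : IsCoatom M)
    (p : ℕ) [hpp : Fact p.Prime] (hp : p ∈ Cfsg.tau2 M) (A : Subgroup G)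
    (hA : A ≤ M ∧ Cfsg.IsElementaryAbelian p A ∧ Nat.card A = p ^ 2)
    (hCA : Subgroup.centralizer (A : Set G) ≤ M)
    (H : Subgroup G) (hH : H ≠ ⊤) (hAH : A ≤ H) (hHK : Cfsg.sigmaCore M ⊓ H ≠ ⊥)
    (h : G) (hh : h ∈ H) (hhA : MulAut.conj h • A ≤ M) : h ∈ M := by
  have hHK' : H ⊓ Cfsg.sigmaCore M ≠ ⊥ := by rwa [inf_comm]
  have hcard : Nat.card (H ⊓ Cfsg.sigmaCore M : Subgroup G) ≠ 1 :=
    fun h1 => hHK' (Subgroup.card_eq_one.mp h1)
  obtain ⟨q, hq, hqD⟩ := Nat.exists_prime_and_dvd hcard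
  haveI : Fact q.Prime := ⟨hq⟩
  have hAg : A ≤ MulAut.conj h⁻¹ • M := conj_smul_le_iff_le_inv.mp hhA
  have hhH : MulAut.conj h⁻¹ • H = H := Cfsg.Agent.Helper33.conj_smul_eq_self_of_mem (H.inv_mem hh)
  have h2 : q ∣ Nat.card (H ⊓ MulAut.conj h⁻¹ • Cfsg.sigmaCore M : Subgroup G) := by
    have e : (H ⊓ MulAut.conj h⁻¹ • Cfsg.sigmaCore M : Subgroup G) =
        MulAut.conj h⁻¹ • (H ⊓ Cfsg.sigmaCore M) := by
      rw [conj_smul_inf, hhH]
    rw [e, card_conj_smul]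
    exact hqD
  have h3 : h⁻¹ ∈ M := key_dvd hG M hM p hp A hA hCA h⁻¹ hAg H hH hAH q hqD h2
  simpa using M.inv_mem h3

end Cfsg.Agent.Helper17.BG11Facts
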