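import Cfsg.Agent.Lib.Helper17.BG125e
import Cfsg.Agent.Lib.Helper17.BG11Facts

/-!
# B–G Theorem 12.5 (= S1417) from Section 11 (`Facts G` + 11.7) and Proposition 12.4 (= S1416)

`thm125`: the statement of S1417, with as hypotheses the bundle `Helper24.BG11.Facts G`
(11.1–11.6 under Hypothesis 11.1), B–G 11.7 (`M_σ A ⊴ M` under Hypothesis 11.1) and the statement of
S1416 for all maximal subgroups.
-/

set_option autoImplicit false
open Pointwise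

namespace Cfsg.Agent.Helper17.BG125

open Subgroup Cfsg
open Cfsg.Agent.Helper24.BG11
open Cfsg.Agent.Helper33
open Cfsg.Agent.Helper34.BG (not_normalizer_le_of_not_mem_sigma)

variable {G : Type*} [Group G] [Finite G]

theorem thm125 (hG : IsMinSimpleOddOrder G) (F : Facts G)
    (hc : ∀ {M A A0 : Subgroup G} {p : ℕ}, Exc M p A A0 →
      M ≤ normalizer ((sigmaCore M ⊔ A : Subgroup G) : Set G))
    (h16 : ∀ (H : Subgroup G), IsCoatom H → ∀ (p : ℕ) [Fact p.Prime] (A : Subgroup G),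
      (A ≤ H ∧ Cfsg.IsElementaryAbelian p A ∧ Nat.card A = p ^ 2) →
      Subgroup.centralizer (A : Set G) ≤ H ∧
      ((∀ A₀ : Subgroup G, A₀ ≤ A → Nat.card A₀ = p →
          ¬ (Subgroup.normalizer (A₀ : Set G) ≤ H ∧
            ∀ L : Subgroup G, IsCoatom L → Subgroup.normalizer (A₀ : Set G) ≤ L → L = H)) →
        p ∈ Cfsg.sigma H ∧ Cfsg.alphaCore H = ⊥ ∧ Group.IsNilpotent (Cfsg.sigmaCore H)))
    (M : Subgroup G) (hM : IsCoatom M) (p : ℕ) [hpp : Fact p.Prime] (hp : p ∈ Cfsg.tau2 M)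
    (A : Subgroup G)
    (hA : (A ≤ M ∧ Cfsg.IsElementaryAbelian p A ∧ Nat.card A = p ^ 2)) :
    Group.IsNilpotent (Cfsg.sigmaCore M) ∧
      (∀ P : Sylow p M, IsMulCommutative (P : Subgroup M) ∧
        (A ≤ (P : Subgroup M).map M.subtype →
          (∀ x ∈ (P : Subgroup M).map M.subtype, x ^ p = 1 ↔ x ∈ A) ∧
          ¬ Subgroup.normalizer ((((P : Subgroup M).map M.subtype : Subgroup G)) : Set G) ≤ M)) ∧
      M ≤ Subgroup.normalizer ((Cfsg.sigmaCore M ⊔ A : Subgroup G) : Set G) ∧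
      Cfsg.sigmaCore M ⊓ Subgroup.centralizer (A : Set G) = ⊥ ∧
      (∀ Mstar : Subgroup G, IsCoatom Mstar → Mstar ≠ M → A ≤ Mstar →
        Cfsg.sigmaCore M ⊓ Mstar = ⊥) ∧
      ∃ A₁ : Subgroup G, A₁ ≤ A ∧ Nat.card A₁ = p ∧
        Cfsg.sigmaCore M ⊓ Subgroup.centralizer (A₁ : Set G) = ⊥ := by
  obtain ⟨hAM, hAe, hA2⟩ := hA
  have hpσ : p ∉ sigma M := hp.2.1
  have hex : ∃ A0 : Subgroup G, A0 ≤ A ∧ Nat.card A0 = p ∧ normalizer (A0 : Set G) ≤ M := by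
    by_contra hno
    have h1 := (h16 M hM p A ⟨hAM, hAe, hA2⟩).2 (fun A₀ h1 h2 h3 => hno ⟨A₀, h1, h2, h3.1⟩)
    exact hpσ h1.1
  obtain ⟨A0, hA0, hA0c, hN⟩ := hex
  have hE : Exc M p A A0 := ⟨hM, hpp.out, hpσ, hAM, hAe, hA2, hA0, hA0c, hN⟩
  have hdvd : p ∣ Nat.card M := by
    have h1 : p ∣ Nat.card A := by rw [hA2]; exact dvd_pow_self p (by norm_num)
    exact h1.trans (Subgroup.card_dvd_of_le hAM)
  refine ⟨F.nil hE, ?_, hc hE, F.cent hE, ?_, ?_⟩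
  · intro P
    obtain ⟨h1, h2⟩ := F.syl hE P
    refine ⟨h1, fun hAP => ⟨fun x hx => ⟨h2 hAP x hx, fun hxA => hAe.2 x hxA⟩, ?_⟩⟩
    exact not_normalizer_le_of_not_mem_sigma (isSylIn_of_sylow M P) hdvd hpσ
  · intro Mstar hMs hne hAMs
    have hS : ∀ (H' : Subgroup G) (p' : ℕ) (A' A0' : Subgroup G), Exc H' p' A' A0' →
        Group.IsNilpotent (Cfsg.sigmaCore H') ∧
        H' ≤ Subgroup.normalizer ((Cfsg.sigmaCore H' ⊔ A' : Subgroup G) : Set G) ∧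
        ∀ g : G, g ∉ H' → A' ≤ H'.map (MulAut.conj g).toMonoidHom →
          Cfsg.sigmaCore H' ⊓ H'.map (MulAut.conj g).toMonoidHom = ⊥ :=
      fun H' p' A' A0' hE' => ⟨F.nil hE', hc hE',
        fun g hg hAg => Cfsg.Agent.Helper33.BG11I.exc_lemmaI hG hE' g hg hAg⟩
    obtain ⟨hHallH, hHallGH, -⟩ := Cfsg.Agent.S1350.result hG Mstar hMs
    exact Cfsg.Agent.Helper17.BG125e.clause_e hG M Mstar hM hMs hne p A hAM hAe hA2 hAMs
      hHallH hHallGH (h16 Mstar hMs p A ⟨hAMs, hAe, hA2⟩).2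
      (fun A0' h1 h2 h3 => (Cfsg.Agent.Helper17.BG123.lemma123 hG hS M Mstar hM hMs
        (Ne.symm hne) p A A0' hAM hAe hA2 h1 h2 h3).1 hpσ)
      (F.cent hE)
      (fun hne' h hh hhA => Cfsg.Agent.Helper17.BG11Facts.p1 hG M hM p hp A ⟨hAM, hAe, hA2⟩
        hE.cent_le Mstar hMs.1 hAMs hne' h hh hhA)
  · obtain ⟨A1, A2, h1, -, h3, -, -, h6, -⟩ := F.fpf2 hE
    exact ⟨A1, h1, h3, h6⟩

end Cfsg.Agent.Helper17.BG125
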