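import Cfsg.Agent.S1350
import Cfsg.Agent.S1403
import Cfsg.Agent.S1404
import Cfsg.Agent.S1405
import Cfsg.Agent.S1414
import Cfsg.Agent.Lib.Helper24.BG11.Def
import Cfsg.Agent.Lib.Helper33.BG125
import Cfsg.Agent.Lib.Helper52.Coprime
import Cfsg.Agent.Lib.Helper78.BG126
import Cfsg.Agent.Lib.Helper25.BGNat

/-!
# Bender–Glauberman Lemma 12.3 (for S1416)

`M ≠ H` maximal subgroups, `A ≤ M` elementary abelian of order `p²`, `A₀ ≤ A` of order `p` with
`N_G(A₀) ≤ H`.  Then (a) `p ∉ σ(M) → [M_σ ∩ H, A] = 1` and (b) `p ∉ α(M) → [M_α ∩ H, A] = 1`.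

The three facts of B–G Section 11 used for the *other* subgroup `H` (when `p ∉ σ(H)`, i.e. when
`(H, p, A, A₀)` satisfies Hypothesis 11.1) are a hypothesis `Sec11` *for the prime `p` only*:
`H_σ` nilpotent, `H_σ A ⊴ H` (11.7) and `H_σ ∩ H^g = 1` for `g ∉ H`, `A ≤ H^g` (11.2).
-/

set_option autoImplicit false
open Pointwise

namespace Cfsg.Agent.Helper17.BG123

open Subgroup Cfsg
open Cfsg.Agent.Helper33
open Cfsg.Agent.Helper33.BG125 (factorization_card_of_not_dvd_index isSylIn_of_card_sylow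
  normalizer_le_of_mem_sigma)
open Cfsg.Agent.Helper34.BG (isElementaryAbelian_isPGroup commute_of_isElementaryAbelian
  isCoatom_conj ne_top_of_le_coatom solvable_of_ne_top uniq_eq_of_le normalizer_ne_top
  exists_elemAb_of_not_pRankLE not_rankLE_of_elemAb)
open Cfsg.Agent.Helper55.BGB (sigmaCore_le isPi_sigmaCore le_normalizer_sigmaCore
  le_sigmaCore_of_isPGroup)

/-! ### Generalities on quotients by a normal subgroup -/

section generic

variable {L : Type*} [Group L]

/-- if `x = n a` with `n ∈ N ⊴ L` and the orders of `x` and `a` are coprime, then `x ∈ N`. -/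
theorem mem_of_mul_of_coprime (N : Subgroup L) [N.Normal] {x n a : L} (hx : x = n * a)
    (hn : n ∈ N) (h : (orderOf x).Coprime (orderOf a)) : x ∈ N := by
  have e : (QuotientGroup.mk' N) x = (QuotientGroup.mk' N) a := by
    have h1 : (QuotientGroup.mk' N) n = 1 := (QuotientGroup.eq_one_iff n).mpr hn
    rw [hx, map_mul, h1, one_mul]
  have h1 : orderOf ((QuotientGroup.mk' N) x) ∣ orderOf x := orderOf_map_dvd _ x
  have h2 : orderOf ((QuotientGroup.mk' N) x) ∣ orderOf a := by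
    rw [e]; exact orderOf_map_dvd _ a
  have h3 : orderOf ((QuotientGroup.mk' N) x) = 1 := Nat.eq_one_of_dvd_coprimes h h1 h2
  rw [orderOf_eq_one_iff] at h3
  exact (QuotientGroup.eq_one_iff x).mp h3

/-- an element whose order is coprime to the index of `N ⊴ L` lies in `N`. -/
theorem mem_of_coprime_index (N : Subgroup L) [N.Normal] (x : L)
    (h : (orderOf x).Coprime N.index) : x ∈ N := by
  have h1 : orderOf ((QuotientGroup.mk' N) x) ∣ orderOf x := orderOf_map_dvd _ x
  have h2 : orderOf ((QuotientGroup.mk' N) x) ∣ N.index := by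
    rw [Subgroup.index_eq_card]; exact orderOf_dvd_natCard _
  have h3 : orderOf ((QuotientGroup.mk' N) x) = 1 := Nat.eq_one_of_dvd_coprimes h h1 h2
  rw [orderOf_eq_one_iff] at h3
  exact (QuotientGroup.eq_one_iff x).mp h3

end generic

variable {G : Type*} [Group G] [Finite G]

/-- `A ≤ N_G(A₀)` for `A₀ ≤ A` abelian. -/
theorem le_normalizer_of_le_elemAb {p : ℕ} {A A0 : Subgroup G} (hAe : IsElementaryAbelian p A)
    (hA0 : A0 ≤ A) : A ≤ normalizer (A0 : Set G) := by
  intro a ha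
  apply Subgroup.centralizer_le_normalizer
  rw [mem_centralizer_iff]
  intro b hb
  exact commute_of_isElementaryAbelian hAe (hA0 hb) ha

/-- a `p'`-subgroup of `H_σ A` lies in `H_σ` (`A` an exponent-`p` subgroup of `H`). -/
theorem le_sigmaCore_of_le_sup {H A X : Subgroup G} {p : ℕ} (hp : p.Prime) (hAH : A ≤ H)
    (hAp : ∀ a ∈ A, a ^ p = 1) (hX : X ≤ sigmaCore H ⊔ A) (hpX : ¬ p ∣ Nat.card X) :
    X ≤ sigmaCore H := by
  intro x hx
  obtain ⟨n, hn, a, ha, hxna⟩ := Cfsg.Agent.Helper78.BG126.exists_mul_of_mem_sup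
    (hAH.trans (le_normalizer_sigmaCore H)) (hX hx)
  have hnH : n ∈ H := sigmaCore_le H hn
  have haH : a ∈ H := hAH ha
  have hxH : x ∈ H := by rw [hxna]; exact H.mul_mem hnH haH
  have hn' : (⟨n, hnH⟩ : H) ∈ Cfsg.piCore (Cfsg.sigma H) H := by
    unfold Cfsg.sigmaCore at hn
    obtain ⟨y, hy, hyn⟩ := hn
    have : y = ⟨n, hnH⟩ := Subtype.ext hyn
    rwa [this] at hy
  have hcop : (orderOf (⟨x, hxH⟩ : H)).Coprime (orderOf (⟨a, haH⟩ : H)) := by
    rw [Subgroup.orderOf_mk, Subgroup.orderOf_mk]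
    have h1 : orderOf a ∣ p := orderOf_dvd_of_pow_eq_one (hAp a ha)
    have h2 : orderOf x ∣ Nat.card X := by
      have := orderOf_dvd_natCard (⟨x, hx⟩ : X)
      rwa [Subgroup.orderOf_mk] at this
    have h3 : (Nat.card X).Coprime p := ((Nat.Prime.coprime_iff_not_dvd hp).mpr hpX).symm
    exact Nat.Coprime.coprime_dvd_left h2 (Nat.Coprime.coprime_dvd_right h1 h3)
  have hmem : (⟨x, hxH⟩ : H) ∈ Cfsg.piCore (Cfsg.sigma H) H :=
    mem_of_mul_of_coprime (Cfsg.piCore (Cfsg.sigma H) H) (n := ⟨n, hnH⟩) (a := ⟨a, haH⟩)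
      (Subtype.ext hxna) hn' hcop
  exact ⟨⟨x, hxH⟩, hmem, rfl⟩

/-- for `q ∈ σ(M)`, `M_σ` contains a Sylow `q`-subgroup of `G`. -/
theorem exists_sylow_le_sigmaCore {M : Subgroup G}
    (hHallG : Cfsg.IsPiHall (Cfsg.sigma M) (Cfsg.sigmaCore M)) {q : ℕ} [hq : Fact q.Prime]
    (hqσ : q ∈ Cfsg.sigma M) :
    ∃ S : Subgroup G, S ≤ sigmaCore M ∧ Nat.card S = q ^ (Nat.card G).factorization q := by
  let P : Sylow q (sigmaCore M) := default
  refine ⟨(P : Subgroup (sigmaCore M)).map (sigmaCore M).subtype, Subgroup.map_subtype_le _, ?_⟩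
  rw [Subgroup.card_map_of_injective (Subgroup.subtype_injective _), Sylow.card_eq_multiplicity,
    factorization_card_of_not_dvd_index (hHallG.2 q hq.out hqσ)]

/-- if `H_σ` is nilpotent, its Sylow `q`-subgroup is a Sylow `q`-subgroup of `G` with
normalizer `H`. -/
theorem exists_normal_sylow_sigmaCore (hG : IsMinSimpleOddOrder G) {H : Subgroup G}
    (hH : IsCoatom H) (hHallG : Cfsg.IsPiHall (Cfsg.sigma H) (Cfsg.sigmaCore H))
    (hnil : Group.IsNilpotent (sigmaCore H)) {q : ℕ} [hq : Fact q.Prime]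
    (hqσ : q ∈ Cfsg.sigma H) (hqG : q ∣ Nat.card G) :
    ∃ Q : Subgroup G, Q ≤ sigmaCore H ∧ Nat.card Q = q ^ (Nat.card G).factorization q ∧
      normalizer (Q : Set G) = H := by
  haveI := hnil
  let P : Sylow q (sigmaCore H) := default
  have hPn : (P : Subgroup (sigmaCore H)).Normal :=
    Sylow.normal_of_normalizerCondition Group.normalizerCondition_of_isNilpotent P
  set Q : Subgroup G := (P : Subgroup (sigmaCore H)).map (sigmaCore H).subtype with hQ
  have hQle : Q ≤ sigmaCore H := Subgroup.map_subtype_le _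
  have hQc : Nat.card Q = q ^ (Nat.card G).factorization q := by
    rw [hQ, Subgroup.card_map_of_injective (Subgroup.subtype_injective _),
      Sylow.card_eq_multiplicity, factorization_card_of_not_dvd_index (hHallG.2 q hq.out hqσ)]
  have hQn : sigmaCore H ≤ normalizer (Q : Set G) :=
    Cfsg.Agent.Helper55.BGB.le_normalizer_map_subtype (sigmaCore H) (P : Subgroup (sigmaCore H))
  have hsyl : IsSylIn q Q (sigmaCore H) := isSylIn_of_sylow (sigmaCore H) P
  have hHn : H ≤ normalizer (Q : Set G) := by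
    intro h hh
    rw [mem_normalizer_iff_smul_eq]
    have h1 := hsyl.conj h
    rw [smul_eq_of_mem_normalizer (le_normalizer_sigmaCore H hh)] at h1
    obtain ⟨k, hk, hke⟩ := hsyl.exists_conj_eq h1
    have h2 : MulAut.conj k⁻¹ • Q = Q := smul_eq_of_mem_normalizer (hQn ((sigmaCore H).inv_mem hk))
    calc MulAut.conj h • Q = MulAut.conj k⁻¹ • MulAut.conj k • (MulAut.conj h • Q) :=
          (conj_inv_smul_smul k _).symm
      _ = MulAut.conj k⁻¹ • Q := by rw [hke]
      _ = Q := h2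
  have hQ0 : Q ≠ ⊥ := by
    intro h
    have h1 : Nat.card Q = 1 := by rw [h]; exact Subgroup.card_bot
    rw [hQc] at h1
    have h2 : (Nat.card G).factorization q ≠ 0 := by
      intro h0
      rcases (Nat.factorization_eq_zero_iff _ _).mp h0 with h3 | h3 | h3
      · exact h3 hq.out
      · exact h3 hqG
      · exact Nat.card_pos.ne' h3
    have : 1 < q ^ (Nat.card G).factorization q := Nat.one_lt_pow h2 hq.out.one_lt
    omega
  have hQtop : Q ≠ ⊤ := ne_top_of_le_coatom hH (hQle.trans (sigmaCore_le H))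
  refine ⟨Q, hQle, hQc, ?_⟩
  rcases hH.le_iff.mp hHn with h | h
  · exact absurd h (normalizer_ne_top hG hQ0 hQtop)
  · exact h

/-- The sec. 11 facts used, for the prime `p`. -/
def Sec11 (G : Type*) [Group G] (p : ℕ) : Prop :=
  ∀ (H A A0 : Subgroup G), Cfsg.Agent.Helper24.BG11.Exc H p A A0 →
    Group.IsNilpotent (Cfsg.sigmaCore H) ∧
    H ≤ Subgroup.normalizer ((Cfsg.sigmaCore H ⊔ A : Subgroup G) : Set G) ∧
    ∀ g : G, g ∉ H → A ≤ H.map (MulAut.conj g).toMonoidHom →
      Cfsg.sigmaCore H ⊓ H.map (MulAut.conj g).toMonoidHom = ⊥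

/-- The common core of 12.3(a) and 12.3(b). -/
theorem core (hG : IsMinSimpleOddOrder G) {p : ℕ} [hpp : Fact p.Prime] (hS : Sec11 G p)
    {M H : Subgroup G} (hM : IsCoatom M) (hH : IsCoatom H)
    {A A0 : Subgroup G} (hAM : A ≤ M) (hAe : IsElementaryAbelian p A)
    (hA2 : Nat.card A = p ^ 2) (hA0 : A0 ≤ A) (hA0c : Nat.card A0 = p)
    (hN : normalizer (A0 : Set G) ≤ H)
    (hneq : ∀ x : G, H = MulAut.conj x • M → x ∉ M)
    (hconj : ∀ x : G, H = MulAut.conj x • M → p ∈ sigma H → False)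
    {K1 : Subgroup G} (hK1M : K1 ≤ sigmaCore M) (hK1H : K1 ≤ H)
    (hAK1 : A ≤ normalizer (K1 : Set G)) (hpK1 : ¬ p ∣ Nat.card K1) :
    K1 ≤ centralizer (A : Set G) := by
  obtain ⟨-, hHallGM, -⟩ := Cfsg.Agent.S1350.result hG M hM
  obtain ⟨hHallH, hHallGH, -⟩ := Cfsg.Agent.S1350.result hG H hH
  have hAH : A ≤ H := (le_normalizer_of_le_elemAb hAe hA0).trans hN
  have hAp : IsPGroup p A := isElementaryAbelian_isPGroup hAe
  have hAsolv : Group.IsSolvable A := solvable_of_ne_top hG (ne_top_of_le_coatom hM hAM)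
  have hcop : (Nat.card A).Coprime (Nat.card K1) := by
    rw [hA2]
    exact Nat.Coprime.pow_left 2 ((Nat.Prime.coprime_iff_not_dvd hpp.out).mpr hpK1)
  set X : Subgroup G := ⁅K1, A⁆ with hX
  have hXK1 : X ≤ K1 := Cfsg.Agent.Helper24.commutator_le_of_le_normalizer K1 A hAK1
  have hXX : ⁅X, A⁆ = X :=
    Cfsg.Agent.Helper52.commutator_commutator_eq K1 A hAK1 hcop (Or.inl hAsolv)
  have hpX : ¬ p ∣ Nat.card X := fun h => hpK1 (h.trans (Subgroup.card_dvd_of_le hXK1))
  -- Step 1: `X ≤ H_σ`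
  have hXHσ : X ≤ sigmaCore H := by
    by_cases hpσH : p ∈ sigma H
    · have hAσ : A ≤ sigmaCore H := le_sigmaCore_of_isPGroup hpp.out hHallH hpσH hAH hAp
      rw [hX, Subgroup.commutator_le]
      intro k hk a ha
      have hkn : k ∈ normalizer ((sigmaCore H : Subgroup G) : Set G) :=
        le_normalizer_sigmaCore H (hK1H hk)
      have h1 : k * a * k⁻¹ ∈ sigmaCore H := (mem_normalizer_iff.mp hkn a).mp (hAσ ha)
      rw [commutatorElement_def]
      exact (sigmaCore H).mul_mem h1 ((sigmaCore H).inv_mem (hAσ ha))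
    · have hE : Cfsg.Agent.Helper24.BG11.Exc H p A A0 :=
        ⟨hH, hpp.out, hpσH, hAH, hAe, hA2, hA0, hA0c, hN⟩
      obtain ⟨-, hnor, -⟩ := hS H A A0 hE
      have hXsup : X ≤ sigmaCore H ⊔ A := by
        rw [hX, Subgroup.commutator_le]
        intro k hk a ha
        have hkn := hnor (hK1H hk)
        have haS : a ∈ sigmaCore H ⊔ A := (le_sup_right : A ≤ sigmaCore H ⊔ A) ha
        have h1 : k * a * k⁻¹ ∈ sigmaCore H ⊔ A := (mem_normalizer_iff.mp hkn a).mp haS
        rw [commutatorElement_def]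
        exact (sigmaCore H ⊔ A).mul_mem h1 ((sigmaCore H ⊔ A).inv_mem haS)
      exact le_sigmaCore_of_le_sup hpp.out hAH hAe.2 hXsup hpX
  -- Step 2: `X = 1`
  have hXbot : X = ⊥ := by
    by_contra hXne
    have hcardX : Nat.card X ≠ 1 := fun h => hXne (Subgroup.card_eq_one.mp h)
    obtain ⟨q, hq, hqX⟩ := Nat.exists_prime_and_dvd hcardX
    haveI : Fact q.Prime := ⟨hq⟩
    have hqσM : q ∈ sigma M :=
      isPi_sigmaCore M q hq (hqX.trans (Subgroup.card_dvd_of_le (hXK1.trans hK1M)))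
    have hqσH : q ∈ sigma H := isPi_sigmaCore H q hq (hqX.trans (Subgroup.card_dvd_of_le hXHσ))
    have hqp : q ≠ p := fun h => hpX (h ▸ hqX)
    have hqG : q ∣ Nat.card G := hqX.trans (Subgroup.card_subgroup_dvd_card X)
    obtain ⟨S1, hS1le, hS1c⟩ := exists_sylow_le_sigmaCore hHallGM hqσM
    have hS1M : S1 ≤ M := hS1le.trans (sigmaCore_le M)
    have hS1top : IsSylIn q S1 ⊤ := isSylIn_of_card_sylow hS1c le_top
    by_cases hpσH : p ∈ sigma H
    · by_cases hqα : q ∈ alpha H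
      · -- `q ∈ α(H)`: `H` is conjugate to `M`
        obtain ⟨B, hBH, hBe, hBc⟩ := exists_elemAb_of_not_pRankLE hqα.2
        have hBc1 : q ^ 1 < Nat.card B := by
          have : q ^ 1 ≤ q ^ 2 := Nat.pow_le_pow_right hq.pos (by norm_num)
          omega
        have hU : InUniqueMaximal B := Cfsg.Agent.S1403.result hG B (ne_top_of_le_coatom hH hBH)
          (not_rankLE_of_elemAb hq le_rfl hBe hBc1)
          (Or.inl (not_rankLE_of_elemAb hq le_rfl hBe hBc))
        obtain ⟨x, -, hx⟩ := hS1top.exists_conj_le (isElementaryAbelian_isPGroup hBe) le_top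
        have hBx : B ≤ MulAut.conj x⁻¹ • M := by
          rw [← conj_smul_le_iff_le_inv]
          exact hx.trans hS1M
        have h1 : MulAut.conj x⁻¹ • M = H :=
          uniq_eq_of_le hU hH hBH (isCoatom_conj hM x⁻¹) hBx
        exact hconj x⁻¹ h1.symm hpσH
      · -- `q ∉ α(H)`: normal `q`-complement of `H_σ`
        have hqβ : q ∉ beta H := fun hb => hqα hb.1
        have hqH : q ∣ Nat.card H :=
          hqX.trans (Subgroup.card_dvd_of_le (hXHσ.trans (sigmaCore_le H)))
        obtain ⟨-, ⟨P, N, hNn, hNP⟩, -⟩ :=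
          (Cfsg.Agent.S1414.result hG H hH).2.2.2.2 q hq hqH hqβ
        haveI := hNn
        have hNidx : N.index = Nat.card (P : Subgroup (sigmaCore H)) := hNP.symm.index_eq_card
        have hPidx : (P : Subgroup (sigmaCore H)).index = Nat.card N := hNP.index_eq_card
        have hqN : ¬ q ∣ Nat.card N := by rw [← hPidx]; exact P.not_dvd_index
        have hAσ : A ≤ sigmaCore H := le_sigmaCore_of_isPGroup hpp.out hHallH hpσH hAH hAp
        have hAN : ∀ a (ha : a ∈ A), (⟨a, hAσ ha⟩ : sigmaCore H) ∈ N := by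
          intro a ha
          apply mem_of_coprime_index
          rw [hNidx, Subgroup.orderOf_mk]
          obtain ⟨k, hk⟩ := IsPGroup.iff_card.mp P.isPGroup'
          rw [hk]
          have h1 : orderOf a ∣ p := orderOf_dvd_of_pow_eq_one (hAe.2 a ha)
          have h2 : (p).Coprime (q ^ k) :=
            Nat.Coprime.pow_right k ((Nat.coprime_primes hpp.out hq).mpr (Ne.symm hqp))
          exact Nat.Coprime.coprime_dvd_left h1 h2
        have hXN : X ≤ N.map (sigmaCore H).subtype := by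
          rw [← hXX, Subgroup.commutator_le]
          intro x hx a ha
          have hxσ : x ∈ sigmaCore H := hXHσ hx
          have h1 : (⟨x, hxσ⟩ : sigmaCore H) * ⟨a, hAσ ha⟩ * (⟨x, hxσ⟩ : sigmaCore H)⁻¹ ∈ N :=
            hNn.conj_mem _ (hAN a ha) _
          have h2 : (⟨x, hxσ⟩ : sigmaCore H) * ⟨a, hAσ ha⟩ * (⟨x, hxσ⟩ : sigmaCore H)⁻¹ *
              (⟨a, hAσ ha⟩ : sigmaCore H)⁻¹ ∈ N := N.mul_mem h1 (N.inv_mem (hAN a ha))
          refine ⟨_, h2, ?_⟩
          rw [commutatorElement_def]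
          rfl
        have h3 : q ∣ Nat.card (N.map (sigmaCore H).subtype) :=
          hqX.trans (Subgroup.card_dvd_of_le hXN)
        rw [Subgroup.card_map_of_injective (Subgroup.subtype_injective _)] at h3
        exact hqN h3
    · -- `p ∉ σ(H)`: `H` is exceptional
      have hE : Cfsg.Agent.Helper24.BG11.Exc H p A A0 :=
        ⟨hH, hpp.out, hpσH, hAH, hAe, hA2, hA0, hA0c, hN⟩
      obtain ⟨hnil, -, hI⟩ := hS H A A0 hE
      obtain ⟨Q2, hQ2le, hQ2c, hQ2n⟩ :=
        exists_normal_sylow_sigmaCore hG hH hHallGH hnil hqσH hqG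
      have hQ2top : IsSylIn q Q2 ⊤ := isSylIn_of_card_sylow hQ2c le_top
      obtain ⟨x, -, hx⟩ := hQ2top.exists_conj_eq hS1top
      -- `x • S1 = Q2`
      have hNS1 : normalizer (S1 : Set G) ≤ M :=
        normalizer_le_of_mem_sigma (isSylIn_of_card_sylow hS1c hS1M) hqσM
      have hHle : H ≤ MulAut.conj x • M := by
        rw [← hQ2n, ← hx, normalizer_conj_smul]
        exact conj_smul_le_conj_smul hNS1
      have hHeq : H = MulAut.conj x • M := by
        rcases hH.le_iff.mp hHle with h | h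
        · exact absurd h (isCoatom_conj hM x).1
        · exact h.symm
      have hxM : x ∉ M := hneq x hHeq
      -- `M = x⁻¹ • H`
      have hMeq : M = MulAut.conj x⁻¹ • H := by rw [hHeq, conj_inv_smul_smul]
      have hxH : x⁻¹ ∉ H := by
        intro h
        apply hxM
        have h1 : MulAut.conj x⁻¹ • H = H := Cfsg.Agent.Helper33.conj_smul_eq_self_of_mem h
        have h2 : x ∈ H := by simpa using H.inv_mem h
        rw [hMeq, h1]
        exact h2
      have hAg : A ≤ H.map (MulAut.conj x⁻¹).toMonoidHom := by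
        change A ≤ MulAut.conj x⁻¹ • H
        rw [← hMeq]
        exact hAM
      have h0 := hI x⁻¹ hxH hAg
      have hXle : X ≤ sigmaCore H ⊓ H.map (MulAut.conj x⁻¹).toMonoidHom := by
        refine le_inf hXHσ ?_
        change X ≤ MulAut.conj x⁻¹ • H
        rw [← hMeq]
        exact hXK1.trans (hK1M.trans (sigmaCore_le M))
      rw [h0] at hXle
      exact hXne (le_bot_iff.mp hXle)
  rw [hX, Subgroup.commutator_eq_bot_iff_le_centralizer] at hXbot
  exact hXbot

/-- **B–G Lemma 12.3**, with the sec. 11 hypothesis for the prime `p` only. -/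
theorem lemma123_p (hG : Cfsg.IsMinSimpleOddOrder G) (p : ℕ) [hpp : Fact p.Prime]
    (hS : Sec11 G p)
    (M H : Subgroup G) (hM : IsCoatom M) (hH : IsCoatom H) (hMH : M ≠ H)
    (A A0 : Subgroup G) (hAM : A ≤ M) (hAe : Cfsg.IsElementaryAbelian p A)
    (hA2 : Nat.card A = p ^ 2) (hA0 : A0 ≤ A) (hA0c : Nat.card A0 = p)
    (hN : Subgroup.normalizer (A0 : Set G) ≤ H) :
    (p ∉ Cfsg.sigma M → Cfsg.sigmaCore M ⊓ H ≤ Subgroup.centralizer (A : Set G)) ∧
    (p ∉ Cfsg.alpha M → Cfsg.alphaCore M ⊓ H ≤ Subgroup.centralizer (A : Set G)) := by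
  have hAH : A ≤ H := (le_normalizer_of_le_elemAb hAe hA0).trans hN
  have hσconj : ∀ x : G, H = MulAut.conj x • M → Cfsg.sigma H = Cfsg.sigma M := by
    intro x hx
    rw [hx]
    exact Cfsg.Agent.Helper25.BGNat.sigma_cj x M
  have hneq : ∀ x : G, H = MulAut.conj x • M → x ∉ M := by
    intro x hx hxM
    rw [Cfsg.Agent.Helper33.conj_smul_eq_self_of_mem hxM] at hx
    exact hMH hx.symm
  have hAnσ : A ≤ normalizer ((sigmaCore M : Subgroup G) : Set G) :=
    hAM.trans (le_normalizer_sigmaCore M)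
  have hAnH : A ≤ normalizer ((H : Subgroup G) : Set G) := hAH.trans le_normalizer
  constructor
  · intro hpσM
    refine core hG hS hM hH hAM hAe hA2 hA0 hA0c hN hneq ?_ inf_le_left inf_le_right
      (Cfsg.Agent.Helper33.BG125.le_normalizer_inf hAnσ hAnH) ?_
    · intro x hx hpσH
      rw [hσconj x hx] at hpσH
      exact hpσM hpσH
    · intro h
      exact hpσM (isPi_sigmaCore M p hpp.out (h.trans (Subgroup.card_dvd_of_le inf_le_left)))
  · intro hpαM
    obtain ⟨hHallα, -, hασ, -, -⟩ := Cfsg.Agent.S1405.result hG M hM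
    have hAnα : A ≤ normalizer ((alphaCore M : Subgroup G) : Set G) := by
      refine hAM.trans ?_
      unfold Cfsg.alphaCore
      exact Cfsg.Agent.Helper55.BGB.le_normalizer_map_subtype M (Cfsg.piCore (Cfsg.alpha M) M)
    refine core hG hS hM hH hAM hAe hA2 hA0 hA0c hN hneq ?_ (inf_le_left.trans hασ) inf_le_right
      (Cfsg.Agent.Helper33.BG125.le_normalizer_inf hAnα hAnH) ?_
    · intro x hx hpσH
      rw [hσconj x hx] at hpσH
      -- `p ∈ σ(M)`, `H = x M x⁻¹`, `A₀ ≤ H`: Theorem 10.1 gives `M = H`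
      have hA0M : A0 ≤ M := hA0.trans hAM
      have hA0p : IsPGroup p A0 := (isElementaryAbelian_isPGroup hAe).to_le hA0
      have hA0ne : A0 ≠ ⊥ := by
        intro h
        have h1 : Nat.card A0 = 1 := by rw [h]; exact Subgroup.card_bot
        rw [hA0c] at h1
        exact hpp.out.one_lt.ne' h1
      have hA0x : A0.map (MulAut.conj x⁻¹).toMonoidHom ≤ M := by
        change MulAut.conj x⁻¹ • A0 ≤ M
        have h1 : MulAut.conj x⁻¹ • A0 ≤ MulAut.conj x⁻¹ • H :=
          conj_smul_le_conj_smul (hA0.trans hAH)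
        rwa [hx, conj_inv_smul_smul] at h1
      obtain ⟨m, hm, c, hc, hxmc⟩ :=
        (Cfsg.Agent.S1404.result hG M hM p hpσH A0 hA0p hA0ne hA0M).1 x⁻¹ hA0x
      have hcH : c ∈ H := hN (Subgroup.centralizer_le_normalizer _ hc)
      have hxe : x = c⁻¹ * m⁻¹ := by
        have : x = (x⁻¹)⁻¹ := (inv_inv x).symm
        rw [this, hxmc, mul_inv_rev]
      have h1 : H = MulAut.conj c⁻¹ • M := by
        rw [hx, hxe, conj_mul_smul, Cfsg.Agent.Helper33.conj_smul_eq_self_of_mem (M.inv_mem hm)]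
      have h2 : MulAut.conj c • H = M := by rw [h1, conj_smul_inv_smul]
      rw [Cfsg.Agent.Helper33.conj_smul_eq_self_of_mem hcH] at h2
      exact hMH h2.symm
    · intro h
      exact hpαM (hHallα.2.1 p hpp.out (h.trans (Subgroup.card_dvd_of_le inf_le_left)))

/-- **B–G Lemma 12.3**, signature of helper12 #2605 (sec. 11 hypothesis for all primes). -/
theorem lemma123 (hG : Cfsg.IsMinSimpleOddOrder G)
    (Sec11' : ∀ (H : Subgroup G) (p : ℕ) (A A0 : Subgroup G),
      Cfsg.Agent.Helper24.BG11.Exc H p A A0 →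
      Group.IsNilpotent (Cfsg.sigmaCore H) ∧
      H ≤ Subgroup.normalizer ((Cfsg.sigmaCore H ⊔ A : Subgroup G) : Set G) ∧
      ∀ g : G, g ∉ H → A ≤ H.map (MulAut.conj g).toMonoidHom →
        Cfsg.sigmaCore H ⊓ H.map (MulAut.conj g).toMonoidHom = ⊥)
    (M H : Subgroup G) (hM : IsCoatom M) (hH : IsCoatom H) (hMH : M ≠ H) (p : ℕ) [Fact p.Prime]
    (A A0 : Subgroup G) (hAM : A ≤ M) (hAe : Cfsg.IsElementaryAbelian p A)
    (hA2 : Nat.card A = p ^ 2) (hA0 : A0 ≤ A) (hA0c : Nat.card A0 = p)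
    (hN : Subgroup.normalizer (A0 : Set G) ≤ H) :
    (p ∉ Cfsg.sigma M → Cfsg.sigmaCore M ⊓ H ≤ Subgroup.centralizer (A : Set G)) ∧
    (p ∉ Cfsg.alpha M → Cfsg.alphaCore M ⊓ H ≤ Subgroup.centralizer (A : Set G)) :=
  lemma123_p hG p (fun H A A0 h => Sec11' H p A A0 h) M H hM hH hMH A A0 hAM hAe hA2 hA0 hA0c hN

end Cfsg.Agent.Helper17.BG123
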