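import Mathlib

set_option autoImplicit false

namespace Cfsg.Agent.Helper17

/-- An automorphism of prime order `s > p` of a group of order `p ^ 2` forces `s = p + 1`. -/
theorem aut_order_of_card_sq {P : Type*} [Group P] [Finite P] {p s : ℕ} (hp : p.Prime)
    (hs : s.Prime) (hcard : Nat.card P = p ^ 2) (α : MulAut P) (hα : orderOf α = s)
    (hsp : p < s) : s = p + 1 := by
  classical
  have : Fact s.Prime := ⟨hs⟩
  -- the fixed subgroup
  let Fx : Subgroup P :=
    { carrier := {x | α x = x}
      one_mem' := map_one α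
      mul_mem' := fun {a b} ha hb => by
        change α (a * b) = a * b
        rw [map_mul, ha, hb]
      inv_mem' := fun {a} ha => by
        change α a⁻¹ = a⁻¹
        rw [map_inv, ha] }
  have hFdvd : Nat.card Fx ∣ p ^ 2 := hcard ▸ Subgroup.card_subgroup_dvd_card Fx
  have hFne : Nat.card Fx ≠ p ^ 2 := by
    intro h
    have htop : Fx = ⊤ := Subgroup.eq_top_of_card_eq _ (h.trans hcard.symm)
    have hα1 : α = 1 := by
      ext x
      have : x ∈ Fx := by rw [htop]; trivial
      exact this
    rw [hα1, orderOf_one] at hα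
    exact hs.one_lt.ne' hα.symm
  -- the cyclic group generated by α acts on P
  set A : Subgroup (MulAut P) := Subgroup.zpowers α with hA
  have hAp : IsPGroup s A := by
    apply IsPGroup.of_card (n := 1)
    rw [hA, Nat.card_zpowers, hα, pow_one]
  have hmod := hAp.card_modEq_card_fixedPoints P
  have hfix : Nat.card (MulAction.fixedPoints A P) = Nat.card Fx := by
    apply Nat.card_congr
    refine Equiv.subtypeEquivRight ?_
    intro x
    constructor
    · intro hx
      exact hx ⟨α, Subgroup.mem_zpowers α⟩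
    · intro hx a
      obtain ⟨a, ha⟩ := a
      obtain ⟨k, rfl⟩ := Subgroup.mem_zpowers_iff.1 ha
      change (α ^ k) x = x
      have hx' : x ∈ MulAction.fixedBy P α := hx
      have : x ∈ MulAction.fixedBy P (α ^ k) :=
        MulAction.fixedBy_subset_fixedBy_zpow P α k hx'
      exact this
  rw [hfix, hcard] at hmod
  obtain ⟨e, he, hFe⟩ := (Nat.dvd_prime_pow hp).1 hFdvd
  have hp2 := hp.two_le
  have hdvd : s ∣ p ^ 2 - Nat.card Fx := by
    have hle : Nat.card Fx ≤ p ^ 2 := Nat.le_of_dvd (pow_pos hp.pos 2) hFdvd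
    exact (Nat.modEq_iff_dvd' hle).1 hmod.symm
  interval_cases e
  · -- trivial fixed subgroup
    rw [hFe, pow_zero] at hdvd
    have hfac : p ^ 2 - 1 = (p - 1) * (p + 1) := by
      obtain ⟨k, rfl⟩ : ∃ k, p = k + 1 := ⟨p - 1, by omega⟩
      simp only [Nat.add_sub_cancel]
      have : (k + 1) ^ 2 = k * (k + 1 + 1) + 1 := by ring
      rw [this, Nat.add_sub_cancel]
    rw [hfac] at hdvd
    rcases (hs.dvd_mul).1 hdvd with h | h
    · have := Nat.le_of_dvd (by omega) h
      omega
    · have := Nat.le_of_dvd (by omega) h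
      omega
  · -- fixed subgroup of order p
    rw [hFe, pow_one] at hdvd
    have hfac : p ^ 2 - p = p * (p - 1) := by
      obtain ⟨k, rfl⟩ : ∃ k, p = k + 1 := ⟨p - 1, by omega⟩
      simp only [Nat.add_sub_cancel]
      have : (k + 1) ^ 2 = (k + 1) * k + (k + 1) := by ring
      rw [this, Nat.add_sub_cancel]
    rw [hfac] at hdvd
    rcases (hs.dvd_mul).1 hdvd with h | h
    · have := Nat.le_of_dvd hp.pos h
      omega
    · have := Nat.le_of_dvd (by omega) h
      omega
  · exact absurd hFe hFne

end Cfsg.Agent.Helper17
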