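import Cfsg.Agent.Lib.Helper17.BG123

/-!
# Clause (e) of B–G Theorem 12.5 (for S1417)

`K = M_σ`, `p ∈ τ₂(M)`, `A ≤ M` elementary abelian of order `p²`.  If `H ≠ M` is a maximal subgroup
containing `A` then `K ∩ H = 1`.  Inputs (as hypotheses): the statement of S1416 for `(H, p, A)`,
Lemma 12.3(a) for `(M, H)`, `C_K(A) = 1`, and principle (P1): if `K ∩ H ≠ 1` then every `h ∈ H`
with `A^h ≤ M` lies in `M`.
-/

set_option autoImplicit false
open Pointwise

namespace Cfsg.Agent.Helper17.BG125e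

open Subgroup Cfsg
open Cfsg.Agent.Helper33
open Cfsg.Agent.Helper33.BG125 (isSylIn_of_card_sylow)
open Cfsg.Agent.Helper34.BG (isElementaryAbelian_isPGroup)
open Cfsg.Agent.Helper55.BGB (le_sigmaCore_of_isPGroup)
open Cfsg.Agent.Helper17.BG123 (exists_normal_sylow_sigmaCore)

variable {G : Type*} [Group G] [Finite G]

/-- Clause (e), from its inputs. -/
theorem clause_e (hG : IsMinSimpleOddOrder G) (M H : Subgroup G) (hM : IsCoatom M)
    (hH : IsCoatom H) (hHM : H ≠ M) (p : ℕ) [hpp : Fact p.Prime] (A : Subgroup G)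
    (hAM : A ≤ M) (hAe : IsElementaryAbelian p A) (hA2 : Nat.card A = p ^ 2) (hAH : A ≤ H)
    (hHallH : Cfsg.IsPiHallOf (Cfsg.sigma H) (Cfsg.sigmaCore H) H)
    (hHallGH : Cfsg.IsPiHall (Cfsg.sigma H) (Cfsg.sigmaCore H))
    (h16 : (∀ A₀ : Subgroup G, A₀ ≤ A → Nat.card A₀ = p →
          ¬ (Subgroup.normalizer (A₀ : Set G) ≤ H ∧
            ∀ L : Subgroup G, IsCoatom L → Subgroup.normalizer (A₀ : Set G) ≤ L → L = H)) →
        p ∈ Cfsg.sigma H ∧ Cfsg.alphaCore H = ⊥ ∧ Group.IsNilpotent (Cfsg.sigmaCore H))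
    (h123 : ∀ A0 : Subgroup G, A0 ≤ A → Nat.card A0 = p → normalizer (A0 : Set G) ≤ H →
      Cfsg.sigmaCore M ⊓ H ≤ centralizer (A : Set G))
    (hd : Cfsg.sigmaCore M ⊓ centralizer (A : Set G) = ⊥)
    (hP1 : Cfsg.sigmaCore M ⊓ H ≠ ⊥ → ∀ h ∈ H, MulAut.conj h • A ≤ M → h ∈ M) :
    Cfsg.sigmaCore M ⊓ H = ⊥ := by
  by_contra hne
  have hP1' := hP1 hne
  by_cases hex : ∃ A0 : Subgroup G, A0 ≤ A ∧ Nat.card A0 = p ∧ normalizer (A0 : Set G) ≤ H
  · obtain ⟨A0, hA0, hA0c, hN⟩ := hex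
    apply hne
    rw [eq_bot_iff, ← hd]
    exact le_inf inf_le_left (h123 A0 hA0 hA0c hN)
  · have h1 : ∀ A₀ : Subgroup G, A₀ ≤ A → Nat.card A₀ = p →
          ¬ (Subgroup.normalizer (A₀ : Set G) ≤ H ∧
            ∀ L : Subgroup G, IsCoatom L → Subgroup.normalizer (A₀ : Set G) ≤ L → L = H) :=
      fun A₀ h2 h3 h4 => hex ⟨A₀, h2, h3, h4.1⟩
    obtain ⟨hpσH, -, hnil⟩ := h16 h1
    have hAp : IsPGroup p A := isElementaryAbelian_isPGroup hAe
    have hpG : p ∣ Nat.card G := by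
      have h2 : p ∣ Nat.card A := by rw [hA2]; exact dvd_pow_self p (by norm_num)
      exact h2.trans (Subgroup.card_subgroup_dvd_card A)
    obtain ⟨Q, hQle, hQc, hQn⟩ := exists_normal_sylow_sigmaCore hG hH hHallGH hnil hpσH hpG
    have hQH : Q ≤ H := by rw [← hQn]; exact le_normalizer
    have hAσ : A ≤ sigmaCore H := le_sigmaCore_of_isPGroup hpp.out hHallH hpσH hAH hAp
    have hsyl : IsSylIn p Q (sigmaCore H) := isSylIn_of_card_sylow hQc hQle
    have hQp : IsPGroup p Q := hsyl.isPGroup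
    -- `A ≤ Q`
    have hAQ : A ≤ Q := by
      obtain ⟨x, hx, hxA⟩ := hsyl.exists_conj_le hAp hAσ
      have hxn : x⁻¹ ∈ normalizer (Q : Set G) := by
        rw [hQn]; exact H.inv_mem ((Cfsg.Agent.Helper55.BGB.sigmaCore_le H) hx)
      have h2 := conj_smul_le_conj_smul (g := x⁻¹) hxA
      rwa [conj_inv_smul_smul, smul_eq_of_mem_normalizer hxn] at h2
    -- `Q ≤ M`
    have hQM : Q ≤ M := by
      by_contra hQM
      have hne' : Q ⊓ M ≠ Q := fun h => hQM (h ▸ inf_le_right)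
      have hlt := IsSylIn.normalizer_growth (p := p) hQp (inf_le_left : Q ⊓ M ≤ Q) hne'
      obtain ⟨h, hh, hhn⟩ := SetLike.exists_of_lt hlt
      have hhQ : h ∈ Q := (mem_inf.mp hh).1
      have hhN : h ∈ normalizer ((Q ⊓ M : Subgroup G) : Set G) := (mem_inf.mp hh).2
      have h2 : MulAut.conj h • A ≤ M := by
        calc MulAut.conj h • A ≤ MulAut.conj h • (Q ⊓ M) :=
              conj_smul_le_conj_smul (le_inf hAQ hAM)
          _ = Q ⊓ M := smul_eq_of_mem_normalizer hhN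
          _ ≤ M := inf_le_right
      exact hhn (mem_inf.mpr ⟨hhQ, hP1' h (hQH hhQ) h2⟩)
    -- `H ≤ M`
    have hHleM : H ≤ M := by
      intro h hh
      refine hP1' h hh ?_
      have hhn : h ∈ normalizer (Q : Set G) := by rw [hQn]; exact hh
      calc MulAut.conj h • A ≤ MulAut.conj h • Q := conj_smul_le_conj_smul hAQ
        _ = Q := smul_eq_of_mem_normalizer hhn
        _ ≤ M := hQM
    rcases hH.le_iff.mp hHleM with h | h
    · exact hM.1 h
    · exact hHM h.symm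

end Cfsg.Agent.Helper17.BG125e
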