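import Mathlib
import Cfsg.Prelude.Def_ChevStructure
import Cfsg.Prelude.Def_LieTypes
import Cfsg.Prelude.Def_ChevB2

set_option autoImplicit false

namespace Cfsg.Agent.Helper17

open Cfsg.Lie

/-- A height function on the index set: negative roots, then the fundamental coroots, then positive roots. -/
def bIdx (D : ChevalleyDatum) : D.Idx → ℕ
  | Sum.inl i => D.nroots / 2 + i.val
  | Sum.inr s => if s.val < D.nroots / 2 then s.val else s.val + D.rank

/-- `N` has depth at least `k` with respect to the height function. -/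
def Dep (D : ChevalleyDatum) {F : Type*} [Field F] (k : ℕ) (N : Matrix D.Idx D.Idx F) : Prop :=
  ∀ i j, bIdx D i < bIdx D j + k → N i j = 0

variable {D : ChevalleyDatum} {F : Type*} [Field F]

theorem bIdx_lt (i : D.Idx) : bIdx D i < D.rank + D.nroots := by
  rcases i with i | s
  · have := i.2
    simp only [bIdx]
    omega
  · have := s.2
    simp only [bIdx]
    split_ifs <;> omega

theorem bIdx_inr_lt {s u : Fin D.nroots} (h : s.val < u.val) :
    bIdx D (Sum.inr s) < bIdx D (Sum.inr u) := by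
  simp only [bIdx]
  split_ifs <;> omega

theorem dep_zero (k : ℕ) : Dep D k (0 : Matrix D.Idx D.Idx F) := fun _ _ _ => rfl

theorem dep_mono {k l : ℕ} (h : k ≤ l) {N : Matrix D.Idx D.Idx F} (hN : Dep D l N) : Dep D k N :=
  fun i j hij => hN i j (by omega)

theorem dep_add {k : ℕ} {A B : Matrix D.Idx D.Idx F} (hA : Dep D k A) (hB : Dep D k B) :
    Dep D k (A + B) := fun i j hij => by
  rw [Matrix.add_apply, hA i j hij, hB i j hij, add_zero]

theorem dep_neg {k : ℕ} {A : Matrix D.Idx D.Idx F} (hA : Dep D k A) : Dep D k (-A) :=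
  fun i j hij => by rw [Matrix.neg_apply, hA i j hij, neg_zero]

theorem dep_sub {k : ℕ} {A B : Matrix D.Idx D.Idx F} (hA : Dep D k A) (hB : Dep D k B) :
    Dep D k (A - B) := fun i j hij => by
  rw [Matrix.sub_apply, hA i j hij, hB i j hij, sub_zero]

theorem dep_mul {k l : ℕ} {A B : Matrix D.Idx D.Idx F} (hA : Dep D k A) (hB : Dep D l B) :
    Dep D (k + l) (A * B) := fun i j hij => by
  rw [Matrix.mul_apply]
  apply Finset.sum_eq_zero
  intro m _
  by_cases h1 : bIdx D i < bIdx D m + k
  · rw [hA i m h1, zero_mul]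
  · have h2 : bIdx D m < bIdx D j + l := by omega
    rw [hB m j h2, mul_zero]

theorem dep_one : Dep D 0 (1 : Matrix D.Idx D.Idx F) := fun i j hij => by
  have : i ≠ j := by
    rintro rfl
    omega
  exact Matrix.one_apply_ne this

theorem dep_pow {N : Matrix D.Idx D.Idx F} (hN : Dep D 1 N) (k : ℕ) : Dep D k (N ^ k) := by
  induction k with
  | zero => rw [pow_zero]; exact dep_one
  | succ k ih => rw [pow_succ]; exact dep_mul ih hN

theorem dep_pow' {N : Matrix D.Idx D.Idx F} {d : ℕ} (hN : Dep D d N) (k : ℕ) :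
    Dep D (d * k) (N ^ k) := by
  induction k with
  | zero => rw [pow_zero, mul_zero]; exact dep_one
  | succ k ih => rw [pow_succ, mul_add, mul_one]; exact dep_mul ih hN

theorem eq_zero_of_dep {N : Matrix D.Idx D.Idx F} {k : ℕ} (hk : D.rank + D.nroots ≤ k)
    (hN : Dep D k N) : N = 0 := by
  ext i j
  apply hN i j
  have := bIdx_lt (D := D) i
  omega

theorem dep_sum {ι : Type*} (s : Finset ι) {k : ℕ} (f : ι → Matrix D.Idx D.Idx F)
    (h : ∀ x ∈ s, Dep D k (f x)) : Dep D k (∑ x ∈ s, f x) := by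
  classical
  induction s using Finset.induction_on with
  | empty => rw [Finset.sum_empty]; exact dep_zero k
  | insert a s ha ih =>
    rw [Finset.sum_insert ha]
    exact dep_add (h a (Finset.mem_insert_self a s))
      (ih fun x hx => h x (Finset.mem_insert_of_mem hx))

/-- If `g - 1` has positive depth `d`, so has `g⁻¹ - 1`. -/
theorem dep_inv {d : ℕ} (hd : 1 ≤ d) (g : GL D.Idx F)
    (hg : Dep D d ((g : Matrix D.Idx D.Idx F) - 1)) :
    Dep D d (((g⁻¹ : GL D.Idx F) : Matrix D.Idx D.Idx F) - 1) := by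
  set N : Matrix D.Idx D.Idx F := (g : Matrix D.Idx D.Idx F) - 1 with hN
  set n := D.rank + D.nroots with hn
  have hNn : (-N) ^ (n + 1) = 0 := by
    apply eq_zero_of_dep (k := d * (n + 1))
    · nlinarith
    · exact dep_pow' (dep_neg hg) (n + 1)
  have hgN : (g : Matrix D.Idx D.Idx F) = 1 - (-N) := by rw [hN]; abel
  have hmul : (g : Matrix D.Idx D.Idx F) * ∑ i ∈ Finset.range (n + 1), (-N) ^ i = 1 := by
    rw [hgN, mul_neg_geom_sum, hNn, sub_zero]
  have hinv : ((g⁻¹ : GL D.Idx F) : Matrix D.Idx D.Idx F) =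
      ∑ i ∈ Finset.range (n + 1), (-N) ^ i := Units.inv_eq_of_mul_eq_one_right hmul
  rw [hinv, Finset.sum_range_succ', pow_zero, add_sub_cancel_right]
  apply dep_sum
  intro k _
  have := dep_pow' (dep_neg hg) (k + 1)
  exact dep_mono (by nlinarith) this

/-- If `g - 1` has positive depth then `g` has depth `0`. -/
theorem dep_zero_of_sub_one {d : ℕ} {M : Matrix D.Idx D.Idx F} (h : Dep D d (M - 1)) : Dep D 0 M := by
  have : M = (M - 1) + 1 := by abel
  rw [this]
  exact dep_add (dep_mono (Nat.zero_le d) h) dep_one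

/-- The subgroup of matrices `g` with `g - 1` of depth at least `d ≥ 1`. -/
def depSubgroup (D : ChevalleyDatum) (F : Type*) [Field F] (d : ℕ) (hd : 1 ≤ d) :
    Subgroup (GL D.Idx F) where
  carrier := {g | Dep D d ((g : Matrix D.Idx D.Idx F) - 1)}
  one_mem' := by
    change Dep D d (((1 : GL D.Idx F) : Matrix D.Idx D.Idx F) - 1)
    rw [Units.val_one, sub_self]; exact dep_zero d
  mul_mem' := by
    intro a b ha hb
    change Dep D d (((a * b : GL D.Idx F) : Matrix D.Idx D.Idx F) - 1)
    have : ((a * b : GL D.Idx F) : Matrix D.Idx D.Idx F) - 1 =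
        ((a : Matrix D.Idx D.Idx F) - 1) + ((b : Matrix D.Idx D.Idx F) - 1) +
          ((a : Matrix D.Idx D.Idx F) - 1) * ((b : Matrix D.Idx D.Idx F) - 1) := by
      rw [Units.val_mul]; noncomm_ring
    rw [this]
    exact dep_add (dep_add ha hb) (dep_mono (by omega) (dep_mul ha hb))
  inv_mem' := by
    intro a ha
    exact dep_inv hd a ha

theorem mem_depSubgroup {d : ℕ} (hd : 1 ≤ d) (g : GL D.Idx F) :
    g ∈ depSubgroup D F d hd ↔ Dep D d ((g : Matrix D.Idx D.Idx F) - 1) := Iff.rfl

end Cfsg.Agent.Helper17
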