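import Mathlib
import Cfsg.Agent.Lib.Helper17.ChevTri

set_option autoImplicit false

namespace Cfsg.Agent.Helper17

open Cfsg.Lie

/-- Table property: positive roots are the upper half of the index range, their negatives the lower half, and the
chain through `s` of a positive root consists of roots with larger index than `s`. -/
def TriOK (D : ChevalleyDatum) : Prop :=
  ∀ r < D.nroots, D.IsPosRoot r →
    (D.nroots / 2 ≤ r ∧ D.negIdx.getD r 0 < D.nroots / 2 ∧
      ∀ e ∈ (D.chain.getD r #[]).toList, ∀ q ∈ e.2.toList, e.1 < q.1)

instance (D : ChevalleyDatum) : Decidable (TriOK D) := by unfold TriOK; infer_instance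

theorem triOK_G2 : TriOK chevG2 := by decide +kernel
theorem triOK_B2 : TriOK chevB2 := by decide +kernel
theorem triOK_D4 : TriOK chevD4 := by decide +kernel
theorem triOK_F4 : TriOK chevF4 := by decide +kernel
theorem triOK_E6 : TriOK chevE6 := by decide +kernel
theorem triOK_E7 : TriOK chevE7 := by decide +kernel
theorem triOK_E8 : TriOK chevE8 := by decide +kernel

theorem triOK_of_mem (D : ChevalleyDatum)
    (hD : D ∈ [chevG2, chevB2, chevD4, chevF4, chevE6, chevE7, chevE8]) : TriOK D := by
  simp only [List.mem_cons, List.not_mem_nil, or_false] at hD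
  rcases hD with rfl | rfl | rfl | rfl | rfl | rfl | rfl
  · exact triOK_G2
  · exact triOK_B2
  · exact triOK_D4
  · exact triOK_F4
  · exact triOK_E6
  · exact triOK_E7
  · exact triOK_E8

end Cfsg.Agent.Helper17

namespace Cfsg.Agent.Helper17

open Cfsg.Lie

variable {D : ChevalleyDatum} {F : Type*} [Field F]

/-- Nonempty chain coefficient lists only occur for larger indices. -/
theorem chainCoeff_eq_nil (hD : TriOK D) (r : ℕ) (hr : r < D.nroots) (hpos : D.IsPosRoot r)
    (s u : ℕ) (hus : u ≤ s) : D.chainCoeff r s u = [] := by
  rw [List.eq_nil_iff_forall_not_mem]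
  intro km hkm
  unfold ChevalleyDatum.chainCoeff at hkm
  simp only [List.mem_flatMap, List.mem_map, List.mem_filter, decide_eq_true_eq] at hkm
  obtain ⟨e, ⟨he, hes⟩, q, ⟨hq, hqu⟩, _⟩ := hkm
  have hq' : q.1 ∈ e.2.toList := by
    have := List.mem_zipIdx hq
    rcases q with ⟨q1, q2⟩
    simp only at this ⊢
    rw [this.2.2]
    exact List.getElem_mem _
  have := (hD r hr hpos).2.2 e he q.1 hq'
  omega

/-- For a positive root `r`, the matrix `x_r(t) - 1` has depth at least one. -/
theorem dep_xMat_sub_one (hD : TriOK D) (r : Fin D.nroots) (hpos : D.IsPosRoot r.val) (t : F) :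
    Dep D 1 (D.xMat F r t - 1) := by
  obtain ⟨hhalf, hneglt, _⟩ := hD r.val r.2 hpos
  intro row col hij
  rw [Matrix.sub_apply, Matrix.one_apply, sub_eq_zero]
  unfold ChevalleyDatum.xMat
  simp only [Matrix.of_apply]
  rcases col with c | s
  · rcases row with c' | u
    · simp
    · have hne : u ≠ r := by
        rintro rfl
        simp only [bIdx] at hij
        have := c.2
        split_ifs at hij <;> omega
      simp [hne]
  · by_cases hsr : s = r
    · subst hsr
      rcases row with c' | u
      · simp
      · simp
    · simp only [hsr, if_false]
      by_cases hneg : s.val = D.negIdx.getD r.val 0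
      · simp only [hneg, if_true]
        have hslt : s.val < D.nroots / 2 := by rw [hneg]; exact hneglt
        rcases row with c' | u
        · exfalso
          simp only [bIdx] at hij
          split_ifs at hij
          omega
        · by_cases hus : u = s
          · subst hus; simp
          · have hur : u ≠ r := by
              rintro rfl
              simp only [bIdx] at hij
              split_ifs at hij <;> omega
            have : (Sum.inr u : D.Idx) ≠ Sum.inr s := fun h => hus (Sum.inr.inj h)
            simp [hus, hur, this]
      · simp only [hneg, if_false]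
        rcases row with c' | u
        · simp
        · have hus : u.val ≤ s.val := by
            by_contra hcon
            have := bIdx_inr_lt (D := D) (s := s) (u := u) (by omega)
            omega
          simp only [chainCoeff_eq_nil hD r.val r.2 hpos s.val u.val hus, List.map_nil,
            List.sum_nil, add_zero]
          by_cases hus' : u = s
          · subst hus'; simp
          · have : (Sum.inr u : D.Idx) ≠ Sum.inr s := fun h => hus' (Sum.inr.inj h)
            simp [hus', this]

/-- Elements of `U` are unitriangular with respect to the height function. -/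
theorem posUnipotent_le_depSubgroup (hD : TriOK D) :
    D.posUnipotent F ≤ depSubgroup D F 1 le_rfl := by
  unfold ChevalleyDatum.posUnipotent
  rw [Subgroup.closure_le]
  rintro g ⟨r, t, hpos, hg⟩
  change Dep D 1 ((g : Matrix D.Idx D.Idx F) - 1)
  rw [hg]
  unfold ChevalleyDatum.x
  rw [dif_pos hpos.1]
  exact dep_xMat_sub_one hD ⟨r, hpos.1⟩ hpos t

end Cfsg.Agent.Helper17
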