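import Mathlib
import Cfsg.Prelude.Def_Characters
import Cfsg.Prelude.Def_Blocks
import Cfsg.Agent.Lib.Helper79.CharBasic
import Cfsg.Agent.Lib.Helper17.PrimeSylow

/-!
# A perfect group has no irreducible character of degree `4` restricting to the non-linear character
of a Frobenius group of order `20`

The proof computes the determinant of an element of order `4` modulo the Frobenius kernel by Newton's
identities.
-/

set_option autoImplicit false

namespace Cfsg.Agent.Helper17.Det4

open Cfsg

universe u

set_option maxHeartbeats 4000000 in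
/-- Newton's identity expressing the determinant of a `4 × 4` matrix by traces of powers. -/
theorem det4_newton {R : Type*} [CommRing R] (A : Matrix (Fin 4) (Fin 4) R) :
    24 * A.det = A.trace ^ 4 - 6 * A.trace ^ 2 * (A * A).trace + 3 * (A * A).trace ^ 2 +
      8 * A.trace * (A * A * A).trace - 6 * (A * A * A * A).trace := by
  simp only [Matrix.det_succ_row_zero, Matrix.trace, Matrix.diag, Matrix.mul_apply,
    Fin.sum_univ_succ, Fin.sum_univ_zero, Matrix.submatrix_apply, Fin.succAbove,
    Matrix.det_unique]
  simp
  ring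

/-- In a perfect group every representation has determinant one. -/
theorem det_rep_eq_one {G : Type*} [Group G] (hperf : commutator G = ⊤) {n : ℕ}
    (ρ : Representation ℂ G (Fin n → ℂ)) (g : G) : LinearMap.det (ρ g) = 1 := by
  let f : G →* ℂ := (LinearMap.det : ((Fin n → ℂ) →ₗ[ℂ] (Fin n → ℂ)) →* ℂ).comp ρ
  have hker := Abelianization.commutator_subset_ker f.toHomUnits
  have hg : g ∈ f.toHomUnits.ker := hker (by rw [hperf]; exact Subgroup.mem_top g)
  have h1 : f.toHomUnits g = 1 := hg
  have h2 : ((f.toHomUnits g : ℂˣ) : ℂ) = f g := MonoidHom.coe_toHomUnits f g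
  rw [h1] at h2
  exact h2.symm

/-- The traces of the powers of the matrix of `ρ g`. -/
theorem trace_toMatrix' {G : Type*} [Group G] {n : ℕ} (ρ : Representation ℂ G (Fin n → ℂ))
    (g : G) : (LinearMap.toMatrix' (ρ g)).trace = ρ.character g := by
  rw [Representation.character, LinearMap.trace_eq_matrix_trace ℂ (Pi.basisFun ℂ (Fin n)),
    LinearMap.toMatrix_eq_toMatrix']

/-- A representation of degree `4` of a perfect group cannot have an element `g` with
`χ(g) = χ(g²) = χ(g³) = 0` unless `χ(g⁴) = -4`. -/
theorem char_pow_four {G : Type*} [Group G] (hperf : commutator G = ⊤)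
    (ρ : Representation ℂ G (Fin 4 → ℂ)) (g : G) (h1 : ρ.character g = 0)
    (h2 : ρ.character (g * g) = 0) (h3 : ρ.character (g * g * g) = 0) :
    ρ.character (g * g * g * g) = -4 := by
  have hN := det4_newton (LinearMap.toMatrix' (ρ g))
  have hd : (LinearMap.toMatrix' (ρ g)).det = 1 := by
    rw [LinearMap.det_toMatrix']; exact det_rep_eq_one hperf ρ g
  have e2 : LinearMap.toMatrix' (ρ g) * LinearMap.toMatrix' (ρ g) =
      LinearMap.toMatrix' (ρ (g * g)) := by
    rw [map_mul, LinearMap.toMatrix'_mul]
  have e3 : LinearMap.toMatrix' (ρ (g * g)) * LinearMap.toMatrix' (ρ g) =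
      LinearMap.toMatrix' (ρ (g * g * g)) := by
    rw [map_mul (ρ) (g * g) g, LinearMap.toMatrix'_mul]
  have e4 : LinearMap.toMatrix' (ρ (g * g * g)) * LinearMap.toMatrix' (ρ g) =
      LinearMap.toMatrix' (ρ (g * g * g * g)) := by
    rw [map_mul (ρ) (g * g * g) g, LinearMap.toMatrix'_mul]
  rw [e2, e3, e4, hd, trace_toMatrix', trace_toMatrix', trace_toMatrix', trace_toMatrix',
    h1, h2, h3] at hN
  linear_combination (1 / 6 : ℂ) * hN

end Cfsg.Agent.Helper17.Det4
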