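import Mathlib
import Cfsg.Agent.Lib.Helper17.PrimeTI

/-!
# A self-centralizing subgroup of odd prime order with normalizer of order `2p`

The normalizer is dihedral: the elements outside `P` are involutions, all conjugate, and a
non-identity element of `P` is a product of two conjugates of such an involution in exactly `p`
ways.
-/

set_option autoImplicit false
set_option linter.unusedSectionVars false

namespace Cfsg.Agent.Helper17.Dihedral

open Cfsg.Agent.Helper17 Cfsg.Agent.Helper17.PrimeTI

section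

variable {G : Type*} [Group G] [Finite G] (P : Subgroup G) (p : ℕ) [hp : Fact p.Prime]
  (hP : Nat.card P = p) (hp2 : p ≠ 2)
  (hC : Subgroup.centralizer (P : Set G) = P)
  (hN : Nat.card (Subgroup.normalizer (P : Set G)) = p * 2)

include hP hN in
theorem index_two : (P.subgroupOf (Subgroup.normalizer (P : Set G))).index = 2 := by
  have hle : P ≤ Subgroup.normalizer (P : Set G) := Subgroup.le_normalizer
  have h1 := (P.subgroupOf (Subgroup.normalizer (P : Set G))).card_mul_index
  have h2 : Nat.card (P.subgroupOf (Subgroup.normalizer (P : Set G))) = Nat.card P :=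
    Nat.card_congr (Subgroup.subgroupOfEquivOfLe hle).toEquiv
  rw [h2, hP, hN] at h1
  exact Nat.eq_of_mul_eq_mul_left hp.out.pos h1

include hP hN in
theorem mul_mem_iff {a b : G} (ha : a ∈ Subgroup.normalizer (P : Set G))
    (hb : b ∈ Subgroup.normalizer (P : Set G)) : a * b ∈ P ↔ (a ∈ P ↔ b ∈ P) := by
  have h := Subgroup.mul_mem_iff_of_index_two (index_two P p hP hN)
    (a := (⟨a, ha⟩ : Subgroup.normalizer (P : Set G))) (b := ⟨b, hb⟩)
  simpa [Subgroup.mem_subgroupOf] using h

include hP in
theorem pow_p_eq_one {k : G} (hk : k ∈ P) : k ^ p = 1 := by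
  have : Finite P := Nat.finite_of_card_ne_zero (by rw [hP]; exact hp.out.ne_zero)
  have h := pow_card_eq_one' (G := P) (x := ⟨k, hk⟩)
  rw [hP] at h
  exact congrArg Subtype.val h

include hP hp2 in
/-- An involution does not lie in `P`. -/
theorem not_mem_of_mul_self {y : G} (hy : y * y = 1) (hy1 : y ≠ 1) : y ∉ P := by
  intro hyP
  obtain ⟨_, hord⟩ := zpowers_eq_of_card_prime P hP y hyP hy1
  have h2 : orderOf y ∣ 2 := orderOf_dvd_of_pow_eq_one (by rw [pow_two, hy])
  rw [hord] at h2
  exact hp2 ((Nat.prime_dvd_prime_iff_eq hp.out Nat.prime_two).1 h2)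

include hP hC hN in
/-- The elements of the normalizer outside `P` are involutions. -/
theorem mul_self_of_not_mem {y : G} (hy : y ∈ Subgroup.normalizer (P : Set G)) (hyP : y ∉ P) :
    y * y = 1 := by
  have hyy : y * y ∈ P := (mul_mem_iff P p hP hN hy hy).2 Iff.rfl
  by_contra hne
  obtain ⟨hz, _⟩ := zpowers_eq_of_card_prime P hP (y * y) hyy hne
  apply hyP
  rw [← hC, Subgroup.mem_centralizer_iff]
  intro k hk
  have hk' : k ∈ Subgroup.zpowers (y * y) := by rw [hz]; exact hk
  obtain ⟨n, rfl⟩ := Subgroup.mem_zpowers_iff.1 hk'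
  have hcomm : Commute y (y * y) := (Commute.refl y).mul_right (Commute.refl y)
  exact ((hcomm.zpow_right n).eq).symm

include hP hC hN in
/-- An involution of the normalizer outside `P` inverts `P`. -/
theorem inverts {u : G} (hu : u ∈ Subgroup.normalizer (P : Set G)) (huP : u ∉ P) {k : G}
    (hk : k ∈ P) : u * k * u * k = 1 := by
  have hkN : k ∈ Subgroup.normalizer (P : Set G) := Subgroup.le_normalizer hk
  have h1 : u * k ∈ Subgroup.normalizer (P : Set G) := Subgroup.mul_mem _ hu hkN
  have h2 : u * k ∉ P := by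
    intro h
    apply huP
    have := P.mul_mem h (P.inv_mem hk)
    simpa using this
  have := mul_self_of_not_mem P p hP hC hN h1 h2
  rw [← this]; group

include hP hp2 hC hN in
/-- The elements of the normalizer outside `P` are all conjugate. -/
theorem isConj_of_not_mem {u y : G} (hu : u ∈ Subgroup.normalizer (P : Set G)) (huP : u ∉ P)
    (hy : y ∈ Subgroup.normalizer (P : Set G)) (hyP : y ∉ P) : IsConj u y := by
  have huu := mul_self_of_not_mem P p hP hC hN hu huP
  have hk : u * y ∈ P := (mul_mem_iff P p hP hN hu hy).2 (iff_of_false huP hyP)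
  set k := u * y with hkdef
  have hyk : y = u * k := by
    rw [hkdef, ← mul_assoc, huu, one_mul]
  have hodd : Odd p := hp.out.odd_of_ne_two hp2
  obtain ⟨m, hm⟩ := hodd
  set c := k ^ (m + 1) with hcdef
  have hcP : c ∈ P := P.pow_mem hk _
  have hcc : c * c = k := by
    rw [hcdef, ← pow_add]
    have : m + 1 + (m + 1) = p + 1 := by omega
    rw [this, pow_succ, pow_p_eq_one P p hP hk, one_mul]
  have hinv := inverts P p hP hC hN hu huP hcP
  -- `c⁻¹ * u * c = u * c * c`
  rw [isConj_iff]
  refine ⟨c⁻¹, ?_⟩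
  rw [inv_inv, hyk, ← hcc]
  have h1 : c⁻¹ = u * c * u := by
    rw [eq_comm, ← mul_eq_one_iff_eq_inv]
    exact hinv
  rw [h1]
  calc u * c * u * u * c = u * c * (u * u) * c := by group
    _ = u * (c * c) := by rw [huu]; group

include hP hp2 in
/-- If `x0 ∈ P ∖ {1}` is a product of two involutions, the first one normalizes `P` and lies
outside `P`. -/
theorem mem_of_pair {a b x0 : G} (ha : a * a = 1) (hb : b * b = 1) (hab : a * b = x0)
    (hx0 : x0 ∈ P) (hx01 : x0 ≠ 1) (ha1 : a ≠ 1) :
    a ∈ Subgroup.normalizer (P : Set G) ∧ a ∉ P := by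
  refine ⟨?_, not_mem_of_mul_self P p hP hp2 ha ha1⟩
  by_contra hnot
  have hinv_a : a⁻¹ = a := by rw [inv_eq_iff_mul_eq_one]; exact ha
  have hinv_b : b⁻¹ = b := by rw [inv_eq_iff_mul_eq_one]; exact hb
  have hconj : a * x0 * a⁻¹ = x0⁻¹ := by
    rw [← hab, hinv_a, mul_inv_rev, hinv_a, hinv_b]
    calc a * (a * b) * a = (a * a) * b * a := by group
      _ = b * a := by rw [ha, one_mul]
  exact hx01 (prime_TI P hP a hnot x0 hx0 (by rw [hconj]; exact P.inv_mem hx0))

include hP hp2 hC hN in
/-- A non-identity element of `P` is a product of two conjugates of `u` in exactly `p` ways. -/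
theorem card_pairs {u x0 : G} (hu : u ∈ Subgroup.normalizer (P : Set G)) (huP : u ∉ P)
    (hx0 : x0 ∈ P) (hx01 : x0 ≠ 1) :
    Nat.card {q : G × G // IsConj u q.1 ∧ IsConj u q.2 ∧ q.1 * q.2 = x0} = p := by
  have huu := mul_self_of_not_mem P p hP hC hN hu huP
  have hu1 : u ≠ 1 := fun h => huP (h ▸ P.one_mem)
  have hsq : ∀ y : G, IsConj u y → y * y = 1 ∧ y ≠ 1 := by
    intro y hy
    obtain ⟨g, rfl⟩ := isConj_iff.1 hy
    refine ⟨?_, ?_⟩
    · calc g * u * g⁻¹ * (g * u * g⁻¹) = g * (u * u) * g⁻¹ := by group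
        _ = 1 := by rw [huu]; group
    · intro h
      apply hu1
      have : g * u * g⁻¹ = g * 1 * g⁻¹ := by rw [h]; group
      exact mul_left_cancel (mul_right_cancel this)
  rw [← hP]
  apply Nat.card_congr
  refine
    { toFun := fun q => ⟨u * q.1.1, ?_⟩
      invFun := fun k => ⟨(u * k.1, (u * k.1)⁻¹ * x0), ?_, ?_, ?_⟩
      left_inv := ?_
      right_inv := ?_ }
  · obtain ⟨h1, h2, h3⟩ := q.2
    obtain ⟨ha, ha1⟩ := hsq _ h1
    obtain ⟨hb, _⟩ := hsq _ h2
    obtain ⟨hqN, hqP⟩ := mem_of_pair P p hP hp2 ha hb h3 hx0 hx01 ha1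
    exact (mul_mem_iff P p hP hN hu hqN).2 (iff_of_false huP hqP)
  · have hkN : u * k.1 ∈ Subgroup.normalizer (P : Set G) :=
      Subgroup.mul_mem _ hu (Subgroup.le_normalizer k.2)
    have hkP : u * k.1 ∉ P := by
      intro h
      apply huP
      have := P.mul_mem h (P.inv_mem k.2)
      simpa using this
    exact isConj_of_not_mem P p hP hp2 hC hN hu huP hkN hkP
  · have hkN : u * k.1 ∈ Subgroup.normalizer (P : Set G) :=
      Subgroup.mul_mem _ hu (Subgroup.le_normalizer k.2)
    have hkP : u * k.1 ∉ P := by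
      intro h
      apply huP
      have := P.mul_mem h (P.inv_mem k.2)
      simpa using this
    have h2N : (u * k.1)⁻¹ * x0 ∈ Subgroup.normalizer (P : Set G) :=
      Subgroup.mul_mem _ (Subgroup.inv_mem _ hkN) (Subgroup.le_normalizer hx0)
    have h2P : (u * k.1)⁻¹ * x0 ∉ P := by
      intro h
      apply hkP
      have := P.mul_mem h (P.inv_mem hx0)
      have h' : (u * k.1)⁻¹ ∈ P := by simpa using this
      simpa using P.inv_mem h'
    exact isConj_of_not_mem P p hP hp2 hC hN hu huP h2N h2P
  · show u * k.1 * ((u * k.1)⁻¹ * x0) = x0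
    group
  · intro q
    obtain ⟨h1, h2, h3⟩ := q.2
    apply Subtype.ext
    apply Prod.ext
    · show u * (u * q.1.1) = q.1.1
      rw [← mul_assoc, huu, one_mul]
    · show (u * (u * q.1.1))⁻¹ * x0 = q.1.2
      rw [← mul_assoc, huu, one_mul]
      have h : q.1.1⁻¹ * (q.1.1 * q.1.2) = q.1.2 := by group
      rw [h3] at h
      exact h
  · intro k
    apply Subtype.ext
    show u * (u * k.1) = k.1
    rw [← mul_assoc, huu, one_mul]

end

end Cfsg.Agent.Helper17.Dihedral
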