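import Mathlib
import Cfsg.Agent.Lib.Helper17.PrimeTID
import Cfsg.Agent.Lib.Helper17.PrimeTIApp
import Cfsg.Agent.Lib.Helper17.DihedralNorm
import Cfsg.Agent.S0840

/-!
# Dihedral normalizer: the structure of the characters not vanishing on `P ∖ {1}`
-/

set_option autoImplicit false
set_option linter.style.haveILetI false
set_option linter.unusedSectionVars false

namespace Cfsg.Agent.Helper17.Dihedral

open Cfsg Cfsg.Agent.Helper17.PrimeTI
open scoped ComplexConjugate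

universe u

/-- The value of a character at an involution is an integer. -/
theorem char_involution_int {G : Type u} [Group G] [Fintype G] {ψ : G → ℂ}
    (hψ : IsCharacter G ψ) (u : G) (huu : u * u = 1) : ∃ m : ℤ, ψ u = (m : ℂ) := by
  classical
  have hone : ∃ n : ℕ, ψ 1 = (n : ℂ) := by
    obtain ⟨n, ρ, rfl⟩ := hψ
    exact ⟨n, by rw [Representation.char_one]; simp⟩
  by_cases hu1 : u = 1
  · obtain ⟨n, hn⟩ := hone
    exact ⟨n, by rw [hu1, hn]; simp⟩
  · have hord : orderOf u = 2 := by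
      apply orderOf_eq_prime
      · rw [pow_two, huu]
      · exact hu1
    have hK : Nat.card (Subgroup.zpowers u) = 2 := by rw [Nat.card_zpowers, hord]
    obtain ⟨m, hm⟩ := sum_over_subgroup_int (Subgroup.zpowers u) hψ
    obtain ⟨n, hn⟩ := hone
    have hne : (1 : Subgroup.zpowers u) ≠ ⟨u, Subgroup.mem_zpowers u⟩ := by
      intro h
      exact hu1 (congrArg Subtype.val h).symm
    have huniv : (Finset.univ : Finset (Subgroup.zpowers u)) =
        {1, ⟨u, Subgroup.mem_zpowers u⟩} := by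
      symm
      apply Finset.eq_of_subset_of_card_le (Finset.subset_univ _)
      rw [Finset.card_univ, ← Nat.card_eq_fintype_card, hK, Finset.card_pair hne]
    rw [huniv, Finset.sum_pair hne, hK] at hm
    refine ⟨2 * m - n, ?_⟩
    have h1 : ψ ((1 : Subgroup.zpowers u) : G) = (n : ℂ) := by
      rw [← hn]; rfl
    rw [h1] at hm
    push_cast
    have : ψ u = ((2 : ℕ) : ℂ) * (m : ℂ) - (n : ℂ) := by
      rw [← hm]; ring
    rw [this]; push_cast; ring

/-- **Dihedral normalizer, structure.** The irreducible characters not vanishing on `P ∖ {1}` are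
the trivial one, one character `X` with constant value `δ = ±1` there, and `t` exceptional
characters of degree `X 1 + δ` whose sum there is `-δ`. -/
theorem dihedral_structure {G : Type u} [Group G] [Fintype G] (P : Subgroup G) (p t : ℕ)
    [hp : Fact p.Prime] (hP : Nat.card P = p) (hC : Subgroup.centralizer (P : Set G) = P)
    (hN : Nat.card (Subgroup.normalizer (P : Set G)) = p * 2) (hte : t * 2 + 1 = p)
    (ht : 2 ≤ t) :
    ∃ (X : IrrCharacter G) (δ : ℤ) (d : ℕ) (E : Finset (IrrCharacter G)),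
      (δ = 1 ∨ δ = -1) ∧ X ∉ E ∧
      (⟨fun _ => 1, Cfsg.Agent.Helper81.isIrrCharacter_one⟩ : IrrCharacter G) ∉ E ∧
      X ≠ (⟨fun _ => 1, Cfsg.Agent.Helper81.isIrrCharacter_one⟩ : IrrCharacter G) ∧
      E.Nonempty ∧
      (∀ ψ ∈ E, charDegree (ψ : G → ℂ) = d) ∧
      ((d : ℤ) = (charDegree (X : G → ℂ) : ℤ) + δ) ∧
      ((p : ℤ) ∣ (charDegree (X : G → ℂ) : ℤ) - δ) ∧
      (∀ k ∈ P, k ≠ 1 → (X : G → ℂ) k = (δ : ℂ)) ∧
      (∀ ψ : IrrCharacter G, ψ ∉ E →
        ψ ≠ (⟨fun _ => 1, Cfsg.Agent.Helper81.isIrrCharacter_one⟩ : IrrCharacter G) → ψ ≠ X →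
        ∀ k ∈ P, k ≠ 1 → (ψ : G → ℂ) k = 0) ∧
      (∀ k ∈ P, k ≠ 1 → ∑ ψ ∈ E, (ψ : G → ℂ) k = -(δ : ℂ)) ∧
      (∀ ψ ∈ E, ∀ ψ' ∈ E, ∀ y : G, (∀ x : G, x * y * x⁻¹ ∉ P) →
        (ψ : G → ℂ) y = (ψ' : G → ℂ) y) := by
  classical
  obtain ⟨w, d, E, a, hEcard, hEdeg, hEne, haE, haK, hcong, hnorm, hdegeq, hwsum, hagree⟩ :=
    prime_degree_equation_ext P p 2 t hP hC hN le_rfl hte ht
  set ψ1 : IrrCharacter G := ⟨fun _ => 1, Cfsg.Agent.Helper81.isIrrCharacter_one⟩ with hψ1
  have hψ1E : ψ1 ∉ E := fun h => hEne ψ1 h rfl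
  obtain ⟨k, hk, hk1⟩ := exists_ne_one_of_prime_card P hP
  have ha1 : a ψ1 = 1 := by
    have h := haK ψ1 hψ1E k hk hk1
    have h' : ((1 : ℤ) : ℂ) = ((a ψ1 : ℤ) : ℂ) := by
      rw [← h]; simp [hψ1]
    exact_mod_cast h'.symm
  have hdeg1 : charDegree (ψ1 : G → ℂ) = 1 := charDegree_one
  have hEne' : E.Nonempty := Finset.card_pos.1 (by omega : 0 < E.card)
  have hdpos : 0 < d := by
    obtain ⟨ψ, hψ⟩ := hEne'
    rw [← hEdeg ψ hψ]
    exact (Cfsg.Agent.Helper79.irr_one_eq ψ).2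
  have hsplit1 := Finset.add_sum_erase Finset.univ (fun ψ => (a ψ) ^ 2) (Finset.mem_univ ψ1)
  have hsplit2 := Finset.add_sum_erase Finset.univ
    (fun ψ => a ψ * (charDegree (ψ : G → ℂ) : ℤ)) (Finset.mem_univ ψ1)
  simp only [ha1, hdeg1] at hsplit1 hsplit2
  have hrest : 0 ≤ ∑ ψ ∈ Finset.univ.erase ψ1, (a ψ) ^ 2 :=
    Finset.sum_nonneg (fun i _ => sq_nonneg _)
  rw [← hsplit1] at hnorm
  rw [← hsplit2] at hdegeq
  have hp2 : (p : ℤ) = 2 * t + 1 := by rw [← hte]; push_cast; ring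
  have ht' : (2 : ℤ) ≤ t := by exact_mod_cast ht
  have hd1 : (1 : ℤ) ≤ d := by exact_mod_cast hdpos
  have hle1 : ∑ ψ ∈ Finset.univ.erase ψ1, (a ψ) ^ 2 ≤ 1 := by
    by_contra hgt
    push Not at hgt
    have h2 : (2 : ℤ) ≤ ∑ ψ ∈ Finset.univ.erase ψ1, (a ψ) ^ 2 := hgt
    nlinarith [sq_nonneg w]
  have hcases : ∑ ψ ∈ Finset.univ.erase ψ1, (a ψ) ^ 2 = 0 ∨
      ∑ ψ ∈ Finset.univ.erase ψ1, (a ψ) ^ 2 = 1 := by omega
  rcases hcases with h0 | h1
  · -- only the trivial character: impossible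
    exfalso
    have hz := all_zero _ a h0
    have hs0 : ∑ ψ ∈ Finset.univ.erase ψ1, a ψ * (charDegree (ψ : G → ℂ) : ℤ) = 0 :=
      Finset.sum_eq_zero (fun ψ hψ => by rw [hz ψ hψ, zero_mul])
    rw [hs0] at hdegeq
    rw [h0] at hnorm
    push_cast at hdegeq
    have hdw : (d : ℤ) * w = -1 := by linarith
    have hwneg : w ≤ -1 := by
      by_contra h
      push Not at h
      have : 0 ≤ w := by omega
      nlinarith
    have hwge : -1 ≤ w := by
      by_contra h
      push Not at h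
      have : w ≤ -2 := by omega
      nlinarith
    have hw1 : w = -1 := by omega
    rw [hw1] at hnorm
    nlinarith
  · obtain ⟨X, hX, haX, hrest0⟩ := peel (Finset.univ.erase ψ1) a 0 (by norm_num)
      (by rw [h1]; norm_num)
    have hXne : X ≠ ψ1 := (Finset.mem_erase.1 hX).1
    have hz := all_zero _ a (by exact_mod_cast hrest0)
    have hsplit3 := Finset.add_sum_erase (Finset.univ.erase ψ1)
      (fun ψ => a ψ * (charDegree (ψ : G → ℂ) : ℤ)) hX
    have hs0 : ∑ ψ ∈ (Finset.univ.erase ψ1).erase X, a ψ * (charDegree (ψ : G → ℂ) : ℤ) = 0 :=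
      Finset.sum_eq_zero (fun ψ hψ => by rw [hz ψ hψ, zero_mul])
    rw [hs0, add_zero] at hsplit3
    rw [← hsplit3] at hdegeq
    push_cast at hdegeq
    rw [h1] at hnorm
    have hw1 : w ^ 2 = 1 := by nlinarith
    have hw : w = 1 ∨ w = -1 := by
      have h : (w - 1) * (w + 1) = 0 := by ring_nf; linarith
      rcases mul_eq_zero.1 h with h | h
      · left; linarith
      · right; linarith
    have hXE : X ∉ E := by
      intro h
      have := haE X h
      rcases haX with h' | h' <;> rw [h'] at this <;> norm_num at this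
    have hxpos : 0 < charDegree (X : G → ℂ) := (Cfsg.Agent.Helper79.irr_one_eq X).2
    have hx1 : (1 : ℤ) ≤ (charDegree (X : G → ℂ) : ℤ) := by exact_mod_cast hxpos
    have hcX := hcong X hXE
    -- `w = -a X` and `d = x + a X`
    have hwd : w = -(a X) ∧ (d : ℤ) = (charDegree (X : G → ℂ) : ℤ) + a X := by
      rcases haX with haX | haX <;> rcases hw with hw | hw <;> rw [haX, hw] at hdegeq <;>
        rw [haX, hw] <;> constructor <;> first | rfl | linarith
    refine ⟨X, a X, d, E, haX, hXE, hψ1E, hXne, hEne', hEdeg, hwd.2, hcX,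
      fun k hk hk1 => haK X hXE k hk hk1, ?_, ?_, hagree⟩
    · intro ψ hψE hψ1' hψX k hk hk1
      rw [haK ψ hψE k hk hk1]
      have : a ψ = 0 := hz ψ (Finset.mem_erase.2 ⟨hψX, Finset.mem_erase.2 ⟨hψ1', Finset.mem_univ _⟩⟩)
      rw [this]; simp
    · intro k hk hk1
      rw [hwsum k hk hk1, hwd.1]
      push_cast; ring

end Cfsg.Agent.Helper17.Dihedral
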