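import Mathlib
import Cfsg.Agent.Lib.Helper17.DihedralBSW

/-!
# Dihedral normalizer: the Brauer–Suzuki–Wall order formula
-/

set_option autoImplicit false
set_option linter.style.haveILetI false
set_option linter.unusedSectionVars false

namespace Cfsg.Agent.Helper17.Dihedral

open Cfsg Cfsg.Agent.Helper81 Cfsg.Agent.Helper17.PrimeTI
open scoped ComplexConjugate

universe u

/-- Splitting a sum over the irreducible characters into the trivial one, `X`, and `E`. -/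
theorem sum_three_parts {G : Type u} [Group G] [Fintype G] (E : Finset (IrrCharacter G))
    (ψ1 X : IrrCharacter G) (h1E : ψ1 ∉ E) (hXE : X ∉ E) (hne : X ≠ ψ1)
    (F : IrrCharacter G → ℂ) (hF : ∀ ψ, ψ ∉ E → ψ ≠ ψ1 → ψ ≠ X → F ψ = 0) :
    ∑ ψ, F ψ = F ψ1 + F X + ∑ ψ ∈ E, F ψ := by
  classical
  rw [← Finset.sum_add_sum_compl E F, add_comm]
  congr 1
  apply Finset.sum_eq_add ψ1 X hne.symm
  · intro c hc hcc
    exact hF c (Finset.mem_compl.1 hc) hcc.1 hcc.2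
  · intro h
    exact absurd (Finset.mem_compl.2 h1E) h
  · intro h
    exact absurd (Finset.mem_compl.2 hXE) h

/-- **Brauer–Suzuki–Wall order formula.** Let `P` be a self-centralizing subgroup of prime order
`p ≥ 5` of `G` with `|N(P)| = 2p`, and `u` an element of `N(P)` outside `P` (an involution). Then
there is a non-trivial irreducible character `X` of degree `x ≡ δ (mod p)`, `δ = ±1`, with
`d = x + δ` dividing `|G|`, such that `|G| (x - X(u))² = p x d |C(u)|²`. -/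
theorem dihedral_bsw {G : Type u} [Group G] [Fintype G] (P : Subgroup G) (p t : ℕ)
    [hp : Fact p.Prime] (hP : Nat.card P = p) (hC : Subgroup.centralizer (P : Set G) = P)
    (hN : Nat.card (Subgroup.normalizer (P : Set G)) = p * 2) (hte : t * 2 + 1 = p)
    (ht : 2 ≤ t) (u : G) (hu : u ∈ Subgroup.normalizer (P : Set G)) (huP : u ∉ P) :
    ∃ (X : IrrCharacter G) (δ r : ℤ) (d : ℕ), (δ = 1 ∨ δ = -1) ∧
      X ≠ (⟨fun _ => 1, Cfsg.Agent.Helper81.isIrrCharacter_one⟩ : IrrCharacter G) ∧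
      (X : G → ℂ) u = (r : ℂ) ∧
      ((p : ℤ) ∣ (charDegree (X : G → ℂ) : ℤ) - δ) ∧
      ((d : ℤ) = (charDegree (X : G → ℂ) : ℤ) + δ) ∧ d ∣ Nat.card G ∧
      (Nat.card G : ℤ) * ((charDegree (X : G → ℂ) : ℤ) - r) ^ 2 =
        p * charDegree (X : G → ℂ) * d *
          (Nat.card (Subgroup.centralizer ({u} : Set G)) : ℤ) ^ 2 := by
  classical
  have hp2 : p ≠ 2 := by omega
  obtain ⟨X, δ, d, E, hδ, hXE, h1E, hXne, hEne, hEdeg, hd, hcong, hXP, hvan, hEsum, hagree⟩ :=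
    dihedral_structure P p t hP hC hN hte ht
  set ψ1 : IrrCharacter G := ⟨fun _ => 1, Cfsg.Agent.Helper81.isIrrCharacter_one⟩ with hψ1
  have huu : u * u = 1 := mul_self_of_not_mem P p hP hC hN hu huP
  have hu1 : u ≠ 1 := fun h => huP (h ▸ P.one_mem)
  obtain ⟨x0, hx0, hx01⟩ := exists_ne_one_of_prime_card P hP
  -- conjugates of `u` are involutions outside `P`
  have hconj_sq : ∀ g : G, (g * u * g⁻¹) * (g * u * g⁻¹) = 1 ∧ g * u * g⁻¹ ≠ 1 := by
    intro g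
    refine ⟨?_, ?_⟩
    · calc g * u * g⁻¹ * (g * u * g⁻¹) = g * (u * u) * g⁻¹ := by group
        _ = 1 := by rw [huu]; group
    · intro h
      apply hu1
      have : g * u * g⁻¹ = g * 1 * g⁻¹ := by rw [h]; group
      exact mul_left_cancel (mul_right_cancel this)
  have hnotP : ∀ g : G, g * u * g⁻¹ ∉ P := fun g =>
    not_mem_of_mul_self P p hP hp2 (hconj_sq g).1 (hconj_sq g).2
  have hx0conj : ¬ IsConj u x0 := by
    intro h
    obtain ⟨g, hg⟩ := isConj_iff.1 h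
    exact hnotP g (hg ▸ hx0)
  -- integrality at `u`
  obtain ⟨r, hr⟩ := char_involution_int (IsIrrCharacter.isCharacter X.2) u huu
  obtain ⟨ψ0, hψ0⟩ := hEne
  obtain ⟨l, hl⟩ := char_involution_int (IsIrrCharacter.isCharacter ψ0.2) u huu
  have hEu : ∀ ψ ∈ E, (ψ : G → ℂ) u = (l : ℂ) := by
    intro ψ hψ
    rw [← hl]
    exact hagree ψ hψ ψ0 hψ0 u hnotP
  have hE1 : ∀ ψ ∈ E, (ψ : G → ℂ) 1 = (d : ℂ) := by
    intro ψ hψ
    rw [(Cfsg.Agent.Helper79.irr_one_eq ψ).1, hEdeg ψ hψ]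
  have hX1 : (X : G → ℂ) 1 = (charDegree (X : G → ℂ) : ℂ) := (Cfsg.Agent.Helper79.irr_one_eq X).1
  have hxpos : 0 < charDegree (X : G → ℂ) := (Cfsg.Agent.Helper79.irr_one_eq X).2
  have hdpos : 0 < d := by
    rw [← hEdeg ψ0 hψ0]
    exact (Cfsg.Agent.Helper79.irr_one_eq ψ0).2
  have hddvd : d ∣ Nat.card G := by
    rw [← hEdeg ψ0 hψ0]
    exact Cfsg.Agent.Helper79.irr_degree_dvd_card ψ0
  have hδc : conj ((δ : ℤ) : ℂ) = ((δ : ℤ) : ℂ) := map_intCast (starRingEnd ℂ) δ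
  -- column orthogonality
  have horth := Cfsg.Agent.Helper79.col_orth_of_not_isConj u x0 hx0conj
  rw [sum_three_parts E ψ1 X h1E hXE hXne
    (fun ψ : IrrCharacter G => (ψ : G → ℂ) u * conj ((ψ : G → ℂ) x0))
    (fun ψ hψE hψ1' hψX => by
      show (ψ : G → ℂ) u * conj ((ψ : G → ℂ) x0) = 0
      rw [hvan ψ hψE hψ1' hψX x0 hx0 hx01, map_zero, mul_zero])] at horth
  have hsumE1 : ∑ ψ ∈ E, (ψ : G → ℂ) u * conj ((ψ : G → ℂ) x0) = (l : ℂ) * (-(δ : ℂ)) := by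
    rw [Finset.sum_congr rfl (fun ψ hψ => by rw [hEu ψ hψ]), ← Finset.mul_sum, ← map_sum,
      hEsum x0 hx0 hx01, map_neg, hδc]
  rw [hsumE1] at horth
  have h1x0 : (ψ1 : G → ℂ) u * conj ((ψ1 : G → ℂ) x0) = 1 := by
    simp [hψ1]
  have hXx0 : (X : G → ℂ) u * conj ((X : G → ℂ) x0) = (r : ℂ) * (δ : ℂ) := by
    rw [hr, hXP x0 hx0 hx01, hδc]
  rw [h1x0, hXx0] at horth
  have hδ2 : ((δ : ℤ) : ℂ) * ((δ : ℤ) : ℂ) = 1 := by
    rcases hδ with h | h <;> rw [h] <;> norm_num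
  have hlr : (l : ℂ) = (r : ℂ) + (δ : ℂ) := by
    linear_combination (-(δ : ℂ)) * horth + ((r : ℂ) - (l : ℂ)) * hδ2
  -- the class multiplication formula
  have hclass := Cfsg.Agent.S0840.result u u x0
  rw [card_pairs P p hP hp2 hC hN hu huP hx0 hx01, finsum_eq_sum_of_fintype] at hclass
  rw [sum_three_parts E ψ1 X h1E hXE hXne
    (fun ψ : IrrCharacter G =>
      (ψ : G → ℂ) u * (ψ : G → ℂ) u * conj ((ψ : G → ℂ) x0) / (ψ : G → ℂ) 1)
    (fun ψ hψE hψ1' hψX => by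
      show (ψ : G → ℂ) u * (ψ : G → ℂ) u * conj ((ψ : G → ℂ) x0) / (ψ : G → ℂ) 1 = 0
      rw [hvan ψ hψE hψ1' hψX x0 hx0 hx01, map_zero, mul_zero, zero_div])] at hclass
  have hsumE2 : ∑ ψ ∈ E, (ψ : G → ℂ) u * (ψ : G → ℂ) u * conj ((ψ : G → ℂ) x0) / (ψ : G → ℂ) 1 =
      (l : ℂ) * (l : ℂ) * (-(δ : ℂ)) / (d : ℂ) := by
    rw [Finset.sum_congr rfl (fun ψ hψ => by rw [hEu ψ hψ, hE1 ψ hψ]), ← Finset.sum_div,
      ← Finset.mul_sum, ← map_sum, hEsum x0 hx0 hx01, map_neg, hδc]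
  have h1cl : (ψ1 : G → ℂ) u * (ψ1 : G → ℂ) u * conj ((ψ1 : G → ℂ) x0) / (ψ1 : G → ℂ) 1 = 1 := by
    simp [hψ1]
  have hXcl : (X : G → ℂ) u * (X : G → ℂ) u * conj ((X : G → ℂ) x0) / (X : G → ℂ) 1 =
      (r : ℂ) * (r : ℂ) * (δ : ℂ) / (charDegree (X : G → ℂ) : ℂ) := by
    rw [hr, hXP x0 hx0 hx01, hδc, hX1]
  rw [hsumE2, h1cl, hXcl] at hclass
  -- sizes
  have hcc := Cfsg.Agent.S0840.card_class_mul_card_centralizer u
  have hccC : (Nat.card {y : G // IsConj u y} : ℂ) *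
      (Nat.card (Subgroup.centralizer ({u} : Set G)) : ℂ) = (Nat.card G : ℂ) := by
    exact_mod_cast hcc
  have hg0 : (Nat.card G : ℂ) ≠ 0 := by exact_mod_cast Nat.card_pos.ne'
  have hc0 : (Nat.card (Subgroup.centralizer ({u} : Set G)) : ℂ) ≠ 0 := by
    exact_mod_cast Nat.card_pos.ne'
  have hx0' : (charDegree (X : G → ℂ) : ℂ) ≠ 0 := by exact_mod_cast hxpos.ne'
  have hd0 : (d : ℂ) ≠ 0 := by exact_mod_cast hdpos.ne'
  have hcl : (Nat.card {y : G // IsConj u y} : ℂ) =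
      (Nat.card G : ℂ) / (Nat.card (Subgroup.centralizer ({u} : Set G)) : ℂ) := by
    rw [eq_div_iff hc0]; exact hccC
  rw [hcl] at hclass
  have hdC : (d : ℂ) = (charDegree (X : G → ℂ) : ℂ) + (δ : ℂ) := by
    have : ((d : ℤ) : ℂ) = (((charDegree (X : G → ℂ) : ℤ) + δ : ℤ) : ℂ) := by rw [hd]
    push_cast at this
    exact this
  have hmain : (Nat.card G : ℂ) * ((charDegree (X : G → ℂ) : ℂ) - (r : ℂ)) ^ 2 =
      (p : ℂ) * (charDegree (X : G → ℂ) : ℂ) * (d : ℂ) *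
        (Nat.card (Subgroup.centralizer ({u} : Set G)) : ℂ) ^ 2 := by
    rw [hclass, hlr]
    field_simp
    rw [hdC]
    rcases hδ with h | h <;> rw [h] <;> push_cast <;> ring
  refine ⟨X, δ, r, d, hδ, hXne, hr, hcong, hd, hddvd, ?_⟩
  have h4 : (((Nat.card G : ℤ) * ((charDegree (X : G → ℂ) : ℤ) - r) ^ 2 : ℤ) : ℂ) =
      ((p * charDegree (X : G → ℂ) * d *
        (Nat.card (Subgroup.centralizer ({u} : Set G)) : ℤ) ^ 2 : ℤ) : ℂ) := by
    push_cast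
    exact hmain
  exact_mod_cast h4

end Cfsg.Agent.Helper17.Dihedral
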