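import Mathlib
import Cfsg.Agent.Lib.Helper17.FqDefs

set_option autoImplicit false

namespace Cfsg.Agent.Helper17.Fq

/-- The field with four elements, as `𝔽₂[ω] / (ω² + ω + 1)`. -/
abbrev F4 : Type := QuadraticAlgebra (ZMod 2) 1 1

instance factF4 : Fact (∀ r : ZMod 2, r ^ 2 ≠ 1 + 1 * r) := ⟨by decide⟩

instance : Fintype F4 := Fintype.ofEquiv (ZMod 2 × ZMod 2) (QuadraticAlgebra.equivProd 1 1).symm

/-- The primitive element of `F4`. -/
def w4 : F4 := ⟨0, 1⟩

/-- The field with sixteen elements, as `F4[Y] / (Y² + Y + ω)`. -/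
abbrev F16 : Type := QuadraticAlgebra F4 w4 1

instance factF16 : Fact (∀ r : F4, r ^ 2 ≠ w4 + 1 * r) := ⟨by decide +kernel⟩

instance : Fintype F16 := Fintype.ofEquiv (F4 × F4) (QuadraticAlgebra.equivProd w4 1).symm

theorem card_F16 : Fintype.card F16 = 16 := by
  rw [Fintype.card_congr (QuadraticAlgebra.equivProd w4 (1 : F4)), Fintype.card_prod,
    Fintype.card_congr (QuadraticAlgebra.equivProd (1 : ZMod 2) 1)]
  rfl

/-- The coordinates with respect to the basis `1, a, a², a³`, where `a = Y`. -/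
def x0 (z : F16) : ZMod 2 := z.re.re
/-- The coordinates with respect to the basis `1, a, a², a³`. -/
def x1 (z : F16) : ZMod 2 := z.re.im + z.im.re
/-- The coordinates with respect to the basis `1, a, a², a³`. -/
def x2 (z : F16) : ZMod 2 := z.re.im + z.im.im
/-- The coordinates with respect to the basis `1, a, a², a³`. -/
def x3 (z : F16) : ZMod 2 := z.im.im

/-- The element with given coordinates. -/
def mk16 (c0 c1 c2 c3 : ZMod 2) : F16 := ⟨⟨c0, c2 + c3⟩, ⟨c1 + c2 + c3, c3⟩⟩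

theorem x0_mk16 : ∀ c0 c1 c2 c3 : ZMod 2, x0 (mk16 c0 c1 c2 c3) = c0 := by decide +kernel
theorem x1_mk16 : ∀ c0 c1 c2 c3 : ZMod 2, x1 (mk16 c0 c1 c2 c3) = c1 := by decide +kernel
theorem x2_mk16 : ∀ c0 c1 c2 c3 : ZMod 2, x2 (mk16 c0 c1 c2 c3) = c2 := by decide +kernel
theorem x3_mk16 : ∀ c0 c1 c2 c3 : ZMod 2, x3 (mk16 c0 c1 c2 c3) = c3 := by decide +kernel

theorem x0_add : ∀ z w : F16, x0 (z + w) = x0 z + x0 w := by decide +kernel
theorem x1_add : ∀ z w : F16, x1 (z + w) = x1 z + x1 w := by decide +kernel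
theorem x2_add : ∀ z w : F16, x2 (z + w) = x2 z + x2 w := by decide +kernel
theorem x3_add : ∀ z w : F16, x3 (z + w) = x3 z + x3 w := by decide +kernel

theorem x0_one : x0 (1 : F16) = 1 := by decide +kernel
theorem x1_one : x1 (1 : F16) = 0 := by decide +kernel
theorem x2_one : x2 (1 : F16) = 0 := by decide +kernel
theorem x3_one : x3 (1 : F16) = 0 := by decide +kernel

/-- The generator `a = Y`, a root of `a⁴ + a + 1`. -/
def a16 : F16 := ⟨0, 1⟩

theorem a16_pow : a16 ^ 15 = 1 := by decide +kernel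

theorem a16_mul : ∀ z : F16, a16 * z = mk16 (x3 z) (x0 z + x3 z) (x1 z) (x2 z) := by
  decide +kernel

theorem a16_ne_zero : a16 ≠ 0 := by decide +kernel

theorem gen16 : ∀ z : F16, z ≠ 0 → ∃ i < 15, z = a16 ^ i := by decide +kernel

theorem pow_fifteen_eq_one16 : ∀ z : F16, z ^ 15 = 1 → ∃ k < 15, z = a16 ^ k := by
  decide +kernel

end Cfsg.Agent.Helper17.Fq
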