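import Mathlib
import Cfsg.Agent.Lib.Helper17.FqDefs

set_option autoImplicit false

namespace Cfsg.Agent.Helper17.Fq

open Equiv

variable {F : Type*} [Field F]

theorem X_apply_X (a b : F) (o : Option (F)) : X a (X b o) = X (a + b) o := by
  cases o <;> simp [add_assoc]

theorem X_zero_apply (o : Option (F)) : X (0 : F) o = o := by
  cases o <;> simp

theorem Y_apply_Y (u v : Fˣ) (o : Option (F)) : Y u (Y v o) = Y (u * v) o := by
  cases o <;> simp [mul_assoc]

theorem Y_one_apply (o : Option (F)) : Y (1 : Fˣ) o = o := by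
  cases o <;> simp

theorem sh_eq_X (k : F) (o : Option (F)) : sh k o = X k o := by
  cases o <;> rfl

/-- The data of a labelled Zassenhaus-type action on the projective line. -/
structure ZAct (m : ℕ) (R : Subgroup (Perm (Option (F)))) : Prop where
  hX : ∀ k : F, X k ∈ R
  hY : ∀ u : Fˣ, u ^ m = 1 → Y u ∈ R
  hH : ∀ g ∈ R, g none = none → g (some 0) = some 0 → ∃ u : Fˣ, u ^ m = 1 ∧ g = Y u
  hτ : ∃ τ ∈ R, τ none = some 0 ∧ τ (some 0) = none

variable {m : ℕ} {R : Subgroup (Perm (Option (F)))}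

/-- The stabilizer of `∞` consists of affine maps. -/
theorem ZAct.affine (h : ZAct m R) {g : Perm (Option (F))} (hg : g ∈ R)
    (hg0 : g none = none) :
    ∃ (u : Fˣ) (b : F), u ^ m = 1 ∧
      ∀ z, g (some z) = some ((u : F) * z + b) := by
  have hne : g (some 0) ≠ none := by
    intro h0
    have := g.injective (h0.trans hg0.symm)
    exact Option.some_ne_none _ this
  obtain ⟨b, hb⟩ := Option.ne_none_iff_exists'.1 hne
  have h1 : X (-b) * g ∈ R := R.mul_mem (h.hX _) hg
  obtain ⟨u, hu, hgu⟩ := h.hH _ h1 (by simp [Perm.mul_apply, hg0])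
    (by simp [Perm.mul_apply, hb])
  refine ⟨u, b, hu, fun z => ?_⟩
  have h2 := congrArg (fun q : Perm (Option (F)) => X b (q (some z))) hgu
  simp only [Perm.mul_apply, X_apply_X, add_neg_cancel, X_zero_apply, Y_some, X_some] at h2
  rw [h2, add_comm]

/-- A permutation swapping `∞` and `0` maps nonzero points to nonzero points. -/
theorem swap_some {τ : Perm (Option (F))} (hinf : τ none = some 0) (h0 : τ (some 0) = none)
    {z : F} (hz : z ≠ 0) : ∃ w : F, w ≠ 0 ∧ τ (some z) = some w := by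
  have hne : τ (some z) ≠ none := by
    intro h
    have := τ.injective (h.trans h0.symm)
    exact hz (Option.some_injective _ this)
  obtain ⟨w, hw⟩ := Option.ne_none_iff_exists'.1 hne
  refine ⟨w, ?_, hw⟩
  rintro rfl
  have := τ.injective (hw.trans hinf.symm)
  exact Option.some_ne_none _ this

variable [DecidableEq F]

theorem mem_tbl {a n μ c d : F} {m : ℕ} {pr : F × F}
    (h : pr ∈ tbl a n μ c d m) :
    ∃ i < m, pr = (a ^ i, μ ^ i * c) ∨ pr = (n * a ^ i, μ ^ i * d) := by
  unfold tbl at h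
  rw [List.mem_flatMap] at h
  obtain ⟨i, hi, hpr⟩ := h
  rw [List.mem_range] at hi
  refine ⟨i, hi, ?_⟩
  simpa using hpr

theorem tbl_mem_left (a n μ c d : F) {m i : ℕ} (hi : i < m) :
    (a ^ i, μ ^ i * c) ∈ tbl a n μ c d m := by
  unfold tbl
  rw [List.mem_flatMap]
  exact ⟨i, List.mem_range.2 hi, by simp⟩

theorem tbl_mem_right (a n μ c d : F) {m i : ℕ} (hi : i < m) :
    (n * a ^ i, μ ^ i * d) ∈ tbl a n μ c d m := by
  unfold tbl
  rw [List.mem_flatMap]
  exact ⟨i, List.mem_range.2 hi, by simp⟩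

/-- If every entry of the table with nonzero key is correct for `τ`, and every nonzero point is a
key, then `cf` computes `τ`. -/
theorem cf_spec {a n μ c d : F} {m : ℕ} {τ : Perm (Option (F))}
    (hgen : ∀ z : F, z ≠ 0 → ∃ i < m, z = a ^ i ∨ z = n * a ^ i)
    (hent : ∀ pr ∈ tbl a n μ c d m, pr.1 ≠ 0 → τ (some pr.1) = some pr.2)
    {z : F} (hz : z ≠ 0) : τ (some z) = some (cf a n μ c d m z) := by
  obtain ⟨i, hi, hzi⟩ := hgen z hz
  have hex : ∃ pr ∈ tbl a n μ c d m, pr.1 = z := by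
    rcases hzi with h | h
    · exact ⟨_, tbl_mem_left a n μ c d hi, h.symm⟩
    · exact ⟨_, tbl_mem_right a n μ c d hi, h.symm⟩
  have hsome : ((tbl a n μ c d m).find? fun pr => pr.1 = z).isSome := by
    rw [List.find?_isSome]
    obtain ⟨pr, hpr, hprz⟩ := hex
    exact ⟨pr, hpr, by simpa using hprz⟩
  obtain ⟨pr, hpr⟩ := Option.isSome_iff_exists.1 hsome
  have h1 : pr.1 = z := by simpa using List.find?_some hpr
  have h2 : pr ∈ tbl a n μ c d m := List.mem_of_find?_eq_some hpr
  have h3 := hent pr h2 (h1 ▸ hz)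
  unfold cf
  rw [hpr, ← h1, h3]
  rfl

/-- Normalizing the element swapping `∞` and `0`, it is given by a table. -/
theorem ZAct.exists_tau (h : ZAct m R) {a n : F} (ha : a ^ m = 1) (hm : 0 < m)
    (hgen : ∀ z : F, z ≠ 0 → ∃ i < m, z = a ^ i ∨ z = n * a ^ i) :
    ∃ τ ∈ R, τ none = some 0 ∧ τ (some 0) = none ∧ ∃ μ c d : F, (c = 1 ∨ c = n) ∧
      ∀ z : F, z ≠ 0 → τ (some z) = some (cf a n μ c d m z) := by
  obtain ⟨τ₁, hτ₁R, hinf₁, h0₁⟩ := h.hτ
  have ha0 : a ≠ 0 := by
    rintro rfl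
    rw [zero_pow hm.ne'] at ha
    exact zero_ne_one ha
  set a' : Fˣ := Units.mk0 a ha0 with ha'
  have ha'v : (a' : F) = a := rfl
  have ha'm : a' ^ m = 1 := by
    apply Units.ext
    rw [Units.val_pow_eq_pow_val, ha'v, ha, Units.val_one]
  have h1ne : (1 : F) ≠ 0 := one_ne_zero
  obtain ⟨c₁, hc₁0, hc₁⟩ := swap_some hinf₁ h0₁ h1ne
  obtain ⟨i, -, hi⟩ := hgen c₁ hc₁0
  set u : Fˣ := (a' ^ i)⁻¹ with hu
  have hum : u ^ m = 1 := by
    rw [hu, inv_pow, ← pow_mul, mul_comm, pow_mul, ha'm, one_pow, inv_one]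
  set τ : Perm (Option (F)) := Y u * τ₁ with hτ
  have hτR : τ ∈ R := R.mul_mem (h.hY u hum) hτ₁R
  have hinf : τ none = some 0 := by simp [hτ, Perm.mul_apply, hinf₁]
  have h0 : τ (some 0) = none := by simp [hτ, Perm.mul_apply, h0₁]
  have hτ1 : τ (some 1) = some 1 ∨ τ (some 1) = some n := by
    have h1 : τ (some 1) = some ((u : F) * c₁) := by simp [hτ, Perm.mul_apply, hc₁]
    rw [h1]
    have hua : (u : F) * a ^ i = 1 := by
      have h2 : u * a' ^ i = 1 := by rw [hu]; exact inv_mul_cancel _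
      have h3 := congrArg Units.val h2
      rwa [Units.val_mul, Units.val_pow_eq_pow_val, ha'v, Units.val_one] at h3
    rcases hi with hi | hi
    · left; rw [hi, hua]
    · right; rw [hi, mul_left_comm, hua, mul_one]
  have hτinv_none : τ⁻¹ none = some 0 := by rw [Perm.inv_eq_iff_eq]; exact h0.symm
  have hτinv_0 : τ⁻¹ (some 0) = none := by rw [Perm.inv_eq_iff_eq]; exact hinf.symm
  obtain ⟨μ', hμ'm, hconj⟩ := h.hH (τ * Y a' * τ⁻¹)
    (R.mul_mem (R.mul_mem hτR (h.hY a' ha'm)) (R.inv_mem hτR))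
    (by simp [Perm.mul_apply, hτinv_none, h0]) (by simp [Perm.mul_apply, hτinv_0, hinf])
  have hcomm : ∀ o, τ (Y a' o) = Y μ' (τ o) := by
    intro o
    have h1 := congrArg (fun q : Perm (Option (F)) => q (τ o)) hconj
    simpa [Perm.mul_apply] using h1
  have hpow : ∀ (i : ℕ) (z w : F), τ (some z) = some w →
      τ (some (a ^ i * z)) = some ((μ' : F) ^ i * w) := by
    intro i
    induction i with
    | zero => intro z w hzw; simpa using hzw
    | succ i ih =>
      intro z w hzw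
      have h1 := hcomm (some (a ^ i * z))
      rw [ih z w hzw] at h1
      simp only [Y_some, ha'v] at h1
      rw [pow_succ', pow_succ', mul_assoc, mul_assoc]
      exact h1
  obtain ⟨c, hc0, hc⟩ := swap_some hinf h0 h1ne
  refine ⟨τ, hτR, hinf, h0, (μ' : F), c, (τ (some n)).getD 0, ?_, ?_⟩
  · rcases hτ1 with h | h
    · left; rw [hc] at h; exact Option.some_injective _ h
    · right; rw [hc] at h; exact Option.some_injective _ h
  · intro z hz
    apply cf_spec hgen _ hz
    intro pr hpr hpr0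
    obtain ⟨i, hi, hpr | hpr⟩ := mem_tbl hpr
    · subst hpr
      have h1 := hpow i 1 c hc
      simpa using h1
    · subst hpr
      have hn0 : n ≠ 0 := by
        rintro rfl
        simp at hpr0
      obtain ⟨d, hd0, hd⟩ := swap_some hinf h0 hn0
      have h1 := hpow i n d hd
      simp only [hd, Option.getD_some]
      rw [mul_comm n]
      exact h1

theorem ext_eq {τ : Perm (Option (F))} (hinf : τ none = some 0) (h0 : τ (some 0) = none)
    {f : F → F} (hf : ∀ z : F, z ≠ 0 → τ (some z) = some (f z))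
    (o : Option (F)) : ext f o = τ o := by
  cases o with
  | none => exact hinf.symm
  | some z =>
    by_cases hz : z = 0
    · subst hz
      simp [ext, h0]
    · simp [ext, hz, hf z hz]

/-- The structure equation holds for the function describing `τ`. -/
theorem ZAct.good (h : ZAct m R) {τ : Perm (Option (F))} (hτR : τ ∈ R)
    (hinf : τ none = some 0) (h0 : τ (some 0) = none) {f : F → F}
    (hf : ∀ z : F, z ≠ 0 → τ (some z) = some (f z)) {k : F} (hk : k ≠ 0) :
    Good m f k := by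
  have huw : ∀ o, uw f k o = (τ * X (-(f k)) * τ * X k * τ) o := by
    intro o
    simp only [uw, sh_eq_X, ext_eq hinf h0 hf, Perm.mul_apply]
  have hwR : τ * X (-(f k)) * τ * X k * τ ∈ R :=
    R.mul_mem (R.mul_mem (R.mul_mem (R.mul_mem hτR (h.hX _)) hτR) (h.hX _)) hτR
  have hw0 : (τ * X (-(f k)) * τ * X k * τ) none = none := by
    simp only [Perm.mul_apply, hinf, X_some, add_zero, hf k hk, neg_add_cancel, h0]
  obtain ⟨u, b, hu, hub⟩ := h.affine hwR hw0
  have hval : ∀ z, uw f k (some z) = some ((u : F) * z + b) := fun z => by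
    rw [huw, hub]
  have hs : (uw f k (some 1)).getD 0 - (uw f k (some 0)).getD 0 = (u : F) := by
    rw [hval, hval]
    simp
  have hb : (uw f k (some 0)).getD 0 = b := by
    rw [hval]
    simp
  refine ⟨?_, ?_⟩
  · rw [hs, ← Units.val_pow_eq_pow_val, hu, Units.val_one]
  · intro z
    rw [hs, hb, hval]

/-- The normalized `τ`. -/
def IsTau (c₀ : F) (g : Perm (Option (F))) : Prop :=
  g none = some 0 ∧ g (some 0) = none ∧ ∀ z : F, z ≠ 0 → g (some z) = some (c₀ * z⁻¹)

theorem IsTau.eq {c₀ : F} {g g' : Perm (Option (F))} (h : IsTau c₀ g)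
    (h' : IsTau c₀ g') : g = g' := by
  ext o : 1
  cases o with
  | none => rw [h.1, h'.1]
  | some z =>
    by_cases hz : z = 0
    · subst hz
      rw [h.2.1, h'.2.1]
    · rw [h.2.2 z hz, h'.2.2 z hz]

/-- With the computational check, the normalized `τ` lies in the group. -/
theorem ZAct.exists_isTau (h : ZAct m R) {a n c₀ : F} (ha : a ^ m = 1) (hm : 0 < m)
    (hgen : ∀ z : F, z ≠ 0 → ∃ i < m, z = a ^ i ∨ z = n * a ^ i) (h2ne : (2 : F) ≠ 0)
    (hcheck : Check m a n c₀) : ∃ τ ∈ R, IsTau c₀ τ := by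
  obtain ⟨τ, hτR, hinf, h0, μ, c, d, hc, hf⟩ := h.exists_tau ha hm hgen
  have g1 := h.good hτR hinf h0 hf (one_ne_zero (α := F))
  have g2 := h.good hτR hinf h0 hf h2ne
  have hfin := hcheck μ c d hc g1 g2
  refine ⟨τ, hτR, hinf, h0, fun z hz => ?_⟩
  rw [hf z hz, hfin z hz]

/-- The canonical subgroup. -/
def K (m : ℕ) (c₀ : F) : Subgroup (Perm (Option (F))) :=
  Subgroup.closure ({g | ∃ k : F, g = X k} ∪ {g | ∃ u : Fˣ, u ^ m = 1 ∧ g = Y u} ∪
    {g | IsTau c₀ g})

theorem X_mem_K (m : ℕ) (c₀ k : F) : X k ∈ K m c₀ :=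
  Subgroup.subset_closure (Or.inl (Or.inl ⟨k, rfl⟩))

theorem Y_mem_K {m : ℕ} (c₀ : F) {u : Fˣ} (hu : u ^ m = 1) : Y u ∈ K m c₀ :=
  Subgroup.subset_closure (Or.inl (Or.inr ⟨u, hu, rfl⟩))

theorem tau_mem_K (m : ℕ) {c₀ : F} {τ : Perm (Option (F))} (h : IsTau c₀ τ) :
    τ ∈ K m c₀ :=
  Subgroup.subset_closure (Or.inr h)

/-- The group is the canonical subgroup. -/
theorem ZAct.eq_K (h : ZAct m R) {a n c₀ : F} (ha : a ^ m = 1) (hm : 0 < m)
    (hgen : ∀ z : F, z ≠ 0 → ∃ i < m, z = a ^ i ∨ z = n * a ^ i) (h2ne : (2 : F) ≠ 0)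
    (hcheck : Check m a n c₀) : R = K m c₀ := by
  obtain ⟨τ, hτR, hτ⟩ := h.exists_isTau ha hm hgen h2ne hcheck
  apply le_antisymm
  · have hcase : ∀ g ∈ R, g none = none → g ∈ K m c₀ := by
      intro g hg hg0
      obtain ⟨u, b, hu, hub⟩ := h.affine hg hg0
      have : g = X b * Y u := by
        ext o : 1
        cases o with
        | none => simp [hg0]
        | some z => rw [hub, Perm.mul_apply, Y_some, X_some, add_comm]
      rw [this]
      exact (K m c₀).mul_mem (X_mem_K m c₀ b) (Y_mem_K c₀ hu)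
    intro g hg
    rcases hgn : g none with _ | b
    · exact hcase g hg hgn
    · have h1 : τ * X (-b) * g ∈ R := R.mul_mem (R.mul_mem hτR (h.hX _)) hg
      have h2 : (τ * X (-b) * g) none = none := by
        simp only [Perm.mul_apply, hgn, X_some, neg_add_cancel, hτ.2.1]
      have h3 := hcase _ h1 h2
      have h4 : g = X b * τ⁻¹ * (τ * X (-b) * g) := by
        ext o : 1
        simp only [Perm.mul_apply, Perm.inv_def, Equiv.symm_apply_apply, X_apply_X, add_neg_cancel,
          X_zero_apply]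
      rw [h4]
      exact (K m c₀).mul_mem ((K m c₀).mul_mem (X_mem_K m c₀ b)
        ((K m c₀).inv_mem (tau_mem_K m hτ))) h3
  · unfold K
    rw [Subgroup.closure_le]
    rintro g ((⟨k, rfl⟩ | ⟨u, hu, rfl⟩) | hg)
    · exact h.hX k
    · exact h.hY u hu
    · rw [hg.eq hτ]
      exact hτR

end Cfsg.Agent.Helper17.Fq
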