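import Mathlib
import Cfsg.Agent.Lib.Helper17.FqPin

set_option autoImplicit false

namespace Cfsg.Agent.Helper17.Fq

open Equiv

variable {F : Type*} [Field F]

/-- The square of the candidate is multiplication by an element of order dividing `m`. -/
def Sq (m : ℕ) (f : F → F) : Prop :=
  (f (f 1)) ^ m = 1 ∧ ∀ z : F, z ≠ 0 → f (f z) = f (f 1) * z

variable [DecidableEq F]

instance (m : ℕ) (f : F → F) [Fintype F] : Decidable (Sq m f) := by
  unfold Sq; infer_instance

/-- The test for one candidate, using the square and all the words `τ X^{-f k} τ X^k τ`. -/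
def TestA (m : ℕ) (a n c₀ μ c d : F) : Prop :=
  (c = 1 ∨ c = n) → Sq m (cf a n μ c d m) →
    (∀ k : F, k ≠ 0 → Good m (cf a n μ c d m) k) →
      ∀ z : F, z ≠ 0 → cf a n μ c d m z = c₀ * z⁻¹

instance (m : ℕ) (a n c₀ μ c d : F) [Fintype F] : Decidable (TestA m a n c₀ μ c d) := by
  unfold TestA; infer_instance

/-- The computational fact pinning down `τ` (all-words version, valid in any characteristic). -/
def CheckA (m : ℕ) (a n c₀ : F) : Prop :=
  ∀ μ c d : F, TestA m a n c₀ μ c d

variable {m : ℕ} {R : Subgroup (Perm (Option (F)))}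

/-- The square of the swapping element is a multiplication. -/
theorem ZAct.sq (h : ZAct m R) {τ : Perm (Option (F))} (hτR : τ ∈ R)
    (hinf : τ none = some 0) (h0 : τ (some 0) = none) {f : F → F}
    (hf : ∀ z : F, z ≠ 0 → τ (some z) = some (f z)) : Sq m f := by
  obtain ⟨u, hu, hτu⟩ := h.hH (τ * τ) (R.mul_mem hτR hτR)
    (by rw [Perm.mul_apply, hinf, h0]) (by rw [Perm.mul_apply, h0, hinf])
  have hff : ∀ z : F, z ≠ 0 → f (f z) = (u : F) * z := by
    intro z hz
    obtain ⟨w, hw0, hw⟩ := swap_some hinf h0 hz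
    have hwf : w = f z := by
      have := (hf z hz).symm.trans hw
      exact (Option.some_injective _ this).symm
    have h1 := congrArg (fun q : Perm (Option F) => q (some z)) hτu
    simp only [Perm.mul_apply, Y_some] at h1
    rw [hf z hz, hf (f z) (hwf ▸ hw0)] at h1
    exact Option.some_injective _ h1
  have h1 : f (f 1) = (u : F) := by rw [hff 1 one_ne_zero, mul_one]
  refine ⟨?_, ?_⟩
  · rw [h1, ← Units.val_pow_eq_pow_val, hu, Units.val_one]
  · intro z hz
    rw [h1, hff z hz]

/-- With the computational check, the normalized `τ` lies in the group. -/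
theorem ZAct.exists_isTauA (h : ZAct m R) {a n c₀ : F} (ha : a ^ m = 1) (hm : 0 < m)
    (hgen : ∀ z : F, z ≠ 0 → ∃ i < m, z = a ^ i ∨ z = n * a ^ i)
    (hcheck : CheckA m a n c₀) : ∃ τ ∈ R, IsTau c₀ τ := by
  obtain ⟨τ, hτR, hinf, h0, μ, c, d, hc, hf⟩ := h.exists_tau ha hm hgen
  have g1 := h.sq hτR hinf h0 hf
  have g2 : ∀ k : F, k ≠ 0 → Good m (cf a n μ c d m) k := fun k hk =>
    h.good hτR hinf h0 hf hk
  have hfin := hcheck μ c d hc g1 g2
  refine ⟨τ, hτR, hinf, h0, fun z hz => ?_⟩
  rw [hf z hz, hfin z hz]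

/-- A group containing the normalized `τ` is the canonical subgroup. -/
theorem ZAct.eq_K_of_isTau (h : ZAct m R) {c₀ : F} {τ : Perm (Option F)} (hτR : τ ∈ R)
    (hτ : IsTau c₀ τ) : R = K m c₀ := by
  apply le_antisymm
  · have hcase : ∀ g ∈ R, g none = none → g ∈ K m c₀ := by
      intro g hg hg0
      obtain ⟨u, b, hu, hub⟩ := h.affine hg hg0
      have : g = X b * Y u := by
        ext o : 1
        cases o with
        | none => simp [hg0]
        | some z => rw [hub, Perm.mul_apply, Y_some, X_some, add_comm]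
      rw [this]
      exact (K m c₀).mul_mem (X_mem_K m c₀ b) (Y_mem_K c₀ hu)
    intro g hg
    rcases hgn : g none with _ | b
    · exact hcase g hg hgn
    · have h1 : τ * X (-b) * g ∈ R := R.mul_mem (R.mul_mem hτR (h.hX _)) hg
      have h2 : (τ * X (-b) * g) none = none := by
        simp only [Perm.mul_apply, hgn, X_some, neg_add_cancel, hτ.2.1]
      have h3 := hcase _ h1 h2
      have h4 : g = X b * τ⁻¹ * (τ * X (-b) * g) := by
        ext o : 1
        simp only [Perm.mul_apply, Perm.inv_def, Equiv.symm_apply_apply, X_apply_X, add_neg_cancel,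
          X_zero_apply]
      rw [h4]
      exact (K m c₀).mul_mem ((K m c₀).mul_mem (X_mem_K m c₀ b)
        ((K m c₀).inv_mem (tau_mem_K m hτ))) h3
  · unfold K
    rw [Subgroup.closure_le]
    rintro g ((⟨k, rfl⟩ | ⟨u, hu, rfl⟩) | hg)
    · exact h.hX k
    · exact h.hY u hu
    · rw [hg.eq hτ]
      exact hτR

/-- The group is the canonical subgroup (all-words version). -/
theorem ZAct.eq_K_A (h : ZAct m R) {a n c₀ : F} (ha : a ^ m = 1) (hm : 0 < m)
    (hgen : ∀ z : F, z ≠ 0 → ∃ i < m, z = a ^ i ∨ z = n * a ^ i)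
    (hcheck : CheckA m a n c₀) : R = K m c₀ := by
  obtain ⟨τ, hτR, hτ⟩ := h.exists_isTauA ha hm hgen hcheck
  exact h.eq_K_of_isTau hτR hτ

end Cfsg.Agent.Helper17.Fq
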