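import Mathlib
import Cfsg.Agent.Lib.Helper17.FqPin2

set_option autoImplicit false

namespace Cfsg.Agent.Helper17.Fq

open Equiv

variable {F : Type*} [Field F] [DecidableEq F]

/-- The table of a candidate for the restriction of `τ` to the nonzero points, when all nonzero
elements are powers of `a`. -/
def tblB (a μ : F) (m : ℕ) : List (F × F) :=
  (List.range m).map fun i => (a ^ i, μ ^ i)

/-- The candidate function. -/
def cfB (a μ : F) (m : ℕ) (z : F) : F :=
  (((tblB a μ m).find? fun pr => pr.1 = z).map Prod.snd).getD 0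

/-- The test for one candidate. -/
def TestB (m : ℕ) (a c₀ μ : F) : Prop :=
  Sq m (cfB a μ m) → (∀ k : F, k ≠ 0 → Good m (cfB a μ m) k) →
    ∀ z : F, z ≠ 0 → cfB a μ m z = c₀ * z⁻¹

instance (m : ℕ) (a c₀ μ : F) [Fintype F] : Decidable (TestB m a c₀ μ) := by
  unfold TestB; infer_instance

/-- The computational fact pinning down `τ` (cyclic version). -/
def CheckB (m : ℕ) (a c₀ : F) : Prop :=
  ∀ μ : F, TestB m a c₀ μ

theorem mem_tblB {a μ : F} {m : ℕ} {pr : F × F} (h : pr ∈ tblB a μ m) :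
    ∃ i < m, pr = (a ^ i, μ ^ i) := by
  unfold tblB at h
  rw [List.mem_map] at h
  obtain ⟨i, hi, hpr⟩ := h
  rw [List.mem_range] at hi
  exact ⟨i, hi, hpr.symm⟩

theorem tblB_mem (a μ : F) {m i : ℕ} (hi : i < m) : (a ^ i, μ ^ i) ∈ tblB a μ m := by
  unfold tblB
  rw [List.mem_map]
  exact ⟨i, List.mem_range.2 hi, rfl⟩

theorem cfB_spec {a μ : F} {m : ℕ} {τ : Perm (Option F)}
    (hgen : ∀ z : F, z ≠ 0 → ∃ i < m, z = a ^ i)
    (hent : ∀ pr ∈ tblB a μ m, pr.1 ≠ 0 → τ (some pr.1) = some pr.2)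
    {z : F} (hz : z ≠ 0) : τ (some z) = some (cfB a μ m z) := by
  obtain ⟨i, hi, hzi⟩ := hgen z hz
  have hex : ∃ pr ∈ tblB a μ m, pr.1 = z := ⟨_, tblB_mem a μ hi, hzi.symm⟩
  have hsome : ((tblB a μ m).find? fun pr => pr.1 = z).isSome := by
    rw [List.find?_isSome]
    obtain ⟨pr, hpr, hprz⟩ := hex
    exact ⟨pr, hpr, by simpa using hprz⟩
  obtain ⟨pr, hpr⟩ := Option.isSome_iff_exists.1 hsome
  have h1 : pr.1 = z := by simpa using List.find?_some hpr
  have h2 : pr ∈ tblB a μ m := List.mem_of_find?_eq_some hpr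
  have h3 := hent pr h2 (h1 ▸ hz)
  unfold cfB
  rw [hpr, ← h1, h3]
  rfl

variable {m : ℕ} {R : Subgroup (Perm (Option F))}

/-- Normalizing the element swapping `∞` and `0`, it is given by a table. -/
theorem ZAct.exists_tauB (h : ZAct m R) {a : F} (ha : a ^ m = 1) (hm : 0 < m)
    (hgen : ∀ z : F, z ≠ 0 → ∃ i < m, z = a ^ i) :
    ∃ τ ∈ R, τ none = some 0 ∧ τ (some 0) = none ∧ ∃ μ : F,
      ∀ z : F, z ≠ 0 → τ (some z) = some (cfB a μ m z) := by
  obtain ⟨τ₁, hτ₁R, hinf₁, h0₁⟩ := h.hτ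
  have ha0 : a ≠ 0 := by
    rintro rfl
    rw [zero_pow hm.ne'] at ha
    exact zero_ne_one ha
  set a' : Fˣ := Units.mk0 a ha0 with ha'
  have ha'v : (a' : F) = a := rfl
  have ha'm : a' ^ m = 1 := by
    apply Units.ext
    rw [Units.val_pow_eq_pow_val, ha'v, ha, Units.val_one]
  have h1ne : (1 : F) ≠ 0 := one_ne_zero
  obtain ⟨c₁, hc₁0, hc₁⟩ := swap_some hinf₁ h0₁ h1ne
  obtain ⟨i, -, hi⟩ := hgen c₁ hc₁0
  set u : Fˣ := (a' ^ i)⁻¹ with hu
  have hum : u ^ m = 1 := by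
    rw [hu, inv_pow, ← pow_mul, mul_comm, pow_mul, ha'm, one_pow, inv_one]
  set τ : Perm (Option F) := Y u * τ₁ with hτ
  have hτR : τ ∈ R := R.mul_mem (h.hY u hum) hτ₁R
  have hinf : τ none = some 0 := by simp [hτ, Perm.mul_apply, hinf₁]
  have h0 : τ (some 0) = none := by simp [hτ, Perm.mul_apply, h0₁]
  have hτ1 : τ (some 1) = some 1 := by
    have h1 : τ (some 1) = some ((u : F) * c₁) := by simp [hτ, Perm.mul_apply, hc₁]
    rw [h1]
    have hua : (u : F) * a ^ i = 1 := by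
      have h2 : u * a' ^ i = 1 := by rw [hu]; exact inv_mul_cancel _
      have h3 := congrArg Units.val h2
      rwa [Units.val_mul, Units.val_pow_eq_pow_val, ha'v, Units.val_one] at h3
    rw [hi, hua]
  have hτinv_none : τ⁻¹ none = some 0 := by rw [Perm.inv_eq_iff_eq]; exact h0.symm
  have hτinv_0 : τ⁻¹ (some 0) = none := by rw [Perm.inv_eq_iff_eq]; exact hinf.symm
  obtain ⟨μ', hμ'm, hconj⟩ := h.hH (τ * Y a' * τ⁻¹)
    (R.mul_mem (R.mul_mem hτR (h.hY a' ha'm)) (R.inv_mem hτR))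
    (by simp [Perm.mul_apply, hτinv_none, h0]) (by simp [Perm.mul_apply, hτinv_0, hinf])
  have hcomm : ∀ o, τ (Y a' o) = Y μ' (τ o) := by
    intro o
    have h1 := congrArg (fun q : Perm (Option F) => q (τ o)) hconj
    simpa [Perm.mul_apply] using h1
  have hpow : ∀ (i : ℕ) (z w : F), τ (some z) = some w →
      τ (some (a ^ i * z)) = some ((μ' : F) ^ i * w) := by
    intro i
    induction i with
    | zero => intro z w hzw; simpa using hzw
    | succ i ih =>
      intro z w hzw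
      have h1 := hcomm (some (a ^ i * z))
      rw [ih z w hzw] at h1
      simp only [Y_some, ha'v] at h1
      rw [pow_succ', pow_succ', mul_assoc, mul_assoc]
      exact h1
  refine ⟨τ, hτR, hinf, h0, (μ' : F), ?_⟩
  intro z hz
  apply cfB_spec hgen _ hz
  intro pr hpr hpr0
  obtain ⟨i, hi, hpr⟩ := mem_tblB hpr
  subst hpr
  have h1 := hpow i 1 1 hτ1
  simpa using h1

/-- With the computational check, the normalized `τ` lies in the group. -/
theorem ZAct.exists_isTauB (h : ZAct m R) {a c₀ : F} (ha : a ^ m = 1) (hm : 0 < m)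
    (hgen : ∀ z : F, z ≠ 0 → ∃ i < m, z = a ^ i)
    (hcheck : CheckB m a c₀) : ∃ τ ∈ R, IsTau c₀ τ := by
  obtain ⟨τ, hτR, hinf, h0, μ, hf⟩ := h.exists_tauB ha hm hgen
  have g1 := h.sq hτR hinf h0 hf
  have g2 : ∀ k : F, k ≠ 0 → Good m (cfB a μ m) k := fun k hk =>
    h.good hτR hinf h0 hf hk
  have hfin := hcheck μ g1 g2
  refine ⟨τ, hτR, hinf, h0, fun z hz => ?_⟩
  rw [hf z hz, hfin z hz]

/-- The group is the canonical subgroup (cyclic version). -/
theorem ZAct.eq_K_B (h : ZAct m R) {a c₀ : F} (ha : a ^ m = 1) (hm : 0 < m)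
    (hgen : ∀ z : F, z ≠ 0 → ∃ i < m, z = a ^ i)
    (hcheck : CheckB m a c₀) : R = K m c₀ := by
  obtain ⟨τ, hτR, hτ⟩ := h.exists_isTauB ha hm hgen hcheck
  exact h.eq_K_of_isTau hτR hτ

end Cfsg.Agent.Helper17.Fq
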