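import Mathlib
import Cfsg.Agent.Lib.Helper17.F16
import Cfsg.Agent.Lib.Helper17.FqPin3

set_option autoImplicit false

namespace Cfsg.Agent.Helper17.Fq

theorem check16 : CheckB 15 a16 (1 : F16) := by
  unfold CheckB
  decide +kernel

end Cfsg.Agent.Helper17.Fq
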