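import Mathlib
import Cfsg.Agent.Lib.Helper17.FqDefs

set_option autoImplicit false

namespace Cfsg.Agent.Helper17.Fq

/-- The field with eight elements, as `𝔽₂[a] / (a³ + a + 1)` with coordinates `(x₀, x₁, x₂)`. -/
def F8 : Type := ZMod 2 × ZMod 2 × ZMod 2

instance : DecidableEq F8 := inferInstanceAs (DecidableEq (ZMod 2 × ZMod 2 × ZMod 2))
instance : Fintype F8 := inferInstanceAs (Fintype (ZMod 2 × ZMod 2 × ZMod 2))
instance : AddCommGroup F8 := inferInstanceAs (AddCommGroup (ZMod 2 × ZMod 2 × ZMod 2))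

/-- Multiplication modulo `a³ + a + 1`. -/
def mul8 (x y : F8) : F8 :=
  (x.1 * y.1 + (x.2.1 * y.2.2 + x.2.2 * y.2.1),
    x.1 * y.2.1 + x.2.1 * y.1 + (x.2.1 * y.2.2 + x.2.2 * y.2.1) + x.2.2 * y.2.2,
    x.1 * y.2.2 + x.2.1 * y.2.1 + x.2.2 * y.1 + x.2.2 * y.2.2)

/-- The sixth power, which is inversion. -/
def inv8 (x : F8) : F8 := mul8 (mul8 x x) (mul8 (mul8 x x) (mul8 x x))

instance : Mul F8 := ⟨mul8⟩
instance : One F8 := ⟨((1 : ZMod 2), (0 : ZMod 2), (0 : ZMod 2))⟩
instance : Inv F8 := ⟨inv8⟩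

instance : CommRing F8 :=
  { (inferInstance : AddCommGroup F8) with
    mul := mul8
    one := ((1 : ZMod 2), (0 : ZMod 2), (0 : ZMod 2))
    mul_assoc := by decide +kernel
    one_mul := by decide +kernel
    mul_one := by decide +kernel
    left_distrib := by decide +kernel
    right_distrib := by decide +kernel
    mul_comm := by decide +kernel
    zero_mul := by decide +kernel
    mul_zero := by decide +kernel }

instance : Field F8 :=
  { (inferInstance : CommRing F8) with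
    inv := inv8
    exists_pair_ne := ⟨0, 1, by decide +kernel⟩
    mul_inv_cancel := by decide +kernel
    inv_zero := by decide +kernel
    nnqsmul := _
    nnqsmul_def := fun _ _ => rfl
    qsmul := _
    qsmul_def := fun _ _ => rfl }

theorem card_F8 : Fintype.card F8 = 8 := by decide +kernel

/-- The constructor. -/
def F8.mk (a b c : ZMod 2) : F8 := (a, b, c)

/-- The coordinates. -/
def F8.x0 (z : F8) : ZMod 2 := z.1
/-- The coordinates. -/
def F8.x1 (z : F8) : ZMod 2 := z.2.1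
/-- The coordinates. -/
def F8.x2 (z : F8) : ZMod 2 := z.2.2

theorem F8.x0_mk (a b c : ZMod 2) : (F8.mk a b c).x0 = a := rfl
theorem F8.x1_mk (a b c : ZMod 2) : (F8.mk a b c).x1 = b := rfl
theorem F8.x2_mk (a b c : ZMod 2) : (F8.mk a b c).x2 = c := rfl
theorem F8.x0_add (z w : F8) : (z + w).x0 = z.x0 + w.x0 := rfl
theorem F8.x1_add (z w : F8) : (z + w).x1 = z.x1 + w.x1 := rfl
theorem F8.x2_add (z w : F8) : (z + w).x2 = z.x2 + w.x2 := rfl
theorem F8.x0_one : (1 : F8).x0 = 1 := rfl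
theorem F8.x1_one : (1 : F8).x1 = 0 := rfl
theorem F8.x2_one : (1 : F8).x2 = 0 := rfl

/-- The generator `a`. -/
def a8 : F8 := ((0 : ZMod 2), (1 : ZMod 2), (0 : ZMod 2))

theorem a8_pow : a8 ^ 7 = 1 := by decide +kernel

theorem a8_mul : ∀ z : F8, a8 * z = F8.mk z.x2 (z.x0 + z.x2) z.x1 := by decide +kernel

theorem a8_ne_zero : a8 ≠ 0 := by decide +kernel

theorem gen8 : ∀ z : F8, z ≠ 0 → ∃ i < 7, z = a8 ^ i ∨ z = 1 * a8 ^ i := by decide +kernel

theorem pow_seven_eq_one8 : ∀ z : F8, z ^ 7 = 1 → ∃ k < 7, z = a8 ^ k := by decide +kernel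

end Cfsg.Agent.Helper17.Fq
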