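import Mathlib
import Cfsg.Agent.Lib.Helper17.FqPin

set_option autoImplicit false

namespace Cfsg.Agent.Helper17.Fq

/-- The field with nine elements, as `𝔽₃[i]`. -/
abbrev F9 : Type := QuadraticAlgebra (ZMod 3) 2 0

instance factF9 : Fact (∀ r : ZMod 3, r ^ 2 ≠ 2 + 0 * r) := ⟨by decide⟩

instance : Fintype F9 := Fintype.ofEquiv (ZMod 3 × ZMod 3) (QuadraticAlgebra.equivProd 2 0).symm

theorem card_F9 : Fintype.card F9 = 9 := by
  rw [Fintype.card_congr (QuadraticAlgebra.equivProd (2 : ZMod 3) 0)]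
  rfl

/-- `i`, a generator of the squares. -/
def i9 : F9 := ⟨0, 1⟩

/-- `1 + i`, a nonsquare. -/
def n9 : F9 := ⟨1, 1⟩

theorem gen9 : ∀ z : F9, z ≠ 0 → ∃ i < 4, z = i9 ^ i ∨ z = n9 * i9 ^ i := by
  decide +kernel

theorem i9_pow : i9 ^ 4 = 1 := by decide +kernel

theorem two_ne_zero9 : (2 : F9) ≠ 0 := by decide +kernel

theorem check9 : Check 4 i9 n9 (1 : F9) := by
  unfold Check
  decide +kernel

end Cfsg.Agent.Helper17.Fq
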