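import Mathlib
import Cfsg.Agent.Lib.Helper17.Det4

/-!
# Characters vanishing off a Frobenius kernel, and the Frobenius group of order `20`
-/

set_option autoImplicit false
set_option linter.unusedSectionVars false

namespace Cfsg.Agent.Helper17.Det4

open Cfsg

universe u

section avg

variable {G : Type*} [Group G] {V : Type*} [AddCommGroup V] [Module ℂ V] [FiniteDimensional ℂ V]
  (ρ : Representation ℂ G V)

/-- If the restriction of a character to a finite subgroup `P` does not contain the trivial
character, then the sum of the character over every coset of `P` vanishes. -/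
theorem sum_coset_eq_zero (P : Subgroup G) [Fintype P] (h0 : ∑ k : P, ρ.character (k : G) = 0)
    (y : G) : ∑ k : P, ρ.character (y * (k : G)) = 0 := by
  classical
  set E : V →ₗ[ℂ] V := ∑ k : P, ρ (k : G) with hE
  have hcard : (Fintype.card P : ℂ) ≠ 0 := by
    have : 0 < Fintype.card P := Fintype.card_pos
    exact_mod_cast this.ne'
  have hEE : E * E = (Fintype.card P : ℂ) • E := by
    rw [hE, Finset.sum_mul]
    have : ∀ k : P, ρ (k : G) * ∑ k' : P, ρ (k' : G) = ∑ k' : P, ρ (k' : G) := by
      intro k
      rw [Finset.mul_sum]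
      have h1 : ∀ k' : P, ρ (k : G) * ρ (k' : G) = ρ ((k * k' : P) : G) := by
        intro k'
        rw [Subgroup.coe_mul, map_mul]
      simp_rw [h1]
      exact Fintype.sum_equiv (Equiv.mulLeft k) _ _ (fun k' => rfl)
    simp_rw [this]
    rw [Finset.sum_const, Finset.card_univ, ← Nat.cast_smul_eq_nsmul ℂ]
  have htr : LinearMap.trace ℂ V E = 0 := by
    rw [hE, map_sum]
    exact h0
  set e : V →ₗ[ℂ] V := (Fintype.card P : ℂ)⁻¹ • E with he
  have hidem : IsIdempotentElem e := by
    unfold IsIdempotentElem
    rw [he, smul_mul_smul_comm, hEE, smul_smul]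
    congr 1
    field_simp
  have htre : LinearMap.trace ℂ V e = 0 := by
    rw [he, map_smul, htr, smul_zero]
  have he0 : e = 0 := (LinearMap.IsIdempotentElem.trace_eq_zero_iff hidem).1 htre
  have hE0 : E = 0 := by
    have : E = (Fintype.card P : ℂ) • e := by
      rw [he, smul_smul, mul_inv_cancel₀ hcard, one_smul]
    rw [this, he0, smul_zero]
  have hsum : ∑ k : P, ρ (y * (k : G)) = ρ y * E := by
    rw [hE, Finset.mul_sum]
    apply Finset.sum_congr rfl
    intro k _
    rw [map_mul]
  have : ∑ k : P, ρ.character (y * (k : G)) = LinearMap.trace ℂ V (∑ k : P, ρ (y * (k : G))) := by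
    rw [map_sum]
    rfl
  rw [this, hsum, hE0, mul_zero, map_zero]

/-- If `y` normalizes `P` and commutes with no non-identity element of `P`, then the character is
constant on the coset `y P`. -/
theorem sum_coset_eq_card_mul (P : Subgroup G) [Fintype P] (y : G)
    (hy : y ∈ Subgroup.normalizer (P : Set G))
    (hfree : ∀ k ∈ P, k ≠ 1 → k * y ≠ y * k) :
    ∑ k : P, ρ.character (y * (k : G)) = (Fintype.card P : ℂ) * ρ.character y := by
  classical
  have hyinv : y⁻¹ ∈ Subgroup.normalizer (P : Set G) := Subgroup.inv_mem _ hy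
  let c : P → P := fun h => ⟨y⁻¹ * (h : G) * y * (h : G)⁻¹, by
    apply Subgroup.mul_mem _ _ (Subgroup.inv_mem _ h.2)
    have := (Subgroup.mem_normalizer_iff.1 hyinv (h : G)).1 h.2
    rwa [inv_inv] at this⟩
  have hinj : Function.Injective c := by
    intro h h' hh
    have h1 : y⁻¹ * (h : G) * y * (h : G)⁻¹ = y⁻¹ * (h' : G) * y * (h' : G)⁻¹ :=
      congrArg Subtype.val hh
    by_contra hne
    have hk1 : ((h' : G)⁻¹ * (h : G)) ≠ 1 := by
      intro h2
      apply hne
      apply Subtype.ext
      have : (h : G) = (h' : G) := by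
        have := congrArg (fun t => (h' : G) * t) h2
        simpa [mul_assoc] using this
      exact this
    have hkP : (h' : G)⁻¹ * (h : G) ∈ P := Subgroup.mul_mem _ (Subgroup.inv_mem _ h'.2) h.2
    apply hfree _ hkP hk1
    -- from h1: h y h⁻¹ = h' y h'⁻¹
    have h2 : (h : G) * y * (h : G)⁻¹ = (h' : G) * y * (h' : G)⁻¹ := by
      have := congrArg (fun t => y * t) h1
      simpa [mul_assoc] using this
    have h3 : (h' : G)⁻¹ * ((h : G) * y * (h : G)⁻¹) * (h : G) =
        (h' : G)⁻¹ * ((h' : G) * y * (h' : G)⁻¹) * (h : G) := by rw [h2]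
    calc (h' : G)⁻¹ * (h : G) * y = (h' : G)⁻¹ * ((h : G) * y * (h : G)⁻¹) * (h : G) := by group
      _ = (h' : G)⁻¹ * ((h' : G) * y * (h' : G)⁻¹) * (h : G) := h3
      _ = y * ((h' : G)⁻¹ * (h : G)) := by group
  have hbij : Function.Bijective c := hinj.bijective_of_finite
  have hre : ∑ k : P, ρ.character (y * (k : G)) = ∑ h : P, ρ.character (y * ((c h : P) : G)) :=
    (Fintype.sum_equiv (Equiv.ofBijective c hbij) _ _ (fun h => rfl)).symm
  rw [hre]
  have : ∀ h : P, ρ.character (y * ((c h : P) : G)) = ρ.character y := by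
    intro h
    have : y * ((c h : P) : G) = (h : G) * y * (h : G)⁻¹ := by
      show y * (y⁻¹ * (h : G) * y * (h : G)⁻¹) = _
      group
    rw [this, Representation.char_conj]
  simp_rw [this]
  rw [Finset.sum_const, Finset.card_univ, nsmul_eq_mul]

/-- A character whose restriction to `P` has no trivial constituent vanishes at every `y`
normalizing `P` and commuting with no non-identity element of `P`. -/
theorem char_eq_zero_of_free (P : Subgroup G) [Fintype P]
    (h0 : ∑ k : P, ρ.character (k : G) = 0) (y : G)
    (hy : y ∈ Subgroup.normalizer (P : Set G))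
    (hfree : ∀ k ∈ P, k ≠ 1 → k * y ≠ y * k) : ρ.character y = 0 := by
  have h1 := sum_coset_eq_zero ρ P h0 y
  rw [sum_coset_eq_card_mul ρ P y hy hfree] at h1
  have hcard : (Fintype.card P : ℂ) ≠ 0 := by
    have : 0 < Fintype.card P := Fintype.card_pos
    exact_mod_cast this.ne'
  exact (mul_eq_zero.1 h1).resolve_left hcard

end avg


section frob20

variable {G : Type*} [Group G] [Finite G]

/-- An element outside `P` commutes with no non-identity element of `P`, when the centralizers of
these elements lie in `P`. -/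
theorem not_commute_of_not_mem (P : Subgroup G)
    (hCk : ∀ k ∈ P, k ≠ 1 → Subgroup.centralizer ({k} : Set G) ≤ P) {y : G} (hy : y ∉ P) :
    ∀ k ∈ P, k ≠ 1 → k * y ≠ y * k := by
  intro k hk hk1 hcomm
  apply hy
  apply hCk k hk hk1
  rw [Subgroup.mem_centralizer_iff]
  intro h hh
  rw [Set.mem_singleton_iff] at hh
  rw [hh]; exact hcomm

/-- If the normalizer of `P` (of order `5`, with centralizers of non-identity elements inside `P`)
has order `20`, some element of it has its square outside `P`. -/
theorem exists_sq_not_mem (P : Subgroup G) (hP : Nat.card P = 5)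
    (hCk : ∀ k ∈ P, k ≠ 1 → Subgroup.centralizer ({k} : Set G) ≤ P)
    (hN : Nat.card (Subgroup.normalizer (P : Set G)) = 20) :
    ∃ g ∈ Subgroup.normalizer (P : Set G), g ∉ P ∧ g * g ∉ P := by
  classical
  have := Fintype.ofFinite G
  by_contra hcon
  push Not at hcon
  set N : Subgroup G := Subgroup.normalizer (P : Set G) with hNdef
  have hPN : P ≤ N := Subgroup.le_normalizer
  -- C1: elements outside `P` are involutions
  have C1 : ∀ x ∈ N, x ∉ P → x * x = 1 := by
    intro x hx hxP
    by_contra hne
    exact not_commute_of_not_mem P hCk hxP (x * x) (hcon x hx hxP) hne (mul_assoc x x x)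
  -- C2: they invert `P`
  have C2 : ∀ x ∈ N, x ∉ P → ∀ k ∈ P, x * k * x⁻¹ = k⁻¹ := by
    intro x hx hxP k hk
    have hxk : x * k ∈ N := Subgroup.mul_mem _ hx (hPN hk)
    have hxkP : x * k ∉ P := by
      intro h
      apply hxP
      have := Subgroup.mul_mem _ h (Subgroup.inv_mem _ hk)
      rwa [mul_inv_cancel_right] at this
    have h1 := C1 x hx hxP
    have h2 := C1 (x * k) hxk hxkP
    have hxinv : x⁻¹ = x := inv_eq_of_mul_eq_one_right h1
    rw [hxinv]
    have : x * k * x * k = 1 := by
      rw [← h2]; simp only [mul_assoc]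
    exact eq_inv_of_mul_eq_one_left this
  -- counting
  set FN : Finset G := Finset.univ.filter (· ∈ N) with hFN
  set FP : Finset G := Finset.univ.filter (· ∈ P) with hFP
  have hcN : FN.card = 20 := by
    rw [← hN, Nat.card_eq_fintype_card]
    exact (Fintype.card_of_subtype FN (fun x => by simp [hFN])).symm
  have hcP : FP.card = 5 := by
    rw [← hP, Nat.card_eq_fintype_card]
    exact (Fintype.card_of_subtype FP (fun x => by simp [hFP])).symm
  have hsub : FP ⊆ FN := by
    intro x hx
    simp only [hFP, hFN, Finset.mem_filter, Finset.mem_univ, true_and] at hx ⊢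
    exact hPN hx
  have hcD : (FN \ FP).card = 15 := by
    rw [Finset.card_sdiff_of_subset hsub, hcN, hcP]
  obtain ⟨a, ha⟩ : (FN \ FP).Nonempty := Finset.card_pos.1 (by rw [hcD]; norm_num)
  have haN : a ∈ N := by
    have := (Finset.mem_sdiff.1 ha).1
    simpa [hFN] using this
  have haP : a ∉ P := by
    have := (Finset.mem_sdiff.1 ha).2
    simpa [hFP] using this
  obtain ⟨b, hb, hab⟩ : ∃ b ∈ FN \ FP, a * b ∉ P := by
    by_contra hall
    push Not at hall
    have hle : (FN \ FP).card ≤ FP.card := by
      apply Finset.card_le_card_of_injOn (fun b => a * b)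
      · intro b hb
        simp only [hFP, Finset.coe_filter, Finset.mem_univ, true_and, Set.mem_ofPred_eq]
        exact hall b hb
      · intro b _ b' _ h
        exact mul_left_cancel h
    rw [hcD, hcP] at hle
    omega
  have hbN : b ∈ N := by
    have := (Finset.mem_sdiff.1 hb).1
    simpa [hFN] using this
  have hbP : b ∉ P := by
    have := (Finset.mem_sdiff.1 hb).2
    simpa [hFP] using this
  obtain ⟨k, hk, hk1⟩ : ∃ k ∈ P, k ≠ 1 := by
    have : Finite P := Nat.finite_of_card_ne_zero (by rw [hP]; norm_num)
    have h1 : 1 < Nat.card P := by rw [hP]; norm_num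
    rw [Subgroup.one_lt_card_iff_ne_bot] at h1
    obtain ⟨k, hk⟩ := (Subgroup.ne_bot_iff_exists_ne_one (H := P)).1 h1
    exact ⟨(k : G), k.2, fun h => hk (Subtype.ext h)⟩
  apply not_commute_of_not_mem P hCk hab k hk hk1
  have h1 := C2 b hbN hbP k hk
  have h2 := C2 a haN haP k⁻¹ (Subgroup.inv_mem _ hk)
  rw [inv_inv] at h2
  -- (a b) k (a b)⁻¹ = k
  have h3 : a * b * k * (a * b)⁻¹ = k := by
    rw [mul_inv_rev]
    calc a * b * k * (b⁻¹ * a⁻¹) = a * (b * k * b⁻¹) * a⁻¹ := by group
      _ = a * k⁻¹ * a⁻¹ := by rw [h1]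
      _ = k := h2
  have h4 : a * b * k = k * (a * b) := by
    have := congrArg (fun t => t * (a * b)) h3
    simpa [mul_assoc] using this
  exact h4.symm

/-- A perfect group with a subgroup `P` of order `5` whose non-identity elements have their
centralizers in `P`, and with `|N(P)| = 20`, has no character of degree `4` taking the value `-1`
on `P ∖ {1}`. -/
theorem no_degree_four (hperf : commutator G = ⊤) (P : Subgroup G) (hP : Nat.card P = 5)
    (hCk : ∀ k ∈ P, k ≠ 1 → Subgroup.centralizer ({k} : Set G) ≤ P)
    (hN : Nat.card (Subgroup.normalizer (P : Set G)) = 20)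
    (ρ : Representation ℂ G (Fin 4 → ℂ))
    (hval : ∀ k ∈ P, k ≠ 1 → ρ.character k = -1) : False := by
  classical
  have : Finite P := Nat.finite_of_card_ne_zero (by rw [hP]; norm_num)
  have := Fintype.ofFinite P
  have hcard : Fintype.card P = 5 := by rw [← Nat.card_eq_fintype_card, hP]
  have hone : ρ.character 1 = 4 := by
    rw [Representation.char_one, Module.finrank_fin_fun]; norm_num
  have h0 : ∑ k : P, ρ.character (k : G) = 0 := by
    have h1 : ∀ k : P, ρ.character (k : G) = -1 + (if k = 1 then (5 : ℂ) else 0) := by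
      intro k
      by_cases hk : k = 1
      · rw [if_pos hk, hk, Subgroup.coe_one, hone]; norm_num
      · rw [if_neg hk, add_zero]
        exact hval k k.2 (fun h => hk (Subtype.ext h))
    simp_rw [h1]
    rw [Finset.sum_add_distrib, Finset.sum_const, Finset.card_univ, hcard,
      Finset.sum_ite_eq' Finset.univ (1 : P)]
    simp
  obtain ⟨g, hgN, hgP, hggP⟩ := exists_sq_not_mem P hP hCk hN
  set N : Subgroup G := Subgroup.normalizer (P : Set G) with hNdef
  have hzero : ∀ y ∈ N, y ∉ P → ρ.character y = 0 := fun y hy hyP =>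
    char_eq_zero_of_free ρ P h0 y hy (not_commute_of_not_mem P hCk hyP)
  have hgg : g * g ∈ N := Subgroup.mul_mem _ hgN hgN
  have hggg : g * g * g ∈ N := Subgroup.mul_mem _ hgg hgN
  have hgggg : g * g * g * g ∈ N := Subgroup.mul_mem _ hggg hgN
  have hgggP : g * g * g ∉ P := by
    intro h
    by_cases h1 : g * g * g = 1
    · have hd3 : orderOf g ∣ 3 := by
        apply orderOf_dvd_of_pow_eq_one
        rw [pow_succ, pow_two]; exact h1
      have hd20 : orderOf g ∣ 20 := by
        rw [← hN]; exact Subgroup.orderOf_dvd_natCard _ hgN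
      have h31 : Nat.gcd 3 20 = 1 := by norm_num
      have : orderOf g ∣ 1 := by
        have := Nat.dvd_gcd hd3 hd20
        rwa [h31] at this
      have hg1 : g = 1 := orderOf_eq_one_iff.1 (Nat.dvd_one.1 this)
      exact hgP (hg1 ▸ Subgroup.one_mem P)
    · apply not_commute_of_not_mem P hCk hgP (g * g * g) h h1
      simp only [mul_assoc]
  have e1 := hzero g hgN hgP
  have e2 := hzero (g * g) hgg hggP
  have e3 := hzero (g * g * g) hggg hgggP
  have e4 := char_pow_four hperf ρ g e1 e2 e3
  by_cases h4 : g * g * g * g ∈ P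
  · by_cases h41 : g * g * g * g = 1
    · rw [h41, hone] at e4
      norm_num at e4
    · rw [hval _ h4 h41] at e4
      norm_num at e4
  · rw [hzero _ hgggg h4] at e4
    norm_num at e4

end frob20

end Cfsg.Agent.Helper17.Det4
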