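import Mathlib

/-!
Piece (S3) `s3_sub` of helper87's lemma server "GS4" (row S2608), delivered by helper17.
-/

set_option autoImplicit false

namespace Cfsg.Agent.Helper17.GS4

/-- `r * t ^ j = t ^ (2 * j) * r`. -/
theorem h17_r_mul_pow {G : Type*} [Group G] (r t : G) (hrr : r * r = 1) (ht3 : t ^ 3 = 1)
    (hrt : r * t * r = t⁻¹) (j : ℕ) : r * t ^ j = t ^ (2 * j) * r := by
  have hrinv : r⁻¹ = r := inv_eq_of_mul_eq_one_right hrr
  have htinv : t⁻¹ = t ^ 2 := by
    apply inv_eq_of_mul_eq_one_right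
    rw [← pow_succ', ht3]
  have h1 : r * t = t ^ 2 * r := by
    have : r * t = t⁻¹ * r⁻¹ := by
      rw [← hrt]; group
    rw [this, hrinv, htinv]
  induction j with
  | zero => simp
  | succ j ih =>
    calc r * t ^ (j + 1) = (r * t ^ j) * t := by rw [pow_succ, mul_assoc]
      _ = t ^ (2 * j) * (r * t) := by rw [ih, mul_assoc]
      _ = t ^ (2 * j) * (t ^ 2 * r) := by rw [h1]
      _ = t ^ (2 * (j + 1)) * r := by
        rw [← mul_assoc, ← pow_add]
        congr 2

theorem s3_sub {G : Type*} [Group G] [Finite G] (K : Subgroup G) [K.Normal] (hKidx : K.index = 6)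
    (r t : G) (hrr : r * r = 1) (ht3 : t ^ 3 = 1) (hrt : r * t * r = t⁻¹) (htK : t ∉ K)
    (hrK : r ∉ K) :
    (∀ g : G, ∃ k ∈ K, g * t * g⁻¹ = k * t ∨ g * t * g⁻¹ = k * t⁻¹) ∧
    ∃ U : Subgroup G, t ∈ U ∧ r ∈ U ∧ Nat.card U = 6 ∧ (∀ u ∈ U, u ∈ K → u = 1) ∧
      (∀ u ∈ U, ∃ i : ℕ, u = t ^ i ∨ u = t ^ i * r) ∧ (∀ g : G, ∃ u ∈ U, ∃ k ∈ K, g = u * k) := by
  classical
  have hrinv : r⁻¹ = r := inv_eq_of_mul_eq_one_right hrr
  have hrp := h17_r_mul_pow r t hrr ht3 hrt
  -- the quotient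
  set π : G →* G ⧸ K := QuotientGroup.mk' K with hπ
  have hπ1 : ∀ g : G, π g = 1 ↔ g ∈ K := fun g => QuotientGroup.eq_one_iff g
  have hQ : Nat.card (G ⧸ K) = 6 := by rw [← Subgroup.index_eq_card, hKidx]
  set a : G ⧸ K := π t with ha
  set b : G ⧸ K := π r with hb
  have ha3 : a ^ 3 = 1 := by rw [ha, ← map_pow, ht3, map_one]
  have ha1 : a ≠ 1 := fun h => htK ((hπ1 t).1 h)
  have hb2 : b * b = 1 := by rw [hb, ← map_mul, hrr, map_one]
  have hb1 : b ≠ 1 := fun h => hrK ((hπ1 r).1 h)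
  have hba : b * a * b = a⁻¹ := by rw [ha, hb, ← map_mul, ← map_mul, hrt, map_inv]
  have haa : a * a ≠ 1 := by
    intro h
    apply ha1
    calc a = a ^ 3 * (a * a)⁻¹ := by group
      _ = 1 := by rw [ha3, h]; simp
  -- `a ^ i * b ≠ 1`
  have key1 : ∀ i : ℕ, a ^ i * b ≠ 1 := by
    intro i h
    have hbe : b = (a ^ i)⁻¹ := eq_inv_of_mul_eq_one_right h
    have hcomm : b * a = a * b := by
      rw [hbe]
      have : Commute ((a ^ i)⁻¹) a := (Commute.pow_self a i).inv_left
      exact this.eq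
    have h1 : a = a⁻¹ := by
      rw [← hba, hcomm, mul_assoc, hb2, mul_one]
    apply haa
    calc a * a = a * a⁻¹ := by rw [← h1]
      _ = 1 := mul_inv_cancel a
  -- `a ^ i = 1 → t ^ i = 1`
  have key2 : ∀ i : ℕ, a ^ i = 1 → t ^ i = 1 := by
    intro i h
    have h3 : i % 3 < 3 := Nat.mod_lt _ (by norm_num)
    rw [pow_eq_pow_mod i ha3] at h
    rw [pow_eq_pow_mod i ht3]
    interval_cases hi : i % 3
    · simp
    · exfalso; rw [pow_one] at h; exact ha1 h
    · exfalso; rw [pow_two] at h; exact haa h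
  -- the subgroup `U`
  set U : Subgroup G := Subgroup.closure {t, r} with hU
  have htU : t ∈ U := Subgroup.subset_closure (by simp)
  have hrU : r ∈ U := Subgroup.subset_closure (by simp)
  have hform : ∀ u ∈ U, ∃ i : ℕ, u = t ^ i ∨ u = t ^ i * r := by
    intro u hu
    induction hu using Subgroup.closure_induction with
    | mem x hx =>
      rcases hx with rfl | hx
      · exact ⟨1, Or.inl (pow_one _).symm⟩
      · rw [Set.mem_singleton_iff] at hx
        subst hx
        exact ⟨0, Or.inr (by simp)⟩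
    | one => exact ⟨0, Or.inl (by simp)⟩
    | mul x y _ _ hx hy =>
      obtain ⟨i, hi | hi⟩ := hx <;> obtain ⟨j, hj | hj⟩ := hy
      · exact ⟨i + j, Or.inl (by rw [hi, hj, pow_add])⟩
      · exact ⟨i + j, Or.inr (by rw [hi, hj, pow_add, mul_assoc])⟩
      · refine ⟨i + 2 * j, Or.inr ?_⟩
        rw [hi, hj, mul_assoc, hrp j, ← mul_assoc, ← pow_add]
      · refine ⟨i + 2 * j, Or.inl ?_⟩
        rw [hi, hj]
        calc t ^ i * r * (t ^ j * r) = t ^ i * (r * t ^ j) * r := by group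
          _ = t ^ i * (t ^ (2 * j) * r) * r := by rw [hrp j]
          _ = t ^ (i + 2 * j) * (r * r) := by rw [pow_add]; group
          _ = t ^ (i + 2 * j) := by rw [hrr, mul_one]
    | inv x _ hx =>
      obtain ⟨i, hi | hi⟩ := hx
      · refine ⟨2 * i, Or.inl ?_⟩
        rw [hi]
        apply inv_eq_of_mul_eq_one_right
        rw [← pow_add]
        have : i + 2 * i = 3 * i := by ring
        rw [this, pow_mul, ht3, one_pow]
      · refine ⟨2 * (2 * i), Or.inr ?_⟩
        rw [hi, mul_inv_rev, hrinv]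
        have h1 : (t ^ i)⁻¹ = t ^ (2 * i) := by
          apply inv_eq_of_mul_eq_one_right
          rw [← pow_add]
          have : i + 2 * i = 3 * i := by ring
          rw [this, pow_mul, ht3, one_pow]
        rw [h1, hrp (2 * i)]
  have hUK : ∀ u ∈ U, u ∈ K → u = 1 := by
    intro u hu huK
    have h1 : π u = 1 := (hπ1 u).2 huK
    obtain ⟨i, hi | hi⟩ := hform u hu
    · rw [hi, map_pow] at h1
      rw [hi]; exact key2 i h1
    · exfalso
      rw [hi, map_mul, map_pow] at h1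
      exact key1 i h1
  -- the restriction of `π` to `U`
  set φ : U →* G ⧸ K := π.comp U.subtype with hφ
  have hφinj : Function.Injective φ := by
    rw [injective_iff_map_eq_one]
    intro u hu
    have h1 : (u : G) ∈ K := (hπ1 u).1 hu
    exact Subtype.ext (hUK u u.2 h1)
  have haR : a ∈ φ.range := ⟨⟨t, htU⟩, rfl⟩
  have hbR : b ∈ φ.range := ⟨⟨r, hrU⟩, rfl⟩
  have hoa : orderOf a = 3 := orderOf_eq_prime ha3 ha1
  have hob : orderOf b = 2 := orderOf_eq_prime (by rw [pow_two]; exact hb2) hb1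
  have h3R : 3 ∣ Nat.card φ.range := by
    rw [← hoa]
    have := orderOf_dvd_natCard (⟨a, haR⟩ : φ.range)
    rwa [Subgroup.orderOf_mk] at this
  have h2R : 2 ∣ Nat.card φ.range := by
    rw [← hob]
    have := orderOf_dvd_natCard (⟨b, hbR⟩ : φ.range)
    rwa [Subgroup.orderOf_mk] at this
  have h6R : 6 ∣ Nat.card φ.range := by
    have : Nat.Coprime 2 3 := by norm_num
    have := this.mul_dvd_of_dvd_of_dvd h2R h3R
    simpa using this
  have hRle : Nat.card φ.range ≤ 6 := by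
    rw [← hQ]; exact Subgroup.card_le_card_group _
  have hRcard : Nat.card φ.range = 6 :=
    le_antisymm hRle (Nat.le_of_dvd Nat.card_pos h6R)
  have hRtop : φ.range = ⊤ := by
    apply (Subgroup.card_eq_iff_eq_top _).1
    rw [hRcard, hQ]
  have hUcard : Nat.card U = 6 := by
    rw [← hRcard]
    exact Nat.card_congr (MonoidHom.ofInjective hφinj).toEquiv
  have hdecomp : ∀ g : G, ∃ u ∈ U, ∃ k ∈ K, g = u * k := by
    intro g
    have : π g ∈ φ.range := hRtop ▸ Subgroup.mem_top _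
    obtain ⟨u, hu⟩ := this
    refine ⟨u, u.2, (u : G)⁻¹ * g, ?_, by group⟩
    rw [← hπ1, map_mul, map_inv, ← hu]
    simp [hφ]
  refine ⟨?_, U, htU, hrU, hUcard, hUK, hform, hdecomp⟩
  -- conjugates of `t`
  intro g
  obtain ⟨u, hu, k, hk, rfl⟩ := hdecomp g
  have hπk : π k = 1 := (hπ1 k).2 hk
  have hπx : π (u * k * t * (u * k)⁻¹) = π (u * t * u⁻¹) := by
    simp only [map_mul, map_inv, hπk, mul_one]
  have hcase : u * t * u⁻¹ = t ∨ u * t * u⁻¹ = t⁻¹ := by
    obtain ⟨i, hi | hi⟩ := hform u hu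
    · left
      rw [hi]
      have : Commute (t ^ i) t := Commute.pow_self t i
      rw [this.eq, mul_assoc, mul_inv_cancel, mul_one]
    · right
      rw [hi, mul_inv_rev, hrinv]
      calc t ^ i * r * t * (r * (t ^ i)⁻¹) = t ^ i * (r * t * r) * (t ^ i)⁻¹ := by group
        _ = t ^ i * t⁻¹ * (t ^ i)⁻¹ := by rw [hrt]
        _ = t⁻¹ := by
          have : Commute (t ^ i) t⁻¹ := (Commute.pow_self t i).inv_right
          rw [this.eq, mul_assoc, mul_inv_cancel, mul_one]
  rcases hcase with h | h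
  · refine ⟨u * k * t * (u * k)⁻¹ * t⁻¹, ?_, Or.inl (by group)⟩
    rw [← hπ1, map_mul, hπx, h, map_inv, mul_inv_cancel]
  · refine ⟨u * k * t * (u * k)⁻¹ * t, ?_, Or.inr (by group)⟩
    rw [← hπ1, map_mul, hπx, h, map_inv, inv_mul_cancel]

end Cfsg.Agent.Helper17.GS4
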