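import Mathlib
import Cfsg.Agent.Lib.Helper17.EmbedNormalizer
import Cfsg.Agent.Lib.Helper17.PrimeSylow

set_option autoImplicit false

namespace Cfsg.Agent.Helper17

open Equiv

/-- If a simple group has a proper subgroup of index `p` or `p + 1` and Sylow `p`-subgroups of order
`p`, then the normalizer of a Sylow `p`-subgroup has order dividing `p (p - 1) / 2`. -/
theorem two_mul_card_normalizer_dvd_of_index {G : Type*} [Group G] [Finite G] [IsSimpleGroup G]
    (hG : ¬ IsMulCommutative G) {p : ℕ} [hp : Fact p.Prime] (hp2 : p ≠ 2) (P : Sylow p G)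
    (hP : Nat.card (P : Subgroup G) = p) (H : Subgroup G) (hH : H ≠ ⊤)
    (hidx : H.index = p ∨ H.index = p + 1) :
    2 * Nat.card ↥(Subgroup.normalizer ((P : Subgroup G) : Set G)) ∣ p * (p - 1) := by
  classical
  set N : Subgroup G := Subgroup.normalizer ((P : Subgroup G) : Set G) with hN
  generalize hn' : H.index = n at hidx
  obtain ⟨f, hf⟩ : ∃ f : G →* ↥(alternatingGroup (Fin n)), Function.Injective f := by
    rw [← hn']; exact embed_alt hG H hH
  let ι : G →* Perm (Fin n) := (alternatingGroup (Fin n)).subtype.comp f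
  have hι : Function.Injective ι := fun a b hab => hf (Subtype.ext hab)
  have hcardα : Fintype.card (Fin n) = p ∨ Fintype.card (Fin n) = p + 1 := by
    rw [Fintype.card_fin]; exact hidx
  have hP' : IsPGroup p ((P : Subgroup G).map ι) := P.2.map ι
  obtain ⟨Q, hQ⟩ := hP'.exists_le_sylow
  have hQc : Nat.card (Q : Subgroup (Perm (Fin n))) = p := sylow_perm_card hcardα Q
  have hPc : Nat.card ((P : Subgroup G).map ι) = p := by
    rw [Subgroup.card_map_of_injective hι]; exact hP
  have hPQ : (P : Subgroup G).map ι = (Q : Subgroup (Perm (Fin n))) :=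
    Subgroup.eq_of_le_of_card_ge hQ (by rw [hQc, hPc])
  have hle : N.map ι ≤ alternatingGroup (Fin n) ⊓
      Subgroup.normalizer ((Q : Subgroup (Perm (Fin n))) : Set (Perm (Fin n))) := by
    apply le_inf
    · rintro _ ⟨g, _, rfl⟩
      exact (f g).2
    · rw [← hPQ]
      exact Subgroup.le_normalizer_map ι
  have hcN : Nat.card (N.map ι) = Nat.card N := Subgroup.card_map_of_injective hι
  have hdvd := Subgroup.card_dvd_of_le hle
  rw [hcN] at hdvd
  have h2 : 2 ≤ Fintype.card (Fin n) := by
    rw [Fintype.card_fin]; have := hp.out.two_le; omega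
  have hfr := two_mul_card_alt_inf_normalizer h2 p hp2 Q
  rw [card_normalizer_sylow_perm p hcardα Q] at hfr
  rw [← hfr]
  exact Nat.mul_dvd_mul_left 2 hdvd

/-- If the Sylow `p`-subgroups have order `q` and pairwise trivial intersections, the number of their
nonidentity elements is `n_p * (q - 1)`. -/
theorem card_nonidentity_of_TI {G : Type*} [Group G] [Finite G] {p : ℕ} [hp : Fact p.Prime] (q : ℕ)
    (h : ∀ P : Sylow p G, Nat.card (P : Subgroup G) = q)
    (hTI : ∀ P Q : Sylow p G, P ≠ Q → (P : Subgroup G) ⊓ (Q : Subgroup G) = ⊥) :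
    Nat.card {g : G // g ≠ 1 ∧ ∃ P : Sylow p G, g ∈ (P : Subgroup G)} =
      Nat.card (Sylow p G) * (q - 1) := by
  classical
  have := Fintype.ofFinite (Sylow p G)
  let e : {g : G // g ≠ 1 ∧ ∃ P : Sylow p G, g ∈ (P : Subgroup G)} ≃
      Σ P : Sylow p G, {x : ↥(P : Subgroup G) // x ≠ 1} :=
    { toFun := fun g =>
        ⟨Classical.choose g.2.2,
          ⟨⟨g.1, Classical.choose_spec g.2.2⟩, by
            intro h1
            exact g.2.1 (congrArg Subtype.val h1)⟩⟩
      invFun := fun x =>
        ⟨x.2.1.1, fun h1 => x.2.2 (Subtype.ext h1), ⟨x.1, x.2.1.2⟩⟩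
      left_inv := fun g => rfl
      right_inv := by
        rintro ⟨P, ⟨⟨x, hx⟩, hx1⟩⟩
        have hx1' : x ≠ 1 := fun h1 => hx1 (Subtype.ext h1)
        have hex : ∃ P : Sylow p G, x ∈ (P : Subgroup G) := ⟨P, hx⟩
        have hQ := Classical.choose_spec hex
        have hPQ : Classical.choose hex = P := by
          by_contra hne
          have hmem : x ∈ ((Classical.choose hex : Sylow p G) : Subgroup G) ⊓ (P : Subgroup G) :=
            ⟨hQ, hx⟩
          rw [hTI _ _ hne] at hmem
          exact hx1' (Subgroup.mem_bot.1 hmem)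
        exact sigma_sylow_ext _ _ _ _ hPQ rfl }
  rw [Nat.card_congr e, Nat.card_sigma]
  have : ∀ P : Sylow p G, Nat.card {x : ↥(P : Subgroup G) // x ≠ 1} = q - 1 := by
    intro P
    rw [card_ne_subtype, h P]
  simp only [this, Finset.sum_const, Finset.card_univ, smul_eq_mul, Nat.card_eq_fintype_card]

end Cfsg.Agent.Helper17
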