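import Mathlib

/-!
Fixed-point congruences for elements of prime order and involutions in simple groups.
(Adapted from helper99's lemmas in `Cfsg.Agent.S1017`.)
-/

set_option autoImplicit false

namespace Cfsg.Agent.Helper17.Parity

open MulAction Subgroup

variable {G : Type*} [Group G] [Finite G]

theorem fixedPoints_zpowers_eq {α : Type*} [MulAction G α] (d : G) :
    fixedPoints (Subgroup.zpowers d) α = fixedBy α d := by
  ext x
  constructor
  · intro h
    exact h ⟨d, Subgroup.mem_zpowers d⟩
  · rintro h ⟨y, k, rfl⟩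
    have : d ^ k ∈ stabilizer G x := Subgroup.zpow_mem _ h k
    exact this


/-- An element of prime order `r` has `|α| ≡ |Fix|` mod `r`. -/
theorem card_modEq_card_fixedBy {α : Type*} [MulAction G α] [Finite α] (u : G) {r : ℕ}
    [hr : Fact r.Prime] (hu : orderOf u = r) :
    Nat.card α ≡ Nat.card (fixedBy α u) [MOD r] := by
  have hpg : IsPGroup r (Subgroup.zpowers u) :=
    IsPGroup.of_card (n := 1) (by rw [Nat.card_zpowers, hu, pow_one])
  have hmod := hpg.card_modEq_card_fixedPoints α
  rwa [fixedPoints_zpowers_eq] at hmod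


/-- If `g` of prime order `p` commutes with `u`, then `|Fix u| ≡ |Fix u ∩ Fix g|` mod `p`. -/
theorem card_fixedBy_modEq_inter {α : Type*} [MulAction G α] [Finite α] (g u : G)
    (hc : Commute g u) {p : ℕ} [hp : Fact p.Prime] (hg : orderOf g = p) :
    Nat.card (fixedBy α u) ≡ Nat.card ↥(fixedBy α u ∩ fixedBy α g) [MOD p] := by
  have hpg : IsPGroup p (Subgroup.zpowers g) :=
    IsPGroup.of_card (n := 1) (by rw [Nat.card_zpowers, hg, pow_one])
  let S : SubMulAction (Subgroup.zpowers g) α :=
    { carrier := fixedBy α u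
      smul_mem' := by
        rintro ⟨z, k, rfl⟩ x hx
        have hx' : u • x = x := hx
        have hcz : Commute (g ^ k) u := hc.zpow_left k
        show u • ((g ^ k) • x) = (g ^ k) • x
        rw [smul_smul, ← hcz.eq, ← smul_smul, hx'] }
  have hmod := hpg.card_modEq_card_fixedPoints ↥S
  have e1 : Nat.card ↥S = Nat.card (fixedBy α u) := rfl
  have e2 : Nat.card (fixedPoints (Subgroup.zpowers g) ↥S) =
      Nat.card ↥(fixedBy α u ∩ fixedBy α g) := by
    apply Nat.card_congr
    refine ⟨fun x => ⟨x.1.1, x.1.2, ?_⟩, fun y => ⟨⟨y.1, y.2.1⟩, ?_⟩, ?_, ?_⟩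
    · have := x.2 ⟨g, Subgroup.mem_zpowers g⟩
      have h2 := congrArg (fun t : ↥S => (t : α)) this
      exact h2
    · rintro ⟨z, k, rfl⟩
      apply Subtype.ext
      show (g ^ k) • y.1 = y.1
      have : g ^ k ∈ stabilizer G y.1 := Subgroup.zpow_mem _ y.2.2 k
      exact this
    · intro x; rfl
    · intro y; rfl
  rwa [e1, e2] at hmod

theorem sign_trivial [IsSimpleGroup G] (h2 : 2 < Nat.card G) {α : Type*} [MulAction G α]
    [Fintype α] [DecidableEq α] (x : G) :
    Equiv.Perm.sign (MulAction.toPerm x : Equiv.Perm α) = 1 := by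
  let f : G →* ℤˣ := (Equiv.Perm.sign).comp (MulAction.toPermHom G α)
  rcases (inferInstance : f.ker.Normal).eq_bot_or_eq_top with h | h
  · exfalso
    have hinj : Function.Injective f := (MonoidHom.ker_eq_bot_iff f).1 h
    have := Nat.card_le_card_of_injective f hinj
    have h3 : Nat.card ℤˣ = 2 := by
      rw [Nat.card_eq_fintype_card]; rfl
    omega
  · have : x ∈ f.ker := by rw [h]; exact Subgroup.mem_top x
    exact this

/-- In a simple group of order `> 2`, an involution acting on a finite set has `|Fix| ≡ |α|` mod 4. -/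
theorem card_fixedBy_mod_four [IsSimpleGroup G] (h2 : 2 < Nat.card G) {α : Type*} [MulAction G α]
    [Finite α] (u : G) (hu : orderOf u = 2) :
    Nat.card (fixedBy α u) ≡ Nat.card α [MOD 4] := by
  classical
  have := Fintype.ofFinite α
  have hu2 : u ^ 2 = 1 := by rw [← hu]; exact pow_orderOf_eq_one u
  have hσ : (MulAction.toPerm u : Equiv.Perm α) ^ 2 = 1 := by
    rw [← MulAction.toPermHom_apply, ← map_pow, hu2, map_one]
  have hsign := Equiv.Perm.sign_of_pow_two_eq_one hσ
  rw [sign_trivial h2 u] at hsign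
  have : Fact (Nat.Prime 2) := ⟨Nat.prime_two⟩
  have hmod2 := card_modEq_card_fixedBy (α := α) u hu
  have hfp : Fintype.card (Function.fixedPoints (MulAction.toPerm u : Equiv.Perm α)) =
      Nat.card (fixedBy α u) := by
    rw [← Nat.card_eq_fintype_card]; rfl
  rw [hfp, ← Nat.card_eq_fintype_card] at hsign
  have hle : Nat.card (fixedBy α u) ≤ Nat.card α := Nat.card_le_card_of_injective _ Subtype.val_injective
  set a := Nat.card α
  set b := Nat.card (fixedBy α u)
  have hd2 : 2 ∣ a - b := (Nat.modEq_iff_dvd' hle).1 hmod2.symm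
  obtain ⟨c, hc⟩ := hd2
  rw [hc, Nat.mul_div_cancel_left c (by norm_num)] at hsign
  have hev : Even c := by
    by_contra hodd
    rw [Nat.not_even_iff_odd] at hodd
    rw [hodd.neg_one_pow] at hsign
    exact absurd hsign (by decide)
  obtain ⟨e, he⟩ := hev
  rw [Nat.modEq_iff_dvd' hle]
  exact ⟨e, by omega⟩


end Cfsg.Agent.Helper17.Parity
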