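import Mathlib
import Cfsg.Agent.Lib.Helper17.InvolutionParity
import Cfsg.Agent.Lib.Helper17.PrimeSylow

/-!
# Ito's theorem on permutation groups of prime degree: elementary facts
-/

set_option autoImplicit false
set_option linter.style.haveILetI false
set_option linter.unusedSectionVars false

namespace Cfsg.Agent.Helper17.ItoA

open MulAction

universe u v

variable {G : Type u} [Group G] {α : Type v} [MulAction G α]

/-- An element all of whose points are fixed, counted. -/
theorem forall_smul_eq_of_card_fixedBy [Finite α] (u : G)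
    (h : Nat.card (fixedBy α u) = Nat.card α) : ∀ a : α, u • a = a := by
  intro a
  have h1 : fixedBy α u = Set.univ := by
    rw [Set.eq_univ_iff_ncard, ← h, Nat.card_coe_set_eq]
  have : a ∈ fixedBy α u := h1 ▸ Set.mem_univ a
  exact this

theorem card_fixedBy_le_card [Finite α] (u : G) : Nat.card (fixedBy α u) ≤ Nat.card α :=
  Nat.card_le_card_of_injective Subtype.val Subtype.val_injective

/-- Nontrivial elements of a subgroup of order `p` have no fixed points on a faithful set of
size `p`. -/
theorem card_fixedBy_eq_zero_of_mem [Finite G] [Finite α] {p : ℕ} [hp : Fact p.Prime]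
    (hα : Nat.card α = p) (hfaith : ∀ g : G, (∀ a : α, g • a = a) → g = 1)
    (P : Subgroup G) (hP : Nat.card P = p) (k : G) (hk : k ∈ P) (hk1 : k ≠ 1) :
    Nat.card (fixedBy α k) = 0 := by
  have ho : orderOf k = p := (zpowers_eq_of_card_prime P hP k hk hk1).2
  have hmod := Parity.card_modEq_card_fixedBy (α := α) k ho
  rw [hα] at hmod
  have hdvd : p ∣ Nat.card (fixedBy α k) := by
    have : p % p = Nat.card (fixedBy α k) % p := hmod
    rw [Nat.mod_self] at this
    exact Nat.dvd_of_mod_eq_zero this.symm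
  have hle := card_fixedBy_le_card (α := α) k
  rw [hα] at hle
  obtain ⟨m, hm⟩ := hdvd
  rcases Nat.eq_zero_or_pos m with h0 | hpos
  · rw [hm, h0, mul_zero]
  · exfalso
    have hm1 : m = 1 := by
      have hp0 := hp.out.pos
      by_contra hne
      have : 2 ≤ m := by omega
      nlinarith
    apply hk1
    apply hfaith
    apply forall_smul_eq_of_card_fixedBy
    rw [hm, hm1, mul_one, hα]

/-- A subgroup of order `p` acts transitively on a faithful set of size `p`. -/
theorem exists_mem_smul_eq [Finite G] [Finite α] {p : ℕ} [hp : Fact p.Prime]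
    (hα : Nat.card α = p) (hfaith : ∀ g : G, (∀ a : α, g • a = a) → g = 1)
    (P : Subgroup G) (hP : Nat.card P = p) (ω ω' : α) : ∃ k ∈ P, k • ω = ω' := by
  classical
  have hstab : stabilizer P ω = ⊥ := by
    rw [Subgroup.eq_bot_iff_forall]
    intro k hk
    by_contra hk1
    have hk1' : (k : G) ≠ 1 := fun h => hk1 (Subtype.ext h)
    have h0 := card_fixedBy_eq_zero_of_mem hα hfaith P hP (k : G) k.2 hk1'
    have hmem : ω ∈ fixedBy α (k : G) := by
      rw [mem_fixedBy]
      exact hk
    have : Nonempty (fixedBy α (k : G)) := ⟨⟨ω, hmem⟩⟩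
    have hpos : 0 < Nat.card (fixedBy α (k : G)) := Nat.card_pos
    omega
  have hcard : Nat.card (orbit P ω) = p := by
    have h1 := (stabilizer P ω).card_mul_index
    rw [hstab, Subgroup.card_bot, one_mul, hP] at h1
    rw [Nat.card_coe_set_eq, ← index_stabilizer, hstab]
    exact h1
  have huniv : orbit P ω = Set.univ := by
    rw [Set.eq_univ_iff_ncard, ← Nat.card_coe_set_eq, hcard, hα]
  have hmem : ω' ∈ orbit P ω := huniv ▸ Set.mem_univ ω'
  obtain ⟨k, hk⟩ := hmem
  exact ⟨(k : G), k.2, hk⟩

/-- An involution has an odd number of fixed points on a set of odd size. -/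
theorem odd_card_fixedBy_of_involution [Finite G] [Finite α] (hodd : Odd (Nat.card α)) (s : G)
    (hs : orderOf s = 2) : Odd (Nat.card (fixedBy α s)) := by
  haveI : Fact (Nat.Prime 2) := ⟨Nat.prime_two⟩
  have hmod := Parity.card_modEq_card_fixedBy (α := α) s hs
  rw [Nat.odd_iff] at hodd ⊢
  have : Nat.card α % 2 = Nat.card (fixedBy α s) % 2 := hmod
  omega

/-- An involution normalizing a self-centralizing subgroup of odd prime order `p`, acting on
`p` points, fixes exactly one point. -/
theorem card_fixedBy_involution_normalizer [Finite G] [Finite α] {p : ℕ} [hp : Fact p.Prime]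
    (hp2 : p ≠ 2) (hα : Nat.card α = p) (hfaith : ∀ g : G, (∀ a : α, g • a = a) → g = 1)
    (P : Subgroup G) (hP : Nat.card P = p) (hC : Subgroup.centralizer (P : Set G) = P)
    (τ : G) (hτN : τ ∈ Subgroup.normalizer (P : Set G)) (hτ : orderOf τ = 2) :
    Nat.card (fixedBy α τ) = 1 := by
  classical
  have hoddp : Odd p := hp.out.odd_of_ne_two hp2
  have hodd := odd_card_fixedBy_of_involution (α := α) (by rw [hα]; exact hoddp) τ hτ
  have hτP : τ ∉ P := by
    intro hmem
    have hdvd : orderOf τ ∣ Nat.card P := Subgroup.orderOf_dvd_natCard P hmem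
    rw [hτ, hP] at hdvd
    exact hp2 ((Nat.prime_dvd_prime_iff_eq Nat.prime_two hp.out).1 hdvd).symm
  have hle : Nat.card (fixedBy α τ) ≤ 1 := by
    rw [Finite.card_le_one_iff_subsingleton]
    constructor
    intro a b
    by_contra hab
    have hab' : (a : α) ≠ (b : α) := fun h => hab (Subtype.ext h)
    obtain ⟨k, hk, hkab⟩ := exists_mem_smul_eq hα hfaith P hP (a : α) (b : α)
    have hk1 : k ≠ 1 := by
      rintro rfl
      rw [one_smul] at hkab
      exact hab' hkab
    have ha : τ • (a : α) = a := a.2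
    have hb : τ • (b : α) = b := b.2
    -- τ k τ⁻¹ ∈ P sends a to b as well
    have hconj : τ * k * τ⁻¹ ∈ P := by
      have := (Subgroup.mem_normalizer_iff.1 hτN k).1 hk
      exact this
    have hτinv : τ⁻¹ • (a : α) = a := by
      rw [inv_smul_eq_iff, ha]
    have hconjab : (τ * k * τ⁻¹) • (a : α) = b := by
      rw [mul_smul, mul_smul, hτinv, hkab, hb]
    -- so (τ k τ⁻¹)⁻¹ * k fixes a, hence trivial
    have hfix : ((τ * k * τ⁻¹)⁻¹ * k) • (a : α) = a := by
      rw [mul_smul, hkab, inv_smul_eq_iff, hconjab]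
    have hmemP : (τ * k * τ⁻¹)⁻¹ * k ∈ P := P.mul_mem (P.inv_mem hconj) hk
    have htriv : (τ * k * τ⁻¹)⁻¹ * k = 1 := by
      by_contra hne
      have h0 := card_fixedBy_eq_zero_of_mem hα hfaith P hP _ hmemP hne
      have hmem : (a : α) ∈ fixedBy α ((τ * k * τ⁻¹)⁻¹ * k) := hfix
      have : Nonempty (fixedBy α ((τ * k * τ⁻¹)⁻¹ * k)) := ⟨⟨a, hmem⟩⟩
      have hpos : 0 < Nat.card (fixedBy α ((τ * k * τ⁻¹)⁻¹ * k)) := Nat.card_pos
      omega
    have hcomm : τ * k = k * τ := by
      have h1 : k = τ * k * τ⁻¹ := by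
        have := inv_mul_eq_one.1 htriv
        exact this.symm
      calc τ * k = (τ * k * τ⁻¹) * τ := by group
        _ = k * τ := by rw [← h1]
    -- τ centralizes P = ⟨k⟩
    have hz := (zpowers_eq_of_card_prime P hP k hk hk1).1
    have hτC : τ ∈ Subgroup.centralizer (P : Set G) := by
      rw [← hz, Subgroup.zpowers_eq_closure, Subgroup.centralizer_closure]
      rw [Subgroup.mem_centralizer_iff]
      intro y hy
      rw [Set.mem_singleton_iff] at hy
      rw [hy]
      exact hcomm.symm
    rw [hC] at hτC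
    exact hτP hτC
  rcases hodd with ⟨m, hm⟩
  omega

end Cfsg.Agent.Helper17.ItoA
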