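import Mathlib
import Cfsg.Agent.Lib.Helper59.Derangement

/-!
# Falling-factorial moments of the fixed point function of a multiply transitive group
-/

set_option autoImplicit false
set_option linter.style.haveILetI false
set_option linter.unusedSectionVars false

namespace Cfsg.Agent.Helper17.ItoB

open MulAction

universe u v w

variable {G : Type u} [Group G] {α : Type v} [MulAction G α]

/-- Embeddings fixed by `g` are the embeddings into the fixed points of `g`. -/
def fixedEmbEquiv (k : ℕ) (g : G) : fixedBy (Fin k ↪ α) g ≃ (Fin k ↪ fixedBy α g) where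
  toFun x := ⟨fun i => ⟨x.1 i, by
      have h := x.2
      rw [mem_fixedBy] at h ⊢
      have := congrArg (fun e : Fin k ↪ α => e i) h
      simpa [Function.Embedding.smul_apply] using this⟩,
    fun i j hij => x.1.injective (by simpa using congrArg Subtype.val hij)⟩
  invFun y := ⟨y.trans (Function.Embedding.subtype _), by
      rw [mem_fixedBy]
      ext i
      rw [Function.Embedding.smul_apply]
      exact (y i).2⟩
  left_inv x := by
    ext i
    rfl
  right_inv y := by
    ext i
    rfl

theorem card_fixedBy_embedding [Finite α] (k : ℕ) (g : G) :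
    Nat.card (fixedBy (Fin k ↪ α) g) = (Nat.card (fixedBy α g)).descFactorial k := by
  classical
  have := Fintype.ofFinite α
  have : Fintype (fixedBy α g) := Fintype.ofFinite _
  rw [Nat.card_congr (fixedEmbEquiv k g), Nat.card_eq_fintype_card, Fintype.card_embedding_eq,
    Fintype.card_fin, Nat.card_eq_fintype_card]

/-- The `k`-th falling factorial moment of the fixed point function of a `k`-transitive
group is `1`. -/
theorem sum_descFactorial [Fintype G] [Finite α] (k : ℕ) (hk : k ≤ Nat.card α)
    (h : IsMultiplyPretransitive G α k) :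
    ∑ g : G, (Nat.card (fixedBy α g)).descFactorial k = Nat.card G := by
  classical
  have := Fintype.ofFinite α
  have hne : Nonempty (Fin k ↪ α) := by
    rw [Function.Embedding.nonempty_iff_card_le, Fintype.card_fin, ← Nat.card_eq_fintype_card]
    exact hk
  have hb := Cfsg.Agent.Helper59.burnside_natCard (G := G) (X := Fin k ↪ α)
  have h1 : Nat.card (orbitRel.Quotient G (Fin k ↪ α)) = 1 := by
    have hpt : IsPretransitive G (Fin k ↪ α) := h
    have hs : Subsingleton (orbitRel.Quotient G (Fin k ↪ α)) :=
      (pretransitive_iff_subsingleton_quotient G (Fin k ↪ α)).1 hpt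
    have hn : Nonempty (orbitRel.Quotient G (Fin k ↪ α)) := ⟨Quotient.mk'' hne.some⟩
    exact Nat.card_eq_one_iff_unique.2 ⟨hs, hn⟩
  rw [h1, one_mul] at hb
  rw [← hb]
  exact Finset.sum_congr rfl (fun g _ => (card_fixedBy_embedding k g).symm)


theorem card_fixedBy_conj' [Finite α] (c g : G) :
    Nat.card (fixedBy α (c * g * c⁻¹)) = Nat.card (fixedBy α g) := by
  refine Nat.card_congr ⟨fun a => ⟨c⁻¹ • a.1, ?_⟩, fun a => ⟨c • a.1, ?_⟩, ?_, ?_⟩
  · have h := a.2
    rw [mem_fixedBy] at h ⊢
    calc g • c⁻¹ • a.1 = c⁻¹ • (c * g * c⁻¹) • a.1 := by simp [mul_smul]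
      _ = c⁻¹ • a.1 := by rw [h]
  · have h := a.2
    rw [mem_fixedBy] at h ⊢
    calc (c * g * c⁻¹) • c • a.1 = c • g • a.1 := by simp [mul_smul]
      _ = c • a.1 := by rw [h]
  · intro a; ext; simp
  · intro a; ext; simp

/-- Mixed moment: sum over `g` of `|Fix_X g| * |Fix_α g|` for a transitive `G`-set `X`. -/
theorem sum_fixedBy_mul {X : Type w} [MulAction G X] [Fintype G] [Finite X] [Finite α]
    [IsPretransitive G X] (x₀ : X) [Fintype (stabilizer G x₀)] :
    (∑ g : G, Nat.card (fixedBy X g) * Nat.card (fixedBy α g)) * Nat.card (stabilizer G x₀)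
      = Nat.card G * ∑ h : stabilizer G x₀, Nat.card (fixedBy α (h : G)) := by
  classical
  have := Fintype.ofFinite X
  set fx : G → ℕ := fun g => Nat.card (fixedBy α g) with hfx
  -- the sum over the stabilizer of a point does not depend on the point
  have hS : ∀ x : X, ∑ g : G, (if g • x = x then fx g else 0)
      = ∑ g : G, (if g • x₀ = x₀ then fx g else 0) := by
    intro x
    obtain ⟨c, rfl⟩ := exists_smul_eq G x₀ x
    refine (Fintype.sum_equiv (MulAut.conj c).toEquiv _ _ ?_).symm
    intro g
    have h1 : ((MulAut.conj c).toEquiv g) = c * g * c⁻¹ := rfl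
    rw [h1]
    have h2 : (c * g * c⁻¹) • c • x₀ = c • x₀ ↔ g • x₀ = x₀ := by
      rw [mul_smul, mul_smul, inv_smul_smul, smul_left_cancel_iff]
    simp only [h2, hfx, card_fixedBy_conj']
  have h1 : ∑ g : G, Nat.card (fixedBy X g) * fx g
      = ∑ x : X, ∑ g : G, (if g • x = x then fx g else 0) := by
    rw [Finset.sum_comm]
    refine Finset.sum_congr rfl (fun g _ => ?_)
    rw [← Finset.sum_filter, Finset.sum_const, smul_eq_mul]
    congr 1
    rw [Nat.card_eq_fintype_card, Fintype.card_subtype]
    rfl
  have h2 : ∑ g : G, (if g • x₀ = x₀ then fx g else 0)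
      = ∑ h : stabilizer G x₀, fx (h : G) := by
    rw [← Finset.sum_filter]
    refine (Finset.sum_subtype _ ?_ _)
    intro g
    simp [mem_stabilizer_iff]
  rw [h1, Finset.sum_congr rfl (fun x _ => hS x), Finset.sum_const, smul_eq_mul, h2,
    Finset.card_univ]
  have h3 : Fintype.card X * Nat.card (stabilizer G x₀) = Nat.card G := by
    rw [← Nat.card_eq_fintype_card, ← index_stabilizer_of_transitive G x₀, mul_comm]
    exact Subgroup.card_mul_index _
  rw [← h3]
  ring

section K

variable {K : Type u} [Group K] {α : Type v} [MulAction K α]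

theorem sum_card_fixedBy_eq_sum_card_stabilizer [Fintype K] [Fintype α] :
    ∑ h : K, Nat.card (fixedBy α h) = ∑ ω : α, Nat.card (stabilizer K ω) := by
  classical
  have h1 : ∀ h : K, Nat.card (fixedBy α h) = ∑ ω : α, (if h • ω = ω then 1 else 0) := by
    intro h
    rw [← Finset.sum_filter, Finset.sum_const, smul_eq_mul, mul_one, Nat.card_eq_fintype_card,
      Fintype.card_subtype]
    rfl
  have h2 : ∀ ω : α, Nat.card (stabilizer K ω) = ∑ h : K, (if h • ω = ω then 1 else 0) := by
    intro ω
    rw [← Finset.sum_filter, Finset.sum_const, smul_eq_mul, mul_one, Nat.card_eq_fintype_card,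
      Fintype.card_subtype]
    rfl
  rw [Finset.sum_congr rfl (fun h _ => h1 h), Finset.sum_congr rfl (fun ω _ => h2 ω),
    Finset.sum_comm]

theorem three_mul_sum_card_fixedBy_le [Fintype K] [Fintype α] (hodd : Odd (Nat.card K)) :
    3 * ∑ h : K, Nat.card (fixedBy α h)
      ≤ (2 * Nat.card (fixedPoints K α) + Nat.card α) * Nat.card K := by
  classical
  rw [sum_card_fixedBy_eq_sum_card_stabilizer, Finset.mul_sum]
  have hb : ∀ ω : α, 3 * Nat.card (stabilizer K ω)
      ≤ (if ω ∈ fixedPoints K α then 3 else 1) * Nat.card K := by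
    intro ω
    by_cases hω : ω ∈ fixedPoints K α
    · rw [if_pos hω]
      exact Nat.mul_le_mul_left _ (Subgroup.card_le_card_group _)
    · rw [if_neg hω, one_mul]
      have hidx := (stabilizer K ω).card_mul_index
      have hne1 : (stabilizer K ω).index ≠ 1 := by
        intro h1
        rw [Subgroup.index_eq_one] at h1
        apply hω
        intro k
        have : k ∈ stabilizer K ω := h1 ▸ Subgroup.mem_top k
        exact this
      have hoddi : Odd (stabilizer K ω).index := by
        rw [← hidx] at hodd
        exact (Nat.odd_mul.1 hodd).2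
      have h3 : 3 ≤ (stabilizer K ω).index := by
        rcases hoddi with ⟨m, hm⟩
        have : (stabilizer K ω).index ≠ 0 := Subgroup.index_ne_zero_of_finite
        omega
      calc 3 * Nat.card (stabilizer K ω) ≤ (stabilizer K ω).index * Nat.card (stabilizer K ω) :=
            Nat.mul_le_mul_right _ h3
        _ = Nat.card K := by rw [mul_comm, hidx]
  refine (Finset.sum_le_sum (fun ω _ => hb ω)).trans ?_
  rw [← Finset.sum_mul]
  refine Nat.mul_le_mul_right _ ?_
  have h1 : ∀ ω : α, (if ω ∈ fixedPoints K α then 3 else 1)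
      = 1 + (if ω ∈ fixedPoints K α then 2 else 0) := by
    intro ω; split_ifs <;> rfl
  rw [Finset.sum_congr rfl (fun ω _ => h1 ω), Finset.sum_add_distrib, Finset.sum_const,
    ← Finset.sum_filter, Finset.sum_const, smul_eq_mul, smul_eq_mul, mul_one, Finset.card_univ,
    Nat.card_eq_fintype_card (α := α), Nat.card_eq_fintype_card, Fintype.card_subtype]
  have : (Finset.univ.filter (fun ω : α => ω ∈ fixedPoints K α)).card
      = (Finset.univ.filter (fun x : α => x ∈ fixedPoints K α)).card := rfl
  omega

end K

end Cfsg.Agent.Helper17.ItoB
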