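import Mathlib
import Cfsg.Agent.Lib.Helper17.ItoA
import Cfsg.Agent.Lib.Helper17.ItoB
import Cfsg.Agent.Lib.Helper17.PrimeTID
import Cfsg.Agent.Lib.Helper17.PrimeTIApp
import Cfsg.Agent.Lib.Helper82.GenChar
import Cfsg.Agent.S0157

/-!
# Ito's theorem: the character `fix - 1` and the exceptional characters
-/

set_option autoImplicit false
set_option linter.style.haveILetI false
set_option linter.unusedSectionVars false

namespace Cfsg.Agent.Helper17.ItoC

open MulAction Cfsg
open scoped ComplexConjugate

universe u v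

variable {G : Type u} [Group G] [Fintype G] {α : Type v} [Fintype α] [MulAction G α]

/-- The function `fix - 1`. -/
noncomputable def theta (G : Type u) [Group G] (α : Type v) [MulAction G α] : G → ℂ :=
  fun g => (Nat.card (fixedBy α g) : ℂ) - 1

theorem theta_apply (g : G) : theta G α g = (Nat.card (fixedBy α g) : ℂ) - 1 := rfl

theorem descFactorial_two_cast (n : ℕ) : ((n.descFactorial 2 : ℕ) : ℂ) = (n : ℂ) * ((n : ℂ) - 1) := by
  rcases n with _ | n
  · simp
  · rw [Nat.descFactorial_succ, Nat.descFactorial_one]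
    push_cast
    simp
    ring

theorem descFactorial_three_cast (n : ℕ) :
    ((n.descFactorial 3 : ℕ) : ℂ) = (n : ℂ) * ((n : ℂ) - 1) * ((n : ℂ) - 2) := by
  rcases n with _ | _ | n
  · simp
  · simp [Nat.descFactorial]
  · rw [Nat.descFactorial_succ, Nat.descFactorial_succ, Nat.descFactorial_one]
    push_cast
    simp
    ring

/-- First moment. -/
theorem sum_fix (h1 : IsPretransitive G α) [Nonempty α] :
    ∑ g : G, (Nat.card (fixedBy α g) : ℂ) = (Nat.card G : ℂ) := by
  have h := ItoB.sum_descFactorial (G := G) (α := α) 1 (Nat.card_pos) 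
    ((is_one_pretransitive_iff).2 h1)
  simp only [Nat.descFactorial_one] at h
  exact_mod_cast h

/-- Second moment. -/
theorem sum_fix_two (hα : 2 ≤ Nat.card α) (h2 : IsMultiplyPretransitive G α 2) :
    ∑ g : G, (Nat.card (fixedBy α g) : ℂ) * ((Nat.card (fixedBy α g) : ℂ) - 1)
      = (Nat.card G : ℂ) := by
  have h := ItoB.sum_descFactorial (G := G) (α := α) 2 hα h2
  have h' : ∑ g : G, (((Nat.card (fixedBy α g)).descFactorial 2 : ℕ) : ℂ) = (Nat.card G : ℂ) := by
    exact_mod_cast h
  rw [← h']
  exact Finset.sum_congr rfl (fun g _ => (descFactorial_two_cast _).symm)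

/-- Third moment. -/
theorem sum_fix_three (hα : 3 ≤ Nat.card α) (h3 : IsMultiplyPretransitive G α 3) :
    ∑ g : G, (Nat.card (fixedBy α g) : ℂ) * ((Nat.card (fixedBy α g) : ℂ) - 1)
        * ((Nat.card (fixedBy α g) : ℂ) - 2) = (Nat.card G : ℂ) := by
  have h := ItoB.sum_descFactorial (G := G) (α := α) 3 hα h3
  have h' : ∑ g : G, (((Nat.card (fixedBy α g)).descFactorial 3 : ℕ) : ℂ) = (Nat.card G : ℂ) := by
    exact_mod_cast h
  rw [← h']
  exact Finset.sum_congr rfl (fun g _ => (descFactorial_three_cast _).symm)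

theorem isCharacter_of_isIrrCharacter {χ : G → ℂ} (h : IsIrrCharacter G χ) : IsCharacter G χ := by
  obtain ⟨n, ρ, _, hρ⟩ := h
  exact ⟨n, ρ, hρ⟩

/-- For a doubly transitive group, `fix - 1` is an irreducible character. -/
theorem isIrrCharacter_theta (hα : 2 ≤ Nat.card α) (h2 : IsMultiplyPretransitive G α 2) :
    IsIrrCharacter G (theta G α) := by
  have hne : Nonempty α := by
    have : 0 < Nat.card α := by omega
    exact (Nat.card_pos_iff.1 this).1
  have h1 : IsPretransitive G α := by
    rw [← is_one_pretransitive_iff]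
    exact isMultiplyPretransitive_of_le' (by norm_num : 1 ≤ 2) (by
      rw [ENat.card_eq_coe_natCard]; exact_mod_cast hα) 
  have hgen : IsGeneralizedCharacter G (theta G α) :=
    ⟨fun g => (Nat.card (fixedBy α g) : ℂ), fun _ => 1,
      Cfsg.Agent.S0157.isCharacter_permChar α,
      isCharacter_of_isIrrCharacter Cfsg.Agent.Helper81.isIrrCharacter_one, rfl⟩
  have hG0 : (Nat.card G : ℂ) ≠ 0 := by
    have : 0 < Nat.card G := Nat.card_pos
    exact_mod_cast this.ne'
  have hnorm : classInner (theta G α) (theta G α) = 1 := by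
    unfold classInner
    have hs : ∑ g : G, theta G α g * conj (theta G α g) = (Nat.card G : ℂ) := by
      have e : ∀ g : G, theta G α g * conj (theta G α g)
          = (Nat.card (fixedBy α g) : ℂ) * ((Nat.card (fixedBy α g) : ℂ) - 1)
            - (Nat.card (fixedBy α g) : ℂ) + 1 := by
        intro g
        rw [theta_apply, map_sub, map_one, Complex.conj_natCast]
        ring
      rw [Finset.sum_congr rfl (fun g _ => e g), Finset.sum_add_distrib, Finset.sum_sub_distrib,
        sum_fix_two hα h2, sum_fix h1]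
      simp [Nat.card_eq_fintype_card]
    rw [hs, inv_mul_cancel₀ hG0]
  rcases Cfsg.Agent.Helper82.genChar_norm_one hgen hnorm with h | h
  · exact h
  · exfalso
    have hd := (Cfsg.Agent.Helper79.irr_one_eq ⟨_, h⟩).1
    simp only [Pi.neg_apply, theta_apply] at hd
    have hfix1 : Nat.card (fixedBy α (1 : G)) = Nat.card α := by
      rw [fixedBy_one_eq_univ]
      exact Nat.card_congr (Equiv.Set.univ α)
    rw [hfix1] at hd
    have : ((charDegree (-theta G α) + Nat.card α : ℕ) : ℂ) = ((1 : ℕ) : ℂ) := by
      push_cast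
      linear_combination -hd
    have := Nat.cast_injective this
    omega

end Cfsg.Agent.Helper17.ItoC
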