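import Mathlib
import Cfsg.Agent.Lib.Helper17.ItoC
import Cfsg.Agent.Lib.Helper3.CharOrtho

set_option autoImplicit false
set_option linter.style.haveILetI false
set_option linter.unusedSectionVars false

namespace Cfsg.Agent.Helper17.ItoC

open MulAction Cfsg
open scoped ComplexConjugate

universe u v

variable {G : Type u} [Group G] [Fintype G] {α : Type v} [Fintype α] [MulAction G α]

set_option maxHeartbeats 1000000 in
/-- The structure of the irreducible characters relative to `P`. -/
theorem exc_structure (hfaith : ∀ g : G, (∀ a : α, g • a = a) → g = 1) {p : ℕ}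
    [hp : Fact p.Prime] (hp5 : 5 ≤ p) (hα : Nat.card α = p)
    (h2 : IsMultiplyPretransitive G α 2)
    (P : Subgroup G) (hP : Nat.card P = p) (hC : Subgroup.centralizer (P : Set G) = P)
    (hN : Nat.card (Subgroup.normalizer (P : Set G)) = 2 * p) :
    ∃ E : Finset (IrrCharacter G), 2 * E.card + 1 = p ∧
      (∀ ψ ∈ E, (ψ : G → ℂ) ≠ fun _ => 1) ∧ (∀ ψ ∈ E, (ψ : G → ℂ) ≠ theta G α) ∧
      (∀ ψ ∈ E, ∀ g : G, 0 < Nat.card (fixedBy α g) →
        (ψ : G → ℂ) g = (Nat.card (fixedBy α g) : ℂ) - 2) ∧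
      (∀ k ∈ P, k ≠ 1 → ∑ ψ ∈ E, (ψ : G → ℂ) k = 1) ∧
      (∀ χ : IrrCharacter G, χ ∉ E → (χ : G → ℂ) ≠ (fun _ => 1) → (χ : G → ℂ) ≠ theta G α →
        ∀ k ∈ P, k ≠ 1 → (χ : G → ℂ) k = 0) := by
  classical
  have hpodd : Odd p := hp.out.odd_of_ne_two (by omega)
  obtain ⟨t, ht2⟩ := hpodd
  have hte : t * 2 + 1 = p := by omega
  have ht : 2 ≤ t := by omega
  obtain ⟨w, d, E, a, hEcard, hEdeg, hEne, haE, haK, hcong, hnorm, hdegeq, hsumE, hagree⟩ :=
    PrimeTI.prime_degree_equation_ext P p 2 t hP hC (by rw [hN, mul_comm]) le_rfl hte ht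
  have hα2 : 2 ≤ Nat.card α := by omega
  set ψ1 : IrrCharacter G := ⟨fun _ => 1, Cfsg.Agent.Helper81.isIrrCharacter_one⟩ with hψ1
  set θ' : IrrCharacter G := ⟨theta G α, isIrrCharacter_theta hα2 h2⟩ with hθ'
  have hψ1E : ψ1 ∉ E := fun h => hEne ψ1 h rfl
  obtain ⟨k, hk, hk1⟩ := PrimeTI.exists_ne_one_of_prime_card P hP
  have hfixP : ∀ k ∈ P, k ≠ 1 → Nat.card (fixedBy α k) = 0 := fun k hk hk1 =>
    ItoA.card_fixedBy_eq_zero_of_mem hα hfaith P hP k hk hk1
  have ha1 : a ψ1 = 1 := by
    have h := haK ψ1 hψ1E k hk hk1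
    have h' : ((1 : ℤ) : ℂ) = ((a ψ1 : ℤ) : ℂ) := by
      rw [← h]; simp [hψ1]
    exact_mod_cast h'.symm
  have hdeg1 : charDegree (ψ1 : G → ℂ) = 1 := PrimeTI.charDegree_one
  have hfix1 : Nat.card (fixedBy α (1 : G)) = p := by
    rw [fixedBy_one_eq_univ, ← hα]
    exact Nat.card_congr (Equiv.Set.univ α)
  have hdegθ : charDegree (θ' : G → ℂ) = p - 1 := by
    have h := (Cfsg.Agent.Helper79.irr_one_eq θ').1
    have h' : (θ' : G → ℂ) 1 = ((p - 1 : ℕ) : ℂ) := by
      show theta G α 1 = _
      rw [theta_apply, hfix1, Nat.cast_sub (by omega)]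
      simp
    rw [h'] at h
    exact (Nat.cast_injective h).symm
  have hθk : (θ' : G → ℂ) k = -1 := by
    show theta G α k = _
    rw [theta_apply, hfixP k hk hk1]
    simp
  have hθne : θ' ≠ ψ1 := by
    intro h
    have h1 : (θ' : G → ℂ) k = (ψ1 : G → ℂ) k := by rw [h]
    rw [hθk] at h1
    simp [hψ1] at h1
    norm_num at h1
  have hsplit1 := Finset.add_sum_erase Finset.univ (fun ψ => (a ψ) ^ 2) (Finset.mem_univ ψ1)
  have hsplit2 := Finset.add_sum_erase Finset.univ
    (fun ψ => a ψ * (charDegree (ψ : G → ℂ) : ℤ)) (Finset.mem_univ ψ1)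
  simp only [ha1, hdeg1] at hsplit1 hsplit2
  have hrest : 0 ≤ ∑ ψ ∈ Finset.univ.erase ψ1, (a ψ) ^ 2 :=
    Finset.sum_nonneg (fun i _ => sq_nonneg _)
  rw [← hsplit1] at hnorm
  rw [← hsplit2] at hdegeq
  have hp2 : (p : ℤ) = 2 * t + 1 := by rw [← hte]; push_cast; ring
  have ht' : (2 : ℤ) ≤ t := by exact_mod_cast ht
  have hp5' : (5 : ℤ) ≤ p := by exact_mod_cast hp5
  have hle1 : ∑ ψ ∈ Finset.univ.erase ψ1, (a ψ) ^ 2 ≤ 1 := by
    by_contra hgt
    push Not at hgt
    have h2 : (2 : ℤ) ≤ ∑ ψ ∈ Finset.univ.erase ψ1, (a ψ) ^ 2 := hgt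
    nlinarith [sq_nonneg w]
  have hcases : ∑ ψ ∈ Finset.univ.erase ψ1, (a ψ) ^ 2 = 0 ∨
      ∑ ψ ∈ Finset.univ.erase ψ1, (a ψ) ^ 2 = 1 := by omega
  have hd0 : (0 : ℤ) ≤ d := by positivity
  rcases hcases with h0 | h1
  · -- only the trivial character: impossible
    exfalso
    have hz := PrimeTI.all_zero _ a h0
    have hs0 : ∑ ψ ∈ Finset.univ.erase ψ1, a ψ * (charDegree (ψ : G → ℂ) : ℤ) = 0 :=
      Finset.sum_eq_zero (fun ψ hψ => by rw [hz ψ hψ, zero_mul])
    rw [hs0] at hdegeq
    rw [h0] at hnorm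
    push_cast at hdegeq
    have hdw : (d : ℤ) * w = -1 := by linarith
    have hd1 : (1 : ℤ) ≤ d := by
      by_contra h
      have h0 : (d : ℤ) = 0 := by omega
      rw [h0] at hdw
      simp at hdw
    have hwneg : w ≤ -1 := by
      by_contra h
      push Not at h
      have : 0 ≤ w := by omega
      nlinarith
    have hwge : -1 ≤ w := by
      by_contra h
      push Not at h
      have : w ≤ -2 := by omega
      nlinarith
    have hw1 : w = -1 := by omega
    rw [hw1] at hnorm
    nlinarith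
  · obtain ⟨X, hX, haX, hrest0⟩ := PrimeTI.peel (Finset.univ.erase ψ1) a 0 (by norm_num)
      (by rw [h1]; norm_num)
    have hXne : X ≠ ψ1 := (Finset.mem_erase.1 hX).1
    have hz := PrimeTI.all_zero _ a (by exact_mod_cast hrest0)
    have hsplit3 := Finset.add_sum_erase (Finset.univ.erase ψ1)
      (fun ψ => a ψ * (charDegree (ψ : G → ℂ) : ℤ)) hX
    have hs0 : ∑ ψ ∈ (Finset.univ.erase ψ1).erase X, a ψ * (charDegree (ψ : G → ℂ) : ℤ) = 0 :=
      Finset.sum_eq_zero (fun ψ hψ => by rw [hz ψ hψ, zero_mul])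
    rw [hs0, add_zero] at hsplit3
    rw [← hsplit3] at hdegeq
    push_cast at hdegeq
    rw [h1] at hnorm
    have hw1 : w ^ 2 = 1 := by nlinarith
    have hw : w = 1 ∨ w = -1 := by
      have h : (w - 1) * (w + 1) = 0 := by ring_nf; linarith
      rcases mul_eq_zero.1 h with h | h
      · left; linarith
      · right; linarith
    have hXE : X ∉ E := by
      intro h
      have := haE X h
      rcases haX with h' | h' <;> rw [h'] at this <;> norm_num at this
    have hcX := hcong X hXE
    set x := charDegree (X : G → ℂ) with hx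
    have hx0 : (0 : ℤ) ≤ x := by positivity
    -- θ' is not exceptional
    have hθE : θ' ∉ E := by
      intro hmem
      have hd : d = p - 1 := by rw [← hEdeg θ' hmem, hdegθ]
      have hd' : (d : ℤ) = p - 1 := by rw [hd, Nat.cast_sub (by omega)]; simp
      rw [hd'] at hdegeq
      rcases haX with haX | haX <;> rcases hw with hw | hw <;> rw [haX] at hcX hdegeq <;>
        rw [hw] at hdegeq
      · nlinarith
      · have hx' : (x : ℤ) = p - 2 := by linarith
        rw [hx'] at hcX
        have h3 : (p : ℤ) ∣ 3 := by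
          have := Int.dvd_sub (dvd_refl (p : ℤ)) hcX
          have e : (p : ℤ) - (p - 2 - 1) = 3 := by ring
          rwa [e] at this
        have := Int.le_of_dvd (by norm_num) h3
        omega
      · have hx' : (x : ℤ) = p := by linarith
        rw [hx'] at hcX
        have h3 : (p : ℤ) ∣ 1 := by
          have := Int.dvd_sub hcX (dvd_refl (p : ℤ))
          have e : (p : ℤ) - (-1) - p = 1 := by ring
          rwa [e] at this
        have := Int.le_of_dvd (by norm_num) h3
        omega
      · nlinarith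
    have haθ : a θ' = -1 := by
      have h := haK θ' hθE k hk hk1
      rw [hθk] at h
      have h' : ((-1 : ℤ) : ℂ) = ((a θ' : ℤ) : ℂ) := by rw [← h]; simp
      exact_mod_cast h'.symm
    have hXθ : X = θ' := by
      by_contra hne
      have hmem : θ' ∈ (Finset.univ.erase ψ1).erase X :=
        Finset.mem_erase.2 ⟨fun h => hne h.symm, Finset.mem_erase.2 ⟨hθne, Finset.mem_univ _⟩⟩
      have := hz θ' hmem
      rw [haθ] at this
      norm_num at this
    have hxp : (x : ℤ) = p - 1 := by
      rw [hx, hXθ, hdegθ, Nat.cast_sub (by omega)]; simp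
    rw [hXθ, haθ] at hdegeq
    rw [hxp] at hdegeq
    have hw1' : w = 1 := by
      rcases hw with hw | hw
      · exact hw
      · exfalso
        rw [hw] at hdegeq
        nlinarith
    rw [hw1'] at hdegeq
    have hdp : (d : ℤ) = p - 2 := by linarith
    -- other characters vanish on P#
    have hvanish : ∀ χ : IrrCharacter G, χ ∉ E → χ ≠ ψ1 → χ ≠ θ' → a χ = 0 := by
      intro χ _ h1 h2
      apply hz
      rw [hXθ]
      exact Finset.mem_erase.2 ⟨h2, Finset.mem_erase.2 ⟨h1, Finset.mem_univ _⟩⟩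
    refine ⟨E, by omega, hEne, ?_, ?_, ?_, ?_⟩
    · intro ψ hψ h
      apply hθE
      have : ψ = θ' := Subtype.ext h
      rwa [← this]
    · intro ψ hψ g hg
      by_cases hg1 : g = 1
      · rw [hg1, (Cfsg.Agent.Helper79.irr_one_eq ψ).1, hEdeg ψ hψ, hfix1]
        have : ((d : ℤ) : ℂ) = ((p : ℤ) : ℂ) - 2 := by rw [hdp]; push_cast; ring
        exact_mod_cast this
      · have hnc : ∀ y : G, y * g * y⁻¹ ∉ P := by
          intro y hy
          have hne : y * g * y⁻¹ ≠ 1 := by
            intro h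
            apply hg1
            have : g = y⁻¹ * (y * g * y⁻¹) * y := by group
            rw [this, h]; group
          have h0 := hfixP _ hy hne
          rw [ItoB.card_fixedBy_conj'] at h0
          omega
        have hnconj : ¬ IsConj g k := by
          intro hc
          obtain ⟨c, hc⟩ := isConj_iff.1 hc
          apply hnc c
          rw [hc]; exact hk
        have hcol := Cfsg.Agent.Helper3.column_orthogonality (G := G) g k
        rw [if_neg hnconj] at hcol
        rw [← Finset.sum_add_sum_compl E] at hcol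
        have hE1 : ∑ χ ∈ E, (χ : G → ℂ) g * conj ((χ : G → ℂ) k) = (ψ : G → ℂ) g := by
          have e : ∀ χ ∈ E, (χ : G → ℂ) g * conj ((χ : G → ℂ) k)
              = (ψ : G → ℂ) g * conj ((χ : G → ℂ) k) := by
            intro χ hχ
            rw [hagree χ hχ ψ hψ g hnc]
          rw [Finset.sum_congr rfl e, ← Finset.mul_sum, ← map_sum, hsumE k hk hk1, hw1']
          simp
        have hE2 : ∑ χ ∈ Eᶜ, (χ : G → ℂ) g * conj ((χ : G → ℂ) k)
            = 1 - ((Nat.card (fixedBy α g) : ℂ) - 1) := by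
          rw [Finset.sum_eq_add ψ1 θ' hθne.symm]
          · rw [hθk]
            show (1 : ℂ) * conj 1 + theta G α g * conj (-1) = _
            rw [theta_apply]
            simp
            ring
          · intro χ hχ hne
            have hχE : χ ∉ E := Finset.mem_compl.1 hχ
            rw [haK χ hχE k hk hk1, hvanish χ hχE hne.1 hne.2]
            simp
          · intro h
            exact absurd (Finset.mem_compl.2 hψ1E) h
          · intro h
            exact absurd (Finset.mem_compl.2 hθE) h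
        rw [hE1, hE2] at hcol
        linear_combination hcol
    · intro k' hk' hk1'
      rw [hsumE k' hk' hk1', hw1']
      simp
    · intro χ hχE h1 h2 k' hk' hk1'
      rw [haK χ hχE k' hk' hk1', hvanish χ hχE (fun h => h1 (by rw [h])) (fun h => h2 (by rw [h]))]
      simp

end Cfsg.Agent.Helper17.ItoC
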