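import Mathlib
import Cfsg.Agent.Lib.Helper17.ItoC2
import Cfsg.Agent.Lib.Helper16.GreenSylow

set_option autoImplicit false
set_option linter.style.haveILetI false
set_option linter.unusedSectionVars false

namespace Cfsg.Agent.Helper17.ItoD

open MulAction Cfsg
open scoped ComplexConjugate

universe u v

/-- Two involutions whose product has odd order are conjugate. -/
theorem isConj_of_involutions {G : Type u} [Group G] (x τ : G) (hx : x * x = 1) (hτ : τ * τ = 1)
    (n : ℕ) (hρ : (x * τ) ^ (2 * n + 1) = 1) : IsConj τ x := by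
  set ρ := x * τ with hρdef
  have hxρ : x = ρ * τ := by rw [hρdef, mul_assoc, hτ, mul_one]
  have hρinv : ρ⁻¹ = τ * x := by
    rw [hρdef, mul_inv_rev]
    have h1 : x⁻¹ = x := inv_eq_of_mul_eq_one_right hx
    have h2 : τ⁻¹ = τ := inv_eq_of_mul_eq_one_right hτ
    rw [h1, h2]
  have hsc : SemiconjBy τ ρ ρ⁻¹ := by
    show τ * ρ = ρ⁻¹ * τ
    rw [hρinv, hρdef, mul_assoc τ x τ]
  have hpow := hsc.pow_right (n + 1)
  have hpp : ρ ^ (n + 1) * ρ ^ (n + 1) = ρ := by
    rw [← pow_add, show n + 1 + (n + 1) = (2 * n + 1) + 1 by ring, pow_succ, hρ, one_mul]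
  rw [isConj_iff]
  refine ⟨ρ ^ (n + 1), ?_⟩
  rw [mul_inv_eq_iff_eq_mul]
  have h3 : τ * ρ ^ (n + 1) = ρ⁻¹ ^ (n + 1) * τ := hpow
  have h4 : ρ ^ (n + 1) = ρ * ρ⁻¹ ^ (n + 1) := by
    have : ρ ^ (n + 1) * (ρ ^ (n + 1) * ρ⁻¹ ^ (n + 1)) = ρ * ρ⁻¹ ^ (n + 1) := by
      rw [← mul_assoc, hpp]
    rw [inv_pow, mul_inv_cancel, mul_one] at this
    rw [inv_pow]
    exact this
  calc ρ ^ (n + 1) * τ = ρ * ρ⁻¹ ^ (n + 1) * τ := by rw [← h4]
    _ = ρ * (τ * ρ ^ (n + 1)) := by rw [h3, mul_assoc]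
    _ = x * ρ ^ (n + 1) := by rw [← mul_assoc, ← hxρ]

variable {G : Type u} [Group G] [Fintype G] {α : Type v} [Fintype α] [MulAction G α]

set_option maxHeartbeats 1000000 in
/-- Every involution is conjugate to an involution with exactly one fixed point. -/
theorem isConj_involution (hfaith : ∀ g : G, (∀ a : α, g • a = a) → g = 1) {p : ℕ}
    [hp : Fact p.Prime] (hp5 : 5 ≤ p) (hα : Nat.card α = p)
    (h2 : IsMultiplyPretransitive G α 2)
    (P : Subgroup G) (hP : Nat.card P = p) (hC : Subgroup.centralizer (P : Set G) = P)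
    (hN : Nat.card (Subgroup.normalizer (P : Set G)) = 2 * p)
    (τ : G) (hτ : orderOf τ = 2) (hτfix : Nat.card (fixedBy α τ) = 1)
    (s : G) (hs : orderOf s = 2) : IsConj s τ := by
  classical
  obtain ⟨E, hEcard, hEne1, hEneθ, hEval, hEsum, hvan⟩ :=
    ItoC.exc_structure hfaith hp5 hα h2 P hP hC hN
  obtain ⟨k, hk, hk1⟩ := PrimeTI.exists_ne_one_of_prime_card P hP
  have hα2 : 2 ≤ Nat.card α := by omega
  set ψ1 : IrrCharacter G := ⟨fun _ => 1, Cfsg.Agent.Helper81.isIrrCharacter_one⟩ with hψ1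
  set θ' : IrrCharacter G := ⟨ItoC.theta G α, ItoC.isIrrCharacter_theta hα2 h2⟩ with hθ'
  have hψ1E : ψ1 ∉ E := fun h => hEne1 ψ1 h rfl
  have hθE : θ' ∉ E := fun h => hEneθ θ' h rfl
  have hfixk : Nat.card (fixedBy α k) = 0 :=
    ItoA.card_fixedBy_eq_zero_of_mem hα hfaith P hP k hk hk1
  have hθne : θ' ≠ ψ1 := by
    intro h
    have h1 : (θ' : G → ℂ) k = (ψ1 : G → ℂ) k := by rw [h]
    have h2 : (θ' : G → ℂ) k = -1 := by
      show ItoC.theta G α k = _
      rw [ItoC.theta_apply, hfixk]; simp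
    rw [h2] at h1
    simp [hψ1] at h1
    norm_num at h1
  have hoddp : Odd p := hp.out.odd_of_ne_two (by omega)
  have hsodd := ItoA.odd_card_fixedBy_of_involution (α := α) (by rw [hα]; exact hoddp) s hs
  have hspos : 0 < Nat.card (fixedBy α s) := hsodd.pos
  have hs1 : s ≠ 1 := by
    intro h; rw [h, orderOf_one] at hs; omega
  have hslt : Nat.card (fixedBy α s) < p := by
    have hle := ItoA.card_fixedBy_le_card (α := α) s
    rw [hα] at hle
    rcases Nat.lt_or_ge (Nat.card (fixedBy α s)) p with h | h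
    · exact h
    · exfalso
      apply hs1
      apply hfaith
      apply ItoA.forall_smul_eq_of_card_fixedBy
      rw [hα]; omega
  have hfix1 : Nat.card (fixedBy α (1 : G)) = p := by
    rw [fixedBy_one_eq_univ, ← hα]
    exact Nat.card_congr (Equiv.Set.univ α)
  -- the class sum computation
  set idx : ℂ := ((Subgroup.centralizer ({s} : Set G)).index : ℂ) with hidx
  have hidx0 : idx ≠ 0 := by
    rw [hidx]
    have : (Subgroup.centralizer ({s} : Set G)).index ≠ 0 := Subgroup.index_ne_zero_of_finite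
    exact_mod_cast this
  have hp2 : ((p : ℂ) - 2) ≠ 0 := by
    have : ((p : ℂ) - 2) = ((p - 2 : ℕ) : ℂ) := by
      rw [Nat.cast_sub (by omega)]; simp
    rw [this]
    have : p - 2 ≠ 0 := by omega
    exact_mod_cast this
  have hterm : ∀ χ : IrrCharacter G,
      conj ((χ : G → ℂ) k) * ∑ x ∈ Finset.univ.filter (fun x : G => IsConj s x),
        (χ : G → ℂ) (x * τ)
      = conj ((χ : G → ℂ) k) * (centralChar (χ : G → ℂ) s * (χ : G → ℂ) τ) := by
    intro χ
    rw [Cfsg.Agent.Helper16.GreenSylow.sum_class_mul χ.2 s τ]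
  have hswap : ∑ χ : IrrCharacter G, conj ((χ : G → ℂ) k) *
        ∑ x ∈ Finset.univ.filter (fun x : G => IsConj s x), (χ : G → ℂ) (x * τ)
      = ∑ x ∈ Finset.univ.filter (fun x : G => IsConj s x),
          (if IsConj (x * τ) k then
            (Nat.card (Subgroup.centralizer ({x * τ} : Set G)) : ℂ) else 0) := by
    simp_rw [Finset.mul_sum]
    rw [Finset.sum_comm]
    refine Finset.sum_congr rfl (fun x _ => ?_)
    rw [← Cfsg.Agent.Helper3.column_orthogonality (G := G) (x * τ) k]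
    exact Finset.sum_congr rfl (fun χ _ => mul_comm _ _)
  have hτval : ∀ ψ ∈ E, (ψ : G → ℂ) τ = -1 := by
    intro ψ hψ
    rw [hEval ψ hψ τ (by omega), hτfix]
    norm_num
  have hψdeg : ∀ ψ ∈ E, (ψ : G → ℂ) 1 = (p : ℂ) - 2 := by
    intro ψ hψ
    rw [hEval ψ hψ 1 (by omega), hfix1]
  have htotal : ∑ χ : IrrCharacter G,
      conj ((χ : G → ℂ) k) * (centralChar (χ : G → ℂ) s * (χ : G → ℂ) τ)
      = idx * (((p : ℂ) - (Nat.card (fixedBy α s) : ℂ)) / ((p : ℂ) - 2)) := by
    rw [← Finset.sum_add_sum_compl E]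
    have hE1 : ∑ χ ∈ E, conj ((χ : G → ℂ) k) * (centralChar (χ : G → ℂ) s * (χ : G → ℂ) τ)
        = - idx * ((Nat.card (fixedBy α s) : ℂ) - 2) / ((p : ℂ) - 2) := by
      have e : ∀ χ ∈ E, conj ((χ : G → ℂ) k) * (centralChar (χ : G → ℂ) s * (χ : G → ℂ) τ)
          = (- idx * ((Nat.card (fixedBy α s) : ℂ) - 2) / ((p : ℂ) - 2)) * conj ((χ : G → ℂ) k) := by
        intro χ hχ
        unfold centralChar
        rw [hτval χ hχ, hψdeg χ hχ, hEval χ hχ s hspos]
        ring
      rw [Finset.sum_congr rfl e, ← Finset.mul_sum, ← map_sum, hEsum k hk hk1]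
      simp
    have hE2 : ∑ χ ∈ Eᶜ, conj ((χ : G → ℂ) k) * (centralChar (χ : G → ℂ) s * (χ : G → ℂ) τ)
        = idx := by
      rw [Finset.sum_eq_add ψ1 θ' hθne.symm]
      · have hθτ : (θ' : G → ℂ) τ = 0 := by
          show ItoC.theta G α τ = _
          rw [ItoC.theta_apply, hτfix]; simp
        rw [hθτ]
        unfold centralChar
        simp [hψ1]
        exact hidx.symm
      · intro χ hχ hne
        have hχE : χ ∉ E := Finset.mem_compl.1 hχ
        rw [hvan χ hχE (fun h => hne.1 (Subtype.ext h)) (fun h => hne.2 (Subtype.ext h)) k hk hk1]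
        simp
      · intro h
        exact absurd (Finset.mem_compl.2 hψ1E) h
      · intro h
        exact absurd (Finset.mem_compl.2 hθE) h
    rw [hE1, hE2]
    field_simp
    ring
  have hne0 : idx * (((p : ℂ) - (Nat.card (fixedBy α s) : ℂ)) / ((p : ℂ) - 2)) ≠ 0 := by
    apply mul_ne_zero hidx0
    apply div_ne_zero _ hp2
    have : ((p : ℂ) - (Nat.card (fixedBy α s) : ℂ)) = ((p - Nat.card (fixedBy α s) : ℕ) : ℂ) := by
      rw [Nat.cast_sub hslt.le]
    rw [this]
    have : p - Nat.card (fixedBy α s) ≠ 0 := by omega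
    exact_mod_cast this
  rw [← htotal, ← Finset.sum_congr rfl (fun χ _ => hterm χ), hswap] at hne0
  obtain ⟨x, hx, hxne⟩ := Finset.exists_ne_zero_of_sum_ne_zero hne0
  have hxs : IsConj s x := (Finset.mem_filter.1 hx).2
  have hxk : IsConj (x * τ) k := by
    by_contra h
    rw [if_neg h] at hxne
    exact hxne rfl
  have hko : orderOf k = p := (zpowers_eq_of_card_prime P hP k hk hk1).2
  have hxo : orderOf x = 2 := by
    obtain ⟨c, hc⟩ := hxs
    rw [← hc.orderOf_eq, hs]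
  have hρo : orderOf (x * τ) = p := by
    obtain ⟨c, hc⟩ := hxk
    rw [← hko, hc.orderOf_eq]
  obtain ⟨n, hn⟩ := hoddp
  have hx2 : x * x = 1 := by
    rw [← pow_two, ← hxo, pow_orderOf_eq_one]
  have hτ2 : τ * τ = 1 := by
    rw [← pow_two, ← hτ, pow_orderOf_eq_one]
  have hρp : (x * τ) ^ (2 * n + 1) = 1 := by
    rw [← hn, ← hρo, pow_orderOf_eq_one]
  have hconj := isConj_of_involutions x τ hx2 hτ2 n hρp
  exact hxs.trans hconj.symm

end Cfsg.Agent.Helper17.ItoD
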