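import Mathlib
import Cfsg.Agent.Lib.Helper17.ItoC2
import Cfsg.Agent.Lib.Helper82.CoherenceSys

set_option autoImplicit false
set_option linter.style.haveILetI false
set_option linter.unusedSectionVars false

namespace Cfsg.Agent.Helper17.ItoE

open MulAction Cfsg
open scoped ComplexConjugate

universe u v

variable {G : Type u} [Group G] [Fintype G] {α : Type v} [Fintype α] [MulAction G α]

set_option maxHeartbeats 1000000 in
/-- Bessel's inequality applied to `fix (fix - 1)`: a lower bound for the mixed moment. -/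
theorem moment_lower_bound (hfaith : ∀ g : G, (∀ a : α, g • a = a) → g = 1) {p : ℕ}
    [hp : Fact p.Prime] (hp5 : 5 ≤ p) (hα : Nat.card α = p)
    (h3 : IsMultiplyPretransitive G α 3)
    (P : Subgroup G) (hP : Nat.card P = p) (hC : Subgroup.centralizer (P : Set G) = P)
    (hN : Nat.card (Subgroup.normalizer (P : Set G)) = 2 * p) (t : ℕ) (ht : 2 * t + 1 = p) :
    (t + 2) * Nat.card G
      ≤ ∑ g : G, (Nat.card (fixedBy α g)).descFactorial 3 * Nat.card (fixedBy α g) := by
  classical
  have hα2 : 2 ≤ Nat.card α := by omega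
  have hα3 : 3 ≤ Nat.card α := by omega
  have hcardE : (Nat.card α : ENat) = ENat.card α := (ENat.card_eq_coe_natCard α).symm
  have h2 : IsMultiplyPretransitive G α 2 :=
    isMultiplyPretransitive_of_le' (by norm_num : 2 ≤ 3) (by
      rw [ENat.card_eq_coe_natCard]; exact_mod_cast hα3)
  have hne : Nonempty α := by
    have : 0 < Nat.card α := by omega
    exact (Nat.card_pos_iff.1 this).1
  have h1 : IsPretransitive G α := by
    rw [← is_one_pretransitive_iff]
    exact isMultiplyPretransitive_of_le' (by norm_num : 1 ≤ 3) (by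
      rw [ENat.card_eq_coe_natCard]; exact_mod_cast hα3)
  obtain ⟨E, hEcard, hEne1, hEneθ, hEval, hEsum, hvan⟩ :=
    ItoC.exc_structure hfaith hp5 hα h2 P hP hC hN
  set ψ1 : IrrCharacter G := ⟨fun _ => 1, Cfsg.Agent.Helper81.isIrrCharacter_one⟩ with hψ1
  set θ' : IrrCharacter G := ⟨ItoC.theta G α, ItoC.isIrrCharacter_theta hα2 h2⟩ with hθ'
  have hψ1E : ψ1 ∉ E := fun h => hEne1 ψ1 h rfl
  have hθE : θ' ∉ E := fun h => hEneθ θ' h rfl
  obtain ⟨k, hk, hk1⟩ := PrimeTI.exists_ne_one_of_prime_card P hP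
  have hfixk : Nat.card (fixedBy α k) = 0 :=
    ItoA.card_fixedBy_eq_zero_of_mem hα hfaith P hP k hk hk1
  have hθne : θ' ≠ ψ1 := by
    intro h
    have h1 : (θ' : G → ℂ) k = (ψ1 : G → ℂ) k := by rw [h]
    have h2 : (θ' : G → ℂ) k = -1 := by
      show ItoC.theta G α k = _
      rw [ItoC.theta_apply, hfixk]; simp
    rw [h2] at h1
    simp [hψ1] at h1
    norm_num at h1
  have hG0 : (Nat.card G : ℂ) ≠ 0 := by
    have : 0 < Nat.card G := Nat.card_pos
    exact_mod_cast this.ne'
  set F2 : G → ℂ := fun g => (Nat.card (fixedBy α g) : ℂ) * ((Nat.card (fixedBy α g) : ℂ) - 1)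
    with hF2
  set Tn : ℕ := ∑ g : G, (Nat.card (fixedBy α g)).descFactorial 3 * Nat.card (fixedBy α g)
    with hTn
  have hTc : (Tn : ℂ) = ∑ g : G, (Nat.card (fixedBy α g) : ℂ) * ((Nat.card (fixedBy α g) : ℂ) - 1)
        * ((Nat.card (fixedBy α g) : ℂ) - 2) * (Nat.card (fixedBy α g) : ℂ) := by
    rw [hTn]
    push_cast
    refine Finset.sum_congr rfl (fun g _ => ?_)
    rw [ItoC.descFactorial_three_cast]
  have hs1 := ItoC.sum_fix (G := G) (α := α) h1
  have hs2 := ItoC.sum_fix_two (G := G) (α := α) hα2 h2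
  have hs3 := ItoC.sum_fix_three (G := G) (α := α) hα3 h3
  -- inner products
  have hi1 : classInner F2 (ψ1 : G → ℂ) = 1 := by
    unfold classInner
    have : ∑ g : G, F2 g * conj ((ψ1 : G → ℂ) g) = (Nat.card G : ℂ) := by
      rw [← hs2]
      refine Finset.sum_congr rfl (fun g _ => ?_)
      simp [hψ1, hF2]
    rw [this, inv_mul_cancel₀ hG0]
  have hi2 : classInner F2 (θ' : G → ℂ) = 2 := by
    unfold classInner
    have : ∑ g : G, F2 g * conj ((θ' : G → ℂ) g) = 2 * (Nat.card G : ℂ) := by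
      have e : ∀ g : G, F2 g * conj ((θ' : G → ℂ) g)
          = (Nat.card (fixedBy α g) : ℂ) * ((Nat.card (fixedBy α g) : ℂ) - 1)
              * ((Nat.card (fixedBy α g) : ℂ) - 2)
            + (Nat.card (fixedBy α g) : ℂ) * ((Nat.card (fixedBy α g) : ℂ) - 1) := by
        intro g
        show F2 g * conj (ItoC.theta G α g) = _
        rw [ItoC.theta_apply, map_sub, map_one, Complex.conj_natCast, hF2]
        ring
      rw [Finset.sum_congr rfl (fun g _ => e g), Finset.sum_add_distrib, hs3, hs2]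
      ring
    rw [this, ← mul_assoc, mul_comm _ (2 : ℂ), mul_assoc, inv_mul_cancel₀ hG0, mul_one]
  have hi3 : ∀ ψ ∈ E, classInner F2 (ψ : G → ℂ) = 1 := by
    intro ψ hψ
    unfold classInner
    have : ∑ g : G, F2 g * conj ((ψ : G → ℂ) g) = (Nat.card G : ℂ) := by
      rw [← hs3]
      refine Finset.sum_congr rfl (fun g _ => ?_)
      show (Nat.card (fixedBy α g) : ℂ) * ((Nat.card (fixedBy α g) : ℂ) - 1)
        * conj ((ψ : G → ℂ) g) = _
      rcases Nat.eq_zero_or_pos (Nat.card (fixedBy α g)) with h0 | hpos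
      · rw [h0]; push_cast; ring
      · rw [hEval ψ hψ g hpos]
        simp only [map_sub, Complex.conj_natCast, Complex.conj_ofNat]
    rw [this, inv_mul_cancel₀ hG0]
  have hi4 : classInner F2 F2 = (Tn : ℂ) / (Nat.card G : ℂ) + 3 := by
    unfold classInner
    have : ∑ g : G, F2 g * conj (F2 g) = (Tn : ℂ) + 3 * (Nat.card G : ℂ) := by
      have e : ∀ g : G, F2 g * conj (F2 g)
          = (Nat.card (fixedBy α g) : ℂ) * ((Nat.card (fixedBy α g) : ℂ) - 1)
              * ((Nat.card (fixedBy α g) : ℂ) - 2) * (Nat.card (fixedBy α g) : ℂ)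
            + ((Nat.card (fixedBy α g) : ℂ) * ((Nat.card (fixedBy α g) : ℂ) - 1)
              * ((Nat.card (fixedBy α g) : ℂ) - 2)
            + 2 * ((Nat.card (fixedBy α g) : ℂ) * ((Nat.card (fixedBy α g) : ℂ) - 1))) := by
        intro g
        rw [hF2]
        simp only [map_mul, map_sub, map_one, Complex.conj_natCast]
        ring
      rw [Finset.sum_congr rfl (fun g _ => e g), Finset.sum_add_distrib, Finset.sum_add_distrib,
        ← Finset.mul_sum, hs3, hs2, ← hTc]
      ring
    rw [this]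
    field_simp
  -- Bessel
  set s : Finset (IrrCharacter G) := insert ψ1 (insert θ' E) with hs
  set r : IrrCharacter G → ℝ := fun χ => if χ = ψ1 then 1 else if χ = θ' then 2 else 1 with hr
  have hbes := Cfsg.Agent.Helper82.bessel_orth (M := G) s (fun χ => (χ : G → ℂ)) (fun _ => 1)
    (fun _ _ => one_pos)
    (fun i _ j _ => by
      rw [Cfsg.Agent.Helper3.classInner_irr i j]
      simp)
    F2 r
    (by
      intro χ hχ
      rw [hs, Finset.mem_insert, Finset.mem_insert] at hχ
      rcases hχ with h | h | h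
      · rw [h, hi1, hr]; simp
      · rw [h, hi2, hr]; simp [hθne]
      · have h1 : χ ≠ ψ1 := fun e => hψ1E (e ▸ h)
        have h2 : χ ≠ θ' := fun e => hθE (e ▸ h)
        rw [hi3 χ h, hr]; simp [h1, h2])
  have hsum : ∑ i ∈ s, r i ^ 2 / (1 : ℝ) = 5 + (E.card : ℝ) := by
    have hψ1s : ψ1 ∉ insert θ' E := by
      rw [Finset.mem_insert]
      rintro (h | h)
      · exact hθne h.symm
      · exact hψ1E h
    rw [hs, Finset.sum_insert hψ1s, Finset.sum_insert hθE]
    have e : ∀ i ∈ E, r i ^ 2 / (1 : ℝ) = 1 := by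
      intro i hi
      have h1 : i ≠ ψ1 := fun e => hψ1E (e ▸ hi)
      have h2 : i ≠ θ' := fun e => hθE (e ▸ hi)
      simp [hr, h1, h2]
    rw [Finset.sum_congr rfl e]
    simp [hr, hθne]
    ring
  rw [hsum, hi4] at hbes
  have hre : ((Tn : ℂ) / (Nat.card G : ℂ) + 3).re = (Tn : ℝ) / (Nat.card G : ℝ) + 3 := by
    have : ((Tn : ℂ) / (Nat.card G : ℂ) + 3) = (((Tn : ℝ) / (Nat.card G : ℝ) + 3 : ℝ) : ℂ) := by
      push_cast; ring
    rw [this, Complex.ofReal_re]
  rw [hre] at hbes
  have hGpos : (0 : ℝ) < (Nat.card G : ℝ) := by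
    have : 0 < Nat.card G := Nat.card_pos
    exact_mod_cast this
  have hEt : E.card = t := by omega
  have hfin : ((t : ℝ) + 2) * (Nat.card G : ℝ) ≤ (Tn : ℝ) := by
    have h5 : (2 : ℝ) + (E.card : ℝ) ≤ (Tn : ℝ) / (Nat.card G : ℝ) := by linarith
    rw [le_div_iff₀ hGpos, hEt] at h5
    linarith
  exact_mod_cast hfin

/-- The three-point stabilizer, if of odd order, has many fixed points. -/
theorem fixedPoints_bound (hfaith : ∀ g : G, (∀ a : α, g • a = a) → g = 1) {p : ℕ}
    [hp : Fact p.Prime] (hp5 : 5 ≤ p) (hα : Nat.card α = p)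
    (h3 : IsMultiplyPretransitive G α 3)
    (P : Subgroup G) (hP : Nat.card P = p) (hC : Subgroup.centralizer (P : Set G) = P)
    (hN : Nat.card (Subgroup.normalizer (P : Set G)) = 2 * p)
    (x₀ : Fin 3 ↪ α) (hodd : Odd (Nat.card (stabilizer G x₀))) :
    p + 9 ≤ 4 * Nat.card (fixedPoints (stabilizer G x₀) α) := by
  classical
  have hpodd : Odd p := hp.out.odd_of_ne_two (by omega)
  obtain ⟨t, ht2⟩ := hpodd
  have hm := moment_lower_bound hfaith hp5 hα h3 P hP hC hN t ht2.symm
  haveI : IsPretransitive G (Fin 3 ↪ α) := h3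
  have hB3 := ItoB.sum_fixedBy_mul (G := G) (α := α) (X := Fin 3 ↪ α) x₀
  simp only [ItoB.card_fixedBy_embedding] at hB3
  have hB5 := ItoB.three_mul_sum_card_fixedBy_le (K := stabilizer G x₀) (α := α) hodd
  have hsame : ∑ h : stabilizer G x₀, Nat.card (fixedBy α h)
      = ∑ h : stabilizer G x₀, Nat.card (fixedBy α (h : G)) :=
    Finset.sum_congr rfl (fun h _ => rfl)
  rw [hsame, hα] at hB5
  set SK := ∑ h : stabilizer G x₀, Nat.card (fixedBy α (h : G)) with hSK
  set Tn := ∑ g : G, (Nat.card (fixedBy α g)).descFactorial 3 * Nat.card (fixedBy α g) with hTn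
  set f := Nat.card (fixedPoints (stabilizer G x₀) α) with hf
  have hGpos : 0 < Nat.card G := Nat.card_pos
  have hKpos : 0 < Nat.card (stabilizer G x₀) := Nat.card_pos
  have h1 : (t + 2) * Nat.card (stabilizer G x₀) ≤ SK := by
    have : Nat.card G * ((t + 2) * Nat.card (stabilizer G x₀)) ≤ Nat.card G * SK := by
      rw [← hB3]
      calc Nat.card G * ((t + 2) * Nat.card (stabilizer G x₀))
          = ((t + 2) * Nat.card G) * Nat.card (stabilizer G x₀) := by ring
        _ ≤ Tn * Nat.card (stabilizer G x₀) := Nat.mul_le_mul_right _ hm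
    exact Nat.le_of_mul_le_mul_left this hGpos
  have h2 : (3 * (t + 2)) * Nat.card (stabilizer G x₀)
      ≤ (2 * f + p) * Nat.card (stabilizer G x₀) := by
    calc (3 * (t + 2)) * Nat.card (stabilizer G x₀)
        = 3 * ((t + 2) * Nat.card (stabilizer G x₀)) := by ring
      _ ≤ 3 * SK := Nat.mul_le_mul_left _ h1
      _ ≤ _ := hB5
  have h3' := Nat.le_of_mul_le_mul_right h2 hKpos
  omega

end Cfsg.Agent.Helper17.ItoE
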