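import Mathlib

set_option autoImplicit false
set_option linter.style.haveILetI false
set_option linter.unusedSectionVars false

namespace Cfsg.Agent.Helper17.ItoF

open MulAction

universe u v w

variable {G : Type u} [Group G] {α : Type v} [MulAction G α] {X : Type w} [MulAction G X]

theorem card_stabilizer_smul (g : G) (x : X) :
    Nat.card (stabilizer G (g • x)) = Nat.card (stabilizer G x) := by
  rw [stabilizer_smul_eq_stabilizer_map_conj]
  exact Nat.card_congr
    ((stabilizer G x).equivMapOfInjective _ (MulAut.conj g).injective).symm.toEquiv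

theorem card_fixedPoints_stabilizer_smul (g : G) (x : X) :
    Nat.card (fixedPoints (stabilizer G (g • x)) α) = Nat.card (fixedPoints (stabilizer G x) α) := by
  symm
  refine Nat.card_congr ⟨fun ω => ⟨g • ω.1, ?_⟩, fun ω => ⟨g⁻¹ • ω.1, ?_⟩, ?_, ?_⟩
  · intro k
    have hk : g⁻¹ * (k : G) * g ∈ stabilizer G x := by
      have := k.2
      rw [mem_stabilizer_iff] at this ⊢
      rw [mul_smul, mul_smul, this, inv_smul_smul]
    have := ω.2 ⟨_, hk⟩
    show (k : G) • g • ω.1 = g • ω.1
    have h2 : (g⁻¹ * (k : G) * g) • ω.1 = ω.1 := this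
    calc (k : G) • g • ω.1 = g • (g⁻¹ * (k : G) * g) • ω.1 := by simp [mul_smul]
      _ = g • ω.1 := by rw [h2]
  · intro k
    have hk : g * (k : G) * g⁻¹ ∈ stabilizer G (g • x) := by
      have := k.2
      rw [mem_stabilizer_iff] at this ⊢
      rw [mul_smul, mul_smul, inv_smul_smul, this]
    have := ω.2 ⟨_, hk⟩
    show (k : G) • g⁻¹ • ω.1 = g⁻¹ • ω.1
    have h2 : (g * (k : G) * g⁻¹) • ω.1 = ω.1 := this
    calc (k : G) • g⁻¹ • ω.1 = g⁻¹ • (g * (k : G) * g⁻¹) • ω.1 := by simp [mul_smul]
      _ = g⁻¹ • ω.1 := by rw [h2]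
  · intro ω; ext; simp
  · intro ω; ext; simp

theorem card_stabilizer_eq [IsPretransitive G X] (x y : X) :
    Nat.card (stabilizer G x) = Nat.card (stabilizer G y) := by
  obtain ⟨g, rfl⟩ := exists_smul_eq G x y
  exact (card_stabilizer_smul g x).symm

theorem card_fixedPoints_stabilizer_eq [IsPretransitive G X] (x y : X) :
    Nat.card (fixedPoints (stabilizer G x) α) = Nat.card (fixedPoints (stabilizer G y) α) := by
  obtain ⟨g, rfl⟩ := exists_smul_eq G x y
  exact (card_fixedPoints_stabilizer_smul g x).symm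

/-- The triple of three distinct points as an embedding. -/
def triple (a b c : α) (hab : a ≠ b) (hac : a ≠ c) (hbc : b ≠ c) : Fin 3 ↪ α :=
  ⟨![a, b, c], by
    intro i j h
    fin_cases i <;> fin_cases j <;> simp_all⟩

theorem mem_stabilizer_embedding (x : Fin 3 ↪ α) (g : G) :
    g ∈ stabilizer G x ↔ g • x 0 = x 0 ∧ g • x 1 = x 1 ∧ g • x 2 = x 2 := by
  rw [mem_stabilizer_iff]
  constructor
  · intro h
    refine ⟨?_, ?_, ?_⟩
    · have := congrArg (fun e : Fin 3 ↪ α => e 0) h
      simpa [Function.Embedding.smul_apply] using this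
    · have := congrArg (fun e : Fin 3 ↪ α => e 1) h
      simpa [Function.Embedding.smul_apply] using this
    · have := congrArg (fun e : Fin 3 ↪ α => e 2) h
      simpa [Function.Embedding.smul_apply] using this
  · rintro ⟨h0, h1, h2⟩
    ext i
    rw [Function.Embedding.smul_apply]
    fin_cases i
    · exact h0
    · exact h1
    · exact h2

theorem mem_stabilizer_triple (a b c : α) (hab : a ≠ b) (hac : a ≠ c) (hbc : b ≠ c) (g : G) :
    g ∈ stabilizer G (triple a b c hab hac hbc) ↔ g • a = a ∧ g • b = b ∧ g • c = c := by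
  rw [mem_stabilizer_embedding]
  rfl

end Cfsg.Agent.Helper17.ItoF
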