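import Mathlib
import Cfsg.Agent.Lib.Helper17.ItoF1

set_option autoImplicit false
set_option linter.style.haveILetI false
set_option linter.unusedSectionVars false

namespace Cfsg.Agent.Helper17.ItoF

open MulAction

universe u v w

variable {G : Type u} [Group G] {α : Type v} [MulAction G α]

/-- In a triply transitive group, `|Fix(G_{abc})| - 2` divides `|α| - 2`. -/
theorem sub_two_dvd [Finite G] [Fintype α] [DecidableEq α] (h3 : IsMultiplyPretransitive G α 3)
    (x₀ : Fin 3 ↪ α) :
    (Nat.card (fixedPoints (stabilizer G x₀) α) - 2) ∣ (Nat.card α - 2) := by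
  classical
  haveI : IsPretransitive G (Fin 3 ↪ α) := h3
  set a := x₀ 0 with ha
  set b := x₀ 1 with hb
  have hab : a ≠ b := by
    intro h
    have := x₀.injective h
    exact absurd this (by decide)
  set f := Nat.card (fixedPoints (stabilizer G x₀) α) with hf
  set S' : α → Subgroup G := fun y => stabilizer G a ⊓ stabilizer G b ⊓ stabilizer G y with hS'
  set Yf : Finset α := (Finset.univ.erase a).erase b with hYf
  have hmemY : ∀ y, y ∈ Yf ↔ y ≠ b ∧ y ≠ a := by
    intro y
    rw [hYf, Finset.mem_erase, Finset.mem_erase]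
    simp
  have hS'eq : ∀ y, y ≠ b → y ≠ a → ∃ x : Fin 3 ↪ α, S' y = stabilizer G x := by
    intro y hyb hya
    refine ⟨triple a b y hab (Ne.symm hya) (Ne.symm hyb), ?_⟩
    ext g
    rw [mem_stabilizer_triple, hS']
    simp only [Subgroup.mem_inf, mem_stabilizer_iff]
    tauto
  have hcardS : ∀ y ∈ Yf, Nat.card (S' y) = Nat.card (stabilizer G x₀) := by
    intro y hy
    obtain ⟨hyb, hya⟩ := (hmemY y).1 hy
    obtain ⟨x, hx⟩ := hS'eq y hyb hya
    rw [hx]
    exact card_stabilizer_eq x x₀
  have hcardF : ∀ y ∈ Yf, Nat.card (fixedPoints (S' y) α) = f := by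
    intro y hy
    obtain ⟨hyb, hya⟩ := (hmemY y).1 hy
    obtain ⟨x, hx⟩ := hS'eq y hyb hya
    rw [hx]
    exact card_fixedPoints_stabilizer_eq x x₀
  have hfiber : ∀ y₀ ∈ Yf, (Yf.filter (fun y => S' y = S' y₀)).card = f - 2 := by
    intro y₀ hy₀
    have hset : Yf.filter (fun y => S' y = S' y₀)
        = ((Finset.univ.filter (fun ω => ω ∈ fixedPoints (S' y₀) α)).erase a).erase b := by
      ext y
      rw [Finset.mem_filter, hmemY, Finset.mem_erase, Finset.mem_erase, Finset.mem_filter]
      constructor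
      · rintro ⟨⟨hyb, hya⟩, hS⟩
        refine ⟨hyb, hya, Finset.mem_univ _, ?_⟩
        intro k
        have hk : (k : G) ∈ S' y := by rw [hS]; exact k.2
        have : (k : G) ∈ stabilizer G y := hk.2
        exact this
      · rintro ⟨hyb, hya, _, hfix⟩
        refine ⟨⟨hyb, hya⟩, ?_⟩
        have hle : S' y₀ ≤ S' y := by
          intro k hk
          refine ⟨hk.1, ?_⟩
          show k ∈ stabilizer G y
          rw [mem_stabilizer_iff]
          exact hfix ⟨k, hk⟩
        have hy : y ∈ Yf := (hmemY y).2 ⟨hyb, hya⟩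
        exact (Subgroup.eq_of_le_of_card_ge hle (by rw [hcardS y hy, hcardS y₀ hy₀])).symm
    rw [hset]
    have hcard : (Finset.univ.filter (fun ω => ω ∈ fixedPoints (S' y₀) α)).card = f := by
      rw [← hcardF y₀ hy₀, Nat.card_eq_fintype_card, Fintype.card_subtype]
    have hamem : a ∈ Finset.univ.filter (fun ω => ω ∈ fixedPoints (S' y₀) α) := by
      rw [Finset.mem_filter]
      refine ⟨Finset.mem_univ _, ?_⟩
      intro k
      have : (k : G) ∈ stabilizer G a := k.2.1.1
      exact this
    have hbmem : b ∈ (Finset.univ.filter (fun ω => ω ∈ fixedPoints (S' y₀) α)).erase a := by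
      rw [Finset.mem_erase, Finset.mem_filter]
      refine ⟨hab.symm, Finset.mem_univ _, ?_⟩
      intro k
      have : (k : G) ∈ stabilizer G b := k.2.1.2
      exact this
    rw [Finset.card_erase_of_mem hbmem, Finset.card_erase_of_mem hamem, hcard]
    omega
  have hYcard : Yf.card = Nat.card α - 2 := by
    rw [hYf, Finset.card_erase_of_mem (by rw [Finset.mem_erase]; exact ⟨hab.symm, Finset.mem_univ _⟩),
      Finset.card_erase_of_mem (Finset.mem_univ _), Finset.card_univ, Nat.card_eq_fintype_card]
    omega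
  have hsum := Finset.card_eq_sum_card_fiberwise (f := S') (s := Yf) (t := Yf.image S')
    (fun y hy => Finset.mem_image_of_mem _ hy)
  have hconst : ∀ H ∈ Yf.image S', (Yf.filter (fun y => S' y = H)).card = f - 2 := by
    intro H hH
    obtain ⟨y₀, hy₀, rfl⟩ := Finset.mem_image.1 hH
    exact hfiber y₀ hy₀
  rw [Finset.sum_congr rfl hconst, Finset.sum_const, smul_eq_mul, hYcard] at hsum
  exact ⟨_, by rw [hsum, mul_comm]⟩

end Cfsg.Agent.Helper17.ItoF
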