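import Mathlib
import Cfsg.Agent.Lib.Helper17.ItoF1

set_option autoImplicit false
set_option linter.style.haveILetI false
set_option linter.unusedSectionVars false

namespace Cfsg.Agent.Helper17.ItoF

open MulAction

universe u v w

variable {G : Type u} [Group G] {α : Type v} [MulAction G α]

/-- The permutation group induced by `G` on a subset `F` (by those elements preserving it). -/
def inducedOn (G : Type u) [Group G] {α : Type v} [MulAction G α] (F : Set α) :
    Subgroup (Equiv.Perm F) where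
  carrier := {σ | ∃ g : G, ∀ ω : F, ((σ ω : F) : α) = g • (ω : α)}
  one_mem' := ⟨1, fun ω => by simp⟩
  mul_mem' := by
    rintro σ₁ σ₂ ⟨g₁, h₁⟩ ⟨g₂, h₂⟩
    exact ⟨g₁ * g₂, fun ω => by rw [Equiv.Perm.mul_apply, h₁, h₂, mul_smul]⟩
  inv_mem' := by
    rintro σ ⟨g, h⟩
    refine ⟨g⁻¹, fun ω => ?_⟩
    have := h (σ⁻¹ ω)
    rw [Equiv.Perm.inv_def, Equiv.apply_symm_apply] at this
    rw [Equiv.Perm.inv_def, eq_inv_smul_iff]
    exact this.symm

theorem mem_inducedOn (F : Set α) (σ : Equiv.Perm F) :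
    σ ∈ inducedOn G F ↔ ∃ g : G, ∀ ω : F, ((σ ω : F) : α) = g • (ω : α) := Iff.rfl

/-- **Witt's lemma**: the normalizer of a three-point stabilizer acts sharply 3-transitively on
its fixed points. -/
theorem witt [Finite G] (h3 : IsMultiplyPretransitive G α 3) (x₀ : Fin 3 ↪ α) :
    IsMultiplyPretransitive (inducedOn G (fixedPoints (stabilizer G x₀) α))
        (fixedPoints (stabilizer G x₀) α) 3 ∧
      ∀ x : Fin 3 ↪ fixedPoints (stabilizer G x₀) α,
        stabilizer (inducedOn G (fixedPoints (stabilizer G x₀) α)) x = ⊥ := by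
  classical
  haveI : IsPretransitive G (Fin 3 ↪ α) := h3
  set K := stabilizer G x₀ with hK
  set F := fixedPoints K α with hF
  -- stabilizers of triples inside F equal K
  have hstab : ∀ x : Fin 3 ↪ F,
      stabilizer G (x.trans (Function.Embedding.subtype _)) = K := by
    intro x
    symm
    apply Subgroup.eq_of_le_of_card_ge
    · intro k hk
      rw [mem_stabilizer_iff]
      ext i
      rw [Function.Embedding.smul_apply]
      exact (x i).2 ⟨k, hk⟩
    · rw [card_stabilizer_eq (x.trans (Function.Embedding.subtype _)) x₀]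
  constructor
  · refine ⟨fun x y => ?_⟩
    set x' := x.trans (Function.Embedding.subtype (· ∈ F)) with hx'
    set y' := y.trans (Function.Embedding.subtype (· ∈ F)) with hy'
    obtain ⟨g, hg⟩ := exists_smul_eq G x' y'
    have hnorm : K = (K.map (MulAut.conj g).toMonoidHom) := by
      have h1 : stabilizer G y' = K := hstab y
      have hx2 : stabilizer G x' = K := hstab x
      rw [← hg, stabilizer_smul_eq_stabilizer_map_conj, hx2] at h1
      exact h1.symm
    have hconj1 : ∀ k ∈ K, g * k * g⁻¹ ∈ K := by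
      intro k hk
      rw [hnorm]
      exact ⟨k, hk, rfl⟩
    have hconj2 : ∀ k ∈ K, g⁻¹ * k * g ∈ K := by
      intro k hk
      rw [hnorm] at hk
      obtain ⟨k', hk', hkk⟩ := hk
      have : k = g * k' * g⁻¹ := hkk.symm
      rw [this]
      have : g⁻¹ * (g * k' * g⁻¹) * g = k' := by group
      rw [this]
      exact hk'
    have hgF : ∀ ω ∈ F, g • ω ∈ F := by
      intro ω hω k
      have h2 : (g⁻¹ * (k : G) * g) • ω = ω := hω ⟨_, hconj2 k k.2⟩
      show (k : G) • g • ω = g • ω
      calc (k : G) • g • ω = g • (g⁻¹ * (k : G) * g) • ω := by simp [mul_smul]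
        _ = g • ω := by rw [h2]
    have hgF' : ∀ ω ∈ F, g⁻¹ • ω ∈ F := by
      intro ω hω k
      have h2 : (g * (k : G) * g⁻¹) • ω = ω := hω ⟨_, hconj1 k k.2⟩
      show (k : G) • g⁻¹ • ω = g⁻¹ • ω
      calc (k : G) • g⁻¹ • ω = g⁻¹ • (g * (k : G) * g⁻¹) • ω := by simp [mul_smul]
        _ = g⁻¹ • ω := by rw [h2]
    set σ : Equiv.Perm F :=
      ⟨fun ω => ⟨g • ω.1, hgF ω.1 ω.2⟩, fun ω => ⟨g⁻¹ • ω.1, hgF' ω.1 ω.2⟩,
        fun ω => by ext; simp, fun ω => by ext; simp⟩ with hσ
    have hσmem : σ ∈ inducedOn G F := ⟨g, fun ω => rfl⟩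
    refine ⟨⟨σ, hσmem⟩, ?_⟩
    ext i
    have h1 : ((⟨σ, hσmem⟩ : inducedOn G F) • x) i = σ (x i) := rfl
    rw [h1]
    show g • ((x i : F) : α) = ((y i : F) : α)
    have h2 := congrArg (fun e : Fin 3 ↪ α => e i) hg
    simpa [Function.Embedding.smul_apply, hx', hy'] using h2
  · intro x
    rw [Subgroup.eq_bot_iff_forall]
    rintro ⟨σ, hσmem⟩ hσ
    obtain ⟨g, hg⟩ := (mem_inducedOn F σ).1 hσmem
    rw [mem_stabilizer_iff] at hσ
    have hgK : g ∈ K := by
      rw [← hstab x, mem_stabilizer_iff]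
      ext i
      rw [Function.Embedding.smul_apply]
      show g • ((x i : F) : α) = ((x i : F) : α)
      rw [← hg (x i)]
      have h1 : ((⟨σ, hσmem⟩ : inducedOn G F) • x) i = x i := DFunLike.congr_fun hσ i
      have h2 : ((⟨σ, hσmem⟩ : inducedOn G F) • x) i = σ (x i) := rfl
      rw [h2] at h1
      rw [h1]
    apply Subtype.ext
    show σ = 1
    ext ω
    rw [hg ω]
    exact ω.2 ⟨g, hgK⟩

end Cfsg.Agent.Helper17.ItoF
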