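import Mathlib
import Cfsg.Agent.Lib.Helper17.ItoE
import Cfsg.Agent.Lib.Helper17.ItoF2
import Cfsg.Agent.Lib.Helper17.ItoF3
import Cfsg.Agent.Lib.Helper19.Zass2Final

set_option autoImplicit false
set_option linter.style.haveILetI false
set_option linter.unusedSectionVars false

namespace Cfsg.Agent.Helper17.ItoG

open MulAction Cfsg

universe u v

variable {G : Type u} [Group G] [Fintype G] {α : Type v} [Fintype α] [DecidableEq α]
  [MulAction G α]

/-- The core of Ito's theorem: three-point stabilizers are trivial. -/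
theorem stabilizer_eq_bot (hfaith : ∀ g : G, (∀ a : α, g • a = a) → g = 1) {p : ℕ}
    [hp : Fact p.Prime] (hp5 : 5 ≤ p) (hα : Nat.card α = p)
    (h3 : IsMultiplyPretransitive G α 3)
    (P : Subgroup G) (hP : Nat.card P = p) (hC : Subgroup.centralizer (P : Set G) = P)
    (hN : Nat.card (Subgroup.normalizer (P : Set G)) = 2 * p)
    (hp4 : p % 4 = 1) (hinv : ∀ s : G, orderOf s = 2 → Nat.card (fixedBy α s) = 1)
    (x₀ : Fin 3 ↪ α) : stabilizer G x₀ = ⊥ := by
  classical
  set K := stabilizer G x₀ with hK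
  -- K has odd order
  have hKodd : Odd (Nat.card K) := by
    rw [← Nat.not_even_iff_odd]
    intro heven
    haveI : Fact (Nat.Prime 2) := ⟨Nat.prime_two⟩
    obtain ⟨s, hs⟩ := exists_prime_orderOf_dvd_card' 2 heven.two_dvd
    have hs' : orderOf (s : G) = 2 := by rw [Subgroup.orderOf_coe]; exact hs
    have h1 := hinv (s : G) hs'
    have hmem := (ItoF.mem_stabilizer_embedding x₀ (s : G)).1 s.2
    have h01 : x₀ 0 ≠ x₀ 1 := fun h => absurd (x₀.injective h) (by decide)
    have hsub : Subsingleton (fixedBy α (s : G)) := by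
      rw [← Finite.card_le_one_iff_subsingleton, h1]
    have := hsub.elim ⟨x₀ 0, hmem.1⟩ ⟨x₀ 1, hmem.2.1⟩
    exact h01 (congrArg Subtype.val this)
  have hbound := ItoE.fixedPoints_bound hfaith hp5 hα h3 P hP hC hN x₀ hKodd
  have hdvd := ItoF.sub_two_dvd (G := G) h3 x₀
  rw [hα] at hdvd
  set f := Nat.card (fixedPoints K α) with hf
  have hfle : f ≤ p := by
    rw [← hα]
    exact Nat.card_le_card_of_injective Subtype.val Subtype.val_injective
  obtain ⟨q, hq⟩ := hdvd
  have hpodd : Odd p := hp.out.odd_of_ne_two (by omega)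
  have hqodd : Odd q := by
    have h1 : Odd (p - 2) := by
      rcases hpodd with ⟨m, hm⟩
      exact ⟨m - 1, by omega⟩
    rw [hq] at h1
    exact (Nat.odd_mul.1 h1).2
  have hq4 : q < 4 := by
    by_contra h
    push Not at h
    have : (f - 2) * 4 ≤ (f - 2) * q := Nat.mul_le_mul_left _ h
    omega
  have hq13 : q = 1 ∨ q = 3 := by
    rcases hqodd with ⟨m, hm⟩
    omega
  rcases hq13 with hq1 | hq3
  · -- f = p : K acts trivially
    have hfp : f = p := by rw [hq1] at hq; omega
    rw [Subgroup.eq_bot_iff_forall]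
    intro k hk
    apply hfaith
    intro a
    have huniv : fixedPoints K α = Set.univ := by
      rw [Set.eq_univ_iff_ncard, ← Nat.card_coe_set_eq, ← hf, hfp, hα]
    have : a ∈ fixedPoints K α := huniv ▸ Set.mem_univ a
    exact this ⟨k, hk⟩
  · -- p = 3 f - 4 : Witt and Zassenhaus
    exfalso
    have hp3f : p + 4 = 3 * f := by rw [hq3] at hq; omega
    obtain ⟨hw3, hwsharp⟩ := ItoF.witt (G := G) h3 x₀
    have hcardF : Fintype.card (fixedPoints K α) = f := by
      rw [hf, Nat.card_eq_fintype_card]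
    have hfodd : Odd (Fintype.card (fixedPoints K α)) := by
      rw [hcardF]
      rcases hpodd with ⟨m, hm⟩
      rw [Nat.odd_iff]
      omega
    obtain ⟨a, ha1, hfa, -⟩ := Cfsg.Agent.Helper19.Zass2.zassenhaus_char_two
      (ItoF.inducedOn G (fixedPoints K α)) hw3 hwsharp hfodd (by rw [hcardF]; omega)
    rw [hcardF] at hfa
    rcases Nat.lt_or_ge a 2 with ha | ha
    · have : a = 1 := by omega
      rw [this] at hfa
      omega
    · obtain ⟨b, rfl⟩ : ∃ b, a = b + 2 := ⟨a - 2, by omega⟩
      rw [pow_add] at hfa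
      omega
  
end Cfsg.Agent.Helper17.ItoG
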