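import Mathlib

/-!
# JPC (T13b) for helper35's lemma server (S4150): structure of an even element normalizing an `11`-cycle
on `13` points, fixing the two other points and not a power of the cycle.
-/

set_option autoImplicit false

namespace Cfsg.Agent.Helper17.JPC

open Equiv Equiv.Perm MulAction Subgroup

universe u

variable {Ω : Type u} [Fintype Ω] [DecidableEq Ω]

/-- A permutation commuting with a cycle and trivial outside its support is a power of the cycle. -/
theorem t13b_mem_zpowers_of_commute {g h : Perm Ω} (hgc : g.IsCycle) (hcomm : Commute h g)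
    (hfix : ∀ t, t ∉ g.support → h t = t) : h ∈ zpowers g := by
  obtain ⟨hc', hmem⟩ := hgc.commute_iff.1 hcomm
  rwa [ofSubtype_subtypePerm hc' (fun x hx => by
    by_contra hnx
    exact hx (hfix x hnx))] at hmem

theorem t13b_conj_pow {g h : Perm Ω} {i : ℕ} (hh : h * g * h⁻¹ = g ^ i) (k : ℕ) :
    h ^ k * g * (h ^ k)⁻¹ = g ^ (i ^ k) := by
  induction k with
  | zero => simp
  | succ k ih =>
    have e : h ^ (k + 1) * g * (h ^ (k + 1))⁻¹ = h * (h ^ k * g * (h ^ k)⁻¹) * h⁻¹ := by
      rw [pow_succ']; group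
    rw [e, ih, ← conj_pow, hh, ← pow_mul, pow_succ']

theorem t13b_commute {g h : Perm Ω} (ho : orderOf g = 11) {i : ℕ} (hh : h * g * h⁻¹ = g ^ i)
    (hi : i ≡ 1 [MOD 11]) : Commute h g := by
  have h1 : g ^ i = g ^ 1 := by rw [pow_eq_pow_iff_modEq, ho]; exact hi
  rw [h1, pow_one] at hh
  have : h * g = (h * g * h⁻¹) * h := by group
  rw [hh] at this
  exact this

theorem t13b_arith {i k : ℕ} (h : i * k ≡ k [MOD 11]) (hi : ¬ i ≡ 1 [MOD 11]) :
    k ≡ 0 [MOD 11] := by
  haveI : Fact (Nat.Prime 11) := ⟨by norm_num⟩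
  have e1 : ((i : ZMod 11)) * (k : ZMod 11) = (k : ZMod 11) := by
    have := (ZMod.natCast_eq_natCast_iff (i * k) k 11).2 h
    push_cast at this
    exact this
  have e2 : ((i : ZMod 11) - 1) * (k : ZMod 11) = 0 := by rw [sub_mul, e1, one_mul, sub_self]
  rcases mul_eq_zero.1 e2 with e | e
  · exfalso
    apply hi
    rw [← ZMod.natCast_eq_natCast_iff]
    push_cast
    exact sub_eq_zero.1 e
  · exact (ZMod.natCast_eq_natCast_iff k 0 11).1 (by push_cast; exact e)

theorem t13b_exists_pow {g h : Perm Ω} (hmem : h ∈ zpowers g) (ho : orderOf g = 11) :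
    ∃ i : ℕ, g ^ i = h := by
  obtain ⟨k, hk⟩ := Subgroup.mem_zpowers_iff.1 hmem
  refine ⟨(k % (orderOf g : ℤ)).toNat, ?_⟩
  rw [← zpow_natCast, Int.toNat_of_nonneg (Int.emod_nonneg _ (by rw [ho]; norm_num)),
    zpow_mod_orderOf, hk]

theorem t13b_pow_eq_one {g : Perm Ω} (ho : orderOf g = 11) {i : ℕ} (hi : i ≡ 0 [MOD 11]) :
    g ^ i = 1 := by
  have : g ^ i = g ^ 0 := by rw [pow_eq_pow_iff_modEq, ho]; exact hi
  rw [this, pow_zero]

/-- An element acting on `⟨g⟩` as a nontrivial power map fixes at most one point of the cycle. -/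
theorem t13b_fixed_unique {g h : Perm Ω} (hgc : g.IsCycle) (ho : orderOf g = 11) {i : ℕ}
    (hh : h * g * h⁻¹ = g ^ i) (hi : ¬ i ≡ 1 [MOD 11]) {c c' : Ω} (hc : c ∈ g.support)
    (hc' : c' ∈ g.support) (hhc : h c = c) (hhc' : h c' = c') : c = c' := by
  obtain ⟨k, hk⟩ := hgc.exists_pow_eq (mem_support.1 hc) (mem_support.1 hc')
  have h1 : h * g ^ k * h⁻¹ = g ^ (i * k) := by rw [← conj_pow, hh, ← pow_mul]
  have hinv : h⁻¹ c = c := by rw [Perm.inv_eq_iff_eq]; exact hhc.symm
  have h2 : (g ^ (i * k)) c = (g ^ k) c := by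
    rw [← h1, mul_apply, mul_apply, hinv, hk, hhc']
  have h3 : g ^ (i * k) = g ^ k := hgc.pow_eq_pow_iff.2 ⟨c, mem_support.1 hc, h2⟩
  rw [pow_eq_pow_iff_modEq, ho] at h3
  have h5 : g ^ k = 1 := t13b_pow_eq_one ho (t13b_arith h3 hi)
  rw [← hk, h5]
  rfl

/-- Such an element of prime power order (for `p = 2` or `p = 5`) moves exactly `10` points. -/
theorem t13b_support_card (hcard : Fintype.card Ω = 13) {g h : Perm Ω} (hgc : g.IsCycle)
    (hg11 : g.support.card = 11) {i : ℕ} (hh : h * g * h⁻¹ = g ^ i) (hi : ¬ i ≡ 1 [MOD 11])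
    (hfix : ∀ t, t ∉ g.support → h t = t) {p k : ℕ} [Fact p.Prime] (hp : h ^ p ^ k = 1)
    (hp' : p = 2 ∨ p = 5) : h.support.card = 10 := by
  have ho : orderOf g = 11 := by rw [hgc.orderOf, hg11]
  have hsub : g.supportᶜ ⊆ h.supportᶜ := by
    intro t ht
    rw [Finset.mem_compl] at ht ⊢
    rw [mem_support, not_not]
    exact hfix t ht
  have hle1 : (h.supportᶜ ∩ g.support).card ≤ 1 := by
    rw [Finset.card_le_one]
    intro a ha b hb
    rw [Finset.mem_inter, Finset.mem_compl, mem_support, not_not] at ha hb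
    exact t13b_fixed_unique hgc ho hh hi ha.2 hb.2 ha.1 hb.1
  have hunion : h.supportᶜ = g.supportᶜ ∪ (h.supportᶜ ∩ g.support) := by
    ext t
    by_cases ht : t ∈ g.support
    · simp [ht]
    · have : t ∈ h.supportᶜ := hsub (Finset.mem_compl.2 ht)
      simp [ht, this]
  have hc1 : h.supportᶜ.card ≤ g.supportᶜ.card + (h.supportᶜ ∩ g.support).card := by
    conv_lhs => rw [hunion]
    exact Finset.card_union_le _ _
  have hc2 : g.supportᶜ.card ≤ h.supportᶜ.card := Finset.card_le_card hsub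
  have hmod := card_compl_support_modEq hp
  rw [Finset.card_compl, hcard] at hc1 hc2 hmod
  rw [Finset.card_compl, hcard, hg11] at hc1 hc2
  have hle : h.support.card ≤ 13 := by rw [← hcard]; exact Finset.card_le_univ _
  unfold Nat.ModEq at hmod
  rcases hp' with rfl | rfl <;> omega

theorem normalizer_elt_structure {Ω : Type u} [Fintype Ω] [DecidableEq Ω]
    (hcard : Fintype.card Ω = 13) {g n : Perm Ω} (hgc : g.IsCycle) (hg11 : g.support.card = 11)
    (hn : n ∈ alternatingGroup Ω) (hfix : ∀ t, t ∉ g.support → n t = t)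
    (hnorm : n * g * n⁻¹ ∈ zpowers g) (hnot : n ∉ zpowers g) :
    n ^ 5 = 1 ∧ n.support.card = 10 := by
  have ho : orderOf g = 11 := by rw [hgc.orderOf, hg11]
  obtain ⟨j, hj⟩ := t13b_exists_pow hnorm ho
  have hj' : n * g * n⁻¹ = g ^ j := hj.symm
  have hfixpow : ∀ (k : ℕ) t, t ∉ g.support → (n ^ k) t = t := fun k t ht =>
    pow_apply_eq_self_of_apply_eq_self (hfix t ht) k
  have hj1 : ¬ j ≡ 1 [MOD 11] := by
    intro h
    exact hnot (t13b_mem_zpowers_of_commute hgc (t13b_commute ho hj' h) hfix)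
  -- `n ^ 10 = 1`
  have h10 : n ^ 10 = 1 := by
    have hc10 := t13b_conj_pow hj' 10
    have hj10 : j ^ 10 ≡ 1 [MOD 11] := by
      have hcop : Nat.Coprime j 11 := by
        rw [Nat.coprime_comm, Nat.Prime.coprime_iff_not_dvd (by norm_num)]
        intro hd
        have h1 : g ^ j = 1 := by
          rw [← ho] at hd
          exact orderOf_dvd_iff_pow_eq_one.1 hd
        rw [h1] at hj
        have hg1 : g = 1 := by
          have e : g = n⁻¹ * (n * g * n⁻¹) * n := by group
          rw [e, ← hj]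
          group
        exact hgc.ne_one hg1
      have h2 := Nat.ModEq.pow_totient hcop
      rwa [Nat.totient_prime (by norm_num)] at h2
    have hmem : n ^ 10 ∈ zpowers g :=
      t13b_mem_zpowers_of_commute hgc (t13b_commute ho hc10 hj10) (hfixpow 10)
    obtain ⟨i, hi⟩ := t13b_exists_pow hmem ho
    have h1 : n * g ^ i * n⁻¹ = g ^ (j * i) := by rw [← conj_pow, hj', ← pow_mul]
    have h2 : n * g ^ i * n⁻¹ = g ^ i := by rw [hi]; group
    have h3 : g ^ (j * i) = g ^ i := by rw [← h1, h2]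
    rw [pow_eq_pow_iff_modEq, ho] at h3
    rw [← hi]
    exact t13b_pow_eq_one ho (t13b_arith h3 hj1)
  -- `n ^ 5 = 1`
  have h5 : n ^ 5 = 1 := by
    by_contra hm1
    have hm2 : (n ^ 5) ^ 2 = 1 := by rw [← pow_mul]; exact h10
    have hmc := t13b_conj_pow hj' 5
    have hmfix : ∀ t, t ∉ g.support → (n ^ 5) t = t := hfixpow 5
    have hj5 : ¬ j ^ 5 ≡ 1 [MOD 11] := by
      intro h
      have hmem : n ^ 5 ∈ zpowers g :=
        t13b_mem_zpowers_of_commute hgc (t13b_commute ho hmc h) hmfix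
      obtain ⟨i, hi⟩ := t13b_exists_pow hmem ho
      have h1 : g ^ (i * 2) = g ^ 0 := by rw [pow_mul, hi, hm2, pow_zero]
      rw [pow_eq_pow_iff_modEq, ho] at h1
      have hi0 : i ≡ 0 [MOD 11] := by
        unfold Nat.ModEq at *
        omega
      apply hm1
      rw [← hi]
      exact t13b_pow_eq_one ho hi0
    haveI : Fact (Nat.Prime 2) := ⟨Nat.prime_two⟩
    have hsupp : (n ^ 5).support.card = 10 :=
      t13b_support_card hcard hgc hg11 hmc hj5 hmfix (p := 2) (k := 1) (by rw [pow_one]; exact hm2)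
        (Or.inl rfl)
    have hmalt : n ^ 5 ∈ alternatingGroup Ω := pow_mem hn 5
    have hsign : sign (n ^ 5) = 1 := mem_alternatingGroup.1 hmalt
    have hsign2 := sign_of_pow_two_eq_one hm2
    rw [card_fixedPoints, sum_cycleType, hsupp, hcard, hsign] at hsign2
    norm_num at hsign2
  refine ⟨h5, ?_⟩
  haveI : Fact (Nat.Prime 5) := ⟨by norm_num⟩
  exact t13b_support_card hcard hgc hg11 hj' hj1 hfix (p := 5) (k := 1) (by rw [pow_one]; exact h5)
    (Or.inr rfl)

end Cfsg.Agent.Helper17.JPC
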