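import Mathlib

set_option autoImplicit false

namespace Cfsg.Agent.Helper17

/-- Klein four-groups are preserved by isomorphisms. -/
theorem isKleinFour_of_mulEquiv {A B : Type*} [Group A] [Group B] (e : A ≃* B)
    (hA : IsKleinFour A) : IsKleinFour B :=
  ⟨by rw [← Nat.card_congr e.toEquiv]; exact hA.card_four,
   by rw [← Monoid.exponent_eq_of_mulEquiv e]; exact hA.exponent_two⟩

theorem isKleinFour_congr {A B : Type*} [Group A] [Group B] (e : A ≃* B) :
    IsKleinFour A ↔ IsKleinFour B :=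
  ⟨isKleinFour_of_mulEquiv e, isKleinFour_of_mulEquiv e.symm⟩

/-- A subgroup is a Klein four-group iff it has four elements, all of which square to one. -/
theorem isKleinFour_subgroup_iff {H : Type*} [Group H] (U : Subgroup H) :
    IsKleinFour ↥U ↔ Nat.card U = 4 ∧ ∀ x ∈ U, x * x = 1 := by
  constructor
  · intro hU
    refine ⟨hU.card_four, fun x hx => ?_⟩
    have := Monoid.pow_exponent_eq_one (⟨x, hx⟩ : ↥U)
    rw [hU.exponent_two, pow_two] at this
    exact congrArg (fun z : ↥U => (z : H)) this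
  · rintro ⟨hc, hsq⟩
    refine ⟨hc, ?_⟩
    have hd : Monoid.exponent ↥U ∣ 2 := by
      apply Monoid.exponent_dvd_of_forall_pow_eq_one
      intro g
      rw [pow_two]
      exact Subtype.ext (hsq g.1 g.2)
    rcases (Nat.dvd_prime Nat.prime_two).1 hd with h1 | h2
    · exfalso
      rw [Monoid.exp_eq_one_iff] at h1
      have hfin : Finite ↥U := Nat.finite_of_card_ne_zero (by rw [hc]; norm_num)
      have := Nat.card_eq_one_iff_unique.2 ⟨h1, ⟨1⟩⟩
      omega
    · exact h2

namespace D4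

open DihedralGroup

def F₁ : Finset (DihedralGroup 4) := {1, r 2, sr 0, sr 2}
def F₂ : Finset (DihedralGroup 4) := {1, r 2, sr 1, sr 3}

set_option maxRecDepth 100000 in
theorem klein_finsets : ∀ s : Finset (DihedralGroup 4), s.card = 4 →
    (∀ x ∈ s, ∀ y ∈ s, x * y ∈ s) → (∀ x ∈ s, x * x = 1) → s = F₁ ∨ s = F₂ := by
  decide +kernel

def V₁ : Subgroup (DihedralGroup 4) where
  carrier := {x | x ∈ F₁}
  mul_mem' := by
    intro a b ha hb
    revert a b
    decide
  one_mem' := by decide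
  inv_mem' := by
    intro a ha
    revert a
    decide

def V₂ : Subgroup (DihedralGroup 4) where
  carrier := {x | x ∈ F₂}
  mul_mem' := by
    intro a b ha hb
    revert a b
    decide
  one_mem' := by decide
  inv_mem' := by
    intro a ha
    revert a
    decide

theorem mem_V₁ (x : DihedralGroup 4) : x ∈ V₁ ↔ x ∈ F₁ := Iff.rfl
theorem mem_V₂ (x : DihedralGroup 4) : x ∈ V₂ ↔ x ∈ F₂ := Iff.rfl

theorem V₁_ne_V₂ : V₁ ≠ V₂ := by
  intro h
  have h1 : sr 0 ∈ V₁ := by rw [mem_V₁]; decide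
  rw [h, mem_V₂] at h1
  revert h1
  decide

theorem isKleinFour_V₁ : IsKleinFour ↥V₁ := by
  classical
  rw [isKleinFour_subgroup_iff]
  refine ⟨?_, ?_⟩
  · rw [Nat.card_eq_fintype_card, Fintype.card_of_subtype F₁ (fun x => (mem_V₁ x).symm)]
    decide
  · intro x hx
    rw [mem_V₁] at hx
    revert x
    decide

theorem isKleinFour_V₂ : IsKleinFour ↥V₂ := by
  classical
  rw [isKleinFour_subgroup_iff]
  refine ⟨?_, ?_⟩
  · rw [Nat.card_eq_fintype_card, Fintype.card_of_subtype F₂ (fun x => (mem_V₂ x).symm)]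
    decide
  · intro x hx
    rw [mem_V₂] at hx
    revert x
    decide

theorem eq_V₁_or_V₂ (V : Subgroup (DihedralGroup 4)) (hV : IsKleinFour ↥V) : V = V₁ ∨ V = V₂ := by
  classical
  rw [isKleinFour_subgroup_iff] at hV
  obtain ⟨hc, hsq⟩ := hV
  set s : Finset (DihedralGroup 4) := Finset.univ.filter (· ∈ V) with hs
  have hmem : ∀ x, x ∈ s ↔ x ∈ V := by
    intro x; rw [hs]; simp
  have hcard : s.card = 4 := by
    have h1 : Fintype.card ↥V = s.card := Fintype.card_of_subtype s hmem
    rw [← h1, ← Nat.card_eq_fintype_card, hc]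
  rcases klein_finsets s hcard
    (fun x hx y hy => (hmem _).2 (V.mul_mem ((hmem x).1 hx) ((hmem y).1 hy)))
    (fun x hx => hsq x ((hmem x).1 hx)) with h1 | h2
  · left
    ext x
    rw [mem_V₁, ← h1, hmem]
  · right
    ext x
    rw [mem_V₂, ← h2, hmem]

theorem card_klein_four_subgroups :
    Nat.card {V : Subgroup (DihedralGroup 4) // IsKleinFour ↥V} = 2 := by
  rw [Nat.card_eq_two_iff]
  refine ⟨⟨V₁, isKleinFour_V₁⟩, ⟨V₂, isKleinFour_V₂⟩, ?_, ?_⟩
  · intro h
    exact V₁_ne_V₂ (congrArg Subtype.val h)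
  · ext ⟨V, hV⟩
    simp only [Set.mem_insert_iff, Set.mem_singleton_iff, Set.mem_univ, iff_true]
    rcases eq_V₁_or_V₂ V hV with h | h
    · left; exact Subtype.ext h
    · right; exact Subtype.ext h

end D4

end Cfsg.Agent.Helper17
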