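import Mathlib

set_option autoImplicit false

namespace Cfsg.Agent.Helper17.L2p

open Equiv

variable {p : ℕ}

/-- Translation by `k` on the projective line over `ZMod p`. -/
def X (k : ZMod p) : Perm (Option (ZMod p)) := Equiv.optionCongr (Equiv.addLeft k)

/-- Multiplication by the unit `u` on the projective line over `ZMod p`. -/
def Y (u : (ZMod p)ˣ) : Perm (Option (ZMod p)) := Equiv.optionCongr (Units.mulLeft u)

@[simp] theorem X_none (k : ZMod p) : X k none = none := rfl
@[simp] theorem X_some (k z : ZMod p) : X k (some z) = some (k + z) := rfl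
@[simp] theorem Y_none (u : (ZMod p)ˣ) : Y u none = none := rfl
@[simp] theorem Y_some (u : (ZMod p)ˣ) (z : ZMod p) : Y u (some z) = some ((u : ZMod p) * z) := rfl

/-- The table of a candidate for the restriction of `τ` to the nonzero points. -/
def tbl (a n μ c d : ZMod p) (m : ℕ) : List (ZMod p × ZMod p) :=
  (List.range m).flatMap fun i => [(a ^ i, μ ^ i * c), (n * a ^ i, μ ^ i * d)]

/-- The candidate function. -/
def cf (a n μ c d : ZMod p) (m : ℕ) (z : ZMod p) : ZMod p :=
  (((tbl a n μ c d m).find? fun pr => pr.1 = z).map Prod.snd).getD 0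

/-- Extension of a function on the nonzero points to the projective line, swapping `∞` and `0`. -/
def ext (f : ZMod p → ZMod p) : Option (ZMod p) → Option (ZMod p)
  | none => some 0
  | some z => if z = 0 then none else some (f z)

/-- Translation, as a plain function. -/
def sh (k : ZMod p) : Option (ZMod p) → Option (ZMod p) := Option.map (k + ·)

/-- The word `τ X^{-f k} τ X^k τ`, as a plain function. -/
def uw (f : ZMod p → ZMod p) (k : ZMod p) (o : Option (ZMod p)) : Option (ZMod p) :=
  ext f (sh (-(f k)) (ext f (sh k (ext f o))))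

/-- The word `τ X^{-f k} τ X^k τ` acts as an affine map with slope of order dividing `m`. -/
def Good (m : ℕ) (f : ZMod p → ZMod p) (k : ZMod p) : Prop :=
  ((uw f k (some 1)).getD 0 - (uw f k (some 0)).getD 0) ^ m = 1 ∧
    ∀ z : ZMod p, uw f k (some z) =
      some (((uw f k (some 1)).getD 0 - (uw f k (some 0)).getD 0) * z + (uw f k (some 0)).getD 0)

instance (m : ℕ) (f : ZMod p → ZMod p) (k : ZMod p) [NeZero p] : Decidable (Good m f k) := by
  unfold Good; infer_instance

/-- The test for one candidate. -/
def Test (m : ℕ) (a n c₀ μ c d : ZMod p) : Prop :=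
  (c = 1 ∨ c = n) → Good m (cf a n μ c d m) 1 → Good m (cf a n μ c d m) 2 →
    ∀ z : ZMod p, z ≠ 0 → cf a n μ c d m z = c₀ * z⁻¹

instance (m : ℕ) (a n c₀ μ c d : ZMod p) [NeZero p] : Decidable (Test m a n c₀ μ c d) := by
  unfold Test; infer_instance

/-- The computational fact pinning down `τ`. -/
def Check (p m : ℕ) (a n c₀ : ZMod p) : Prop :=
  ∀ μ c d : ZMod p, Test m a n c₀ μ c d

end Cfsg.Agent.Helper17.L2p
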