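import Mathlib

set_option autoImplicit false

namespace Cfsg.Agent.Helper17

/-- Membership in a conjugate Sylow subgroup. -/
theorem mem_smul_sylow_iff {G : Type*} [Group G] {p : ℕ} (x g : G) (P : Sylow p G) :
    g ∈ ((x • P : Sylow p G) : Subgroup G) ↔ x⁻¹ * g * x ∈ (P : Subgroup G) := by
  rw [Sylow.coe_subgroup_smul, Subgroup.mem_pointwise_smul_iff_inv_smul_mem]
  simp [MulAut.smul_def, MulAut.conj_apply]

/-- A `p`-subgroup `K` of a subgroup `N` containing a Sylow `p`-subgroup `P` of `G` lies in an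
`N`-conjugate of `P`. -/
theorem exists_conj_sylow_ge {G : Type*} [Group G] [Finite G] {p : ℕ} [Fact p.Prime]
    (N : Subgroup G) (P : Sylow p G) (hP : (P : Subgroup G) ≤ N) (K : Subgroup G)
    (hK : IsPGroup p K) (hKN : K ≤ N) :
    ∃ x ∈ N, K ≤ ((x • P : Sylow p G) : Subgroup G) := by
  have hK' : IsPGroup p (K.subgroupOf N) := hK.comap_subtype
  obtain ⟨S, hS⟩ := hK'.exists_le_sylow
  obtain ⟨n, hn⟩ := MulAction.exists_smul_eq (↥N) (P.subtype hP) S
  refine ⟨n, n.2, ?_⟩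
  intro k hk
  have h1 : (⟨k, hKN hk⟩ : ↥N) ∈ K.subgroupOf N := by
    rw [Subgroup.mem_subgroupOf]; exact hk
  have h2 : (⟨k, hKN hk⟩ : ↥N) ∈ ((n • P.subtype hP : Sylow p ↥N) : Subgroup ↥N) := by
    rw [hn]; exact hS h1
  rw [mem_smul_sylow_iff] at h2 ⊢
  rw [Sylow.coe_subtype, Subgroup.mem_subgroupOf] at h2
  simpa using h2

end Cfsg.Agent.Helper17
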