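import Mathlib
import Cfsg.Agent.Lib.Helper17.PrimeSylow
import Cfsg.Agent.Lib.Helper17.SylowSub
import Cfsg.Agent.Lib.Helper17.FixedCount

set_option autoImplicit false

namespace Cfsg.Agent.Helper17

open MulAction

/-- A `p`-element normalizing a Sylow `p`-subgroup lies in it. -/
theorem mem_sylow_of_mem_normalizer {G : Type*} [Group G] {p : ℕ} [Fact p.Prime] (P : Sylow p G)
    (z : G) (hz : IsPGroup p (Subgroup.zpowers z))
    (hzN : z ∈ Subgroup.normalizer ((P : Subgroup G) : Set G)) : z ∈ (P : Subgroup G) := by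
  have h := hz.inf_normalizer_sylow P
  have : z ∈ Subgroup.zpowers z ⊓ (P : Subgroup G) := h.le ⟨Subgroup.mem_zpowers z, hzN⟩
  exact this.2

theorem isPGroup_zpowers_of_orderOf {G : Type*} [Group G] {p : ℕ} [Fact p.Prime] (z : G)
    (hz : orderOf z = p) : IsPGroup p (Subgroup.zpowers z) := by
  apply IsPGroup.of_card (n := 1)
  rw [Nat.card_zpowers, hz, pow_one]

/-- An element of order `p` fixes exactly one coset of the normalizer of a Sylow subgroup of order `p`. -/
theorem card_fixedBy_normalizer_eq_one {G : Type*} [Group G] [Finite G] (p : ℕ) [hp : Fact p.Prime]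
    (P : Sylow p G) (hP : Nat.card ↥(P : Subgroup G) = p) (y : G) (hy : orderOf y = p) :
    Nat.card (MulAction.fixedBy (G ⧸ Subgroup.normalizer ((P : Subgroup G) : Set G)) y) = 1 := by
  set N : Subgroup G := Subgroup.normalizer ((P : Subgroup G) : Set G) with hN
  have hy1 : y ≠ 1 := by
    rintro rfl
    rw [orderOf_one] at hy
    exact hp.out.one_lt.ne' hy.symm
  have key : ∀ g : G, y • (QuotientGroup.mk g : G ⧸ N) = QuotientGroup.mk g ↔
      y ∈ ((g • P : Sylow p G) : Subgroup G) := by
    intro g
    rw [smul_mk_eq_iff, mem_smul_sylow_iff]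
    constructor
    · intro h
      apply mem_sylow_of_mem_normalizer P _ _ h
      apply isPGroup_zpowers_of_orderOf
      have : g⁻¹ * y * g = (MulAut.conj g⁻¹).toMonoidHom y := by simp
      rw [this, orderOf_injective _ (MulAut.conj g⁻¹).injective]
      exact hy
    · intro h
      exact Subgroup.le_normalizer h
  rw [Nat.card_eq_one_iff_unique]
  constructor
  · constructor
    rintro ⟨q1, h1⟩ ⟨q2, h2⟩
    apply Subtype.ext
    induction q1 using QuotientGroup.induction_on with
    | H g1 =>
    induction q2 using QuotientGroup.induction_on with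
    | H g2 =>
    rw [MulAction.mem_fixedBy, key] at h1 h2
    have hc1 : Nat.card ((g1 • P : Sylow p G) : Subgroup G) = p := by
      rw [Sylow.card_eq_multiplicity, ← Sylow.card_eq_multiplicity P]; exact hP
    have hc2 : Nat.card ((g2 • P : Sylow p G) : Subgroup G) = p := by
      rw [Sylow.card_eq_multiplicity, ← Sylow.card_eq_multiplicity P]; exact hP
    have e1 := (zpowers_eq_of_card_prime _ hc1 y h1 hy1).1
    have e2 := (zpowers_eq_of_card_prime _ hc2 y h2 hy1).1
    have heq : g1 • P = g2 • P := Sylow.ext (e1.symm.trans e2)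
    have : (g1⁻¹ * g2) • P = P := by
      rw [mul_smul, ← heq, smul_smul, inv_mul_cancel, one_smul]
    rw [Sylow.smul_eq_iff_mem_normalizer] at this
    change (QuotientGroup.mk g1 : G ⧸ N) = QuotientGroup.mk g2
    rw [QuotientGroup.eq]
    exact this
  · obtain ⟨Q, hQ⟩ := exists_sylow_mem_of_orderOf y hy
    obtain ⟨g, rfl⟩ := MulAction.exists_smul_eq G P Q
    exact ⟨⟨QuotientGroup.mk g, (key g).2 hQ⟩⟩

/-- An element of the normalizer of a Sylow subgroup `P` of order `p` not centralizing `P` fixes at most one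
coset in each `P`-orbit. -/
theorem card_fixedBy_le_orbits {G : Type*} [Group G] [Finite G] (p : ℕ) [hp : Fact p.Prime]
    (P : Sylow p G) (hP : Nat.card ↥(P : Subgroup G) = p) (x : G)
    (hxN : x ∈ Subgroup.normalizer ((P : Subgroup G) : Set G))
    (hxC : x ∉ Subgroup.centralizer ((P : Subgroup G) : Set G)) :
    Nat.card (MulAction.fixedBy (G ⧸ Subgroup.normalizer ((P : Subgroup G) : Set G)) x) ≤
      Nat.card (MulAction.orbitRel.Quotient ↥(P : Subgroup G)
        (G ⧸ Subgroup.normalizer ((P : Subgroup G) : Set G))) := by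
  set N : Subgroup G := Subgroup.normalizer ((P : Subgroup G) : Set G) with hN
  let f : MulAction.fixedBy (G ⧸ N) x → MulAction.orbitRel.Quotient ↥(P : Subgroup G) (G ⧸ N) :=
    fun q => Quotient.mk'' q.1
  apply Nat.card_le_card_of_injective f
  rintro ⟨q1, h1⟩ ⟨q2, h2⟩ hq
  apply Subtype.ext
  change q1 = q2
  have hrel : q1 ∈ MulAction.orbit ↥(P : Subgroup G) q2 := Quotient.exact hq
  obtain ⟨⟨u, hu⟩, hu2⟩ := hrel
  change u • q2 = q1 at hu2
  rw [MulAction.mem_fixedBy] at h1 h2
  by_contra hne
  have hune : u • q2 ≠ q2 := by rw [hu2]; exact hne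
  have hu1 : u ≠ 1 := by
    rintro rfl
    exact hune (one_smul _ _)
  have hgen := (zpowers_eq_of_card_prime _ hP u hu hu1).1
  -- w = u⁻¹ * (x * u * x⁻¹) lies in P and fixes q2
  have hxu : x * u * x⁻¹ ∈ (P : Subgroup G) := by
    have := (Subgroup.mem_normalizer_iff.1 hxN u).1 hu
    exact this
  set w : G := u⁻¹ * (x * u * x⁻¹) with hw
  have hwP : w ∈ (P : Subgroup G) := Subgroup.mul_mem _ (Subgroup.inv_mem _ hu) hxu
  have hwfix : w • q2 = q2 := by
    have e1 : (x * u * x⁻¹) • q2 = u • q2 := by
      have : (x * u * x⁻¹) • q2 = (x * u * x⁻¹) • (x • q2) := by rw [h2]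
      rw [this, smul_smul]
      have : x * u * x⁻¹ * x = x * u := by group
      rw [this, mul_smul, hu2, h1]
    rw [hw, mul_smul, e1, smul_smul, inv_mul_cancel, one_smul]
  by_cases hw1 : w = 1
  · -- x commutes with u, hence centralizes P
    apply hxC
    have hcomm : u * x = x * u := by
      have : u * w = u := by rw [hw1, mul_one]
      rw [hw] at this
      have h3 : x * u * x⁻¹ = u := by
        have : u * (u⁻¹ * (x * u * x⁻¹)) = x * u * x⁻¹ := by group
        rw [← this]; assumption
      calc u * x = (x * u * x⁻¹) * x := by rw [h3]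
        _ = x * u := by group
    have hle : (P : Subgroup G) ≤ Subgroup.centralizer ({x} : Set G) := by
      rw [← hgen, Subgroup.zpowers_le]
      rw [Subgroup.mem_centralizer_iff]
      intro h hh
      rw [Set.mem_singleton_iff] at hh
      rw [hh]
      exact hcomm.symm
    rw [Subgroup.mem_centralizer_iff]
    intro h hh
    have := Subgroup.mem_centralizer_iff.1 (hle hh) x (Set.mem_singleton x)
    exact this.symm
  · have hgenw := (zpowers_eq_of_card_prime _ hP w hwP hw1).1
    have hle : (P : Subgroup G) ≤ MulAction.stabilizer G q2 := by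
      rw [← hgenw, Subgroup.zpowers_le]
      exact hwfix
    exact hune (hle hu)

end Cfsg.Agent.Helper17
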