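import Mathlib
import Cfsg.Agent.Lib.Helper17.L2pPin
import Cfsg.Agent.Lib.Helper17.Simple
import Cfsg.Agent.Lib.Helper17.PrimeSylow
import Cfsg.Agent.Lib.Helper17.SylowFixed

set_option autoImplicit false

namespace Cfsg.Agent.Helper17.L2p

open Equiv Cfsg.Agent.Helper17

theorem pow_val_add {G : Type*} [Group G] {p : ℕ} [NeZero p] (x : G) (hx : x ^ p = 1)
    (a b : ZMod p) : x ^ (a + b).val = x ^ a.val * x ^ b.val := by
  rw [ZMod.val_add, ← pow_add, pow_eq_pow_mod (a.val + b.val) hx]

theorem pow_val_mul {G : Type*} [Group G] {p : ℕ} [NeZero p] (x : G) (hx : x ^ p = 1)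
    (a b : ZMod p) : x ^ (a * b).val = (x ^ a.val) ^ b.val := by
  rw [ZMod.val_mul, ← pow_mul]
  exact (pow_eq_pow_mod (a.val * b.val) hx).symm

theorem Y_pow {p : ℕ} (u : (ZMod p)ˣ) (k : ℕ) : Y u ^ k = Y (u ^ k) := by
  induction k with
  | zero =>
    ext o : 1
    rw [pow_zero, pow_zero, Perm.one_apply, Y_one_apply]
  | succ k ih =>
    ext o : 1
    rw [pow_succ, pow_succ, Perm.mul_apply, ih, Y_apply_Y]

theorem Y_injective {p : ℕ} {u v : (ZMod p)ˣ} (h : Y u = Y v) : u = v := by
  have h1 := congrArg (fun q : Perm (Option (ZMod p)) => q (some 1)) h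
  simp only [Y_some, mul_one] at h1
  exact Units.ext (Option.some_injective _ h1)

/-- The labelled action of a simple group of order `p (p² - 1) / 2` on its Sylow `p`-subgroups. -/
theorem exists_action {G : Type*} [Group G] [Finite G] [IsSimpleGroup G] {p m : ℕ}
    [hp : Fact p.Prime] (hpm : p = 2 * m + 1) (hm : 1 ≤ m)
    (hG : Nat.card G = p * (m * (p + 1)))
    (hsyl : ∀ k, k ∣ m * (p + 1) → k % p = 1 → k = 1 ∨ k = p + 1) :
    ∃ φ : G →* Perm (Option (ZMod p)), Function.Injective φ ∧ ZAct m φ.range := by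
  classical
  have hp2 : 2 ≤ p := hp.out.two_le
  have hnd : ¬ p ∣ m * (p + 1) := by
    intro h
    rcases (Nat.Prime.dvd_mul hp.out).1 h with h | h
    · have := Nat.le_of_dvd (by omega) h
      omega
    · have h1 : p ∣ 1 := (Nat.dvd_add_right (dvd_refl p)).1 h
      have := Nat.le_of_dvd one_pos h1
      omega
  have hG' : Nat.card G = p ^ 1 * (m * (p + 1)) := by rw [pow_one]; exact hG
  have hn : Nat.card (Sylow p G) = p + 1 := by
    obtain ⟨h1, h2⟩ := sylow_count hG' hnd
    have h3 : Nat.card (Sylow p G) ≠ 1 := by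
      apply sylow_count_ne_one hG' hnd one_ne_zero
      intro h4
      have : m * (p + 1) ≥ 1 * (p + 1) := Nat.mul_le_mul_right _ hm
      omega
    exact (hsyl _ h1 h2).resolve_left h3
  obtain ⟨P⟩ : Nonempty (Sylow p G) := inferInstance
  have hcardS : ∀ Q : Sylow p G, Nat.card (Q : Subgroup G) = p := fun Q => by
    have := sylow_card_eq Q hG' hnd
    rwa [pow_one] at this
  -- a generator of `P`
  obtain ⟨x, hxP, hx1⟩ : ∃ x ∈ (P : Subgroup G), x ≠ 1 := by
    have hne : (P : Subgroup G) ≠ ⊥ := by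
      intro h
      have := hcardS P
      rw [h, Subgroup.card_bot] at this
      omega
    obtain ⟨⟨x, hxP⟩, hx1⟩ := (Subgroup.ne_bot_iff_exists_ne_one).1 hne
    exact ⟨x, hxP, fun h => hx1 (Subtype.ext h)⟩
  obtain ⟨hzP, hox⟩ := zpowers_eq_of_card_prime (P : Subgroup G) (hcardS P) x hxP hx1
  have hxp : x ^ p = 1 := by rw [← hox]; exact pow_orderOf_eq_one x
  -- nonidentity elements of `P` fix only `P`
  have hfix : ∀ g ∈ (P : Subgroup G), g ≠ 1 → ∀ Q : Sylow p G, g • Q = Q → Q = P := by
    intro g hgP hg1 Q hgQ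
    rw [Sylow.smul_eq_iff_mem_normalizer] at hgQ
    have hpg : IsPGroup p (Subgroup.zpowers g) :=
      P.isPGroup'.to_le ((Subgroup.zpowers_le).2 hgP)
    have hgQ' : g ∈ (Q : Subgroup G) := mem_sylow_of_mem_normalizer Q g hpg hgQ
    have e1 := (zpowers_eq_of_card_prime (Q : Subgroup G) (hcardS Q) g hgQ' hg1).1
    have e2 := (zpowers_eq_of_card_prime (P : Subgroup G) (hcardS P) g hgP hg1).1
    exact Sylow.ext (e1.symm.trans e2)
  have hpowP : ∀ k : ZMod p, x ^ k.val ∈ (P : Subgroup G) := fun k => Subgroup.pow_mem _ hxP _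
  have hpow1 : ∀ k : ZMod p, k ≠ 0 → x ^ k.val ≠ 1 := by
    intro k hk h1
    have h2 := orderOf_dvd_of_pow_eq_one h1
    rw [hox] at h2
    have hlt := ZMod.val_lt k
    have h3 : k.val = 0 := Nat.eq_zero_of_dvd_of_lt h2 hlt
    exact hk ((ZMod.val_eq_zero k).1 h3)
  have hPfix : ∀ g ∈ (P : Subgroup G), g • P = P := fun g hg =>
    Sylow.smul_eq_iff_mem_normalizer.2 (Subgroup.le_normalizer hg)
  -- another Sylow subgroup
  obtain ⟨Q₀, hQ₀⟩ : ∃ Q₀ : Sylow p G, Q₀ ≠ P := by
    by_contra hall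
    push Not at hall
    have : Nat.card (Sylow p G) = 1 :=
      Nat.card_eq_one_iff_unique.2 ⟨⟨fun a b => (hall a).trans (hall b).symm⟩, ⟨P⟩⟩
    omega
  let ℓ : Option (ZMod p) → Sylow p G := fun o => o.elim P (fun k => x ^ k.val • Q₀)
  have hne : ∀ k : ZMod p, x ^ k.val • Q₀ ≠ P := by
    intro k h
    apply hQ₀
    have h1 : Q₀ = (x ^ k.val)⁻¹ • P := by rw [← h, inv_smul_smul]
    rw [h1]
    exact hPfix _ (Subgroup.inv_mem _ (hpowP k))
  have hℓinj : Function.Injective ℓ := by
    intro o₁ o₂ h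
    cases o₁ with
    | none =>
      cases o₂ with
      | none => rfl
      | some k => exact absurd h.symm (hne k)
    | some k₁ =>
      cases o₂ with
      | none => exact absurd h (hne k₁)
      | some k₂ =>
        by_contra hk
        have hk' : k₁ - k₂ ≠ 0 := sub_ne_zero.2 (fun e => hk (congrArg some e))
        have h2 : x ^ (k₁ - k₂).val • (x ^ k₂.val • Q₀) = x ^ k₂.val • Q₀ := by
          rw [← mul_smul, ← pow_val_add x hxp, sub_add_cancel]
          exact h
        exact hne k₂ (hfix _ (hpowP _) (hpow1 _ hk') _ h2)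
  have hℓbij : Function.Bijective ℓ := by
    apply hℓinj.bijective_of_nat_card_le
    rw [hn, Finite.card_option, Nat.card_zmod]
  let e : Option (ZMod p) ≃ Sylow p G := Equiv.ofBijective ℓ hℓbij
  have hen : e none = P := rfl
  have hes : ∀ k, e (some k) = x ^ k.val • Q₀ := fun k => rfl
  have he0 : e (some 0) = Q₀ := by rw [hes, ZMod.val_zero, pow_zero, one_smul]
  let φ : G →* Perm (Option (ZMod p)) :=
    (e.symm.permCongrHom.toMonoidHom).comp (MulAction.toPermHom G (Sylow p G))
  have hφ : ∀ g o, φ g o = e.symm (g • e o) := by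
    intro g o
    simp [φ, Equiv.permCongr_apply]
  have hkey : ∀ g o o', g • e o = e o' → φ g o = o' := by
    intro g o o' h
    rw [hφ, h, Equiv.symm_apply_apply]
  have hkey' : ∀ g o o', φ g o = o' → g • e o = e o' := by
    intro g o o' h
    rw [hφ] at h
    rw [← h, Equiv.apply_symm_apply]
  have hφx : ∀ k : ZMod p, φ (x ^ k.val) = X k := by
    intro k
    ext o : 1
    cases o with
    | none =>
      rw [X_none]
      apply hkey
      rw [hen]
      exact hPfix _ (hpowP k)
    | some z =>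
      rw [X_some]
      apply hkey
      rw [hes, hes, ← mul_smul, pow_val_add x hxp]
  -- injectivity
  have hker : (MulAction.toPermHom G (Sylow p G)).ker ≠ ⊤ := by
    intro htop
    have hxk : x ∈ (MulAction.toPermHom G (Sylow p G)).ker := by
      rw [htop]; exact Subgroup.mem_top x
    rw [MonoidHom.mem_ker] at hxk
    have h1 : x • Q₀ = Q₀ := by
      have := congrArg (fun q : Perm (Sylow p G) => q Q₀) hxk
      simpa using this
    exact hQ₀ (hfix x hxP hx1 Q₀ h1)
  have hbot : (MulAction.toPermHom G (Sylow p G)).ker = ⊥ :=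
    ((MulAction.toPermHom G (Sylow p G)).normal_ker.eq_bot_or_eq_top).resolve_right hker
  have hinj0 : Function.Injective (MulAction.toPermHom G (Sylow p G)) :=
    (MonoidHom.ker_eq_bot_iff _).1 hbot
  have hinj : Function.Injective φ := e.symm.permCongrHom.injective.comp hinj0
  -- the stabilizer of `P`
  set N : Subgroup G := MulAction.stabilizer G P with hN
  have hNc : Nat.card N = p * m := by
    have h1 := MulAction.index_stabilizer_of_transitive G P
    have h2 := N.card_mul_index
    rw [h1, hn, hG] at h2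
    have h3 : Nat.card N * (p + 1) = (p * m) * (p + 1) := by rw [h2]; ring
    exact Nat.eq_of_mul_eq_mul_right (by omega) h3
  have hPN : ∀ g ∈ (P : Subgroup G), g ∈ N := fun g hg =>
    MulAction.mem_stabilizer_iff.2 (hPfix g hg)
  -- the two-point stabilizer
  set S : Subgroup N := MulAction.stabilizer N Q₀ with hS
  have hkinj : Function.Injective (fun k : ZMod p => x ^ k.val • Q₀) := by
    intro k k' h
    exact Option.some_injective _ (hℓinj h)
  have horb : MulAction.orbit N Q₀ = Set.range (fun k : ZMod p => x ^ k.val • Q₀) := by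
    ext Q
    constructor
    · rintro ⟨n, rfl⟩
      obtain ⟨o, ho⟩ := e.surjective (n • Q₀)
      cases o with
      | none =>
        exfalso
        have h1 : (n : G) • Q₀ = P := ho.symm
        have h2 : Q₀ = (n : G)⁻¹ • P := by rw [← h1, inv_smul_smul]
        apply hQ₀
        rw [h2]
        exact MulAction.mem_stabilizer_iff.1 (N.inv_mem n.2)
      | some k => exact ⟨k, ho⟩
    · rintro ⟨k, rfl⟩
      exact ⟨⟨x ^ k.val, hPN _ (hpowP k)⟩, rfl⟩
  have hSc : Nat.card S = m := by
    have h1 : S.index = p := by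
      rw [hS, MulAction.index_stabilizer, horb, Set.ncard_range_of_injective hkinj,
        Nat.card_zmod]
    have h2 := S.card_mul_index
    rw [h1, hNc, mul_comm p m] at h2
    exact Nat.eq_of_mul_eq_mul_right hp.out.pos h2
  have hH : ∀ g : G, g • P = P → g • Q₀ = Q₀ → ∃ u : (ZMod p)ˣ, u ^ m = 1 ∧ φ g = Y u := by
    intro g hgP hgQ
    have hgN : g ∈ N := MulAction.mem_stabilizer_iff.2 hgP
    have hgS : (⟨g, hgN⟩ : N) ∈ S := MulAction.mem_stabilizer_iff.2 hgQ
    have hgm : g ^ m = 1 := by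
      have h1 : orderOf (⟨g, hgN⟩ : N) ∣ m := hSc ▸ Subgroup.orderOf_dvd_natCard S hgS
      have h2 : (⟨g, hgN⟩ : N) ^ m = 1 := orderOf_dvd_iff_pow_eq_one.1 h1
      exact congrArg Subtype.val h2
    have hnorm : g ∈ Subgroup.normalizer ((P : Subgroup G) : Set G) :=
      Sylow.smul_eq_iff_mem_normalizer.1 hgP
    have hconj : g * x * g⁻¹ ∈ Subgroup.zpowers x := by
      rw [hzP]
      exact (Subgroup.mem_normalizer_iff.1 hnorm x).1 hxP
    have hfin : IsOfFinOrder x := orderOf_pos_iff.1 (by rw [hox]; exact hp.out.pos)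
    rw [hfin.mem_zpowers_iff_mem_range_orderOf, hox] at hconj
    obtain ⟨j, hj, hjx⟩ := Finset.mem_image.1 hconj
    rw [Finset.mem_range] at hj
    set c : ZMod p := (j : ZMod p) with hc
    have hcv : c.val = j := ZMod.val_natCast_of_lt hj
    have hc0 : c ≠ 0 := by
      intro h0
      have hj0 : j = 0 := by rw [← hcv, h0, ZMod.val_zero]
      rw [hj0, pow_zero] at hjx
      apply hx1
      have h1 : x = g⁻¹ * (g * x * g⁻¹) * g := by group
      rw [h1, ← hjx]
      group
    have hYeq : φ g = Y (Units.mk0 c hc0) := by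
      ext o : 1
      cases o with
      | none =>
        rw [Y_none]
        exact hkey g none none (by rw [hen]; exact hgP)
      | some k =>
        rw [Y_some, Units.val_mk0]
        apply hkey
        rw [hes, hes, pow_val_mul x hxp, hcv, hjx, conj_pow, mul_smul, mul_smul,
          inv_smul_eq_iff.2 hgQ.symm]
    refine ⟨Units.mk0 c hc0, ?_, hYeq⟩
    apply Y_injective
    rw [← Y_pow, ← hYeq, ← map_pow, hgm, map_one]
    ext o : 1
    rw [Perm.one_apply, Y_one_apply]
  have hY : ∀ u : (ZMod p)ˣ, u ^ m = 1 → Y u ∈ φ.range := by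
    have hex : ∀ s : S, ∃ u : (ZMod p)ˣ, u ^ m = 1 ∧ φ ((s : N) : G) = Y u := fun s =>
      hH _ (MulAction.mem_stabilizer_iff.1 (s : N).2) (MulAction.mem_stabilizer_iff.1 s.2)
    let ψ : S → {u : (ZMod p)ˣ // u ^ m = 1} := fun s =>
      ⟨Classical.choose (hex s), (Classical.choose_spec (hex s)).1⟩
    have hψ : ∀ s : S, φ ((s : N) : G) = Y (ψ s).1 := fun s =>
      (Classical.choose_spec (hex s)).2
    have hψinj : Function.Injective ψ := by
      intro s s' h
      have h1 : φ ((s : N) : G) = φ ((s' : N) : G) := by rw [hψ, hψ, h]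
      exact Subtype.ext (Subtype.ext (hinj h1))
    have hcardT : Nat.card {u : (ZMod p)ˣ // u ^ m = 1} ≤ m := by
      rw [Nat.card_eq_fintype_card, Fintype.card_subtype]
      exact IsCyclic.card_pow_eq_one_le (by omega)
    have hψbij := hψinj.bijective_of_nat_card_le (by rw [hSc]; exact hcardT)
    intro u hu
    obtain ⟨s, hs⟩ := hψbij.2 ⟨u, hu⟩
    exact ⟨((s : N) : G), by rw [hψ, hs]⟩
  have hτ : ∃ τ ∈ φ.range, τ none = some 0 ∧ τ (some 0) = none := by
    obtain ⟨g, hg⟩ := MulAction.exists_smul_eq G P Q₀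
    have h1 : g⁻¹ • P ≠ P := by
      intro h
      apply hQ₀
      rw [← hg, ← h, smul_inv_smul, h]
    obtain ⟨o, ho⟩ := e.surjective (g⁻¹ • P)
    cases o with
    | none => exact absurd ho.symm h1
    | some k =>
      refine ⟨φ (g * x ^ k.val), ⟨_, rfl⟩, ?_, ?_⟩
      · apply hkey
        rw [hen, he0, mul_smul, hPfix _ (hpowP k), hg]
      · apply hkey
        rw [hen, he0, mul_smul, ← hes, ho, smul_inv_smul]
  refine ⟨φ, hinj, ⟨fun k => ⟨x ^ k.val, hφx k⟩, hY, ?_, hτ⟩⟩
  rintro _ ⟨g, rfl⟩ h1 h2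
  refine hH g ?_ ?_
  · have := hkey' g none none h1
    rwa [hen] at this
  · have := hkey' g (some 0) (some 0) h2
    rwa [he0] at this

end Cfsg.Agent.Helper17.L2p
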