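import Mathlib
import Cfsg.Agent.Lib.Helper17.L2pAction
import Cfsg.Agent.Lib.Helper5.PSL2Small

set_option autoImplicit false

namespace Cfsg.Agent.Helper17.L2p

open Equiv Cfsg.Agent.Helper17

/-- The per-prime numerical facts. -/
structure Facts (p m : ℕ) (a n c₀ : ZMod p) : Prop where
  hpm : p = 2 * m + 1
  hm : 2 ≤ m
  hsyl : ∀ k, k ∣ m * (p + 1) → k % p = 1 → k = 1 ∨ k = p + 1
  ha : a ^ m = 1
  hgen : ∀ z : ZMod p, z ≠ 0 → ∃ i < m, z = a ^ i ∨ z = n * a ^ i
  hcheck : Check p m a n c₀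

/-- A simple group of order `p (p² - 1) / 2` is isomorphic to the canonical permutation group. -/
theorem iso_K {G : Type*} [Group G] [Finite G] [IsSimpleGroup G] {p m : ℕ} [hp : Fact p.Prime]
    {a n c₀ : ZMod p} (hF : Facts p m a n c₀) (hG : Nat.card G = p * (m * (p + 1))) :
    Nonempty (G ≃* K (p := p) m c₀) := by
  obtain ⟨φ, hinj, hZ⟩ := exists_action hF.hpm (le_trans (by norm_num) hF.hm) hG hF.hsyl
  have hp2 : p ≠ 2 := by
    have := hF.hpm
    have := hF.hm
    omega
  have hR := hZ.eq_K hF.ha (by have := hF.hm; omega) hF.hgen hp2 hF.hcheck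
  exact ⟨(MonoidHom.ofInjective hinj).trans (MulEquiv.subgroupCongr hR)⟩

/-- Any two simple groups of order `p (p² - 1) / 2` are isomorphic. -/
theorem iso_of_simple {G₁ : Type*} {G₂ : Type*} [Group G₁] [Finite G₁] [IsSimpleGroup G₁]
    [Group G₂] [Finite G₂] [IsSimpleGroup G₂] {p m : ℕ} [hp : Fact p.Prime]
    {a n c₀ : ZMod p} (hF : Facts p m a n c₀) (h₁ : Nat.card G₁ = p * (m * (p + 1)))
    (h₂ : Nat.card G₂ = p * (m * (p + 1))) : Nonempty (G₁ ≃* G₂) := by
  obtain ⟨e₁⟩ := iso_K hF h₁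
  obtain ⟨e₂⟩ := iso_K hF h₂
  exact ⟨e₁.trans e₂.symm⟩

/-- A simple group of order `p (p² - 1) / 2` is isomorphic to `PSL(2, p)`. -/
theorem iso_PSL {G : Type*} [Group G] [Finite G] [IsSimpleGroup G] {p m : ℕ} [hp : Fact p.Prime]
    {a n c₀ : ZMod p} (hF : Facts p m a n c₀) (hG : Nat.card G = p * (m * (p + 1)))
    {F : Type*} [Field F] [Fintype F] (hcF : Fintype.card F = p) :
    Nonempty (G ≃* Matrix.ProjectiveSpecialLinearGroup (Fin 2) F) := by
  have hpm := hF.hpm
  have hm := hF.hm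
  have hp4 : 4 ≤ p := by omega
  have hsimple : IsSimpleGroup (Matrix.ProjectiveSpecialLinearGroup (Fin 2) F) :=
    Matrix.ProjectiveSpecialLinearGroup.rank_two_simple
      (by rw [Nat.card_eq_fintype_card, hcF]; exact hp4)
  have hcard : Nat.card (Matrix.ProjectiveSpecialLinearGroup (Fin 2) F) = p * (m * (p + 1)) := by
    have h1 := Cfsg.Agent.Helper5.card_PSL2_mul hcF
    have hg : Nat.gcd 2 (p - 1) = 2 := by
      have : p - 1 = 2 * m := by omega
      rw [this]
      exact Nat.gcd_eq_left (dvd_mul_right 2 m)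
    rw [hg] at h1
    have e1 : p - 1 = 2 * m := by omega
    have e2 : p ^ 2 - 1 = 2 * m * (p + 1) := by
      have : p ^ 2 = 2 * m * (p + 1) + 1 := by rw [hpm]; ring
      omega
    have e3 : p ^ 2 - p = p * (2 * m) := by
      have : p ^ 2 = p * (2 * m) + p := by rw [hpm]; ring
      omega
    rw [e1, e2, e3] at h1
    have h2 : Nat.card (Matrix.ProjectiveSpecialLinearGroup (Fin 2) F) * (2 * (2 * m)) =
        p * (m * (p + 1)) * (2 * (2 * m)) := by
      rw [← mul_assoc, h1]; ring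
    exact Nat.eq_of_mul_eq_mul_right (by omega) h2
  have : Finite (Matrix.ProjectiveSpecialLinearGroup (Fin 2) F) :=
    Nat.finite_of_card_ne_zero (by
      rw [hcard]
      have := hp.out.pos
      positivity)
  exact iso_of_simple hF hG hcard

end Cfsg.Agent.Helper17.L2p
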