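import Mathlib
import Cfsg.Agent.Lib.Helper17.L2pIso

set_option autoImplicit false

namespace Cfsg.Agent.Helper17.L2p

theorem syl13 : ∀ k ∈ Nat.divisors 84, k % 13 = 1 → k = 1 ∨ k = 14 := by
  decide +kernel

theorem gen13 : ∀ z : ZMod 13, z ≠ 0 → ∃ i < 6, z = (4 : ZMod 13) ^ i ∨ z = 2 * (4 : ZMod 13) ^ i := by
  decide +kernel

theorem check13 : Check 13 6 4 2 1 := by
  unfold Check
  decide +kernel

/-- The numerical facts for `p = 13`. -/
theorem facts13 : Facts 13 6 4 2 1 where
  hpm := by norm_num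
  hm := by norm_num
  hsyl := fun k hk hk1 => syl13 k (Nat.mem_divisors.2 ⟨hk, by norm_num⟩) hk1
  ha := by decide +kernel
  hgen := gen13
  hcheck := check13

end Cfsg.Agent.Helper17.L2p
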