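import Mathlib
import Cfsg.Agent.Lib.Helper17.L2pIso

set_option autoImplicit false

namespace Cfsg.Agent.Helper17.L2p

theorem syl23 : ∀ k ∈ Nat.divisors 264, k % 23 = 1 → k = 1 ∨ k = 24 := by
  decide +kernel

theorem gen23 : ∀ z : ZMod 23, z ≠ 0 → ∃ i < 11, z = (2 : ZMod 23) ^ i ∨ z = 5 * (2 : ZMod 23) ^ i := by
  decide +kernel

theorem check23 : Check 23 11 2 5 5 := by
  unfold Check
  decide +kernel

/-- The numerical facts for `p = 23`. -/
theorem facts23 : Facts 23 11 2 5 5 where
  hpm := by norm_num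
  hm := by norm_num
  hsyl := fun k hk hk1 => syl23 k (Nat.mem_divisors.2 ⟨hk, by norm_num⟩) hk1
  ha := by decide +kernel
  hgen := gen23
  hcheck := check23

end Cfsg.Agent.Helper17.L2p
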