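import Mathlib
import Cfsg.Agent.Lib.Helper74.M11Defs
import Cfsg.Agent.Lib.Helper9.ConjFixed
import Cfsg.Agent.Lib.Helper17.Simple

/-!
# M11 lemma server (helper74), piece (Q1): `|N(P₃)| ∈ {144, 36}` in a simple group of order 7920
-/

set_option autoImplicit false

namespace Cfsg.Agent.Helper17.M11

open Cfsg.Agent.Helper74.M11

variable {G : Type*} [Group G] [Finite G]

/-- An element of prime order `q ∈ {5, 11}` normalizing a subgroup of order 9 centralizes it, so `9`
divides the order of its centralizer. -/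
theorem h17_nine_dvd_card_cen (P : Subgroup G) (hP : Nat.card P = 9) (x : G)
    (hx : x ∈ NorS P) (q : ℕ) [hq : Fact q.Prime] (hxq : orderOf x = q)
    (hq9 : ∀ d : ℕ, d ∣ 9 → d ≡ 9 [MOD q] → d = 9) : 9 ∣ Nat.card (Cen x) := by
  have : Finite P := inferInstance
  have hnorm : ∀ y ∈ P, x * y * x⁻¹ ∈ P := fun y hy =>
    (Subgroup.mem_normalizer_iff.1 hx y).1 hy
  have hpow : x ^ (q ^ 1) = 1 := by rw [pow_one, ← hxq]; exact pow_orderOf_eq_one x
  have hmod := Cfsg.Agent.Helper9.card_modEq_card_inf_centralizer P x hnorm q 1 hpow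
  have hdvd : Nat.card (P ⊓ Subgroup.centralizer {x} : Subgroup G) ∣ 9 := by
    rw [← hP]; exact Subgroup.card_dvd_of_le inf_le_left
  rw [hP] at hmod
  have h9 : Nat.card (P ⊓ Subgroup.centralizer {x} : Subgroup G) = 9 := hq9 _ hdvd hmod.symm
  rw [← h9]
  exact Subgroup.card_dvd_of_le inf_le_right

/-- Burnside's transfer theorem in a simple group: a proper nontrivial Sylow subgroup is not central in
its normalizer. -/
theorem h17_not_normalizer_le_centralizer [IsSimpleGroup G] {p : ℕ} [Fact p.Prime] (P : Sylow p G)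
    (h1 : 1 < Nat.card (P : Subgroup G)) (h2 : Nat.card (P : Subgroup G) < Nat.card G) :
    ¬ Subgroup.normalizer ((P : Subgroup G) : Set G) ≤
      Subgroup.centralizer ((P : Subgroup G) : Set G) := by
  intro hP
  have hc := MonoidHom.ker_transferSylow_isComplement' P hP
  have hmul := hc.card_mul_card
  rcases (MonoidHom.transferSylow P hP).normal_ker.eq_bot_or_eq_top with hK | hK
  · rw [hK, Subgroup.card_bot, one_mul] at hmul
    omega
  · rw [hK, Subgroup.card_top] at hmul
    have hpos : 0 < Nat.card G := Nat.card_pos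
    have : Nat.card (P : Subgroup G) = 1 := by
      have h3 : Nat.card G * Nat.card (P : Subgroup G) = Nat.card G * 1 := by rw [hmul, mul_one]
      exact Nat.eq_of_mul_eq_mul_left hpos h3
    omega

/-- (Q1) In a simple group of order 7920 in which elements of order 11 and 5 are self-centralizing,
a Sylow 3-normalizer has order 144 or 36. -/
theorem card_normalizer_three_mem (hs : IsSimpleGroup G) (hc : Nat.card G = 7920)
    (h11 : ∀ x : G, orderOf x = 11 → Nat.card (Cen x) = 11)
    (h5c : ∀ y : G, orderOf y = 5 → Nat.card (Cen y) = 5)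
    (P : Sylow 3 G) :
    Nat.card (NorS (P : Subgroup G)) = 144 ∨ Nat.card (NorS (P : Subgroup G)) = 36 := by
  have hf3 : Fact (Nat.Prime 3) := ⟨by norm_num⟩
  have hf5 : Fact (Nat.Prime 5) := ⟨by norm_num⟩
  have hf11 : Fact (Nat.Prime 11) := ⟨by norm_num⟩
  have hfac : Nat.card G = 3 ^ 2 * 880 := by rw [hc]; norm_num
  have hP : Nat.card (P : Subgroup G) = 9 := by
    have := Cfsg.Agent.Helper17.sylow_card_eq P hfac (by norm_num)
    simpa using this
  obtain ⟨hnd, hnm⟩ := Cfsg.Agent.Helper17.sylow_count (G := G) (p := 3) hfac (by norm_num)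
  have hNn : Nat.card (NorS (P : Subgroup G)) * Nat.card (Sylow 3 G) = 7920 := by
    have h1 : Nat.card (Sylow 3 G) = (NorS (P : Subgroup G)).index := P.card_eq_index_normalizer
    rw [h1, Subgroup.card_mul_index, hc]
  -- elements of order 11 or 5 in the normalizer are impossible
  have key : ∀ q : ℕ, q.Prime → (q = 11 ∨ q = 5) → q ∣ Nat.card (NorS (P : Subgroup G)) → False := by
    intro q hq hq' hdvd
    have hqf : Fact q.Prime := ⟨hq⟩
    obtain ⟨x', hx'⟩ := exists_prime_orderOf_dvd_card' (G := ↥(NorS (P : Subgroup G))) q hdvd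
    have hxo : orderOf (x' : G) = q := by rw [Subgroup.orderOf_coe]; exact hx'
    have h9 := h17_nine_dvd_card_cen (P : Subgroup G) hP (x' : G) x'.2 q hxo (by
      intro d hd hmod
      have hd9 : d ≤ 9 := Nat.le_of_dvd (by norm_num) hd
      rcases hq' with rfl | rfl
      · unfold Nat.ModEq at hmod
        interval_cases d <;> simp_all
      · unfold Nat.ModEq at hmod
        interval_cases d <;> simp_all)
    rcases hq' with rfl | rfl
    · rw [h11 _ hxo] at h9; omega
    · rw [h5c _ hxo] at h9; omega
  -- the Burnside case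
  have hburn : Nat.card (NorS (P : Subgroup G)) ≠ 9 := by
    intro h9
    have hle : (P : Subgroup G) ≤ NorS (P : Subgroup G) := Subgroup.le_normalizer
    have heq : (P : Subgroup G) = NorS (P : Subgroup G) :=
      Subgroup.eq_of_le_of_card_ge hle (by rw [h9, hP])
    apply h17_not_normalizer_le_centralizer P (by rw [hP]; norm_num) (by rw [hP, hc]; norm_num)
    intro g hg
    have hgP : g ∈ (P : Subgroup G) := by rw [heq]; exact hg
    rw [Subgroup.mem_centralizer_iff]
    intro y hy
    have hcomm := IsPGroup.commutative_of_card_eq_prime_sq (p := 3) (G := ↥(P : Subgroup G))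
      (by rw [hP]; norm_num)
    have := hcomm ⟨y, hy⟩ ⟨g, hgP⟩
    exact congrArg Subtype.val this
  -- arithmetic
  have hnle : Nat.card (Sylow 3 G) ≤ 880 := Nat.le_of_dvd (by norm_num) hnd
  have hnpos : 0 < Nat.card (Sylow 3 G) := Nat.pos_of_dvd_of_pos hnd (by norm_num)
  have k11 := key 11 (by norm_num) (Or.inl rfl)
  have k5 := key 5 (by norm_num) (Or.inr rfl)
  generalize Nat.card (Sylow 3 G) = n at *
  generalize Nat.card (NorS (P : Subgroup G)) = N at *
  have hN : N = 7920 / n := by
    rw [← hNn]; exact (Nat.mul_div_cancel _ hnpos).symm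
  -- candidates for n
  have hcases : n = 1 ∨ n = 4 ∨ n = 10 ∨ n = 16 ∨ n = 22 ∨ n = 40 ∨ n = 55 ∨ n = 88 ∨ n = 220 ∨
      n = 880 := by
    have hmem : n ∈ (880 : ℕ).divisors := Nat.mem_divisors.2 ⟨hnd, by norm_num⟩
    simp only [Nat.divisors_ofNat, Finset.mem_insert, Finset.mem_singleton] at hmem
    omega
  rcases hcases with h | h | h | h | h | h | h | h | h | h <;> subst h <;> norm_num at hN <;> subst hN
  · exact (k11 (by norm_num)).elim
  · exact (k11 (by norm_num)).elim
  · exact (k11 (by norm_num)).elim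
  · exact (k11 (by norm_num)).elim
  · exact (k5 (by norm_num)).elim
  · exact (k11 (by norm_num)).elim
  · exact Or.inl rfl
  · exact (k5 (by norm_num)).elim
  · exact Or.inr rfl
  · exact (hburn rfl).elim
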