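import Mathlib
import Cfsg.Agent.Lib.Helper74.M11Defs
import Cfsg.Agent.Lib.Helper17.SylowInter
import Cfsg.Agent.Lib.Helper17.Simple

/-!
# M11 lemma server (helper74), piece (Q3): a second Sylow 3-subgroup meeting `P` in order 3
-/

set_option autoImplicit false

namespace Cfsg.Agent.Helper17.M11

open Cfsg.Agent.Helper74.M11

variable {G : Type*} [Group G] [Finite G]

/-- (Q3) If `|N(P)| = 36` for a Sylow 3-subgroup `P` of a group of order 7920, some Sylow 3-subgroup
meets `P` in a subgroup of order 3. -/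
theorem exists_inf_three (hc : Nat.card G = 7920) (P : Sylow 3 G)
    (hN : Nat.card (NorS (P : Subgroup G)) = 36) :
    ∃ Q : Sylow 3 G, Nat.card ((P : Subgroup G) ⊓ (Q : Subgroup G) : Subgroup G) = 3 := by
  haveI : Fact (Nat.Prime 3) := ⟨by norm_num⟩
  have hn : Nat.card (Sylow 3 G) = 220 := by
    have h1 : Nat.card (Sylow 3 G) = (NorS (P : Subgroup G)).index := P.card_eq_index_normalizer
    have h2 := (NorS (P : Subgroup G)).card_mul_index
    rw [hN, hc] at h2
    rw [h1]
    omega
  have hP : Nat.card (P : Subgroup G) = 3 ^ 2 :=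
    Cfsg.Agent.Helper17.sylow_card_eq P (k := 2) (m := 880) (by rw [hc]; norm_num) (by norm_num)
  have hmod : ¬ Nat.card (Sylow 3 G) ≡ 1 [MOD 3 ^ 2] := by
    rw [hn]; decide
  obtain ⟨R, hPR, hidx⟩ := Cfsg.Agent.Helper17.exists_sylow_large_inter 3 2 hmod P
  refine ⟨R, ?_⟩
  -- the order of `P ⊓ R`
  have hcard : Nat.card ((R : Subgroup G).subgroupOf (P : Subgroup G)) *
      ((R : Subgroup G).subgroupOf (P : Subgroup G)).index = 9 := by
    rw [Subgroup.card_mul_index, hP]; norm_num
  have hinf : Nat.card ((P : Subgroup G) ⊓ (R : Subgroup G) : Subgroup G) =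
      Nat.card ((R : Subgroup G).subgroupOf (P : Subgroup G)) := by
    rw [inf_comm]
    exact (Nat.card_congr (Subgroup.subgroupOfEquivOfLe (inf_le_right :
      (R : Subgroup G) ⊓ (P : Subgroup G) ≤ (P : Subgroup G))).toEquiv).symm.trans (by
        rw [Subgroup.inf_subgroupOf_right])
  rw [hinf]
  have hne9 : Nat.card ((R : Subgroup G).subgroupOf (P : Subgroup G)) ≠ 9 := by
    intro h9
    apply hPR
    -- then `P ≤ R`, so `P = R`
    have htop : (R : Subgroup G).subgroupOf (P : Subgroup G) = ⊤ := by
      apply Subgroup.eq_top_of_card_eq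
      rw [h9, hP]; norm_num
    have hle : (P : Subgroup G) ≤ (R : Subgroup G) := Subgroup.subgroupOf_eq_top.1 htop
    have hRc : Nat.card (R : Subgroup G) = 3 ^ 2 :=
      Cfsg.Agent.Helper17.sylow_card_eq R (k := 2) (m := 880) (by rw [hc]; norm_num) (by norm_num)
    apply Sylow.ext
    exact Subgroup.eq_of_le_of_card_ge hle (by rw [hP, hRc])
  have hidx' : ((R : Subgroup G).subgroupOf (P : Subgroup G)).index ≤ 3 := by
    simpa using hidx
  clear hidx
  generalize Nat.card ((R : Subgroup G).subgroupOf (P : Subgroup G)) = a at *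
  generalize ((R : Subgroup G).subgroupOf (P : Subgroup G)).index = b at *
  have hb : 0 < b := by
    rcases Nat.eq_zero_or_pos b with h | h
    · subst h; omega
    · exact h
  have ha : a ≤ 9 := by nlinarith
  interval_cases a <;> omega
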