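import Mathlib
import Cfsg.Agent.S1017
import Cfsg.Agent.Lib.Helper17.SylowCount

/-!
Piece (C36c2) `false_of_thirtysix_thirty` of helper50's lemma server "O4320" (row S0977),
delivered by helper17.
-/

set_option autoImplicit false

namespace Cfsg.Agent.Helper17.O4320

open Cfsg MulAction

universe u

variable {G : Type u} [Group G] [Finite G] [IsSimpleGroup G]

theorem false_of_thirtysix_thirty (hG : Nat.card G = 4320) (h36 : Nat.card (Sylow 5 G) = 36) (R : Sylow 5 G)
    (hC : Nat.card (Subgroup.centralizer ((R : Subgroup G) : Set G)) = 30)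
    (hA : ∀ u : G, orderOf u = 2 → u ∈ Subgroup.centralizer ((R : Subgroup G) : Set G) →
      ∃ m : ℕ, (m = 10 ∨ m = 30) ∧
        Nat.card ↥(Subgroup.normalizer ((R : Subgroup G) : Set G) ⊓ Subgroup.centralizer ({u} : Set G)) = m ∧
        Nat.card (Subgroup.centralizer ({u} : Set G)) = 16 * m)
    (hT : ∀ u : G, u ∈ Subgroup.centralizer ((R : Subgroup G) : Set G) → orderOf u = 2 →
      (∀ x ∈ Subgroup.centralizer ((R : Subgroup G) : Set G), orderOf x = 2 →
        ∃ h ∈ Subgroup.centralizer ((R : Subgroup G) : Set G), h * u * h⁻¹ = x) ∧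
      (Nat.card {x : G // x ∈ Subgroup.centralizer ((R : Subgroup G) : Set G) ∧ orderOf x = 2} = 1 ∨
       Nat.card {x : G // x ∈ Subgroup.centralizer ((R : Subgroup G) : Set G) ∧ orderOf x = 2} = 3))
    (hB : ∀ (r : G), orderOf r = 5 → ∀ S : Set G, (∀ x ∈ S, r * x * r⁻¹ ∈ S) →
      Nat.card S ≡ Nat.card {x : G // x ∈ S ∧ Commute r x} [MOD 5]) : False := by
  classical
  haveI : Fact (Nat.Prime 5) := ⟨by norm_num⟩
  haveI : Fact (Nat.Prime 2) := ⟨by norm_num⟩
  -- an involution of `C(R)`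
  obtain ⟨u0, hu0⟩ := exists_prime_orderOf_dvd_card' (G := ↥(Subgroup.centralizer ((R : Subgroup G) : Set G))) 2
    (by rw [hC]; norm_num)
  set u : G := (u0 : G) with hudef
  have hu : orderOf u = 2 := by rw [hudef, Subgroup.orderOf_coe, hu0]
  have huC : u ∈ Subgroup.centralizer ((R : Subgroup G) : Set G) := u0.2
  obtain ⟨m, hm, -, hCu⟩ := hA u hu huC
  have hcc := Cfsg.Agent.Helper17.SylowCount.card_conj_mul_card_centralizer u
  rw [hCu, hG] at hcc
  -- `|R| = 5` and a generator
  have hR : Nat.card (R : Subgroup G) = 5 :=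
    Cfsg.Agent.S1017.sylow_card_eq R 1 864 (by rw [hG]; norm_num) (by norm_num)
  obtain ⟨r, hrR, hr1⟩ : ∃ r ∈ (R : Subgroup G), r ≠ 1 := by
    have h1 : 1 < Nat.card (R : Subgroup G) := by rw [hR]; norm_num
    rw [Subgroup.one_lt_card_iff_ne_bot] at h1
    obtain ⟨k, hk⟩ := (Subgroup.ne_bot_iff_exists_ne_one (H := (R : Subgroup G))).1 h1
    exact ⟨(k : G), k.2, fun h => hk (Subtype.ext h)⟩
  obtain ⟨hzr, hro⟩ := Cfsg.Agent.S1017.zpowers_eq_of_card_prime (R : Subgroup G) hR r hrR hr1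
  -- the class of `u`
  have hBu := hB r hro {x : G | IsConj u x} (by
    intro x hx
    have hx' : IsConj u x := hx
    show IsConj u (r * x * r⁻¹)
    exact hx'.trans (isConj_iff.2 ⟨r, rfl⟩))
  have hcardS : Nat.card ({x : G | IsConj u x} : Set G) = Nat.card {g : G // IsConj u g} := rfl
  -- the fixed points are the involutions of `C(R)`
  have hcomm_iff : ∀ x : G, Commute r x ↔ x ∈ Subgroup.centralizer ((R : Subgroup G) : Set G) := by
    intro x
    constructor
    · intro h
      rw [Subgroup.mem_centralizer_iff]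
      intro k hk
      have hk' : k ∈ Subgroup.zpowers r := by rw [hzr]; exact hk
      obtain ⟨i, rfl⟩ := Subgroup.mem_zpowers_iff.1 hk'
      exact (h.zpow_left i).eq
    · intro h
      exact Subgroup.mem_centralizer_iff.1 h r hrR
  obtain ⟨hT1, hT2⟩ := hT u huC hu
  have hfix : Nat.card {x : G // x ∈ ({x : G | IsConj u x} : Set G) ∧ Commute r x} =
      Nat.card {x : G // x ∈ Subgroup.centralizer ((R : Subgroup G) : Set G) ∧ orderOf x = 2} := by
    apply Nat.card_congr
    refine Equiv.subtypeEquivRight ?_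
    intro x
    constructor
    · rintro ⟨hx1, hx2⟩
      have hx1' : IsConj u x := hx1
      refine ⟨(hcomm_iff x).1 hx2, ?_⟩
      obtain ⟨a, rfl⟩ := isConj_iff.1 hx1'
      rw [← hu]
      exact (SemiconjBy.orderOf_eq a (x := u) (y := a * u * a⁻¹) (by unfold SemiconjBy; group)).symm
    · rintro ⟨hx1, hx2⟩
      refine ⟨?_, (hcomm_iff x).2 hx1⟩
      obtain ⟨h, -, hh⟩ := hT1 x hx1 hx2
      show IsConj u x
      exact isConj_iff.2 ⟨h, hh⟩
  rw [hfix, hcardS] at hBu
  unfold Nat.ModEq at hBu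
  rcases hm with rfl | rfl <;> rcases hT2 with h | h <;> rw [h] at hBu <;> omega

end Cfsg.Agent.Helper17.O4320
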