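import Mathlib
import Cfsg.Agent.S1017
import Cfsg.Agent.Lib.Helper17.FixedCount
import Cfsg.Agent.Lib.Helper17.SylowCount

/-!
# Common tools for the O5040 pieces (helper74 lemma server, S0978)
-/

set_option autoImplicit false

namespace Cfsg.Agent.Helper17.O5040

open MulAction Subgroup

open scoped Pointwise

variable {G : Type*} [Group G] [Finite G]

/-- If `P ≤ H`, `N(P) ≤ H` and `g⁻¹ P g ≤ H`, then `g ∈ H`. -/
theorem mem_of_conj_sylow_le {p : ℕ} [Fact p.Prime] (H : Subgroup G) (P : Sylow p G)
    (hP : (P : Subgroup G) ≤ H)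
    (hN : Subgroup.normalizer ((P : Subgroup G) : Set G) ≤ H) (g : G)
    (hg : ∀ x ∈ (P : Subgroup G), g⁻¹ * x * g ∈ H) : g ∈ H := by
  have hQ : ((g⁻¹ • P : Sylow p G) : Subgroup G) ≤ H := by
    intro y hy
    rw [Cfsg.Agent.S1017.mem_smul_sylow_iff] at hy
    have h1 := hg _ hy
    have e : g⁻¹ * ((g⁻¹)⁻¹ * y * g⁻¹) * g = y := by group
    rwa [e] at h1
  obtain ⟨h, hh⟩ := MulAction.exists_smul_eq ↥H (P.subtype hP) ((g⁻¹ • P).subtype hQ)
  rw [Sylow.smul_subtype] at hh
  have h2 : (h : G) • P = g⁻¹ • P := Sylow.subtype_injective hh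
  have h3 : (g * (h : G)) • P = P := by rw [mul_smul, h2, smul_inv_smul]
  have h4 : g * (h : G) ∈ H := hN (Sylow.smul_eq_iff_mem_normalizer.mp h3)
  have e : g = g * (h : G) * (h : G)⁻¹ := by group
  rw [e]
  exact mul_mem h4 (inv_mem h.2)

/-- A nontrivial element of a Sylow subgroup `P` of prime order, with `N(P) ≤ H`, fixes exactly the trivial
coset of `H`. -/
theorem fixedBy_eq_singleton {p : ℕ} [hp : Fact p.Prime] (H : Subgroup G) (P : Sylow p G)
    (hcard : Nat.card (P : Subgroup G) = p) (hP : (P : Subgroup G) ≤ H)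
    (hN : Subgroup.normalizer ((P : Subgroup G) : Set G) ≤ H) (x : G)
    (hx : x ∈ (P : Subgroup G)) (hx1 : x ≠ 1) :
    fixedBy (G ⧸ H) x = {((1 : G) : G ⧸ H)} := by
  ext q
  induction q using QuotientGroup.induction_on with
  | H g =>
    rw [mem_fixedBy, Cfsg.Agent.Helper17.smul_mk_eq_iff, Set.mem_singleton_iff, QuotientGroup.eq]
    constructor
    · intro h
      have hz := (Cfsg.Agent.S1017.zpowers_eq_of_card_prime (P : Subgroup G) hcard x hx hx1).1
      have hgH : g ∈ H := by
        apply mem_of_conj_sylow_le H P hP hN g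
        intro y hy
        rw [← hz] at hy
        obtain ⟨k, rfl⟩ := hy
        have h5 := conj_zpow (a := g⁻¹) (b := x) (i := k)
        rw [inv_inv] at h5
        rw [← h5]
        exact zpow_mem h k
      exact mul_mem (inv_mem hgH) (one_mem H)
    · intro h
      have hgH : g ∈ H := by
        have := inv_mem h
        simpa using this
      exact mul_mem (mul_mem (inv_mem hgH) (hP hx)) hgH

/-- Sylow counting inside a subgroup containing a Sylow subgroup of `G`. -/
theorem card_eq_sylow_mul {p : ℕ} [Fact p.Prime] (H : Subgroup G) (P : Sylow p G)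
    (hP : (P : Subgroup G) ≤ H) :
    Nat.card H = Nat.card (Sylow p H) *
      Nat.card ↥(Subgroup.normalizer ((P : Subgroup G) : Set G) ⊓ H) := by
  have h1 := Cfsg.Agent.S1017.card_sylow_mul_card_normalizer (P.subtype hP)
  rw [← h1]
  congr 1
  rw [Sylow.coe_subtype, ← Subgroup.subgroupOf_normalizer_eq hP,
    ← Subgroup.subgroupOf_map_subtype,
    Subgroup.card_map_of_injective (Subgroup.subtype_injective _)]

/-- In a simple group, the centralizer of an involution has order twice the number of fixed points of the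
involution on the cosets of the subgroup it generates. -/
theorem card_centralizer_eq_two_mul (u : G) (hu : orderOf u = 2) :
    Nat.card (Subgroup.centralizer ({u} : Set G)) =
      2 * Nat.card (fixedBy (G ⧸ Subgroup.zpowers u) u) := by
  have h1 := Cfsg.Agent.Helper17.card_fixedBy_mul_card_conj (Subgroup.zpowers u) u
  have h2 := Cfsg.Agent.Helper17.SylowCount.card_conj_mul_card_centralizer u
  have h3 := Subgroup.card_mul_index (Subgroup.zpowers u)
  rw [Nat.card_zpowers, hu] at h3
  have hu1 : u ≠ 1 := Cfsg.Agent.S1017.ne_one_of_orderOf_prime u Nat.prime_two hu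
  have h4 : Nat.card {g : G // IsConj u g ∧ g ∈ Subgroup.zpowers u} = 1 := by
    rw [Nat.card_eq_one_iff_unique]
    refine ⟨⟨?_⟩, ⟨⟨u, IsConj.refl u, Subgroup.mem_zpowers u⟩⟩⟩
    rintro ⟨a, ha, ha'⟩ ⟨b, hb, hb'⟩
    apply Subtype.ext
    show a = b
    have key : ∀ c : G, IsConj u c → c ∈ Subgroup.zpowers u → c = u := by
      intro c hc hc'
      obtain ⟨k, hk⟩ := Subgroup.mem_zpowers_iff.1 hc'
      have hc1 : c ≠ 1 := by
        intro h
        rw [h] at hc
        obtain ⟨d, hd⟩ := isConj_iff.1 hc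
        apply hu1
        have : u = d⁻¹ * (d * u * d⁻¹) * d := by group
        rw [this, hd]; group
      rw [← hk] at hc1 ⊢
      rw [← zpow_mod_orderOf, hu] at hc1 ⊢
      have h2' : ((2 : ℕ) : ℤ) = 2 := by norm_num
      rw [h2'] at hc1 ⊢
      rcases Int.emod_two_eq_zero_or_one k with h | h
      · rw [h, zpow_zero] at hc1; exact absurd rfl hc1
      · rw [h]; norm_num
    rw [key a ha ha', key b hb hb']
  rw [h4, mul_one] at h1
  have hcl : 0 < Nat.card {g : G // IsConj u g} := by
    haveI : Nonempty {g : G // IsConj u g} := ⟨⟨u, IsConj.refl u⟩⟩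
    exact Nat.card_pos
  have h5 : Nat.card {g : G // IsConj u g} * Nat.card (Subgroup.centralizer ({u} : Set G)) =
      Nat.card {g : G // IsConj u g} * (2 * Nat.card (fixedBy (G ⧸ Subgroup.zpowers u) u)) := by
    rw [h2, ← h3, ← h1]; ring
  exact Nat.eq_of_mul_eq_mul_left hcl h5

/-- In a simple group whose order is divisible by `8`, the order of the centralizer of an involution is
divisible by `8`. -/
theorem eight_dvd_card_centralizer [IsSimpleGroup G] (h8 : 8 ∣ Nat.card G) (u : G)
    (hu : orderOf u = 2) : 8 ∣ Nat.card (Subgroup.centralizer ({u} : Set G)) := by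
  have hpos : 0 < Nat.card G := Nat.card_pos
  have h2 : 2 < Nat.card G := by
    obtain ⟨k, hk⟩ := h8
    omega
  have h4 := Cfsg.Agent.S1017.card_fixedBy_mod_four h2 (α := G ⧸ Subgroup.zpowers u) u hu
  have h3 := Subgroup.card_mul_index (Subgroup.zpowers u)
  rw [Nat.card_zpowers, hu, Subgroup.index_eq_card] at h3
  rw [card_centralizer_eq_two_mul u hu]
  obtain ⟨k, hk⟩ := h8
  unfold Nat.ModEq at h4
  omega

/-- A Sylow subgroup of `G` inside `H` containing a given element of order `p` of `H`, when the Sylow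
subgroups of `H` and `G` have the same order. -/
theorem exists_sylow_le_of_mem {p : ℕ} [hp : Fact p.Prime] (H : Subgroup G) (u : G)
    (huH : u ∈ H) (hu : orderOf u = p)
    (hcard : ∀ (T : Sylow p H) (S : Sylow p G),
      Nat.card (T : Subgroup H) = Nat.card (S : Subgroup G)) :
    ∃ S : Sylow p G, (S : Subgroup G) ≤ H ∧ u ∈ (S : Subgroup G) := by
  have hu' : orderOf (⟨u, huH⟩ : H) = p := by rw [Subgroup.orderOf_mk]; exact hu
  obtain ⟨T, hT⟩ := Cfsg.Agent.S1017.exists_sylow_mem_of_orderOf (⟨u, huH⟩ : H) hu'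
  have hpg : IsPGroup p ((T : Subgroup H).map H.subtype) := T.2.map H.subtype
  obtain ⟨S, hS⟩ := hpg.exists_le_sylow
  have hc : Nat.card ((T : Subgroup H).map H.subtype) = Nat.card (S : Subgroup G) := by
    rw [Subgroup.card_map_of_injective (Subgroup.subtype_injective _)]
    exact hcard T S
  have heq : (T : Subgroup H).map H.subtype = (S : Subgroup G) :=
    Subgroup.eq_of_le_of_card_ge hS hc.ge
  refine ⟨S, ?_, ?_⟩
  · rw [← heq]
    exact Subgroup.map_subtype_le _
  · rw [← heq]
    exact ⟨⟨u, huH⟩, hT, rfl⟩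

/-- The elements of the group generated by an involution. -/
theorem eq_one_or_eq_of_mem_zpowers {u v : G} (hu : orderOf u = 2) (hv : v ∈ Subgroup.zpowers u) :
    v = 1 ∨ v = u := by
  obtain ⟨k, hk⟩ := Subgroup.mem_zpowers_iff.1 hv
  rw [← hk, ← zpow_mod_orderOf, hu]
  have h2' : ((2 : ℕ) : ℤ) = 2 := by norm_num
  rw [h2']
  rcases Int.emod_two_eq_zero_or_one k with h | h
  · left; rw [h, zpow_zero]
  · right; rw [h]; norm_num

/-- If the centralizer of an involution is the whole group, the group is not simple of order `> 2`. -/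
theorem centralizer_ne_top [IsSimpleGroup G] (h2 : 2 < Nat.card G) (u : G) (hu : orderOf u = 2) :
    Subgroup.centralizer ({u} : Set G) ≠ ⊤ := by
  intro htop
  have hnorm : (Subgroup.zpowers u).Normal := by
    constructor
    intro x hx g
    have hg : g ∈ Subgroup.centralizer ({u} : Set G) := by rw [htop]; trivial
    have hgu : u * g = g * u := Subgroup.mem_centralizer_iff.mp hg u rfl
    obtain ⟨k, rfl⟩ := Subgroup.mem_zpowers_iff.1 hx
    have h1 : g * u * g⁻¹ = u := by rw [← hgu]; group
    have h3 : g * u ^ k * g⁻¹ = u ^ k := by rw [← conj_zpow, h1]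
    rw [h3]
    exact Subgroup.zpow_mem_zpowers u k
  exact Cfsg.Agent.S1017.normal_card_absurd (Subgroup.zpowers u) hnorm
    (by rw [Nat.card_zpowers, hu]; norm_num) (by rw [Nat.card_zpowers, hu]; omega)

/-- Membership of an element in its own centralizer. -/
theorem self_mem_centralizer (u : G) : u ∈ Subgroup.centralizer ({u} : Set G) := by
  rw [Subgroup.mem_centralizer_iff]
  intro z hz
  rw [Set.mem_singleton_iff] at hz
  subst hz
  rfl

/-- The index of a subgroup as a quotient of cardinalities. -/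
theorem card_quotient_of_card (H : Subgroup G) (n h k : ℕ) (hG : Nat.card G = n)
    (hH : Nat.card H = h) (hk : k * h = n) (hpos : 0 < h) : Nat.card (G ⧸ H) = k := by
  have := Subgroup.card_eq_card_quotient_mul_card_subgroup H
  rw [hG, hH, ← hk] at this
  exact (Nat.eq_of_mul_eq_mul_right hpos this).symm

end Cfsg.Agent.Helper17.O5040
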