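import Mathlib
import Cfsg.Agent.Lib.Helper74.M11Defs
import Cfsg.Agent.S1017
import Cfsg.Agent.Lib.Helper17.O5040Common

/-!
# O5040 (C240) for helper74's lemma server (S0978): `N(R) ≤ C(u)`, `|N(R)| = 40`, `|C(u)| = 240` is impossible
-/

set_option autoImplicit false

namespace Cfsg.Agent.Helper17.O5040

open Cfsg.Agent.Helper74.M11

open MulAction

variable {G : Type*} [Group G] [Finite G]

theorem false_of_240 [IsSimpleGroup G] (hG : Nat.card G = 5040) (R : Sylow 5 G)
    (hiso : ∀ (S : Sylow 2 G) (u : G), orderOf u = 2 → u ∈ S →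
      (∀ g : G, g * u * g⁻¹ ∈ S → g * u * g⁻¹ = u) → False)
    (hN : Nat.card (NorS (R : Subgroup G)) = 40)
    (u : G) (hu : orderOf u = 2) (hNu : NorS (R : Subgroup G) ≤ Cen u)
    (hC : Nat.card (Cen u) = 240) : False := by
  haveI : Fact (Nat.Prime 5) := ⟨by norm_num⟩
  have hR : Nat.card (R : Subgroup G) = 5 := by
    have := Cfsg.Agent.S1017.sylow_card_eq R 1 1008 (by rw [hG]; norm_num) (by norm_num)
    simpa using this
  have hNH : Subgroup.normalizer ((R : Subgroup G) : Set G) ≤ Subgroup.centralizer ({u} : Set G) := hNu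
  have hRH : (R : Subgroup G) ≤ Subgroup.centralizer ({u} : Set G) :=
    le_trans Subgroup.le_normalizer hNH
  have huH : u ∈ Subgroup.centralizer ({u} : Set G) := self_mem_centralizer u
  have hu1 : u ≠ 1 := Cfsg.Agent.S1017.ne_one_of_orderOf_prime u Nat.prime_two hu
  have hHtop : Subgroup.centralizer ({u} : Set G) ≠ ⊤ :=
    centralizer_ne_top (by rw [hG]; norm_num) u hu
  have hHcard : Nat.card (Subgroup.centralizer ({u} : Set G)) = 240 := hC
  have hidx : Nat.card (G ⧸ Subgroup.centralizer ({u} : Set G)) = 21 :=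
    card_quotient_of_card _ 5040 240 21 hG hHcard (by norm_num) (by norm_num)
  -- a generator of `R`
  obtain ⟨g', hg'⟩ := exists_prime_orderOf_dvd_card' (G := ↥(R : Subgroup G)) 5 (by rw [hR])
  have hg : orderOf (g' : G) = 5 := by rw [Subgroup.orderOf_coe]; exact hg'
  have hg1 : (g' : G) ≠ 1 := Cfsg.Agent.S1017.ne_one_of_orderOf_prime _ (by norm_num) hg
  have hfix := fixedBy_eq_singleton (Subgroup.centralizer ({u} : Set G)) R hR hRH hNH (g' : G) g'.2 hg1
  have hc : Commute (g' : G) u := (Subgroup.mem_centralizer_iff.mp (hRH g'.2) u rfl).symm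
  have hj := Cfsg.Agent.S1017.card_fixedBy_modEq_inter
    (α := G ⧸ Subgroup.centralizer ({u} : Set G)) (g' : G) u hc hg
  have hinter : fixedBy (G ⧸ Subgroup.centralizer ({u} : Set G)) u ∩
      fixedBy (G ⧸ Subgroup.centralizer ({u} : Set G)) (g' : G) =
      {((1 : G) : G ⧸ Subgroup.centralizer ({u} : Set G))} := by
    rw [hfix, Set.inter_eq_right, Set.singleton_subset_iff]
    exact Cfsg.Agent.S1017.coset_fixed _ u huH
  rw [hinter] at hj
  have hj' : Nat.card (fixedBy (G ⧸ Subgroup.centralizer ({u} : Set G)) u) ≡ 1 [MOD 5] := by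
    simpa using hj
  have h4 := Cfsg.Agent.S1017.card_fixedBy_mod_four (by rw [hG]; norm_num)
    (α := G ⧸ Subgroup.centralizer ({u} : Set G)) u hu
  have hle := Cfsg.Agent.S1017.card_fixedBy_le (α := G ⧸ Subgroup.centralizer ({u} : Set G)) u
  have hne := Cfsg.Agent.S1017.card_fixedBy_ne
    (Cfsg.Agent.S1017.coset_action_nontrivial _ hHtop) u hu1
  rw [hidx] at h4 hle hne
  have hb1 : Nat.card (fixedBy (G ⧸ Subgroup.centralizer ({u} : Set G)) u) = 1 := by
    unfold Nat.ModEq at hj' h4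
    omega
  -- a Sylow 2-subgroup of `G` inside `H` containing `u`
  obtain ⟨S, hSH, huS⟩ := exists_sylow_le_of_mem (p := 2) (Subgroup.centralizer ({u} : Set G)) u huH hu
    (fun T S => by
      rw [Cfsg.Agent.S1017.sylow_card_eq T 4 15 (by rw [hHcard]; norm_num) (by norm_num),
        Cfsg.Agent.S1017.sylow_card_eq S 4 315 (by rw [hG]; norm_num) (by norm_num)])
  apply hiso S u hu huS
  intro g hgS
  have hgH : g * u * g⁻¹ ∈ Subgroup.centralizer ({u} : Set G) := hSH hgS
  have hmem : (QuotientGroup.mk g⁻¹ : G ⧸ Subgroup.centralizer ({u} : Set G)) ∈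
      fixedBy (G ⧸ Subgroup.centralizer ({u} : Set G)) u := by
    rw [mem_fixedBy, Cfsg.Agent.Helper17.smul_mk_eq_iff, inv_inv]
    exact hgH
  have heq : (QuotientGroup.mk g⁻¹ : G ⧸ Subgroup.centralizer ({u} : Set G)) =
      ((1 : G) : G ⧸ Subgroup.centralizer ({u} : Set G)) := by
    have hsub : Subsingleton (fixedBy (G ⧸ Subgroup.centralizer ({u} : Set G)) u) :=
      (Nat.card_eq_one_iff_unique.1 hb1).1
    have h := Subsingleton.elim
      (⟨_, hmem⟩ : fixedBy (G ⧸ Subgroup.centralizer ({u} : Set G)) u)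
      ⟨_, Cfsg.Agent.S1017.coset_fixed _ u huH⟩
    exact congrArg Subtype.val h
  rw [QuotientGroup.eq, inv_inv, mul_one] at heq
  have hcomm := Subgroup.mem_centralizer_iff.mp heq u rfl
  rw [← hcomm]
  group

end Cfsg.Agent.Helper17.O5040
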