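import Mathlib
import Cfsg.Agent.Lib.Helper74.M11Defs
import Cfsg.Agent.S1017
import Cfsg.Agent.Lib.Helper17.O5040Common
import Cfsg.Agent.Lib.Helper17.SylowCount
import Cfsg.Agent.Lib.Helper17.ConjCount

/-!
# O5040 (D14) for helper74's lemma server (S0978): `n_7 = 120` and `|C(P)| = 14` is impossible
-/

set_option autoImplicit false

namespace Cfsg.Agent.Helper17.O5040

open Cfsg.Agent.Helper74.M11

open MulAction

variable {G : Type*} [Group G] [Finite G]

theorem false_of_14 [IsSimpleGroup G] (hG : Nat.card G = 5040) (P : Sylow 7 G)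
    (hn : Nat.card (Sylow 7 G) = 120)
    (hC : Nat.card (CenS (P : Subgroup G)) = 14) : False := by
  have hP : Nat.card (P : Subgroup G) = 7 := by
    have := Cfsg.Agent.S1017.sylow_card_eq P 1 720 (by rw [hG]; norm_num) (by norm_num)
    simpa using this
  have hNP : Nat.card (Subgroup.normalizer ((P : Subgroup G) : Set G)) = 42 := by
    have := Cfsg.Agent.S1017.card_sylow_mul_card_normalizer P
    rw [hn, hG] at this
    omega
  obtain ⟨u', hu'⟩ := exists_prime_orderOf_dvd_card'
    (G := ↥(Subgroup.centralizer ((P : Subgroup G) : Set G))) 2 (by rw [hC]; norm_num)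
  obtain ⟨u, hudef⟩ : ∃ u : G, u = (u' : G) := ⟨_, rfl⟩
  have hu : orderOf u = 2 := by rw [hudef, Subgroup.orderOf_coe]; exact hu'
  have huC : u ∈ Subgroup.centralizer ((P : Subgroup G) : Set G) := by rw [hudef]; exact u'.2
  have hu1 : u ≠ 1 := Cfsg.Agent.S1017.ne_one_of_orderOf_prime u Nat.prime_two hu
  -- the unique involution of `C(P)`
  have huniq : ∀ v ∈ Subgroup.centralizer ((P : Subgroup G) : Set G), orderOf v = 2 → v = u := by
    intro v hv hv2
    have hmem := Cfsg.Agent.Helper17.SylowCount.mem_zpowers_of_pow_eq_one (p := 7) (r := 2)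
      Nat.prime_two (by norm_num) (P : Subgroup G) hP hC u huC hu v hv
      (by rw [← hv2]; exact pow_orderOf_eq_one v)
    rcases eq_one_or_eq_of_mem_zpowers hu hmem with h | h
    · exfalso
      rw [h, orderOf_one] at hv2
      omega
    · exact h
  -- `N(P) ≤ C(u)`
  have hNH : Subgroup.normalizer ((P : Subgroup G) : Set G) ≤ Subgroup.centralizer ({u} : Set G) := by
    intro n hn'
    have hconj : n * u * n⁻¹ ∈ Subgroup.centralizer ((P : Subgroup G) : Set G) := by
      rw [Subgroup.mem_centralizer_iff]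
      intro y hy
      have hy' : n⁻¹ * y * n ∈ (P : Subgroup G) := by
        have := (Subgroup.mem_normalizer_iff.mp (inv_mem hn') y).mp hy
        simpa using this
      have hc := Subgroup.mem_centralizer_iff.mp huC _ hy'
      calc y * (n * u * n⁻¹) = n * ((n⁻¹ * y * n) * u) * n⁻¹ := by group
        _ = n * (u * (n⁻¹ * y * n)) * n⁻¹ := by rw [hc]
        _ = n * u * n⁻¹ * y := by group
    have hord : orderOf (n * u * n⁻¹) = 2 :=
      (Cfsg.Agent.Helper17.orderOf_eq_of_isConj (isConj_iff.2 ⟨n, rfl⟩)).symm.trans hu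
    have heq := huniq _ hconj hord
    rw [Subgroup.mem_centralizer_iff]
    intro z hz
    rw [Set.mem_singleton_iff] at hz
    subst hz
    calc z * n = (n * z * n⁻¹) * n := by rw [heq]
      _ = n * z := by group
  have hPH : (P : Subgroup G) ≤ Subgroup.centralizer ({u} : Set G) :=
    (Cfsg.Agent.S1017.le_centralizer_singleton_iff _ u).2 huC
  have huH : u ∈ Subgroup.centralizer ({u} : Set G) := self_mem_centralizer u
  have hHtop : Subgroup.centralizer ({u} : Set G) ≠ ⊤ :=
    centralizer_ne_top (by rw [hG]; norm_num) u hu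
  -- Sylow count in `H = C(u)`
  have hcount := card_eq_sylow_mul (Subgroup.centralizer ({u} : Set G)) P hPH
  rw [inf_of_le_left hNH, hNP] at hcount
  have hmod := card_sylow_modEq_one 7 ↥(Subgroup.centralizer ({u} : Set G))
  have h8 := eight_dvd_card_centralizer (by rw [hG]; norm_num) u hu
  have hdvd : Nat.card (Subgroup.centralizer ({u} : Set G)) ∣ 5040 := by
    rw [← hG]; exact Subgroup.card_subgroup_dvd_card _
  generalize Nat.card (Sylow 7 ↥(Subgroup.centralizer ({u} : Set G))) = m at hcount hmod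
  have hm120 : m ∣ 120 := by
    rw [hcount] at hdvd
    have : m * 42 ∣ 120 * 42 := by simpa using hdvd
    exact Nat.dvd_of_mul_dvd_mul_right (by norm_num) this
  have hmle : m ≤ 120 := Nat.le_of_dvd (by norm_num) hm120
  have hm4 : 4 ∣ m := by
    rw [hcount] at h8
    omega
  have hcases : m = 8 ∨ m = 36 ∨ m = 64 ∨ m = 92 ∨ m = 120 := by
    unfold Nat.ModEq at hmod
    omega
  have hm8 : m = 8 := by
    rcases hcases with h | h | h | h | h
    · exact h
    · rw [h] at hm120; norm_num at hm120
    · rw [h] at hm120; norm_num at hm120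
    · rw [h] at hm120; norm_num at hm120
    · exfalso
      apply hHtop
      rw [← Subgroup.card_eq_iff_eq_top, hcount, h, hG]
  have hHcard : Nat.card (Subgroup.centralizer ({u} : Set G)) = 336 := by rw [hcount, hm8]
  have hidx : Nat.card (G ⧸ Subgroup.centralizer ({u} : Set G)) = 15 :=
    card_quotient_of_card _ 5040 336 15 hG hHcard (by norm_num) (by norm_num)
  -- a generator of `P`
  obtain ⟨g', hg'⟩ := exists_prime_orderOf_dvd_card' (G := ↥(P : Subgroup G)) 7 (by rw [hP])
  have hg : orderOf (g' : G) = 7 := by rw [Subgroup.orderOf_coe]; exact hg'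
  have hg1 : (g' : G) ≠ 1 := Cfsg.Agent.S1017.ne_one_of_orderOf_prime _ (by norm_num) hg
  have hfix := fixedBy_eq_singleton (Subgroup.centralizer ({u} : Set G)) P hP hPH hNH (g' : G) g'.2 hg1
  have hc : Commute (g' : G) u := Subgroup.mem_centralizer_iff.mp huC g' g'.2
  have hj := Cfsg.Agent.S1017.card_fixedBy_modEq_inter
    (α := G ⧸ Subgroup.centralizer ({u} : Set G)) (g' : G) u hc hg
  have hinter : fixedBy (G ⧸ Subgroup.centralizer ({u} : Set G)) u ∩
      fixedBy (G ⧸ Subgroup.centralizer ({u} : Set G)) (g' : G) =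
      {((1 : G) : G ⧸ Subgroup.centralizer ({u} : Set G))} := by
    rw [hfix, Set.inter_eq_right, Set.singleton_subset_iff]
    exact Cfsg.Agent.S1017.coset_fixed _ u huH
  rw [hinter] at hj
  have hj' : Nat.card (fixedBy (G ⧸ Subgroup.centralizer ({u} : Set G)) u) ≡ 1 [MOD 7] := by
    simpa using hj
  have h4 := Cfsg.Agent.S1017.card_fixedBy_mod_four (by rw [hG]; norm_num)
    (α := G ⧸ Subgroup.centralizer ({u} : Set G)) u hu
  have hle := Cfsg.Agent.S1017.card_fixedBy_le (α := G ⧸ Subgroup.centralizer ({u} : Set G)) u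
  have hne := Cfsg.Agent.S1017.card_fixedBy_ne
    (Cfsg.Agent.S1017.coset_action_nontrivial _ hHtop) u hu1
  rw [hidx] at h4 hle hne
  unfold Nat.ModEq at hj' h4
  omega

end Cfsg.Agent.Helper17.O5040
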