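import Mathlib
import Cfsg.Agent.Lib.Helper17.Simple
import Cfsg.Agent.Lib.Helper17.SelfCent
import Cfsg.Agent.Lib.Helper17.EmbedNormalizer
import Cfsg.Agent.Lib.Helper17.SylowFixed

set_option autoImplicit false

namespace Cfsg.Agent.Helper17.O168

open Cfsg.Agent.Helper17

variable {G : Type*} [Group G] [Finite G] [IsSimpleGroup G]

instance fact7 : Fact (Nat.Prime 7) := ⟨by norm_num⟩
instance fact3 : Fact (Nat.Prime 3) := ⟨by norm_num⟩
instance fact2 : Fact (Nat.Prime 2) := ⟨by norm_num⟩

theorem not_comm (h : Nat.card G = 168) : ¬ IsMulCommutative G :=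
  not_comm_of_not_prime (by rw [h]; norm_num)

theorem card_sylow7 (h : Nat.card G = 168) : Nat.card (Sylow 7 G) = 8 := by
  have hf : Nat.card G = 7 ^ 1 * 24 := by rw [h]; norm_num
  have hn : ¬ 7 ∣ 24 := by norm_num
  obtain ⟨hd, hm⟩ := sylow_count (G := G) hf hn
  have hne := sylow_count_ne_one (G := G) hf hn (by norm_num) (by norm_num)
  have hle := Nat.le_of_dvd (by norm_num) hd
  generalize Nat.card (Sylow 7 G) = n at *
  interval_cases n <;> omega

theorem card_P7 (h : Nat.card G = 168) (P : Sylow 7 G) : Nat.card ↥(P : Subgroup G) = 7 := by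
  have hf : Nat.card G = 7 ^ 1 * 24 := by rw [h]; norm_num
  simpa using sylow_card_eq P hf (by norm_num)

theorem card_normalizer7 (h : Nat.card G = 168) (P : Sylow 7 G) :
    Nat.card ↥(Subgroup.normalizer ((P : Subgroup G) : Set G)) = 21 := by
  have := card_normalizer_mul_sylow_count P
  rw [card_sylow7 h, h] at this
  omega

theorem centralizer7 (h : Nat.card G = 168) (x : G) (hx : orderOf x = 7) :
    Subgroup.centralizer ({x} : Set G) = Subgroup.zpowers x :=
  centralizer_singleton_eq_of_card_normalizer (p := 7) (card_P7 h) (by rw [h]; norm_num)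
    (q := 3) (by norm_num) (fun P => by rw [card_normalizer7 h P]) x hx

theorem orderOf_eq_seven (h : Nat.card G = 168) (g : G) (hg : 7 ∣ orderOf g) : orderOf g = 7 :=
  orderOf_eq_of_dvd_of_self_centralizing (centralizer7 h) g hg

theorem card_order7 (h : Nat.card G = 168) : Nat.card {g : G // orderOf g = 7} = 48 := by
  rw [card_orderOf_eq_prime (card_P7 h), card_sylow7 h]

theorem card_P3 (h : Nat.card G = 168) (P : Sylow 3 G) : Nat.card ↥(P : Subgroup G) = 3 := by
  have hf : Nat.card G = 3 ^ 1 * 56 := by rw [h]; norm_num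
  simpa using sylow_card_eq P hf (by norm_num)

theorem card_order3 (h : Nat.card G = 168) :
    Nat.card {g : G // orderOf g = 3} = Nat.card (Sylow 3 G) * 2 := by
  rw [card_orderOf_eq_prime (card_P3 h)]

theorem card_sylow3_cases (h : Nat.card G = 168) :
    Nat.card (Sylow 3 G) = 7 ∨ Nat.card (Sylow 3 G) = 28 := by
  have hf : Nat.card G = 3 ^ 1 * 56 := by rw [h]; norm_num
  have hn : ¬ 3 ∣ 56 := by norm_num
  obtain ⟨hd, hm⟩ := sylow_count (G := G) hf hn
  have hne := sylow_count_ne_one (G := G) hf hn (by norm_num) (by norm_num)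
  have hfac := sylow_count_factorial (p := 3) (not_comm h) hne
  rw [h] at hfac
  have hle := Nat.le_of_dvd (by norm_num) hd
  generalize Nat.card (Sylow 3 G) = n at *
  interval_cases n <;> first | omega | (exfalso; revert hfac; decide)


/-- An element of the normalizer of a Sylow 7-subgroup outside that subgroup has order 3. -/
theorem orderOf_eq_three_of_mem_normalizer7 (h : Nat.card G = 168) (P : Sylow 7 G) (g : G)
    (hgN : g ∈ Subgroup.normalizer ((P : Subgroup G) : Set G)) (hgP : g ∉ (P : Subgroup G)) :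
    orderOf g = 3 := by
  have hd : orderOf g ∣ 21 := by
    rw [← card_normalizer7 h P]
    exact Subgroup.orderOf_dvd_natCard _ hgN
  have hle := Nat.le_of_dvd (by norm_num) hd
  have h7 : orderOf g ≠ 7 := by
    intro h7
    exact hgP (mem_sylow_of_mem_normalizer P g (isPGroup_zpowers_of_orderOf g h7) hgN)
  have h1 : orderOf g ≠ 1 := by
    intro h1
    rw [orderOf_eq_one_iff] at h1
    exact hgP (h1 ▸ Subgroup.one_mem _)
  have h21 : orderOf g ≠ 21 := by
    intro h21
    have := orderOf_eq_seven h g (by rw [h21]; norm_num)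
    omega
  generalize orderOf g = n at *
  interval_cases n <;> first | omega | (exfalso; revert hd; decide)

theorem card_sylow3 (h : Nat.card G = 168) : Nat.card (Sylow 3 G) = 28 := by
  rcases card_sylow3_cases h with h7 | h28
  swap
  · exact h28
  exfalso
  obtain ⟨P⟩ : Nonempty (Sylow 7 G) := inferInstance
  set N : Subgroup G := Subgroup.normalizer ((P : Subgroup G) : Set G) with hN
  have hPN : (P : Subgroup G) ≤ N := Subgroup.le_normalizer
  have hcard3 : Nat.card {g : G // orderOf g = 3} = 14 := by rw [card_order3 h, h7]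
  -- the elements of `N` outside `P`
  have hdiff : Nat.card ↥((N : Set G) \ ((P : Subgroup G) : Set G)) = 14 := by
    rw [Nat.card_coe_set_eq, Set.ncard_sdiff (by exact_mod_cast hPN) (Set.toFinite _),
      ← Nat.card_coe_set_eq, ← Nat.card_coe_set_eq]
    have h1 : Nat.card ↥(N : Set G) = 21 := card_normalizer7 h P
    have h2 : Nat.card ↥((P : Subgroup G) : Set G) = 7 := card_P7 h P
    rw [h1, h2]
  let f : ↥((N : Set G) \ ((P : Subgroup G) : Set G)) → {g : G // orderOf g = 3} :=
    fun x => ⟨x.1, orderOf_eq_three_of_mem_normalizer7 h P x.1 x.2.1 x.2.2⟩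
  have hf : Function.Injective f := by
    intro x y hxy
    apply Subtype.ext
    exact congrArg (fun z : {g : G // orderOf g = 3} => z.1) hxy
  have hbij := hf.bijective_of_nat_card_le (by rw [hcard3, hdiff])
  have hall : ∀ x : G, orderOf x = 3 → x ∈ N := by
    intro x hx
    obtain ⟨y, hy⟩ := hbij.2 ⟨x, hx⟩
    have : (y.1 : G) = x := congrArg Subtype.val hy
    rw [← this]
    exact y.2.1
  obtain ⟨x, hx⟩ := exists_prime_orderOf_dvd_card' (G := G) 3 (by rw [h]; norm_num)
  have hxK : x ∈ N.normalCore := by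
    intro b
    apply hall
    have : b * x * b⁻¹ = (MulAut.conj b).toMonoidHom x := by simp
    rw [this, orderOf_injective (MulAut.conj b).toMonoidHom (MulAut.conj b).injective, hx]
  have hx1 : x ≠ 1 := by
    rintro rfl
    rw [orderOf_one] at hx; omega
  rcases (Subgroup.normalCore_normal N).eq_bot_or_eq_top with hb | ht
  · rw [hb, Subgroup.mem_bot] at hxK
    exact hx1 hxK
  · have hle : (⊤ : Subgroup G) ≤ N := ht ▸ N.normalCore_le
    have : Nat.card (⊤ : Subgroup G) ≤ Nat.card N := Subgroup.card_le_of_le hle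
    rw [Subgroup.card_top, h, card_normalizer7 h P] at this
    omega

theorem card_normalizer3 (h : Nat.card G = 168) (P : Sylow 3 G) :
    Nat.card ↥(Subgroup.normalizer ((P : Subgroup G) : Set G)) = 6 := by
  have := card_normalizer_mul_sylow_count P
  rw [card_sylow3 h, h] at this
  omega

theorem centralizer3 (h : Nat.card G = 168) (x : G) (hx : orderOf x = 3) :
    Subgroup.centralizer ({x} : Set G) = Subgroup.zpowers x :=
  centralizer_singleton_eq_of_card_normalizer (p := 3) (card_P3 h) (by rw [h]; norm_num)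
    (q := 2) (by norm_num) (fun P => by rw [card_normalizer3 h P]) x hx

theorem orderOf_eq_three (h : Nat.card G = 168) (g : G) (hg : 3 ∣ orderOf g) : orderOf g = 3 :=
  orderOf_eq_of_dvd_of_self_centralizing (centralizer3 h) g hg

theorem card_order3' (h : Nat.card G = 168) : Nat.card {g : G // orderOf g = 3} = 56 := by
  rw [card_order3 h, card_sylow3 h]

/-- Every element has order `3`, `7`, or a divisor of `8`. -/
theorem orderOf_cases (h : Nat.card G = 168) (g : G) :
    orderOf g = 3 ∨ orderOf g = 7 ∨ orderOf g ∣ 8 := by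
  by_cases h3 : 3 ∣ orderOf g
  · exact Or.inl (orderOf_eq_three h g h3)
  by_cases h7 : 7 ∣ orderOf g
  · exact Or.inr (Or.inl (orderOf_eq_seven h g h7))
  right; right
  have hd : orderOf g ∣ 8 * 21 := by
    have := orderOf_dvd_natCard g
    rwa [h] at this
  have hc3 : Nat.Coprime (orderOf g) 3 :=
    ((Nat.Prime.coprime_iff_not_dvd (by norm_num)).2 h3).symm
  have hc7 : Nat.Coprime (orderOf g) 7 :=
    ((Nat.Prime.coprime_iff_not_dvd (by norm_num)).2 h7).symm
  have hc : Nat.Coprime (orderOf g) 21 := Nat.Coprime.mul_right hc3 hc7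
  exact hc.dvd_of_dvd_mul_right hd


theorem card_T (h : Nat.card G = 168) (T : Sylow 2 G) : Nat.card ↥(T : Subgroup G) = 8 := by
  have hf : Nat.card G = 2 ^ 3 * 21 := by rw [h]; norm_num
  simpa using sylow_card_eq T hf (by norm_num)

/-- There are at least 64 elements of order dividing 8. -/
theorem card_two_elements_ge (h : Nat.card G = 168) :
    64 ≤ Nat.card {g : G // orderOf g ∣ 8} := by
  let f : ({g : G // orderOf g = 3} ⊕ {g : G // orderOf g = 7}) ⊕ {g : G // orderOf g ∣ 8} → G :=
    fun x => Sum.elim (Sum.elim (fun y => y.1) (fun y => y.1)) (fun y => y.1) x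
  have hf : Function.Surjective f := by
    intro g
    rcases orderOf_cases h g with h3 | h7 | h8
    · exact ⟨Sum.inl (Sum.inl ⟨g, h3⟩), rfl⟩
    · exact ⟨Sum.inl (Sum.inr ⟨g, h7⟩), rfl⟩
    · exact ⟨Sum.inr ⟨g, h8⟩, rfl⟩
  have := Nat.card_le_card_of_surjective f hf
  rw [Nat.card_sum, Nat.card_sum, card_order3' h, card_order7 h, h] at this
  omega

/-- An element of order dividing 8 lies in a Sylow 2-subgroup. -/
theorem exists_sylow2_mem (g : G) (hg : orderOf g ∣ 8) : ∃ T : Sylow 2 G, g ∈ (T : Subgroup G) := by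
  have h8 : (8 : ℕ) = 2 ^ 3 := by norm_num
  rw [h8] at hg
  obtain ⟨k, -, hk⟩ := (Nat.dvd_prime_pow (by norm_num)).1 hg
  have hpg : IsPGroup 2 (Subgroup.zpowers g) := by
    apply IsPGroup.of_card (n := k)
    rw [Nat.card_zpowers, hk]
  obtain ⟨T, hT⟩ := hpg.exists_le_sylow
  exact ⟨T, hT (Subgroup.mem_zpowers g)⟩

theorem card_sylow2 (h : Nat.card G = 168) : Nat.card (Sylow 2 G) = 21 := by
  classical
  have hf : Nat.card G = 2 ^ 3 * 21 := by rw [h]; norm_num
  have hn : ¬ 2 ∣ 21 := by norm_num
  obtain ⟨hd, hm⟩ := sylow_count (G := G) hf hn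
  have hge := card_two_elements_ge h
  have := Fintype.ofFinite (Sylow 2 G)
  choose T hT using fun g : {g : G // orderOf g ∣ 8} => exists_sylow2_mem g.1 g.2
  let f : {g : G // orderOf g ∣ 8} → Σ S : Sylow 2 G, ↥(S : Subgroup G) :=
    fun g => ⟨T g, ⟨g.1, hT g⟩⟩
  have hfi : Function.Injective f := by
    intro x y hxy
    apply Subtype.ext
    have h1 : (f x).2.1 = x.1 := rfl
    have h2 : (f y).2.1 = y.1 := rfl
    rw [← h1, ← h2, hxy]
  have hle := Nat.card_le_card_of_injective f hfi
  rw [Nat.card_sigma] at hle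
  simp only [card_T h, Finset.sum_const, Finset.card_univ, smul_eq_mul] at hle
  rw [← Nat.card_eq_fintype_card] at hle
  have hle2 := Nat.le_of_dvd (by norm_num) hd
  generalize Nat.card (Sylow 2 G) = n at *
  interval_cases n <;> first | omega | (exfalso; revert hd; decide)

theorem card_normalizer2 (h : Nat.card G = 168) (T : Sylow 2 G) :
    Nat.card ↥(Subgroup.normalizer ((T : Subgroup G) : Set G)) = 8 := by
  have := card_normalizer_mul_sylow_count T
  rw [card_sylow2 h, h] at this
  omega

theorem normalizer2 (h : Nat.card G = 168) (T : Sylow 2 G) :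
    Subgroup.normalizer ((T : Subgroup G) : Set G) = T :=
  (Subgroup.eq_of_le_of_card_ge Subgroup.le_normalizer
    (by rw [card_normalizer2 h T, card_T h T])).symm

end Cfsg.Agent.Helper17.O168
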