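import Mathlib
import Cfsg.Agent.Lib.Helper17.Order168
import Cfsg.Agent.Lib.Helper17.Order8Dihedral

set_option autoImplicit false

namespace Cfsg.Agent.Helper17.O168

open Cfsg.Agent.Helper17

variable {G : Type*} [Group G] [Finite G] [IsSimpleGroup G]

/-- No element of order `3 * m` or `7 * m` with `m ≠ 1`. -/
theorem not_commute_prime (h : Nat.card G = 168) (g z : G) (hz1 : z ≠ 1) (hz : orderOf z ∣ 8)
    (hg : orderOf g = 3 ∨ orderOf g = 7) : ¬ Commute g z := by
  intro hc
  have hzpos : 0 < orderOf z := orderOf_pos z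
  have hz1' : orderOf z ≠ 1 := by rwa [Ne, orderOf_eq_one_iff]
  have hle := Nat.le_of_dvd (by norm_num) hz
  rcases hg with hg | hg
  · have hco : (orderOf g).Coprime (orderOf z) := by
      rw [hg]
      exact Nat.Coprime.coprime_dvd_right hz (by norm_num)
    have hmul := hc.orderOf_mul_eq_mul_orderOf_of_coprime hco
    rw [hg] at hmul
    have h3 : orderOf (g * z) = 3 := orderOf_eq_three h _ (by rw [hmul]; exact dvd_mul_right _ _)
    rw [h3] at hmul
    omega
  · have hco : (orderOf g).Coprime (orderOf z) := by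
      rw [hg]
      exact Nat.Coprime.coprime_dvd_right hz (by norm_num)
    have hmul := hc.orderOf_mul_eq_mul_orderOf_of_coprime hco
    rw [hg] at hmul
    have h7 : orderOf (g * z) = 7 := orderOf_eq_seven h _ (by rw [hmul]; exact dvd_mul_right _ _)
    rw [h7] at hmul
    omega

/-- The centralizer of a nontrivial 2-element is a 2-group. -/
theorem card_centralizer_two_element_dvd (h : Nat.card G = 168) (z : G) (hz1 : z ≠ 1)
    (hz : orderOf z ∣ 8) : Nat.card ↥(Subgroup.centralizer ({z} : Set G)) ∣ 8 := by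
  set C : Subgroup G := Subgroup.centralizer ({z} : Set G) with hC
  have hd : Nat.card C ∣ 8 * 21 := by
    have := Subgroup.card_subgroup_dvd_card C
    rwa [h] at this
  have hno : ∀ p : ℕ, p.Prime → (p = 3 ∨ p = 7) → ¬ p ∣ Nat.card C := by
    intro p hp hp37 hpd
    have : Fact p.Prime := ⟨hp⟩
    obtain ⟨g, hg⟩ := exists_prime_orderOf_dvd_card' (G := C) p hpd
    have hg' : orderOf (g : G) = p := by rw [Subgroup.orderOf_coe, hg]
    have hcomm : Commute (g : G) z := by
      have := Subgroup.mem_centralizer_iff.1 g.2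
      exact (this z rfl).symm
    apply not_commute_prime h (g : G) z hz1 hz _ hcomm
    rcases hp37 with rfl | rfl
    · exact Or.inl hg'
    · exact Or.inr hg'
  have hc3 : Nat.Coprime (Nat.card C) 3 :=
    ((Nat.Prime.coprime_iff_not_dvd (by norm_num)).2
      (hno 3 (by norm_num) (Or.inl rfl))).symm
  have hc7 : Nat.Coprime (Nat.card C) 7 :=
    ((Nat.Prime.coprime_iff_not_dvd (by norm_num)).2
      (hno 7 (by norm_num) (Or.inr rfl))).symm
  have hc : Nat.Coprime (Nat.card C) 21 := Nat.Coprime.mul_right hc3 hc7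
  exact hc.dvd_of_dvd_mul_right hd

/-- A nontrivial central element of a Sylow 2-subgroup has that subgroup as centralizer. -/
theorem centralizer_eq_sylow2 (h : Nat.card G = 168) (T : Sylow 2 G) (z : G)
    (hzT : z ∈ (T : Subgroup G)) (hz1 : z ≠ 1)
    (hcent : ∀ t ∈ (T : Subgroup G), t * z = z * t) :
    Subgroup.centralizer ({z} : Set G) = T := by
  have hzo : orderOf z ∣ 8 := by
    rw [← card_T h T]
    exact Subgroup.orderOf_dvd_natCard _ hzT
  have hTC : (T : Subgroup G) ≤ Subgroup.centralizer ({z} : Set G) := by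
    intro t ht
    rw [Subgroup.mem_centralizer_iff]
    intro y hy
    rw [Set.mem_singleton_iff] at hy
    subst hy
    exact (hcent t ht).symm
  have hd := card_centralizer_two_element_dvd h z hz1 hzo
  have hle := Nat.le_of_dvd (by norm_num) hd
  exact (Subgroup.eq_of_le_of_card_ge hTC (by rw [card_T h T]; exact hle)).symm

/-- A Sylow 2-subgroup is not abelian. -/
theorem sylow2_not_comm (h : Nat.card G = 168) (T : Sylow 2 G) :
    ¬ ∀ x y : ↥(T : Subgroup G), x * y = y * x := by
  intro hcomm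
  apply not_normalizer_le_centralizer T (by rw [card_T h T]; norm_num)
    (by rw [card_T h T, h]; norm_num)
  rw [normalizer2 h T]
  exact Subgroup.le_centralizer_iff_isMulCommutative.2 ⟨⟨hcomm⟩⟩

/-- Uniqueness of the Sylow 2-subgroup containing `u`, when a nontrivial power of `u` is central in
each Sylow 2-subgroup containing `u`. -/
theorem sylow2_unique_of_central_pow (h : Nat.card G = 168) (u z : G) (hz1 : z ≠ 1)
    (hzu : z ∈ Subgroup.zpowers u)
    (hcent : ∀ S : Sylow 2 G, u ∈ (S : Subgroup G) → ∀ s ∈ (S : Subgroup G), s * z = z * s)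
    (S₁ S₂ : Sylow 2 G) (h1 : u ∈ (S₁ : Subgroup G)) (h2 : u ∈ (S₂ : Subgroup G)) : S₁ = S₂ := by
  have hz1' : z ∈ (S₁ : Subgroup G) := (Subgroup.zpowers_le.2 h1) hzu
  have hz2' : z ∈ (S₂ : Subgroup G) := (Subgroup.zpowers_le.2 h2) hzu
  have e1 := centralizer_eq_sylow2 h S₁ z hz1' hz1 (hcent S₁ h1)
  have e2 := centralizer_eq_sylow2 h S₂ z hz2' hz1 (hcent S₂ h2)
  exact Sylow.ext (e1.symm.trans e2)

/-- There are exactly 64 elements of order dividing 8. -/
theorem card_two_elements (h : Nat.card G = 168) :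
    Nat.card {g : G // orderOf g ∣ 8} = 64 := by
  apply le_antisymm _ (card_two_elements_ge h)
  let f : ({g : G // orderOf g = 3} ⊕ {g : G // orderOf g = 7}) ⊕ {g : G // orderOf g ∣ 8} → G :=
    fun x => Sum.elim (Sum.elim (fun y => y.1) (fun y => y.1)) (fun y => y.1) x
  have hf : Function.Injective f := by
    rintro ((⟨x, hx⟩ | ⟨x, hx⟩) | ⟨x, hx⟩) ((⟨y, hy⟩ | ⟨y, hy⟩) | ⟨y, hy⟩) hxy <;>
      simp only [f, Sum.elim_inl, Sum.elim_inr] at hxy <;> subst hxy
    · rfl
    · omega
    · rw [hx] at hy; exact absurd hy (by decide)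
    · omega
    · rfl
    · rw [hx] at hy; exact absurd hy (by decide)
    · rw [hy] at hx; exact absurd hx (by decide)
    · rw [hy] at hx; exact absurd hx (by decide)
    · rfl
  have := Nat.card_le_card_of_injective f hf
  rw [Nat.card_sum, Nat.card_sum, card_order3' h, card_order7 h, h] at this
  omega


/-- A nontrivial element of order dividing `8` has a power of order `2`. -/
theorem exists_pow_orderOf_two {H : Type*} [Group H] (u : H) (hu1 : u ≠ 1) (hu : orderOf u ∣ 8) :
    ∃ k : ℕ, orderOf (u ^ k) = 2 := by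
  have hle := Nat.le_of_dvd (by norm_num) hu
  have h1 : orderOf u ≠ 1 := by rwa [Ne, orderOf_eq_one_iff]
  have hcases : orderOf u = 2 ∨ orderOf u = 4 ∨ orderOf u = 8 := by
    generalize orderOf u = n at *
    interval_cases n <;> first | omega | (exfalso; revert hu; decide)
  rcases hcases with h2 | h4 | h8
  · exact ⟨1, by rw [pow_one, h2]⟩
  · exact ⟨2, by rw [orderOf_pow' u (by norm_num), h4]; norm_num⟩
  · exact ⟨4, by rw [orderOf_pow' u (by norm_num), h8]; norm_num⟩

/-- The Sylow 2-subgroups are dihedral of order `8`. -/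
theorem sylow2_dihedral (h : Nat.card G = 168) (T : Sylow 2 G) :
    Nonempty (↥(T : Subgroup G) ≃* DihedralGroup 4) := by
  classical
  by_contra hno
  have huniq : ∀ S : Sylow 2 G, ∃ z : ↥(S : Subgroup G), orderOf z = 2 ∧
      ∀ t : ↥(S : Subgroup G), orderOf t = 2 → t = z := by
    intro S
    rcases order8_dihedral_or_unique_involution (T := ↥(S : Subgroup G)) (card_T h S)
      (sylow2_not_comm h S) with ⟨⟨e⟩⟩ | hq
    · exact absurd ⟨(Sylow.equiv T S).trans e⟩ hno
    · exact hq
  have hinj : ∀ (S₁ S₂ : Sylow 2 G) (u : G), u ≠ 1 → u ∈ (S₁ : Subgroup G) →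
      u ∈ (S₂ : Subgroup G) → S₁ = S₂ := by
    intro S₁ S₂ u hu1 h1 h2
    have huo : orderOf u ∣ 8 := card_T h S₁ ▸ Subgroup.orderOf_dvd_natCard _ h1
    obtain ⟨k, hk⟩ := exists_pow_orderOf_two u hu1 huo
    have hz1 : u ^ k ≠ 1 := by
      intro h1'
      rw [h1', orderOf_one] at hk; omega
    apply sylow2_unique_of_central_pow h u (u ^ k) hz1
      (Subgroup.pow_mem _ (Subgroup.mem_zpowers u) k) ?_ S₁ S₂ h1 h2
    intro S hS s hs
    obtain ⟨z, hz, hzu⟩ := huniq S
    have hukS : u ^ k ∈ (S : Subgroup G) := Subgroup.pow_mem _ hS k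
    have e1 : (⟨u ^ k, hukS⟩ : ↥(S : Subgroup G)) = z :=
      hzu _ (by rw [Subgroup.orderOf_mk, hk])
    have e2 : (⟨s, hs⟩ : ↥(S : Subgroup G)) * z * (⟨s, hs⟩ : ↥(S : Subgroup G))⁻¹ = z := by
      apply hzu
      have : (⟨s, hs⟩ : ↥(S : Subgroup G)) * z * (⟨s, hs⟩ : ↥(S : Subgroup G))⁻¹ =
          (MulAut.conj (⟨s, hs⟩ : ↥(S : Subgroup G))).toMonoidHom z := by simp
      rw [this, orderOf_injective _ (MulAut.conj (⟨s, hs⟩ : ↥(S : Subgroup G))).injective, hz]
    have e3 : s * (z : G) * s⁻¹ = (z : G) := by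
      have := congrArg (fun x : ↥(S : Subgroup G) => (x : G)) e2
      simpa using this
    have e4 : (z : G) = u ^ k := by rw [← e1]
    rw [← e4]
    calc s * (z : G) = s * (z : G) * s⁻¹ * s := by group
      _ = (z : G) * s := by rw [e3]
  -- counting
  have := Fintype.ofFinite (Sylow 2 G)
  let f : (Σ S : Sylow 2 G, {t : ↥(S : Subgroup G) // t ≠ 1}) → {g : G // orderOf g ∣ 8} :=
    fun x => ⟨(x.2.1 : G), by
      rw [← card_T h x.1]
      exact Subgroup.orderOf_dvd_natCard _ x.2.1.2⟩
  have hf : Function.Injective f := by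
    rintro ⟨S₁, ⟨⟨t₁, ht₁⟩, hne₁⟩⟩ ⟨S₂, ⟨⟨t₂, ht₂⟩, hne₂⟩⟩ hxy
    have ht : t₁ = t₂ := congrArg (fun z : {g : G // orderOf g ∣ 8} => z.1) hxy
    subst ht
    have ht1 : t₁ ≠ 1 := by
      intro h1
      apply hne₁
      exact Subtype.ext h1
    have hS : S₁ = S₂ := hinj S₁ S₂ t₁ ht1 ht₁ ht₂
    subst hS
    rfl
  have hle := Nat.card_le_card_of_injective f hf
  rw [Nat.card_sigma, card_two_elements h] at hle
  simp only [card_ne_subtype, card_T h, Finset.sum_const, Finset.card_univ, smul_eq_mul] at hle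
  rw [← Nat.card_eq_fintype_card, card_sylow2 h] at hle
  omega

end Cfsg.Agent.Helper17.O168
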