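import Mathlib
import Cfsg.Agent.Lib.Helper17.Order168B
import Cfsg.Agent.Lib.Helper17.ConjCount

set_option autoImplicit false

namespace Cfsg.Agent.Helper17

/-- If the conjugacy class of `x` has as many elements as there are elements of order `orderOf x`,
then every element of that order is conjugate to `x`. -/
theorem isConj_of_card_class_eq {G : Type*} [Group G] [Finite G] (d : ℕ) (x : G)
    (hx : orderOf x = d)
    (hcard : Nat.card {g : G // orderOf g = d} = Nat.card (ConjClasses.mk x).carrier) :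
    ∀ s : G, orderOf s = d → IsConj x s := by
  let f : (ConjClasses.mk x).carrier → {g : G // orderOf g = d} := fun y => ⟨y.1, by
    have := y.2
    rw [ConjClasses.mem_carrier_iff_mk_eq, ConjClasses.mk_eq_mk_iff_isConj] at this
    rw [orderOf_eq_of_isConj this, hx]⟩
  have hf : Function.Injective f := by
    intro a b hab
    apply Subtype.ext
    exact congrArg (fun z : {g : G // orderOf g = d} => z.1) hab
  have hbij := hf.bijective_of_nat_card_le (by rw [hcard])
  intro s hs
  obtain ⟨y, hy⟩ := hbij.2 ⟨s, hs⟩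
  have hys : (y.1 : G) = s := congrArg (fun z : {g : G // orderOf g = d} => z.1) hy
  have := y.2
  rw [ConjClasses.mem_carrier_iff_mk_eq, ConjClasses.mk_eq_mk_iff_isConj, hys] at this
  exact this.symm

namespace D4

/-- Squares of elements of order four are central in the dihedral group of order 8. -/
theorem sq_central : ∀ u t : DihedralGroup 4, u ^ 2 ≠ 1 → t * u ^ 2 = u ^ 2 * t := by decide

theorem pow_four : ∀ u : DihedralGroup 4, u ^ 4 = 1 := by decide

theorem card_sq_ne_one : Fintype.card {u : DihedralGroup 4 // u ^ 2 ≠ 1} = 2 := by decide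

/-- The centralizer of an element of order four is the cyclic group it generates. -/
theorem commute_order_four : ∀ u t : DihedralGroup 4, u ^ 2 ≠ 1 → t * u = u * t →
    t = 1 ∨ t = u ∨ t = u ^ 2 ∨ t = u ^ 3 := by decide

end D4


theorem orderOf_eq_four_iff {H : Type*} [Group H] (t : H) (h4 : t ^ 4 = 1) :
    orderOf t = 4 ↔ t ^ 2 ≠ 1 := by
  constructor
  · intro ho h2
    have := orderOf_dvd_of_pow_eq_one h2
    rw [ho] at this
    exact absurd this (by decide)
  · intro h2
    have hd : orderOf t ∣ 4 := orderOf_dvd_of_pow_eq_one h4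
    have hle := Nat.le_of_dvd (by norm_num) hd
    have hnd : ¬ orderOf t ∣ 2 := fun hd2 => h2 (orderOf_dvd_iff_pow_eq_one.1 hd2)
    generalize orderOf t = n at *
    interval_cases n <;> first | omega | (exfalso; revert hd; decide) | (exfalso; revert hnd; decide)

namespace O168

variable {G : Type*} [Group G] [Finite G] [IsSimpleGroup G]

theorem pow_four_of_mem (h : Nat.card G = 168) (S : Sylow 2 G) (t : G)
    (ht : t ∈ (S : Subgroup G)) : t ^ 4 = 1 := by
  obtain ⟨φ⟩ := sylow2_dihedral h S
  have h1 : φ ((⟨t, ht⟩ : ↥(S : Subgroup G)) ^ 4) = 1 := by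
    rw [map_pow]; exact D4.pow_four _
  have h2 : (⟨t, ht⟩ : ↥(S : Subgroup G)) ^ 4 = 1 := (EmbeddingLike.map_eq_one_iff).1 h1
  have := congrArg (fun x : ↥(S : Subgroup G) => (x : G)) h2
  simpa using this

theorem sq_central_of_mem (h : Nat.card G = 168) (S : Sylow 2 G) (u : G)
    (hu : u ∈ (S : Subgroup G)) (hu2 : u ^ 2 ≠ 1) :
    ∀ s ∈ (S : Subgroup G), s * u ^ 2 = u ^ 2 * s := by
  obtain ⟨φ⟩ := sylow2_dihedral h S
  intro s hs
  have hne : (φ ⟨u, hu⟩) ^ 2 ≠ 1 := by
    rw [← map_pow]
    intro h1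
    have h2 : (⟨u, hu⟩ : ↥(S : Subgroup G)) ^ 2 = 1 := (EmbeddingLike.map_eq_one_iff).1 h1
    apply hu2
    have := congrArg (fun x : ↥(S : Subgroup G) => (x : G)) h2
    simpa using this
  have h1 := D4.sq_central (φ ⟨u, hu⟩) (φ ⟨s, hs⟩) hne
  rw [← map_pow, ← map_mul, ← map_mul] at h1
  have h2 := φ.injective h1
  have := congrArg (fun x : ↥(S : Subgroup G) => (x : G)) h2
  simpa using this

/-- Every element has order `1`, `2`, `3`, `4` or `7`. -/
theorem orderOf_mem (h : Nat.card G = 168) (g : G) :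
    orderOf g = 1 ∨ orderOf g = 2 ∨ orderOf g = 3 ∨ orderOf g = 4 ∨ orderOf g = 7 := by
  rcases orderOf_cases h g with h3 | h7 | h8
  · exact Or.inr (Or.inr (Or.inl h3))
  · exact Or.inr (Or.inr (Or.inr (Or.inr h7)))
  · obtain ⟨S, hS⟩ := exists_sylow2_mem g h8
    have hd : orderOf g ∣ 4 := orderOf_dvd_of_pow_eq_one (pow_four_of_mem h S g hS)
    have hle := Nat.le_of_dvd (by norm_num) hd
    have hpos := orderOf_pos g
    generalize orderOf g = n at *
    interval_cases n <;> first | omega | (exfalso; revert hd; decide)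

theorem sylow2_unique_of_order_four (h : Nat.card G = 168) (u : G) (hu : orderOf u = 4)
    (S₁ S₂ : Sylow 2 G) (h1 : u ∈ (S₁ : Subgroup G)) (h2 : u ∈ (S₂ : Subgroup G)) : S₁ = S₂ := by
  have hu2 : u ^ 2 ≠ 1 := by
    intro h2
    have := orderOf_dvd_of_pow_eq_one h2
    rw [hu] at this
    exact absurd this (by decide)
  exact sylow2_unique_of_central_pow h u (u ^ 2) hu2
    (Subgroup.pow_mem _ (Subgroup.mem_zpowers u) 2)
    (fun S hS => sq_central_of_mem h S u hS hu2) S₁ S₂ h1 h2

theorem card_order_four_in_sylow (h : Nat.card G = 168) (S : Sylow 2 G) :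
    Nat.card {t : ↥(S : Subgroup G) // orderOf t = 4} = 2 := by
  obtain ⟨φ⟩ := sylow2_dihedral h S
  have hpow : ∀ t : ↥(S : Subgroup G), t ^ 4 = 1 := by
    intro t
    apply φ.injective
    rw [map_pow, map_one]; exact D4.pow_four _
  have e : {t : ↥(S : Subgroup G) // orderOf t = 4} ≃ {u : DihedralGroup 4 // u ^ 2 ≠ 1} :=
    Equiv.subtypeEquiv φ.toEquiv (fun t => by
      rw [orderOf_eq_four_iff t (hpow t)]
      simp only [MulEquiv.toEquiv_eq_coe, EquivLike.coe_coe, ← map_pow, ne_eq,
        EmbeddingLike.map_eq_one_iff])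
  rw [Nat.card_congr e, Nat.card_eq_fintype_card]
  exact D4.card_sq_ne_one

theorem card_order4 (h : Nat.card G = 168) : Nat.card {g : G // orderOf g = 4} = 42 := by
  classical
  have := Fintype.ofFinite (Sylow 2 G)
  let f : (Σ S : Sylow 2 G, {t : ↥(S : Subgroup G) // orderOf t = 4}) → {g : G // orderOf g = 4} :=
    fun x => ⟨(x.2.1 : G), by rw [Subgroup.orderOf_coe]; exact x.2.2⟩
  have hf : Function.Bijective f := by
    constructor
    · rintro ⟨S₁, ⟨⟨t₁, ht₁⟩, ho₁⟩⟩ ⟨S₂, ⟨⟨t₂, ht₂⟩, ho₂⟩⟩ hxy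
      have ht : t₁ = t₂ := congrArg (fun z : {g : G // orderOf g = 4} => z.1) hxy
      subst ht
      have ho : orderOf t₁ = 4 := by rw [← Subgroup.orderOf_mk t₁ ht₁]; exact ho₁
      have hS : S₁ = S₂ := sylow2_unique_of_order_four h t₁ ho S₁ S₂ ht₁ ht₂
      subst hS
      rfl
    · rintro ⟨g, hg⟩
      obtain ⟨S, hS⟩ := exists_sylow2_mem g (by rw [hg]; norm_num)
      exact ⟨⟨S, ⟨⟨g, hS⟩, by rw [Subgroup.orderOf_mk]; exact hg⟩⟩, rfl⟩
  rw [← Nat.card_congr (Equiv.ofBijective f hf), Nat.card_sigma]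
  simp only [card_order_four_in_sylow h, Finset.sum_const, Finset.card_univ, smul_eq_mul]
  rw [← Nat.card_eq_fintype_card, card_sylow2 h]

theorem card_order1 : Nat.card {g : G // orderOf g = 1} = 1 := by
  have : Unique {g : G // orderOf g = 1} :=
    ⟨⟨⟨1, orderOf_one⟩⟩, fun x => Subtype.ext (orderOf_eq_one_iff.1 x.2)⟩
  exact Nat.card_unique

theorem card_order2 (h : Nat.card G = 168) : Nat.card {g : G // orderOf g = 2} = 21 := by
  apply le_antisymm
  · have := sum_card_orderOf_le (G := G) {1, 2, 3, 4, 7}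
    rw [Finset.sum_insert (by decide), Finset.sum_insert (by decide), Finset.sum_insert (by decide),
      Finset.sum_insert (by decide), Finset.sum_singleton, card_order1, card_order3' h,
      card_order4 h, card_order7 h, h] at this
    omega
  · let f : (((({g : G // orderOf g = 1} ⊕ {g : G // orderOf g = 2}) ⊕ {g : G // orderOf g = 3}) ⊕
        {g : G // orderOf g = 4}) ⊕ {g : G // orderOf g = 7}) → G :=
      fun x => Sum.elim (Sum.elim (Sum.elim (Sum.elim (fun y => y.1) (fun y => y.1))
        (fun y => y.1)) (fun y => y.1)) (fun y => y.1) x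
    have hf : Function.Surjective f := by
      intro g
      rcases orderOf_mem h g with h1 | h2 | h3 | h4 | h7
      · exact ⟨Sum.inl (Sum.inl (Sum.inl (Sum.inl ⟨g, h1⟩))), rfl⟩
      · exact ⟨Sum.inl (Sum.inl (Sum.inl (Sum.inr ⟨g, h2⟩))), rfl⟩
      · exact ⟨Sum.inl (Sum.inl (Sum.inr ⟨g, h3⟩)), rfl⟩
      · exact ⟨Sum.inl (Sum.inr ⟨g, h4⟩), rfl⟩
      · exact ⟨Sum.inr ⟨g, h7⟩, rfl⟩
    have := Nat.card_le_card_of_surjective f hf
    rw [Nat.card_sum, Nat.card_sum, Nat.card_sum, Nat.card_sum, card_order1, card_order3' h,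
      card_order4 h, card_order7 h, h] at this
    omega

/-- The centralizer of the square of an element of order four is the Sylow 2-subgroup containing
that element. -/
theorem centralizer_sq (h : Nat.card G = 168) (u : G) (hu : orderOf u = 4) (S : Sylow 2 G)
    (hS : u ∈ (S : Subgroup G)) : Subgroup.centralizer ({u ^ 2} : Set G) = S := by
  have hu2 : u ^ 2 ≠ 1 := by
    intro h2
    have := orderOf_dvd_of_pow_eq_one h2
    rw [hu] at this
    exact absurd this (by decide)
  exact centralizer_eq_sylow2 h S (u ^ 2) (Subgroup.pow_mem _ hS 2) hu2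
    (sq_central_of_mem h S u hS hu2)

theorem exists_order_four (h : Nat.card G = 168) : ∃ u : G, orderOf u = 4 := by
  have hpos : 0 < Nat.card {g : G // orderOf g = 4} := by rw [card_order4 h]; norm_num
  obtain ⟨⟨u, hu⟩⟩ := (Nat.card_pos_iff.1 hpos).1
  exact ⟨u, hu⟩

theorem isConj_involutions (h : Nat.card G = 168) (s t : G) (hs : orderOf s = 2)
    (ht : orderOf t = 2) : IsConj s t := by
  obtain ⟨u, hu⟩ := exists_order_four h
  obtain ⟨S, hS⟩ := exists_sylow2_mem u (by rw [hu]; norm_num)
  have hz : orderOf (u ^ 2) = 2 := by rw [orderOf_pow' u (by norm_num), hu]; norm_num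
  have hcard : Nat.card {g : G // orderOf g = 2} = Nat.card (ConjClasses.mk (u ^ 2)).carrier := by
    have := card_carrier_mul_card_centralizer (u ^ 2)
    rw [centralizer_sq h u hu S hS, card_T h S, h] at this
    rw [card_order2 h]
    omega
  have key := isConj_of_card_class_eq 2 (u ^ 2) hz hcard
  exact (key s hs).symm.trans (key t ht)

end O168

end Cfsg.Agent.Helper17
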