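import Mathlib
import Cfsg.Agent.Lib.Helper17.Order168C
import Cfsg.Agent.Lib.Helper17.SylowSub

set_option autoImplicit false

namespace Cfsg.Agent.Helper17

namespace O168

variable {G : Type*} [Group G] [Finite G] [IsSimpleGroup G]

theorem isConj_order3 (h : Nat.card G = 168) (s t : G) (hs : orderOf s = 3)
    (ht : orderOf t = 3) : IsConj s t := by
  have hcard : Nat.card {g : G // orderOf g = 3} = Nat.card (ConjClasses.mk s).carrier := by
    have := card_carrier_mul_card_centralizer s
    rw [centralizer3 h s hs, Nat.card_zpowers, hs, h] at this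
    rw [card_order3' h]
    omega
  exact isConj_of_card_class_eq 3 s hs hcard t ht

/-- The centralizer of an element of order four is the cyclic subgroup it generates. -/
theorem centralizer4 (h : Nat.card G = 168) (u : G) (hu : orderOf u = 4) :
    Subgroup.centralizer ({u} : Set G) = Subgroup.zpowers u := by
  obtain ⟨S, hS⟩ := exists_sylow2_mem u (by rw [hu]; norm_num)
  obtain ⟨φ⟩ := sylow2_dihedral h S
  have hu2 : u ^ 2 ≠ 1 := by
    intro h2
    have := orderOf_dvd_of_pow_eq_one h2
    rw [hu] at this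
    exact absurd this (by decide)
  apply le_antisymm
  · intro t ht
    rw [Subgroup.mem_centralizer_iff] at ht
    have htu : u * t = t * u := ht u rfl
    have htS : t ∈ (S : Subgroup G) := by
      rw [← centralizer_sq h u hu S hS, Subgroup.mem_centralizer_iff]
      intro y hy
      rw [Set.mem_singleton_iff] at hy
      subst hy
      have hc : Commute u t := htu
      exact (hc.pow_left 2)
    have hne : (φ ⟨u, hS⟩) ^ 2 ≠ 1 := by
      rw [← map_pow]
      intro h1
      have h2 : (⟨u, hS⟩ : ↥(S : Subgroup G)) ^ 2 = 1 := (EmbeddingLike.map_eq_one_iff).1 h1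
      apply hu2
      have := congrArg (fun x : ↥(S : Subgroup G) => (x : G)) h2
      simpa using this
    have hcomm : φ ⟨t, htS⟩ * φ ⟨u, hS⟩ = φ ⟨u, hS⟩ * φ ⟨t, htS⟩ := by
      rw [← map_mul, ← map_mul]
      congr 1
      exact Subtype.ext htu.symm
    have hcases := D4.commute_order_four (φ ⟨u, hS⟩) (φ ⟨t, htS⟩) hne hcomm
    have hpull : ∀ k : ℕ, φ ⟨t, htS⟩ = (φ ⟨u, hS⟩) ^ k → t = u ^ k := by
      intro k hk
      rw [← map_pow] at hk
      have := congrArg (fun x : ↥(S : Subgroup G) => (x : G)) (φ.injective hk)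
      simpa using this
    rcases hcases with h1 | h1 | h1 | h1
    · have : t = u ^ 0 := hpull 0 (by rw [pow_zero]; exact h1)
      rw [this]; exact Subgroup.pow_mem _ (Subgroup.mem_zpowers u) 0
    · have : t = u ^ 1 := hpull 1 (by rw [pow_one]; exact h1)
      rw [this]; exact Subgroup.pow_mem _ (Subgroup.mem_zpowers u) 1
    · rw [hpull 2 h1]; exact Subgroup.pow_mem _ (Subgroup.mem_zpowers u) 2
    · rw [hpull 3 h1]; exact Subgroup.pow_mem _ (Subgroup.mem_zpowers u) 3
  · rw [Subgroup.zpowers_le, Subgroup.mem_centralizer_iff]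
    intro y hy
    rw [Set.mem_singleton_iff] at hy
    subst hy
    rfl

theorem isConj_order4 (h : Nat.card G = 168) (s t : G) (hs : orderOf s = 4)
    (ht : orderOf t = 4) : IsConj s t := by
  have hcard : Nat.card {g : G // orderOf g = 4} = Nat.card (ConjClasses.mk s).carrier := by
    have := card_carrier_mul_card_centralizer s
    rw [centralizer4 h s hs, Nat.card_zpowers, hs, h] at this
    rw [card_order4 h]
    omega
  exact isConj_of_card_class_eq 4 s hs hcard t ht

theorem card_isConj_order7 (h : Nat.card G = 168) (x : G) (hx : orderOf x = 7) :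
    Nat.card {g : G // IsConj x g} = 24 := by
  have e : {g : G // IsConj x g} ≃ (ConjClasses.mk x).carrier :=
    Equiv.subtypeEquivRight (fun g => by
      rw [ConjClasses.mem_carrier_iff_mk_eq, ConjClasses.mk_eq_mk_iff_isConj]
      exact ⟨IsConj.symm, IsConj.symm⟩)
  rw [Nat.card_congr e]
  have := card_carrier_mul_card_centralizer x
  rw [centralizer7 h x hx, Nat.card_zpowers, hx, h] at this
  omega

theorem not_isConj_inv_order7 (h : Nat.card G = 168) (x : G) (hx : orderOf x = 7) :
    ¬ IsConj x x⁻¹ := by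
  intro hconj
  obtain ⟨c, hc⟩ := isConj_iff.1 hconj
  obtain ⟨P, hxP⟩ := exists_sylow_mem_of_orderOf x hx
  have hx1 : x ≠ 1 := by
    rintro rfl
    rw [orderOf_one] at hx; omega
  -- `c` normalizes `P`
  have hxinv : x⁻¹ ∈ ((c • P : Sylow 7 G) : Subgroup G) := by
    rw [mem_smul_sylow_iff, ← hc]
    have : c⁻¹ * (c * x * c⁻¹) * c = x := by group
    rw [this]; exact hxP
  have hxinv' : x⁻¹ ∈ (P : Subgroup G) := Subgroup.inv_mem _ hxP
  have hxinv1 : x⁻¹ ≠ 1 := by simpa using hx1
  have hPQ : c • P = P := by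
    apply Sylow.ext
    have e1 := (zpowers_eq_of_card_prime ((c • P : Sylow 7 G) : Subgroup G) (card_P7 h _) x⁻¹
      hxinv hxinv1).1
    have e2 := (zpowers_eq_of_card_prime (P : Subgroup G) (card_P7 h _) x⁻¹ hxinv' hxinv1).1
    rw [← e1, e2]
  have hcN : c ∈ Subgroup.normalizer ((P : Subgroup G) : Set G) :=
    Sylow.smul_eq_iff_mem_normalizer.1 hPQ
  have hd : orderOf c ∣ 21 := by
    rw [← card_normalizer7 h P]
    exact Subgroup.orderOf_dvd_natCard _ hcN
  -- `c * c` commutes with `x`
  have hs1 : SemiconjBy c x x⁻¹ := by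
    unfold SemiconjBy
    rw [← hc]; group
  have hs2 : SemiconjBy c x⁻¹ x := by
    have := hs1.inv_right
    rwa [inv_inv] at this
  have hcc : Commute (c * c) x := hs2.mul_left hs1
  -- `orderOf c` is odd, so `c` is a power of `c * c`
  have hodd : ¬ 2 ∣ orderOf c := by
    intro h2
    have := Nat.dvd_trans h2 hd
    exact absurd this (by decide)
  obtain ⟨j, hj⟩ : ∃ j, orderOf c = 2 * j + 1 := by
    refine ⟨orderOf c / 2, ?_⟩
    omega
  have hcpow : c = ((c * c) ^ j)⁻¹ := by
    have h1 : c ^ (2 * j + 1) = 1 := by rw [← hj]; exact pow_orderOf_eq_one c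
    have h2 : (c * c) ^ j * c = 1 := by
      rw [← pow_two, ← pow_mul, ← pow_succ]; exact h1
    exact eq_inv_of_mul_eq_one_right h2
  have hcx : Commute c x := by
    rw [hcpow]
    exact (hcc.pow_left j).inv_left
  have : x = x⁻¹ := by
    rw [← hc, hcx.eq]; group
  have hx2 : x ^ 2 = 1 := by
    rw [pow_two]
    nth_rewrite 1 [this]
    exact inv_mul_cancel x
  have := orderOf_dvd_of_pow_eq_one hx2
  rw [hx] at this
  exact absurd this (by decide)

end O168

end Cfsg.Agent.Helper17
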