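import Mathlib
import Cfsg.Agent.Lib.Helper17.Order168D
import Cfsg.Agent.Lib.Helper17.KleinD4
import Cfsg.Agent.S1012

set_option autoImplicit false

namespace Cfsg.Agent.Helper17

namespace O168

variable {G : Type*} [Group G] [Finite G] [IsSimpleGroup G]

theorem card_klein_in_sylow (h : Nat.card G = 168) (T : Sylow 2 G) :
    Nat.card {U : Subgroup G // U ≤ (T : Subgroup G) ∧ IsKleinFour ↥U} = 2 := by
  obtain ⟨φ⟩ := sylow2_dihedral h T
  let e1 : {U : Subgroup G // U ≤ (T : Subgroup G) ∧ IsKleinFour ↥U} ≃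
      {X : {U : Subgroup G // U ≤ (T : Subgroup G)} // IsKleinFour ↥X.1} :=
    (Equiv.subtypeSubtypeEquivSubtypeInter _ _).symm
  let e2 : {X : {U : Subgroup G // U ≤ (T : Subgroup G)} // IsKleinFour ↥X.1} ≃
      {V : Subgroup ↥(T : Subgroup G) // IsKleinFour ↥V} :=
    (Subgroup.MapSubtype.orderIso (T : Subgroup G)).symm.toEquiv.subtypeEquiv
      (fun X => isKleinFour_congr (Subgroup.subgroupOfEquivOfLe X.2).symm)
  let e3 : {V : Subgroup ↥(T : Subgroup G) // IsKleinFour ↥V} ≃
      {W : Subgroup (DihedralGroup 4) // IsKleinFour ↥W} :=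
    (MulEquiv.mapSubgroup φ).toEquiv.subtypeEquiv (fun V => isKleinFour_congr (φ.subgroupMap V))
  rw [Nat.card_congr (e1.trans (e2.trans e3))]
  exact D4.card_klein_four_subgroups


theorem D4.card_central : Fintype.card {a : DihedralGroup 4 // ∀ t, t * a = a * t} = 2 := by
  decide

/-- A Klein four-subgroup is normalized by every Sylow 2-subgroup containing it. -/
theorem sylow_le_normalizer_klein (h : Nat.card G = 168) (U : Subgroup G) (hU : IsKleinFour ↥U)
    (S : Sylow 2 G) (hUS : U ≤ (S : Subgroup G)) :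
    (S : Subgroup G) ≤ Subgroup.normalizer (U : Set G) := by
  rw [← Subgroup.normal_subgroupOf_iff_le_normalizer hUS]
  apply Subgroup.normal_of_index_eq_two
  have h1 := (U.subgroupOf (S : Subgroup G)).card_mul_index
  rw [Nat.card_congr (Subgroup.subgroupOfEquivOfLe hUS).toEquiv, hU.card_four, card_T h S] at h1
  omega

theorem card_centralizer_involution (h : Nat.card G = 168) (s : G) (hs : orderOf s = 2) :
    Nat.card ↥(Subgroup.centralizer ({s} : Set G)) = 8 := by
  obtain ⟨u, hu⟩ := exists_order_four h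
  obtain ⟨S, hS⟩ := exists_sylow2_mem u (by rw [hu]; norm_num)
  have hz : orderOf (u ^ 2) = 2 := by rw [orderOf_pow' u (by norm_num), hu]; norm_num
  have hconj := isConj_involutions h s (u ^ 2) hs hz
  have h1 := card_carrier_mul_card_centralizer s
  have h2 := card_carrier_mul_card_centralizer (u ^ 2)
  rw [centralizer_sq h u hu S hS, card_T h S, h] at h2
  rw [ConjClasses.mk_eq_mk_iff_isConj.2 hconj, h] at h1
  have h3 : Nat.card ↑(ConjClasses.mk (u ^ 2)).carrier = 21 := by omega
  rw [h3] at h1
  omega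

/-- The centralizer of an involution is a Sylow 2-subgroup. -/
theorem exists_sylow_eq_centralizer (h : Nat.card G = 168) (s : G) (hs : orderOf s = 2) :
    ∃ S : Sylow 2 G, Subgroup.centralizer ({s} : Set G) = S := by
  have hc := card_centralizer_involution h s hs
  have hp : IsPGroup 2 ↥(Subgroup.centralizer ({s} : Set G)) :=
    IsPGroup.of_card (n := 3) (by rw [hc]; norm_num)
  obtain ⟨S, hS⟩ := hp.exists_le_sylow
  exact ⟨S, Subgroup.eq_of_le_of_card_ge hS (by rw [hc, card_T h S])⟩

theorem card_normalizer_klein (h : Nat.card G = 168) (U : Subgroup G) (hU : IsKleinFour ↥U) :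
    Nat.card ↥(Subgroup.normalizer (U : Set G)) = 24 := by
  classical
  have hUc : Nat.card U = 4 := hU.card_four
  have hfinU : Finite ↥U := Nat.finite_of_card_ne_zero (by rw [hUc]; norm_num)
  have hUsq := ((isKleinFour_subgroup_iff U).1 hU).2
  have hp : IsPGroup 2 ↥U := IsPGroup.of_card (n := 2) (by rw [hUc]; norm_num)
  obtain ⟨S, hUS⟩ := hp.exists_le_sylow
  set N : Subgroup G := Subgroup.normalizer (U : Set G) with hN
  have hSN : (S : Subgroup G) ≤ N := sylow_le_normalizer_klein h U hU S hUS
  have hd1 : 8 ∣ Nat.card N := card_T h S ▸ Subgroup.card_dvd_of_le hSN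
  have hd2 : Nat.card N ∣ 168 := h ▸ Subgroup.card_subgroup_dvd_card N
  -- not 168
  have hne168 : Nat.card N ≠ 168 := by
    intro h168
    have htop : N = ⊤ := by rw [← Subgroup.card_eq_iff_eq_top, h168, h]
    have hnorm : U.Normal := Subgroup.normalizer_eq_top_iff.1 htop
    exact normal_card_absurd U hnorm (by rw [hUc]; norm_num) (by rw [hUc, h]; norm_num)
  -- not 56
  have hne56 : Nat.card N ≠ 56 := by
    intro h56
    have hidx : N.index = 3 := by
      have := N.card_mul_index
      rw [h56, h] at this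
      omega
    have hNtop : N ≠ ⊤ := by
      intro htop
      rw [← Subgroup.card_eq_iff_eq_top, h56, h] at htop
      omega
    have := two_mul_card_dvd_factorial (not_comm h) N hNtop
    rw [hidx, h] at this
    revert this
    decide
  -- not 8
  have hne8 : Nat.card N ≠ 8 := by
    intro h8
    have hNS : N = S := (Subgroup.eq_of_le_of_card_ge hSN (by rw [h8, card_T h S])).symm
    -- every nontrivial element of `U` is central in `S`
    have hcent : ∀ s ∈ U, ∀ t ∈ (S : Subgroup G), t * s = s * t := by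
      intro s hsU t htS
      by_cases hs1 : s = 1
      · rw [hs1, mul_one, one_mul]
      have hs2 : orderOf s = 2 := orderOf_eq_prime (by rw [pow_two]; exact hUsq s hsU) hs1
      obtain ⟨S', hS'⟩ := exists_sylow_eq_centralizer h s hs2
      have hUS' : U ≤ (S' : Subgroup G) := by
        rw [← hS']
        intro x hx
        rw [Subgroup.mem_centralizer_iff]
        intro y hy
        rw [Set.mem_singleton_iff] at hy
        subst hy
        have hcomm := IsKleinFour.isMulCommutative (G := ↥U)
        have := hcomm.is_comm.comm (⟨y, hsU⟩ : ↥U) ⟨x, hx⟩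
        exact congrArg (fun z : ↥U => (z : G)) this
      have hS'N : (S' : Subgroup G) ≤ N := sylow_le_normalizer_klein h U hU S' hUS'
      rw [hNS] at hS'N
      have hSS' : (S' : Subgroup G) = S :=
        Subgroup.eq_of_le_of_card_ge hS'N (by rw [card_T h S, card_T h S'])
      have htC : t ∈ Subgroup.centralizer ({s} : Set G) := by rw [hS', hSS']; exact htS
      rw [Subgroup.mem_centralizer_iff] at htC
      exact (htC s rfl).symm
    obtain ⟨φ⟩ := sylow2_dihedral h S
    let f : ↥U → {a : DihedralGroup 4 // ∀ t, t * a = a * t} := fun x =>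
      ⟨φ ⟨x.1, hUS x.2⟩, by
        intro t
        obtain ⟨t', rfl⟩ := φ.surjective t
        rw [← map_mul, ← map_mul]
        congr 1
        exact Subtype.ext (hcent x.1 x.2 t'.1 t'.2)⟩
    have hf : Function.Injective f := by
      intro x y hxy
      have h1 : φ ⟨x.1, hUS x.2⟩ = φ ⟨y.1, hUS y.2⟩ :=
        congrArg (fun z : {a : DihedralGroup 4 // ∀ t, t * a = a * t} => z.1) hxy
      have h2 := φ.injective h1
      exact Subtype.ext (congrArg (fun z : ↥(S : Subgroup G) => (z : G)) h2)
    have hle := Nat.card_le_card_of_injective f hf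
    rw [hUc, Nat.card_eq_fintype_card, D4.card_central] at hle
    omega
  obtain ⟨k, hk⟩ := hd1
  rw [hk] at hd2 hne168 hne56 hne8 ⊢
  have hk21 : k ∣ 21 := by
    have : 8 * k ∣ 8 * 21 := by simpa using hd2
    exact Nat.dvd_of_mul_dvd_mul_left (by norm_num) this
  have hle := Nat.le_of_dvd (by norm_num) hk21
  interval_cases k <;> first | omega | (exfalso; revert hk21; decide)

theorem normalizer_klein_iso (h : Nat.card G = 168) (U : Subgroup G) (hU : IsKleinFour ↥U) :
    Nonempty (↥(Subgroup.normalizer (U : Set G)) ≃* Equiv.Perm (Fin 4)) := by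
  apply Cfsg.Agent.S1012.result (card_normalizer_klein h U hU)
  intro g hg
  have : orderOf (g : G) = 6 := by rw [Subgroup.orderOf_coe, hg]
  rcases orderOf_mem h (g : G) with h' | h' | h' | h' | h' <;> omega

/-- Two distinct Klein four-subgroups of a Sylow 2-subgroup are not conjugate. -/
theorem klein_not_conj (h : Nat.card G = 168) (T : Sylow 2 G) (U W : Subgroup G)
    (hUT : U ≤ (T : Subgroup G)) (hWT : W ≤ (T : Subgroup G)) (hU : IsKleinFour ↥U)
    (hW : IsKleinFour ↥W) (g : G) (hg : U.map (MulAut.conj g).toMonoidHom = W) : U = W := by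
  have hTU := sylow_le_normalizer_klein h U hU T hUT
  have hTW := sylow_le_normalizer_klein h W hW T hWT
  have hgT : ((g • T : Sylow 2 G) : Subgroup G) ≤ Subgroup.normalizer (W : Set G) := by
    intro x hx
    rw [mem_smul_sylow_iff] at hx
    have hxN : x ∈ (Subgroup.normalizer (U : Set G)).map (MulAut.conj g).toMonoidHom :=
      ⟨g⁻¹ * x * g, hTU hx, by simp [mul_assoc]⟩
    rw [Subgroup.map_equiv_normalizer_eq, hg] at hxN
    exact hxN
  obtain ⟨x, hxN, hle⟩ := exists_conj_sylow_ge (Subgroup.normalizer (W : Set G)) T hTW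
    ((g • T : Sylow 2 G) : Subgroup G) (g • T : Sylow 2 G).isPGroup' hgT
  have heq : (g • T : Sylow 2 G) = x • T := by
    apply Sylow.ext
    exact Subgroup.eq_of_le_of_card_ge hle (by rw [card_T h, card_T h])
  have hy : (x⁻¹ * g) • T = T := by
    rw [mul_smul, heq, inv_smul_smul]
  have hyT : x⁻¹ * g ∈ (T : Subgroup G) := by
    have hyN : x⁻¹ * g ∈ Subgroup.normalizer ((T : Subgroup G) : Set G) :=
      Sylow.smul_eq_iff_mem_normalizer.1 hy
    rwa [normalizer2 h T] at hyN
  have hyU : x⁻¹ * g ∈ Subgroup.normalizer (U : Set G) := hTU hyT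
  have hxW : x⁻¹ ∈ Subgroup.normalizer (W : Set G) := Subgroup.inv_mem _ hxN
  rw [Subgroup.mem_normalizer_iff_map_conj_eq] at hyU hxW
  have hmap : U.map (MulAut.conj (x⁻¹ * g)).toMonoidHom =
      (U.map (MulAut.conj g).toMonoidHom).map (MulAut.conj x⁻¹).toMonoidHom := by
    rw [Subgroup.map_map]
    congr 1
    ext z
    simp [mul_assoc]
  calc U = U.map (MulAut.conj (x⁻¹ * g)).toMonoidHom := hyU.symm
    _ = (U.map (MulAut.conj g).toMonoidHom).map (MulAut.conj x⁻¹).toMonoidHom := hmap
    _ = W.map (MulAut.conj x⁻¹).toMonoidHom := by rw [hg]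
    _ = W := hxW

end O168

end Cfsg.Agent.Helper17
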