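import Mathlib
import Cfsg.Agent.Lib.Helper17.Simple
import Cfsg.Agent.Lib.Helper17.PrimeSylow

set_option autoImplicit false

namespace Cfsg.Agent.Helper17

/-- If a subgroup `M` of order divisible by `p` has a unique Sylow `p`-subgroup, and the Sylow
`p`-subgroups of `G` have order `p`, then `M` normalizes a Sylow `p`-subgroup of `G` that it
contains. -/
theorem exists_sylow_le_and_le_normalizer {G : Type*} [Group G] [Finite G] {p : ℕ}
    [hp : Fact p.Prime] (hP : ∀ P : Sylow p G, Nat.card ↥(P : Subgroup G) = p) (M : Subgroup G)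
    (hpM : p ∣ Nat.card M) (h1 : Nat.card (Sylow p ↥M) = 1) :
    ∃ P : Sylow p G, (P : Subgroup G) ≤ M ∧
      M ≤ Subgroup.normalizer ((P : Subgroup G) : Set G) := by
  obtain ⟨Q⟩ : Nonempty (Sylow p ↥M) := inferInstance
  have : Subsingleton (Sylow p ↥M) := (Nat.card_eq_one_iff_unique.1 h1).1
  have hQn : (Q : Subgroup ↥M).Normal := Q.normal_of_subsingleton
  set H : Subgroup G := (Q : Subgroup ↥M).map M.subtype with hH
  have hHM : H ≤ M := Subgroup.map_subtype_le _
  have hHp : IsPGroup p H := Q.isPGroup'.map _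
  obtain ⟨P, hHP⟩ := hHp.exists_le_sylow
  have hQne : (Q : Subgroup ↥M) ≠ ⊥ := Q.ne_bot_of_dvd_card hpM
  have hcH : Nat.card H = Nat.card (Q : Subgroup ↥M) :=
    (Nat.card_congr (Subgroup.equivMapOfInjective _ _ M.subtype_injective).toEquiv).symm
  have hH1 : Nat.card H ≠ 1 := by
    rw [hcH]
    intro h
    exact hQne (Subgroup.card_eq_one.1 h)
  have hHd : Nat.card H ∣ p := hP P ▸ Subgroup.card_dvd_of_le hHP
  have hHp' : Nat.card H = p := by
    rcases (Nat.dvd_prime hp.out).1 hHd with h | h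
    · exact absurd h hH1
    · exact h
  have hHeq : H = (P : Subgroup G) := Subgroup.eq_of_le_of_card_ge hHP (by rw [hHp', hP P])
  refine ⟨P, hHeq ▸ hHM, ?_⟩
  rw [← hHeq, ← Subgroup.normal_subgroupOf_iff_le_normalizer hHM]
  have : H.subgroupOf M = (Q : Subgroup ↥M) :=
    Subgroup.comap_map_eq_self_of_injective M.subtype_injective _
  rw [this]
  exact hQn

/-- A group of order `12` without a normal Sylow `3`-subgroup has a normal subgroup of order
`4`. -/
theorem exists_normal_card_four_of_card_twelve {K : Type*} [Group K] [Finite K]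
    (hK : Nat.card K = 12) (hn3 : Nat.card (Sylow 3 K) ≠ 1) :
    ∃ Q : Subgroup K, Q.Normal ∧ Nat.card Q = 4 := by
  have : Fact (Nat.Prime 3) := ⟨by norm_num⟩
  have : Fact (Nat.Prime 2) := ⟨by norm_num⟩
  have hf3 : Nat.card K = 3 ^ 1 * 4 := by rw [hK]; norm_num
  have hf2 : Nat.card K = 2 ^ 2 * 3 := by rw [hK]; norm_num
  obtain ⟨hd, hm⟩ := sylow_count (G := K) hf3 (by norm_num)
  have hn : Nat.card (Sylow 3 K) = 4 := by
    have hle := Nat.le_of_dvd (by norm_num) hd
    generalize Nat.card (Sylow 3 K) = n at *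
    interval_cases n <;> omega
  have hc3 : ∀ P : Sylow 3 K, Nat.card ↥(P : Subgroup K) = 3 := by
    intro P; simpa using sylow_card_eq P hf3 (by norm_num)
  have hcount : Nat.card {k : K // orderOf k = 3} = 8 := by
    rw [card_orderOf_eq_prime hc3, hn]
  have hc2 : ∀ Q : Sylow 2 K, Nat.card ↥(Q : Subgroup K) = 4 := by
    intro Q; simpa using sylow_card_eq Q hf2 (by norm_num)
  set A : Set K := {k : K | orderOf k = 3}ᶜ with hA
  have hAcard : A.ncard = 4 := by
    rw [hA, Set.ncard_compl, hK]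
    have : ({k : K | orderOf k = 3} : Set K).ncard = 8 := by
      rw [← Nat.card_coe_set_eq]; exact hcount
    rw [this]
  have hQA : ∀ Q : Sylow 2 K, ((Q : Subgroup K) : Set K) = A := by
    intro Q
    apply Set.eq_of_subset_of_ncard_le
    · intro k hk
      rw [hA, Set.mem_compl_iff, Set.mem_ofPred_eq]
      intro h3
      have hd4 : orderOf k ∣ 4 := by
        rw [← hc2 Q]; exact Subgroup.orderOf_dvd_natCard _ hk
      rw [h3] at hd4
      exact absurd hd4 (by decide)
    · rw [hAcard, ← Nat.card_coe_set_eq]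
      exact (hc2 Q).ge
    · exact Set.toFinite A
  have hsub : Subsingleton (Sylow 2 K) := by
    constructor
    intro Q Q'
    apply Sylow.ext
    apply SetLike.coe_injective
    rw [hQA Q, hQA Q']
  obtain ⟨Q⟩ : Nonempty (Sylow 2 K) := inferInstance
  exact ⟨Q, Q.normal_of_subsingleton, hc2 Q⟩

end Cfsg.Agent.Helper17
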