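import Mathlib
import Cfsg.Agent.Lib.Helper17.Order168E
import Cfsg.Agent.Lib.Helper17.SylowSubgroup

set_option autoImplicit false

namespace Cfsg.Agent.Helper17

namespace S4

open Equiv

/-- In the symmetric group of degree four, an element of order three is inverted by an
involution. -/
theorem exists_inverting : ∀ y : Perm (Fin 4), y ^ 3 = 1 → y ≠ 1 →
    ∃ t : Perm (Fin 4), t * t = 1 ∧ t ≠ 1 ∧ t * y * t⁻¹ = y⁻¹ := by
  decide

end S4

namespace O168

variable {G : Type*} [Group G] [Finite G] [IsSimpleGroup G]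

omit [Finite G] [IsSimpleGroup G] in
theorem not_isCoatom_of_lt_of_ne_top {M X : Subgroup G} (h1 : M < X) (h2 : X ≠ ⊤) :
    ¬ IsCoatom M := fun hM => h2 (hM.2 X h1)

omit [IsSimpleGroup G] in
theorem lt_of_le_of_card_lt {M X : Subgroup G} (hle : M ≤ X) (hc : Nat.card M < Nat.card X) :
    M < X :=
  lt_of_le_of_ne hle (fun h => by rw [h] at hc; exact lt_irrefl _ hc)

omit [IsSimpleGroup G] in
theorem ne_top_of_card_lt (h : Nat.card G = 168) {X : Subgroup G} (hc : Nat.card X < 168) :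
    X ≠ ⊤ := by
  rintro rfl
  rw [Subgroup.card_top, h] at hc
  exact lt_irrefl _ hc

theorem iso_S4_of_card24 (h : Nat.card G = 168) (X : Subgroup G) (hX : Nat.card X = 24) :
    Nonempty (↥X ≃* Equiv.Perm (Fin 4)) := by
  apply Cfsg.Agent.S1012.result hX
  intro g hg
  have : orderOf (g : G) = 6 := by rw [Subgroup.orderOf_coe, hg]
  rcases orderOf_mem h (g : G) with h' | h' | h' | h' | h' <;> omega

theorem le_normalizer7_of_card (h : Nat.card G = 168) (M : Subgroup G) (m : ℕ)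
    (hM : Nat.card M = 7 * m) (hm : m < 8) (hm0 : ¬ 7 ∣ m) :
    ∃ P : Sylow 7 G, (P : Subgroup G) ≤ M ∧
      M ≤ Subgroup.normalizer ((P : Subgroup G) : Set G) := by
  have hf : Nat.card ↥M = 7 ^ 1 * m := by rw [hM]; norm_num
  obtain ⟨hd, hmod⟩ := sylow_count (G := ↥M) hf hm0
  have hmpos : 0 < m := by
    rcases Nat.eq_zero_or_pos m with h0 | h0
    · rw [h0] at hM; have := Nat.card_pos (α := ↥M); omega
    · exact h0
  have hle := Nat.le_of_dvd hmpos hd
  have h1 : Nat.card (Sylow 7 ↥M) = 1 := by omega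
  exact exists_sylow_le_and_le_normalizer (card_P7 h) M (by rw [hM]; exact dvd_mul_right _ _) h1

theorem le_normalizer3_of_card (h : Nat.card G = 168) (M : Subgroup G) (m : ℕ)
    (hM : Nat.card M = 3 * m) (hm : m < 4) (hm0 : ¬ 3 ∣ m) :
    ∃ P : Sylow 3 G, (P : Subgroup G) ≤ M ∧
      M ≤ Subgroup.normalizer ((P : Subgroup G) : Set G) := by
  have hf : Nat.card ↥M = 3 ^ 1 * m := by rw [hM]; norm_num
  obtain ⟨hd, hmod⟩ := sylow_count (G := ↥M) hf hm0
  have hmpos : 0 < m := by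
    rcases Nat.eq_zero_or_pos m with h0 | h0
    · rw [h0] at hM; have := Nat.card_pos (α := ↥M); omega
    · exact h0
  have hle := Nat.le_of_dvd hmpos hd
  have h1 : Nat.card (Sylow 3 ↥M) = 1 := by omega
  exact exists_sylow_le_and_le_normalizer (card_P3 h) M (by rw [hM]; exact dvd_mul_right _ _) h1

theorem exists_klein_in_sylow (h : Nat.card G = 168) (S : Sylow 2 G) :
    ∃ U : Subgroup G, U ≤ (S : Subgroup G) ∧ IsKleinFour ↥U := by
  have hpos : 0 < Nat.card {U : Subgroup G // U ≤ (S : Subgroup G) ∧ IsKleinFour ↥U} := by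
    rw [card_klein_in_sylow h S]; norm_num
  obtain ⟨⟨U, hU⟩⟩ := (Nat.card_pos_iff.1 hpos).1
  exact ⟨U, hU⟩

/-- Conjugating a subgroup preserves its order. -/
theorem card_map_conj (X : Subgroup G) (c : G) :
    Nat.card ↥(X.map (MulAut.conj c).toMonoidHom) = Nat.card X :=
  (Nat.card_congr ((MulAut.conj c).subgroupMap X).toEquiv).symm

/-- The normalizer of a Sylow 3-subgroup lies in a subgroup of order 24. -/
theorem exists_card24_ge_normalizer3 (h : Nat.card G = 168) (P : Sylow 3 G) :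
    ∃ X : Subgroup G, Nat.card X = 24 ∧
      Subgroup.normalizer ((P : Subgroup G) : Set G) ≤ X := by
  obtain ⟨T⟩ : Nonempty (Sylow 2 G) := inferInstance
  obtain ⟨U₀, -, hU₀⟩ := exists_klein_in_sylow h T
  set X₀ : Subgroup G := Subgroup.normalizer (U₀ : Set G) with hX₀
  have hX₀c : Nat.card X₀ = 24 := card_normalizer_klein h U₀ hU₀
  obtain ⟨x₀, hx₀⟩ := exists_prime_orderOf_dvd_card' (G := ↥X₀) 3 (by rw [hX₀c]; norm_num)
  have hx₀' : orderOf (x₀ : G) = 3 := by rw [Subgroup.orderOf_coe, hx₀]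
  obtain ⟨P₀, hP₀⟩ := exists_sylow_mem_of_orderOf (x₀ : G) hx₀'
  have hx₀1 : (x₀ : G) ≠ 1 := by
    intro h1
    rw [h1, orderOf_one] at hx₀'; omega
  have hP₀X : (P₀ : Subgroup G) ≤ X₀ := by
    rw [← (zpowers_eq_of_card_prime (P₀ : Subgroup G) (card_P3 h P₀) (x₀ : G) hP₀ hx₀1).1,
      Subgroup.zpowers_le]
    exact x₀.2
  obtain ⟨c, hc⟩ := MulAction.exists_smul_eq G P₀ P
  set X : Subgroup G := X₀.map (MulAut.conj c).toMonoidHom with hX
  have hXc : Nat.card X = 24 := by rw [hX, card_map_conj, hX₀c]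
  have hPX : (P : Subgroup G) ≤ X := by
    intro y hy
    rw [← hc, mem_smul_sylow_iff] at hy
    exact ⟨c⁻¹ * y * c, hP₀X hy, by simp [mul_assoc]⟩
  refine ⟨X, hXc, ?_⟩
  obtain ⟨ψ⟩ := iso_S4_of_card24 h X hXc
  -- a generator of `P`
  obtain ⟨x, hx⟩ := exists_prime_orderOf_dvd_card' (G := ↥(P : Subgroup G)) 3
    (by rw [card_P3 h P])
  have hx' : orderOf (x : G) = 3 := by rw [Subgroup.orderOf_coe, hx]
  have hx1 : (x : G) ≠ 1 := by
    intro h1
    rw [h1, orderOf_one] at hx'; omega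
  have hxX : (x : G) ∈ X := hPX x.2
  have hy3 : (ψ ⟨x, hxX⟩) ^ 3 = 1 := by
    rw [← map_pow]
    have : (⟨(x : G), hxX⟩ : ↥X) ^ 3 = 1 := by
      apply Subtype.ext
      simp only [Subgroup.coe_pow, Subgroup.coe_one]
      have := pow_orderOf_eq_one (x : G)
      rwa [hx'] at this
    rw [this, map_one]
  have hy1 : ψ ⟨x, hxX⟩ ≠ 1 := by
    intro h1
    have := (EmbeddingLike.map_eq_one_iff).1 h1
    exact hx1 (congrArg (fun z : ↥X => (z : G)) this)
  obtain ⟨t, ht2, ht1, htx⟩ := S4.exists_inverting (ψ ⟨x, hxX⟩) hy3 hy1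
  obtain ⟨t', rfl⟩ := ψ.surjective t
  have ht'2 : (t' : G) * t' = 1 := by
    rw [← map_mul] at ht2
    have := (EmbeddingLike.map_eq_one_iff).1 ht2
    exact congrArg (fun z : ↥X => (z : G)) this
  have ht'1 : (t' : G) ≠ 1 := by
    intro h1
    apply ht1
    have : t' = 1 := Subtype.ext h1
    rw [this, map_one]
  have ht'x : (t' : G) * x * (t' : G)⁻¹ = (x : G)⁻¹ := by
    rw [← map_inv, ← map_inv, ← map_mul, ← map_mul] at htx
    have := ψ.injective htx
    exact congrArg (fun z : ↥X => (z : G)) this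
  have hto : orderOf (t' : G) = 2 := orderOf_eq_prime (by rw [pow_two]; exact ht'2) ht'1
  -- `t'` normalizes `P`
  have hxinv : (x : G)⁻¹ ∈ (((t' : G) • P : Sylow 3 G) : Subgroup G) := by
    rw [mem_smul_sylow_iff, ← ht'x]
    have : (t' : G)⁻¹ * ((t' : G) * x * (t' : G)⁻¹) * (t' : G) = x := by group
    rw [this]; exact x.2
  have hxinv' : (x : G)⁻¹ ∈ (P : Subgroup G) := Subgroup.inv_mem _ x.2
  have hxinv1 : (x : G)⁻¹ ≠ 1 := by simpa using hx1
  have hPQ : (t' : G) • P = P := by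
    apply Sylow.ext
    have e1 := (zpowers_eq_of_card_prime ((((t' : G) • P : Sylow 3 G)) : Subgroup G)
      (card_P3 h _) (x : G)⁻¹ hxinv hxinv1).1
    have e2 := (zpowers_eq_of_card_prime (P : Subgroup G) (card_P3 h _) (x : G)⁻¹ hxinv'
      hxinv1).1
    rw [← e1, e2]
  have htN : (t' : G) ∈ Subgroup.normalizer ((P : Subgroup G) : Set G) :=
    Sylow.smul_eq_iff_mem_normalizer.1 hPQ
  set N : Subgroup G := Subgroup.normalizer ((P : Subgroup G) : Set G) with hN
  set K : Subgroup G := X ⊓ N with hK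
  have hPK : (P : Subgroup G) ≤ K := le_inf hPX Subgroup.le_normalizer
  have htK : (t' : G) ∈ K := ⟨t'.2, htN⟩
  have h3 : 3 ∣ Nat.card K := card_P3 h P ▸ Subgroup.card_dvd_of_le hPK
  have h2 : 2 ∣ Nat.card K := hto ▸ Subgroup.orderOf_dvd_natCard K htK
  have h6 : 6 ∣ Nat.card K := Nat.Coprime.mul_dvd_of_dvd_of_dvd (by norm_num) h2 h3
  have hKN : K ≤ N := inf_le_right
  have hcN : Nat.card N = 6 := card_normalizer3 h P
  have hKeq : K = N := by
    apply Subgroup.eq_of_le_of_card_ge hKN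
    rw [hcN]
    exact Nat.le_of_dvd Nat.card_pos h6
  rw [← hKeq]
  exact inf_le_left

end O168

end Cfsg.Agent.Helper17
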