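import Mathlib
import Cfsg.Agent.Lib.Helper17.Order168F

set_option autoImplicit false

namespace Cfsg.Agent.Helper17

namespace S4

open Equiv

def FV : Finset (Perm (Fin 4)) :=
  {1, swap 0 1 * swap 2 3, swap 0 2 * swap 1 3, swap 0 3 * swap 1 2}

def V₄ : Subgroup (Perm (Fin 4)) where
  carrier := {x | x ∈ FV}
  mul_mem' := by
    intro a b ha hb
    revert a b
    decide
  one_mem' := by decide
  inv_mem' := by
    intro a ha
    revert a
    decide

theorem mem_V₄ (x : Perm (Fin 4)) : x ∈ V₄ ↔ x ∈ FV := Iff.rfl

theorem V₄_normal : V₄.Normal := by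
  constructor
  intro n hn g
  revert n g
  show ∀ n ∈ FV, ∀ g : Perm (Fin 4), g * n * g⁻¹ ∈ FV
  decide

theorem isKleinFour_V₄ : IsKleinFour ↥V₄ := by
  classical
  rw [isKleinFour_subgroup_iff]
  refine ⟨?_, ?_⟩
  · rw [Nat.card_eq_fintype_card, Fintype.card_of_subtype FV (fun x => (mem_V₄ x).symm)]
    decide
  · intro x hx
    rw [mem_V₄] at hx
    revert x
    decide

end S4

namespace O168

variable {G : Type*} [Group G] [Finite G] [IsSimpleGroup G]

/-- A subgroup of order 12 lies in the normalizer of a Klein four-subgroup. -/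
theorem exists_klein_normalizer_ge_of_card12 (h : Nat.card G = 168) (M : Subgroup G)
    (hM : Nat.card M = 12) :
    ∃ U : Subgroup G, IsKleinFour ↥U ∧ M ≤ Subgroup.normalizer (U : Set G) := by
  have hn3 : Nat.card (Sylow 3 ↥M) ≠ 1 := by
    intro h1
    obtain ⟨P, -, hMN⟩ := exists_sylow_le_and_le_normalizer (card_P3 h) M
      (by rw [hM]; norm_num) h1
    have := Subgroup.card_le_of_le hMN
    rw [hM, card_normalizer3 h P] at this
    omega
  obtain ⟨Q, hQn, hQc⟩ := exists_normal_card_four_of_card_twelve (K := ↥M) hM hn3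
  set H : Subgroup G := Q.map M.subtype with hH
  have hHM : H ≤ M := Subgroup.map_subtype_le _
  have hcH : Nat.card H = 4 := by
    rw [← hQc]
    exact (Nat.card_congr (Subgroup.equivMapOfInjective _ _ M.subtype_injective).toEquiv).symm
  have hMN : M ≤ Subgroup.normalizer (H : Set G) := by
    rw [← Subgroup.normal_subgroupOf_iff_le_normalizer hHM]
    have : H.subgroupOf M = Q := Subgroup.comap_map_eq_self_of_injective M.subtype_injective _
    rw [this]
    exact hQn
  by_cases hsq : ∀ x ∈ H, x * x = 1
  · exact ⟨H, (isKleinFour_subgroup_iff H).2 ⟨hcH, hsq⟩, hMN⟩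
  · exfalso
    push Not at hsq
    obtain ⟨u, huH, hu2⟩ := hsq
    have hud : orderOf u ∣ 4 := hcH ▸ Subgroup.orderOf_dvd_natCard H huH
    have hu4 : orderOf u = 4 := by
      have hle := Nat.le_of_dvd (by norm_num) hud
      have hpos := orderOf_pos u
      have hn2 : ¬ orderOf u ∣ 2 := by
        intro hd2
        apply hu2
        rw [← pow_two]
        exact orderOf_dvd_iff_pow_eq_one.1 hd2
      generalize orderOf u = n at *
      interval_cases n <;> first | omega | (exfalso; revert hud; decide) |
        (exfalso; revert hn2; decide)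
    have hHz : Subgroup.zpowers u = H := by
      apply Subgroup.eq_of_le_of_card_ge (Subgroup.zpowers_le.2 huH)
      rw [hcH, Nat.card_zpowers, hu4]
    have hu1 : u ≠ 1 := by
      rintro rfl
      rw [orderOf_one] at hu4; omega
    obtain ⟨x, hx⟩ := exists_prime_orderOf_dvd_card' (G := ↥M) 3 (by rw [hM]; norm_num)
    have hx' : orderOf (x : G) = 3 := by rw [Subgroup.orderOf_coe, hx]
    have hxN : (x : G) ∈ Subgroup.normalizer (H : Set G) := hMN x.2
    have hconjH : (x : G) * u * (x : G)⁻¹ ∈ H := (Subgroup.mem_normalizer_iff.1 hxN u).1 huH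
    have hco : orderOf ((x : G) * u * (x : G)⁻¹) = 4 := by
      have : (x : G) * u * (x : G)⁻¹ = (MulAut.conj (x : G)).toMonoidHom u := by simp
      rw [this, orderOf_injective _ (MulAut.conj (x : G)).injective, hu4]
    have ho2 : orderOf (u ^ 2) = 2 := by
      rw [orderOf_pow' u (by norm_num), hu4]; norm_num
    rw [← hHz] at hconjH
    rcases mem_zpowers_of_orderOf_four u _ hu4 hconjH with h1 | h1 | h1 | h1
    · rw [h1, orderOf_one] at hco; omega
    · -- commutes
      have hc : Commute (x : G) u := by
        have : (x : G) * u = u * x := by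
          calc (x : G) * u = (x : G) * u * (x : G)⁻¹ * x := by group
            _ = u * x := by rw [h1]
        exact this
      exact not_commute_prime h (x : G) u hu1 (by rw [hu4]; norm_num) (Or.inl hx') hc
    · rw [h1, ho2] at hco; omega
    · -- `x * x` commutes with `u`
      have h2 : ((x : G) * x) * u * ((x : G) * x)⁻¹ = u := by
        calc ((x : G) * x) * u * ((x : G) * x)⁻¹
            = (x : G) * ((x : G) * u * (x : G)⁻¹) * (x : G)⁻¹ := by
              simp only [mul_inv_rev, mul_assoc]
          _ = (x : G) * u ^ 3 * (x : G)⁻¹ := by rw [h1]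
          _ = ((x : G) * u * (x : G)⁻¹) ^ 3 := by rw [conj_pow]
          _ = (u ^ 3) ^ 3 := by rw [h1]
          _ = (u ^ 4) ^ 2 * u := by rw [← pow_mul, ← pow_mul, ← pow_succ]
          _ = u := by
            have : u ^ 4 = 1 := by rw [← hu4]; exact pow_orderOf_eq_one u
            rw [this, one_pow, one_mul]
      have hc : Commute ((x : G) * x) u := by
        have : ((x : G) * x) * u = u * ((x : G) * x) := by
          calc ((x : G) * x) * u = ((x : G) * x) * u * ((x : G) * x)⁻¹ * ((x : G) * x) := by
                rw [inv_mul_cancel_right]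
            _ = u * ((x : G) * x) := by rw [h2]
        exact this
      have hx2 : orderOf ((x : G) * x) = 3 := by
        rw [← pow_two, orderOf_pow' (x : G) (by norm_num), hx']; norm_num
      exact not_commute_prime h ((x : G) * x) u hu1 (by rw [hu4]; norm_num) (Or.inl hx2) hc

theorem divisors_168 : Nat.divisors 168 =
    {1, 2, 3, 4, 6, 7, 8, 12, 14, 21, 24, 28, 42, 56, 84, 168} := by
  decide +kernel

/-- A maximal subgroup has order `21` or `24`. -/
theorem card_coatom (h : Nat.card G = 168) (M : Subgroup G) (hM : IsCoatom M) :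
    Nat.card M = 21 ∨ Nat.card M = 24 := by
  have hd : Nat.card M ∣ 168 := h ▸ Subgroup.card_subgroup_dvd_card M
  have hmem : Nat.card M ∈ Nat.divisors 168 := Nat.mem_divisors.2 ⟨hd, by norm_num⟩
  rw [divisors_168] at hmem
  simp only [Finset.mem_insert, Finset.mem_singleton] at hmem
  -- 2-groups
  have h2grp : ∀ k : ℕ, k ≤ 3 → Nat.card M = 2 ^ k → False := by
    intro k hk hc
    have hp : IsPGroup 2 ↥M := IsPGroup.of_card hc
    obtain ⟨S, hMS⟩ := hp.exists_le_sylow
    obtain ⟨U, hUS, hU⟩ := exists_klein_in_sylow h S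
    have hSN := sylow_le_normalizer_klein h U hU S hUS
    have hcN := card_normalizer_klein h U hU
    have hlt : M < Subgroup.normalizer (U : Set G) := by
      apply lt_of_le_of_card_lt (hMS.trans hSN)
      rw [hcN, hc]
      have : 2 ^ k ≤ 2 ^ 3 := Nat.pow_le_pow_right (by norm_num) hk
      omega
    exact not_isCoatom_of_lt_of_ne_top hlt (ne_top_of_card_lt h (by rw [hcN]; norm_num)) hM
  have h7 : ∀ m : ℕ, m < 8 → ¬ 7 ∣ m → ¬ 7 * m ∣ 21 → Nat.card M = 7 * m → False := by
    intro m hm hm0 hnd hc
    obtain ⟨P, -, hMN⟩ := le_normalizer7_of_card h M m hc hm hm0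
    have := Subgroup.card_dvd_of_le hMN
    rw [hc, card_normalizer7 h P] at this
    exact hnd this
  have hidx : ∀ k : ℕ, k ≤ 3 → M.index = k → False := by
    intro k hk hi
    have := two_mul_card_dvd_factorial (not_comm h) M hM.1
    rw [hi, h] at this
    interval_cases k <;> revert this <;> decide
  rcases hmem with hc | hc | hc | hc | hc | hc | hc | hc | hc | hc | hc | hc | hc | hc | hc | hc
  · exact (h2grp 0 (by norm_num) (by rw [hc]; norm_num)).elim
  · exact (h2grp 1 (by norm_num) (by rw [hc]; norm_num)).elim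
  · -- order 3
    exfalso
    have hp : IsPGroup 3 ↥M := IsPGroup.of_card (n := 1) (by rw [hc]; norm_num)
    obtain ⟨P, hMP⟩ := hp.exists_le_sylow
    have hlt : M < Subgroup.normalizer ((P : Subgroup G) : Set G) := by
      apply lt_of_le_of_card_lt (hMP.trans Subgroup.le_normalizer)
      rw [card_normalizer3 h P, hc]; norm_num
    exact not_isCoatom_of_lt_of_ne_top hlt
      (ne_top_of_card_lt h (by rw [card_normalizer3 h P]; norm_num)) hM
  · exact (h2grp 2 (by norm_num) (by rw [hc]; norm_num)).elim
  · -- order 6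
    exfalso
    obtain ⟨P, -, hMN⟩ := le_normalizer3_of_card h M 2 (by rw [hc]) (by norm_num) (by norm_num)
    obtain ⟨X, hXc, hNX⟩ := exists_card24_ge_normalizer3 h P
    have hlt : M < X := by
      apply lt_of_le_of_card_lt (hMN.trans hNX)
      rw [hXc, hc]; norm_num
    exact not_isCoatom_of_lt_of_ne_top hlt (ne_top_of_card_lt h (by rw [hXc]; norm_num)) hM
  · -- order 7
    exfalso
    have hp : IsPGroup 7 ↥M := IsPGroup.of_card (n := 1) (by rw [hc]; norm_num)
    obtain ⟨P, hMP⟩ := hp.exists_le_sylow
    have hlt : M < Subgroup.normalizer ((P : Subgroup G) : Set G) := by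
      apply lt_of_le_of_card_lt (hMP.trans Subgroup.le_normalizer)
      rw [card_normalizer7 h P, hc]; norm_num
    exact not_isCoatom_of_lt_of_ne_top hlt
      (ne_top_of_card_lt h (by rw [card_normalizer7 h P]; norm_num)) hM
  · exact (h2grp 3 (by norm_num) (by rw [hc]; norm_num)).elim
  · -- order 12
    exfalso
    obtain ⟨U, hU, hMN⟩ := exists_klein_normalizer_ge_of_card12 h M hc
    have hcN := card_normalizer_klein h U hU
    have hlt : M < Subgroup.normalizer (U : Set G) := by
      apply lt_of_le_of_card_lt hMN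
      rw [hcN, hc]; norm_num
    exact not_isCoatom_of_lt_of_ne_top hlt (ne_top_of_card_lt h (by rw [hcN]; norm_num)) hM
  · exact (h7 2 (by norm_num) (by norm_num) (by norm_num) (by rw [hc])).elim
  · exact Or.inl hc
  · exact Or.inr hc
  · exact (h7 4 (by norm_num) (by norm_num) (by norm_num) (by rw [hc])).elim
  · exact (h7 6 (by norm_num) (by norm_num) (by norm_num) (by rw [hc])).elim
  · exfalso
    apply hidx 3 (by norm_num)
    have := M.card_mul_index
    rw [hc, h] at this
    omega
  · exfalso
    apply hidx 2 (by norm_num)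
    have := M.card_mul_index
    rw [hc, h] at this
    omega
  · exfalso
    apply hM.1
    rw [← Subgroup.card_eq_iff_eq_top, hc, h]

end O168

end Cfsg.Agent.Helper17
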