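import Mathlib
import Cfsg.Agent.Lib.Helper17.Order168G

set_option autoImplicit false

namespace Cfsg.Agent.Helper17

namespace O168

variable {G : Type*} [Group G] [Finite G] [IsSimpleGroup G]

theorem isCoatom_of_card24 (h : Nat.card G = 168) (X : Subgroup G) (hX : Nat.card X = 24) :
    IsCoatom X := by
  refine ⟨ne_top_of_card_lt h (by rw [hX]; norm_num), ?_⟩
  intro Y hXY
  have hd1 : 24 ∣ Nat.card Y := hX ▸ Subgroup.card_dvd_of_le hXY.le
  have hd2 : Nat.card Y ∣ 168 := h ▸ Subgroup.card_subgroup_dvd_card Y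
  have hne : Nat.card Y ≠ 24 := by
    intro h24
    have := Subgroup.eq_of_le_of_card_ge hXY.le (by rw [h24, hX])
    exact hXY.ne this
  rw [← Subgroup.card_eq_iff_eq_top, h]
  obtain ⟨k, hk⟩ := hd1
  rw [hk] at hd2 hne ⊢
  have hk7 : k ∣ 7 := by
    have : 24 * k ∣ 24 * 7 := by simpa using hd2
    exact Nat.dvd_of_mul_dvd_mul_left (by norm_num) this
  rcases (Nat.dvd_prime (by norm_num)).1 hk7 with rfl | rfl
  · omega
  · rfl

theorem not_comm_of_card21 (h : Nat.card G = 168) (M : Subgroup G) (hM : Nat.card M = 21) :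
    ¬ IsMulCommutative ↥M := by
  intro hcomm
  obtain ⟨x, hx⟩ := exists_prime_orderOf_dvd_card' (G := ↥M) 7 (by rw [hM]; norm_num)
  obtain ⟨y, hy⟩ := exists_prime_orderOf_dvd_card' (G := ↥M) 3 (by rw [hM]; norm_num)
  have hx' : orderOf (x : G) = 7 := by rw [Subgroup.orderOf_coe, hx]
  have hy' : orderOf (y : G) = 3 := by rw [Subgroup.orderOf_coe, hy]
  have hc : (x : G) * y = y * x := congrArg (fun z : ↥M => (z : G)) (hcomm.is_comm.comm x y)
  have hmem : (y : G) ∈ Subgroup.centralizer ({(x : G)} : Set G) := by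
    rw [Subgroup.mem_centralizer_iff]
    intro z hz
    rw [Set.mem_singleton_iff] at hz
    subst hz
    exact hc
  rw [centralizer7 h _ hx'] at hmem
  have := orderOf_dvd_of_mem_zpowers hmem
  rw [hx', hy'] at this
  exact absurd this (by decide)

omit [Finite G] [IsSimpleGroup G] in
theorem sylow_smul_eq_map {p : ℕ} (g : G) (P : Sylow p G) :
    ((g • P : Sylow p G) : Subgroup G) = (P : Subgroup G).map (MulAut.conj g).toMonoidHom := by
  ext y
  rw [mem_smul_sylow_iff]
  constructor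
  · intro hy
    exact ⟨g⁻¹ * y * g, hy, by simp [mul_assoc]⟩
  · rintro ⟨z, hz, rfl⟩
    have : g⁻¹ * ((MulAut.conj g).toMonoidHom z) * g = z := by simp [mul_assoc]
    rw [this]; exact hz

omit [Finite G] [IsSimpleGroup G] in
theorem normalizer_map_conj (U : Subgroup G) (g : G) :
    Subgroup.normalizer ((U.map (MulAut.conj g).toMonoidHom : Subgroup G) : Set G) =
      (Subgroup.normalizer (U : Set G)).map (MulAut.conj g).toMonoidHom :=
  (Subgroup.map_equiv_normalizer_eq U (MulAut.conj g)).symm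

theorem eq_normalizer7_of_card21 (h : Nat.card G = 168) (M : Subgroup G)
    (hM : Nat.card M = 21) :
    ∃ P : Sylow 7 G, M = Subgroup.normalizer ((P : Subgroup G) : Set G) := by
  obtain ⟨P, -, hMN⟩ := le_normalizer7_of_card h M 3 (by rw [hM]) (by norm_num) (by norm_num)
  exact ⟨P, Subgroup.eq_of_le_of_card_ge hMN (by rw [hM, card_normalizer7 h P])⟩

theorem conj_of_card21 (h : Nat.card G = 168) (M M' : Subgroup G) (hM : Nat.card M = 21)
    (hM' : Nat.card M' = 21) : ∃ g : G, M' = M.map (MulAut.conj g).toMonoidHom := by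
  obtain ⟨P, rfl⟩ := eq_normalizer7_of_card21 h M hM
  obtain ⟨P', rfl⟩ := eq_normalizer7_of_card21 h M' hM'
  obtain ⟨g, hg⟩ := MulAction.exists_smul_eq G P P'
  refine ⟨g, ?_⟩
  rw [← normalizer_map_conj, ← sylow_smul_eq_map, hg]

/-- A Klein four-subgroup is determined by its normalizer. -/
theorem klein_eq_of_normalizer_eq (h : Nat.card G = 168) (U V : Subgroup G)
    (hU : IsKleinFour ↥U) (hV : IsKleinFour ↥V)
    (hN : Subgroup.normalizer (U : Set G) = Subgroup.normalizer (V : Set G)) : U = V := by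
  by_contra hne
  set X : Subgroup G := Subgroup.normalizer (U : Set G) with hX
  have hXc : Nat.card X = 24 := card_normalizer_klein h U hU
  have hUc : Nat.card U = 4 := hU.card_four
  have hVc : Nat.card V = 4 := hV.card_four
  have hpU : IsPGroup 2 ↥U := IsPGroup.of_card (n := 2) (by rw [hUc]; norm_num)
  have hpV : IsPGroup 2 ↥V := IsPGroup.of_card (n := 2) (by rw [hVc]; norm_num)
  obtain ⟨S, hUS⟩ := hpU.exists_le_sylow
  obtain ⟨S', hVS'⟩ := hpV.exists_le_sylow
  have hSX : (S : Subgroup G) ≤ X := sylow_le_normalizer_klein h U hU S hUS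
  have hS'X : (S' : Subgroup G) ≤ X := by
    rw [hN]; exact sylow_le_normalizer_klein h V hV S' hVS'
  obtain ⟨x, hxX, hle⟩ := exists_conj_sylow_ge X S hSX (S' : Subgroup G) S'.isPGroup' hS'X
  have hS'eq : (S' : Subgroup G) = ((x • S : Sylow 2 G) : Subgroup G) :=
    Subgroup.eq_of_le_of_card_ge hle (by rw [card_T h, card_T h])
  have hUS' : U ≤ (S' : Subgroup G) := by
    intro y hy
    rw [hS'eq, mem_smul_sylow_iff]
    apply hUS
    have hxinv : x⁻¹ ∈ Subgroup.normalizer (U : Set G) := Subgroup.inv_mem _ hxX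
    have := (Subgroup.mem_normalizer_iff.1 hxinv y).1 hy
    simpa using this
  -- `U ⊓ V` is nontrivial
  have hinf : U ⊓ V ≠ ⊥ := by
    intro hbot
    let f : ↥U × ↥V → ↥(S' : Subgroup G) := fun p =>
      ⟨(p.1 : G) * (p.2 : G), Subgroup.mul_mem _ (hUS' p.1.2) (hVS' p.2.2)⟩
    have hf : Function.Injective f := by
      rintro ⟨u, v⟩ ⟨u', v'⟩ hp
      have hp' : (u : G) * v = u' * v' := congrArg (fun z : ↥(S' : Subgroup G) => (z : G)) hp
      have hmem : (u' : G)⁻¹ * u ∈ U ⊓ V := by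
        refine ⟨U.mul_mem (U.inv_mem u'.2) u.2, ?_⟩
        have : (u' : G)⁻¹ * u = v' * (v : G)⁻¹ := by
          calc (u' : G)⁻¹ * u = (u' : G)⁻¹ * ((u : G) * v) * (v : G)⁻¹ := by group
            _ = (u' : G)⁻¹ * ((u' : G) * v') * (v : G)⁻¹ := by rw [hp']
            _ = v' * (v : G)⁻¹ := by group
        rw [this]
        exact V.mul_mem v'.2 (V.inv_mem v.2)
      rw [hbot, Subgroup.mem_bot] at hmem
      have hu : (u : G) = u' := by
        have := congrArg (fun z => (u' : G) * z) hmem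
        simpa using this
      have hv : (v : G) = v' := by
        rw [hu] at hp'
        exact mul_left_cancel hp'
      exact Prod.ext (Subtype.ext hu) (Subtype.ext hv)
    have hle := Nat.card_le_card_of_injective f hf
    rw [Nat.card_prod, hUc, hVc, card_T h S'] at hle
    omega
  have hinfc : Nat.card ↥(U ⊓ V) = 2 := by
    have hd : Nat.card ↥(U ⊓ V) ∣ 4 := hUc ▸ Subgroup.card_dvd_of_le inf_le_left
    have hne1 : Nat.card ↥(U ⊓ V) ≠ 1 := fun h1 => hinf (Subgroup.card_eq_one.1 h1)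
    have hne4 : Nat.card ↥(U ⊓ V) ≠ 4 := by
      intro h4
      have h1 : U ⊓ V = U := Subgroup.eq_of_le_of_card_ge inf_le_left (by rw [h4, hUc])
      have h2 : U ≤ V := h1 ▸ inf_le_right
      exact hne (Subgroup.eq_of_le_of_card_ge h2 (by rw [hUc, hVc]))
    have hle := Nat.le_of_dvd (by norm_num) hd
    generalize Nat.card ↥(U ⊓ V) = n at *
    interval_cases n <;> first | omega | (exfalso; revert hd; decide)
  -- the nonidentity element `z` of `U ⊓ V`
  obtain ⟨z, hz1, hzuniq⟩ := (Nat.card_eq_two_iff' (1 : ↥(U ⊓ V))).1 hinfc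
  obtain ⟨x₃, hx₃⟩ := exists_prime_orderOf_dvd_card' (G := ↥X) 3 (by rw [hXc]; norm_num)
  have hx₃' : orderOf (x₃ : G) = 3 := by rw [Subgroup.orderOf_coe, hx₃]
  have hxU : (x₃ : G) ∈ Subgroup.normalizer (U : Set G) := x₃.2
  have hxV : (x₃ : G) ∈ Subgroup.normalizer (V : Set G) := hN ▸ x₃.2
  have hconj : (x₃ : G) * z * (x₃ : G)⁻¹ ∈ U ⊓ V :=
    ⟨(Subgroup.mem_normalizer_iff.1 hxU _).1 z.2.1, (Subgroup.mem_normalizer_iff.1 hxV _).1 z.2.2⟩
  have hz1' : (z : G) ≠ 1 := fun h1 => hz1 (Subtype.ext h1)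
  have hconj1 : (⟨(x₃ : G) * z * (x₃ : G)⁻¹, hconj⟩ : ↥(U ⊓ V)) ≠ 1 := by
    intro h1
    have h2 : (x₃ : G) * z * (x₃ : G)⁻¹ = 1 := congrArg (fun w : ↥(U ⊓ V) => (w : G)) h1
    apply hz1'
    calc (z : G) = (x₃ : G)⁻¹ * ((x₃ : G) * z * (x₃ : G)⁻¹) * x₃ := by group
      _ = 1 := by rw [h2]; group
  have heq := hzuniq _ hconj1
  have heq' : (x₃ : G) * z * (x₃ : G)⁻¹ = z := congrArg (fun w : ↥(U ⊓ V) => (w : G)) heq
  have hc : Commute (x₃ : G) (z : G) := by
    have : (x₃ : G) * z = z * x₃ := by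
      calc (x₃ : G) * z = (x₃ : G) * z * (x₃ : G)⁻¹ * x₃ := by group
        _ = z * x₃ := by rw [heq']
    exact this
  have hzo : orderOf (z : G) ∣ 8 := by
    rw [← card_T h S]
    exact Subgroup.orderOf_dvd_natCard _ (hUS z.2.1)
  exact not_commute_prime h (x₃ : G) (z : G) hz1' hzo (Or.inl hx₃') hc

end O168

end Cfsg.Agent.Helper17
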