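import Mathlib
import Cfsg.Agent.Lib.Helper17.Order360
import Cfsg.Agent.Lib.Helper17.InvolutionParity
import Cfsg.Agent.Lib.Helper17.SylowFixed

set_option autoImplicit false

namespace Cfsg.Agent.Helper17.O360

open Equiv Cfsg.Agent.Helper17 MulAction

variable {G : Type*} [Group G] [Finite G] [IsSimpleGroup G]

/-- The local structure at a Sylow `3`-subgroup of a simple group of order `360`: the two-point
stabilizer of the action on the ten Sylow `3`-subgroups is cyclic of order four, generated by an element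
whose square inverts the Sylow subgroup. -/
theorem exists_PQh (hG : Nat.card G = 360) :
    ∃ (P Q₀ : Sylow 3 G) (h x : G), Q₀ ≠ P ∧
      (∀ g ∈ (P : Subgroup G), g ≠ 1 → ∀ Q : Sylow 3 G, g • Q = Q → Q = P) ∧
      h • P = P ∧ h • Q₀ = Q₀ ∧ orderOf h = 4 ∧
      (∀ g : G, g • P = P → g • Q₀ = Q₀ → g ∈ Subgroup.zpowers h) ∧
      (∀ a ∈ (P : Subgroup G), h ^ 2 * a * (h ^ 2)⁻¹ = a⁻¹) ∧
      x ∈ (P : Subgroup G) ∧ x ≠ 1 ∧ x ^ 3 = 1 := by
  classical
  have hp3 : Fact (Nat.Prime 3) := ⟨by norm_num⟩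
  have hp2 : Fact (Nat.Prime 2) := ⟨by norm_num⟩
  have hn := card_sylow3 hG
  obtain ⟨P⟩ : Nonempty (Sylow 3 G) := inferInstance
  have hcP := card_P3 hG P
  have hPab : ∀ a ∈ (P : Subgroup G), ∀ b ∈ (P : Subgroup G), a * b = b * a := by
    intro a ha b hb
    have := P3_le_centralizer hG P hb
    exact Subgroup.mem_centralizer_iff.1 this a ha
  have hfix : ∀ g ∈ (P : Subgroup G), g ≠ 1 → ∀ Q : Sylow 3 G, g • Q = Q → Q = P := by
    intro g hgP hg1 Q hgQ
    by_contra hQP
    rw [Sylow.smul_eq_iff_mem_normalizer] at hgQ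
    have hpg : IsPGroup 3 (Subgroup.zpowers g) :=
      P.isPGroup'.to_le ((Subgroup.zpowers_le).2 hgP)
    have hgQ' : g ∈ (Q : Subgroup G) := mem_sylow_of_mem_normalizer Q g hpg hgQ
    have hmem : g ∈ (P : Subgroup G) ⊓ (Q : Subgroup G) := ⟨hgP, hgQ'⟩
    rw [sylow3_inf_eq_bot hG P Q (Ne.symm hQP)] at hmem
    exact hg1 (Subgroup.mem_bot.1 hmem)
  have hPfix : ∀ g ∈ (P : Subgroup G), g • P = P := fun g hg =>
    Sylow.smul_eq_iff_mem_normalizer.2 (Subgroup.le_normalizer hg)
  obtain ⟨Q₀, hQ₀⟩ : ∃ Q₀ : Sylow 3 G, Q₀ ≠ P := by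
    by_contra hall
    push Not at hall
    have : Nat.card (Sylow 3 G) = 1 :=
      Nat.card_eq_one_iff_unique.2 ⟨⟨fun a b => (hall a).trans (hall b).symm⟩, ⟨P⟩⟩
    omega
  have hfree : ∀ g ∈ (P : Subgroup G), g • Q₀ = Q₀ → g = 1 := by
    intro g hg hgQ
    by_contra hg1
    exact hQ₀ (hfix g hg hg1 Q₀ hgQ)
  -- the labelling by `P`
  let ℓ₀ : Option ↥(P : Subgroup G) → Sylow 3 G := fun o => o.elim P (fun g => (g : G) • Q₀)
  have hne : ∀ g : ↥(P : Subgroup G), (g : G) • Q₀ ≠ P := by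
    intro g hgP
    apply hQ₀
    have h1 : Q₀ = (g : G)⁻¹ • P := by rw [eq_inv_smul_iff]; exact hgP
    rw [h1]
    exact hPfix _ (Subgroup.inv_mem _ g.2)
  have hℓinj : Function.Injective ℓ₀ := by
    intro o₁ o₂ h
    cases o₁ with
    | none =>
      cases o₂ with
      | none => rfl
      | some k => exact absurd h.symm (hne k)
    | some k₁ =>
      cases o₂ with
      | none => exact absurd h (hne k₁)
      | some k₂ =>
        have h2 : ((k₂ : G)⁻¹ * (k₁ : G)) • Q₀ = Q₀ := by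
          have h' : (k₁ : G) • Q₀ = (k₂ : G) • Q₀ := h
          rw [mul_smul, h', inv_smul_smul]
        have h3 := hfree _ (Subgroup.mul_mem _ (Subgroup.inv_mem _ k₂.2) k₁.2) h2
        have h4 : (k₁ : G) = (k₂ : G) := by
          have := congrArg (fun z => (k₂ : G) * z) h3
          simpa using this
        exact congrArg some (Subtype.ext h4)
  have hℓbij : Function.Bijective ℓ₀ := by
    apply hℓinj.bijective_of_nat_card_le
    rw [hn, Finite.card_option, hcP]
  have hsurj : ∀ Q : Sylow 3 G, Q ≠ P → ∃ g ∈ (P : Subgroup G), g • Q₀ = Q := by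
    intro Q hQ
    obtain ⟨o, ho⟩ := hℓbij.2 Q
    cases o with
    | none => exact absurd ho.symm hQ
    | some g => exact ⟨g, g.2, ho⟩
  -- faithfulness of the action
  obtain ⟨x', hx'⟩ := exists_prime_orderOf_dvd_card' (G := ↥(P : Subgroup G)) 3
    (by rw [hcP]; norm_num)
  have hxo : orderOf (x' : G) = 3 := by rw [Subgroup.orderOf_coe, hx']
  have hx1 : (x' : G) ≠ 1 := by
    intro h1
    rw [h1, orderOf_one] at hxo
    omega
  have hker : (MulAction.toPermHom G (Sylow 3 G)).ker ≠ ⊤ := by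
    intro htop
    have hxk : (x' : G) ∈ (MulAction.toPermHom G (Sylow 3 G)).ker := by
      rw [htop]; exact Subgroup.mem_top _
    rw [MonoidHom.mem_ker] at hxk
    have h1 : (x' : G) • Q₀ = Q₀ := by
      have := congrArg (fun q : Perm (Sylow 3 G) => q Q₀) hxk
      simpa using this
    exact hx1 (hfree _ x'.2 h1)
  have hbot : (MulAction.toPermHom G (Sylow 3 G)).ker = ⊥ :=
    ((MulAction.toPermHom G (Sylow 3 G)).normal_ker.eq_bot_or_eq_top).resolve_right hker
  have hinj0 : Function.Injective (MulAction.toPermHom G (Sylow 3 G)) :=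
    (MonoidHom.ker_eq_bot_iff _).1 hbot
  have htriv : ∀ g : G, (∀ R : Sylow 3 G, g • R = R) → g = 1 := by
    intro g hg
    apply hinj0
    ext R
    simp [hg R]
  -- the stabilizer of `P` and the two-point stabilizer
  obtain ⟨N, hN⟩ : ∃ N : Subgroup G, N = MulAction.stabilizer G P := ⟨_, rfl⟩
  have hNc : Nat.card N = 36 := by
    have h1 := MulAction.index_stabilizer_of_transitive G P
    have h2 := N.card_mul_index
    rw [hN, h1, hn, hG] at h2
    rw [hN]
    omega
  have hmemN : ∀ g : G, g ∈ N ↔ g • P = P := by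
    intro g
    rw [hN]
    exact MulAction.mem_stabilizer_iff
  have hPN : ∀ g ∈ (P : Subgroup G), g ∈ N := fun g hg => (hmemN g).2 (hPfix g hg)
  obtain ⟨S, hS⟩ : ∃ S : Subgroup N, S = MulAction.stabilizer N Q₀ := ⟨_, rfl⟩
  have hmemS : ∀ s : ↥N, s ∈ S ↔ (s : G) • Q₀ = Q₀ := by
    intro s
    rw [hS]
    exact MulAction.mem_stabilizer_iff
  have hkinj : Function.Injective (fun g : ↥(P : Subgroup G) => (g : G) • Q₀) := by
    intro k k' h
    exact Option.some_injective _ (hℓinj h)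
  have horb : MulAction.orbit N Q₀ = Set.range (fun g : ↥(P : Subgroup G) => (g : G) • Q₀) := by
    ext Q
    constructor
    · rintro ⟨n, rfl⟩
      have hnP : (n : G) • Q₀ ≠ P := by
        intro h1
        have h2 : Q₀ = (n : G)⁻¹ • P := by rw [← h1, inv_smul_smul]
        apply hQ₀
        rw [h2]
        exact (hmemN _).1 (N.inv_mem n.2)
      obtain ⟨g, hg, hgQ⟩ := hsurj _ hnP
      exact ⟨⟨g, hg⟩, hgQ⟩
    · rintro ⟨k, rfl⟩
      exact ⟨⟨(k : G), hPN _ k.2⟩, rfl⟩
  have hSc : Nat.card S = 4 := by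
    have h1 : S.index = 9 := by
      rw [hS, MulAction.index_stabilizer, horb, Set.ncard_range_of_injective hkinj, hcP]
    have h2 := S.card_mul_index
    rw [h1, hNc] at h2
    omega
  obtain ⟨Hs, hHs⟩ : ∃ Hs : Subgroup G, Hs = N ⊓ MulAction.stabilizer G Q₀ := ⟨_, rfl⟩
  have hmemH : ∀ g : G, g ∈ Hs ↔ g • P = P ∧ g • Q₀ = Q₀ := by
    intro g
    rw [hHs, Subgroup.mem_inf, hmemN, MulAction.mem_stabilizer_iff]
  have hcH : Nat.card Hs = 4 := by
    rw [← hSc]
    apply Nat.card_congr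
    refine ⟨fun g => ⟨⟨(g : G), ?_⟩, ?_⟩, fun s => ⟨((s : N) : G), ?_⟩, ?_, ?_⟩
    · exact (hmemN _).2 ((hmemH _).1 g.2).1
    · exact (hmemS _).2 ((hmemH _).1 g.2).2
    · rw [hmemH]
      exact ⟨(hmemN _).1 (s : N).2, (hmemS _).1 s.2⟩
    · intro g; rfl
    · intro s; rfl
  have hHnorm : ∀ g ∈ Hs, ∀ a ∈ (P : Subgroup G), g * a * g⁻¹ ∈ (P : Subgroup G) := by
    intro g hg a ha
    have hgP := ((hmemH g).1 hg).1
    rw [Sylow.smul_eq_iff_mem_normalizer] at hgP
    exact (Subgroup.mem_normalizer_iff.1 hgP a).1 ha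
  have hfaith : ∀ g ∈ Hs, (∀ a ∈ (P : Subgroup G), g * a * g⁻¹ = a) → g = 1 := by
    intro g hg hcent
    apply htriv
    intro R
    by_cases hR : R = P
    · rw [hR]; exact ((hmemH g).1 hg).1
    · obtain ⟨a, ha, rfl⟩ := hsurj R hR
      have h1 : g * a = a * g := by
        have := hcent a ha
        calc g * a = g * a * g⁻¹ * g := by group
          _ = a * g := by rw [this]
      rw [← mul_smul, h1, mul_smul, ((hmemH g).1 hg).2]
  -- involutions of the two-point stabilizer invert `P`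
  have hinvol : ∀ t ∈ Hs, orderOf t = 2 → ∀ a ∈ (P : Subgroup G), t * a * t⁻¹ = a⁻¹ := by
    intro t htH ht2 a ha
    have htP := ((hmemH t).1 htH).1
    have hta : t * a * t⁻¹ ∈ (P : Subgroup G) := hHnorm t htH a ha
    have htt : t * t = 1 := by
      have := pow_orderOf_eq_one t
      rwa [ht2, pow_two] at this
    have htinv : t⁻¹ = t := inv_eq_of_mul_eq_one_left htt
    obtain ⟨c, hc⟩ : ∃ c : G, c = a * (t * a * t⁻¹) := ⟨_, rfl⟩
    have hcP : c ∈ (P : Subgroup G) := hc ▸ Subgroup.mul_mem _ ha hta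
    have hconj : t * c * t⁻¹ = c := by
      have e1 : t * (t * a * t⁻¹) * t⁻¹ = a := by
        calc t * (t * a * t⁻¹) * t⁻¹ = (t * t) * a * (t * t)⁻¹ := by group
          _ = a := by rw [htt]; group
      calc t * c * t⁻¹ = (t * a * t⁻¹) * (t * (t * a * t⁻¹) * t⁻¹) := by rw [hc]; group
        _ = (t * a * t⁻¹) * a := by rw [e1]
        _ = c := by rw [hc]; exact hPab _ hta _ ha
    have hcomm : Commute c t := by
      show c * t = t * c
      calc c * t = t * c * t⁻¹ * t := by rw [hconj]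
        _ = t * c := by group
    by_contra hne'
    have hc1 : c ≠ 1 := by
      intro h1
      apply hne'
      rw [hc] at h1
      exact eq_inv_of_mul_eq_one_right h1
    obtain ⟨c', hc'P, hc'1, hc'3, hc'comm⟩ : ∃ c' ∈ (P : Subgroup G), c' ≠ 1 ∧ orderOf c' = 3 ∧
        Commute c' t := by
      have hdvd : orderOf c ∣ 3 ^ 2 := by
        have := Subgroup.orderOf_dvd_natCard _ hcP
        rw [card_P3 hG P] at this
        exact this
      obtain ⟨k, hk, hok⟩ := (Nat.dvd_prime_pow Nat.prime_three).1 hdvd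
      interval_cases k
      · exact absurd (orderOf_eq_one_iff.1 (by simpa using hok)) hc1
      · exact ⟨c, hcP, hc1, by simpa using hok, hcomm⟩
      · refine ⟨c ^ 3, Subgroup.pow_mem _ hcP 3, ?_, ?_, hcomm.pow_left 3⟩
        · intro h3
          have := orderOf_dvd_of_pow_eq_one h3
          rw [hok] at this
          omega
        · rw [orderOf_pow' c (by norm_num), hok]
          norm_num
    have h4 := Parity.card_fixedBy_mod_four (G := G) (by rw [hG]; norm_num) (α := Sylow 3 G) t ht2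
    have h3 := Parity.card_fixedBy_modEq_inter (α := Sylow 3 G) c' t hc'comm hc'3
    have hinter : Nat.card ↥(fixedBy (Sylow 3 G) t ∩ fixedBy (Sylow 3 G) c') = 1 := by
      rw [Nat.card_eq_one_iff_unique]
      refine ⟨⟨?_⟩, ⟨⟨P, htP, hPfix c' hc'P⟩⟩⟩
      rintro ⟨R1, h1⟩ ⟨R2, h2⟩
      apply Subtype.ext
      show R1 = R2
      rw [hfix c' hc'P hc'1 R1 h1.2, hfix c' hc'P hc'1 R2 h2.2]
    rw [hinter] at h3
    rw [hn] at h4
    have hle : Nat.card (fixedBy (Sylow 3 G) t) ≤ 10 :=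
      hn ▸ Nat.card_le_card_of_injective _ Subtype.val_injective
    have h10 : Nat.card (fixedBy (Sylow 3 G) t) = 10 := by
      unfold Nat.ModEq at h3 h4
      omega
    have hall : ∀ R : Sylow 3 G, t • R = R := by
      have hbij := (Subtype.val_injective (p := fun R => R ∈ fixedBy (Sylow 3 G) t)).bijective_of_nat_card_le
        (by rw [hn]; exact h10.ge)
      intro R
      obtain ⟨⟨R', hR'⟩, rfl⟩ := hbij.2 R
      exact hR'
    have ht1 : t = 1 := htriv t hall
    rw [ht1, orderOf_one] at ht2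
    omega
  -- the two-point stabilizer has at most one involution
  have huniq : ∀ t₁ ∈ Hs, ∀ t₂ ∈ Hs, orderOf t₁ = 2 → orderOf t₂ = 2 → t₁ = t₂ := by
    intro t₁ h1 t₂ h2 o1 o2
    have hprod : t₁ * t₂ = 1 := by
      apply hfaith (t₁ * t₂) (Hs.mul_mem h1 h2)
      intro a ha
      have e2 := hinvol t₂ h2 o2 a ha
      have e1 := hinvol t₁ h1 o1 a⁻¹ (Subgroup.inv_mem _ ha)
      calc t₁ * t₂ * a * (t₁ * t₂)⁻¹ = t₁ * (t₂ * a * t₂⁻¹) * t₁⁻¹ := by group
        _ = t₁ * a⁻¹ * t₁⁻¹ := by rw [e2]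
        _ = a := by rw [e1, inv_inv]
    have htt : t₂ * t₂ = 1 := by
      have := pow_orderOf_eq_one t₂
      rwa [o2, pow_two] at this
    calc t₁ = t₂⁻¹ := eq_inv_of_mul_eq_one_left hprod
      _ = t₂ := inv_eq_of_mul_eq_one_left htt
  -- an element of order four
  obtain ⟨h, hhH, hh2⟩ : ∃ h ∈ Hs, h ^ 2 ≠ 1 := by
    by_contra hcon
    push Not at hcon
    have hFin : Fintype ↥Hs := Fintype.ofFinite _
    have h3 : 2 < Fintype.card ↥Hs := by
      rw [← Nat.card_eq_fintype_card, hcH]; norm_num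
    obtain ⟨a, b, c, hab, hac, hbc⟩ := Fintype.two_lt_card_iff.1 h3
    have key : ∀ u v : ↥Hs, u ≠ v → u ≠ 1 → v ≠ 1 → False := by
      intro u v huv hu hv
      have ou : orderOf (u : G) = 2 :=
        orderOf_eq_prime (hcon u u.2) (fun h => hu (Subtype.ext h))
      have ov : orderOf (v : G) = 2 :=
        orderOf_eq_prime (hcon v v.2) (fun h => hv (Subtype.ext h))
      exact huv (Subtype.ext (huniq u u.2 v v.2 ou ov))
    by_cases ha : a = 1
    · exact key b c hbc (fun hb => hab (ha.trans hb.symm)) (fun hc => hac (ha.trans hc.symm))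
    · by_cases hb : b = 1
      · exact key a c hac ha (fun hc => hbc (hb.trans hc.symm))
      · exact key a b hab ha hb
  have hh4 : h ^ 4 = 1 := by
    have h1 : orderOf (⟨h, hhH⟩ : ↥Hs) ∣ 4 := hcH ▸ orderOf_dvd_natCard _
    have h2 : (⟨h, hhH⟩ : ↥Hs) ^ 4 = 1 := orderOf_dvd_iff_pow_eq_one.1 h1
    exact congrArg Subtype.val h2
  have hord : orderOf h = 4 := by
    have hd : orderOf h ∣ 2 ^ 2 := by
      have := orderOf_dvd_of_pow_eq_one hh4
      exact this
    obtain ⟨k, hk, hok⟩ := (Nat.dvd_prime_pow Nat.prime_two).1 hd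
    interval_cases k
    · exfalso
      apply hh2
      have : h = 1 := orderOf_eq_one_iff.1 (by simpa using hok)
      rw [this, one_pow]
    · exfalso
      apply hh2
      have := pow_orderOf_eq_one h
      rwa [hok, pow_one] at this
    · simpa using hok
  have hzp : Subgroup.zpowers h = Hs := by
    apply Subgroup.eq_of_le_of_card_ge ((Subgroup.zpowers_le).2 hhH)
    rw [Nat.card_zpowers, hord, hcH]
  have hsq2 : orderOf (h ^ 2) = 2 := by
    apply orderOf_eq_prime _ hh2
    rw [← pow_mul]; exact hh4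
  have hhP := ((hmemH h).1 hhH).1
  have hhQ := ((hmemH h).1 hhH).2
  refine ⟨P, Q₀, h, (x' : G), hQ₀, hfix, hhP, hhQ, hord, ?_, ?_, x'.2, hx1, ?_⟩
  · intro g hgP hgQ
    rw [hzp]
    exact (hmemH g).2 ⟨hgP, hgQ⟩
  · intro a ha
    exact hinvol (h ^ 2) (Hs.pow_mem hhH 2) hsq2 a ha
  · have := pow_orderOf_eq_one (x' : G)
    rwa [hxo] at this

end Cfsg.Agent.Helper17.O360
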