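import Mathlib
import Cfsg.Agent.Lib.Helper17.Order360B
import Cfsg.Agent.Lib.Helper17.F9
import Cfsg.Agent.Lib.Helper17.L2pAction

set_option autoImplicit false

namespace Cfsg.Agent.Helper17.O360

open Equiv Cfsg.Agent.Helper17 Cfsg.Agent.Helper17.Fq MulAction

theorem Y_pow9 {F : Type*} [Field F] (u : Fˣ) (k : ℕ) : Y u ^ k = Y (u ^ k) := by
  induction k with
  | zero =>
    ext o : 1
    rw [pow_zero, pow_zero, Perm.one_apply, Y_one_apply]
  | succ k ih =>
    ext o : 1
    rw [pow_succ, pow_succ, Perm.mul_apply, ih, Y_apply_Y]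

theorem i9_ne_zero : i9 ≠ 0 := by decide +kernel

theorem pow_four_eq_one9 : ∀ z : F9, z ^ 4 = 1 → ∃ k < 4, z = i9 ^ k := by decide +kernel

theorem card_option_F9 : Nat.card (Option F9) = 10 := by
  rw [Finite.card_option, Nat.card_eq_fintype_card, card_F9]

variable {G : Type*} [Group G] [Finite G] [IsSimpleGroup G]

/-- The labelled action of a simple group of order `360` on its ten Sylow `3`-subgroups. -/
theorem exists_action9 (hG : Nat.card G = 360) :
    ∃ φ : G →* Perm (Option F9), Function.Injective φ ∧ ZAct 4 φ.range := by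
  classical
  have hp3 : Fact (Nat.Prime 3) := ⟨by norm_num⟩
  obtain ⟨P, Q₀, h, x, hQ₀, hfix, hhP, hhQ, hord, hH, hinv, hxP, hx1, hx3⟩ := exists_PQh hG
  have hn := card_sylow3 hG
  have hPab : ∀ a ∈ (P : Subgroup G), ∀ b ∈ (P : Subgroup G), a * b = b * a := by
    intro a ha b hb
    have := P3_le_centralizer hG P hb
    exact Subgroup.mem_centralizer_iff.1 this a ha
  have hPfix : ∀ g ∈ (P : Subgroup G), g • P = P := fun g hg =>
    Sylow.smul_eq_iff_mem_normalizer.2 (Subgroup.le_normalizer hg)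
  have hfree : ∀ g ∈ (P : Subgroup G), g • Q₀ = Q₀ → g = 1 := by
    intro g hg hgQ
    by_contra hg1
    exact hQ₀ (hfix g hg hg1 Q₀ hgQ)
  have hhN : h ∈ Subgroup.normalizer ((P : Subgroup G) : Set G) :=
    Sylow.smul_eq_iff_mem_normalizer.1 hhP
  obtain ⟨y, hy⟩ : ∃ y : G, y = h * x * h⁻¹ := ⟨_, rfl⟩
  have hyP : y ∈ (P : Subgroup G) := hy ▸ (Subgroup.mem_normalizer_iff.1 hhN x).1 hxP
  have hy3 : y ^ 3 = 1 := by rw [hy, conj_pow, hx3]; group
  have hxinv : x ^ 2 = x⁻¹ := by
    apply eq_inv_of_mul_eq_one_left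
    rw [← pow_succ]; exact hx3
  have hhy : h * y * h⁻¹ = x⁻¹ := by
    rw [← hinv x hxP, hy]
    simp only [pow_two, mul_inv_rev, mul_assoc]
  -- `y` is not a power of `x`
  have hynot : y ∉ Subgroup.zpowers x := by
    intro hmem
    have hxo : orderOf x = 3 := orderOf_eq_prime hx3 hx1
    have hfin : IsOfFinOrder x := orderOf_pos_iff.1 (by rw [hxo]; norm_num)
    rw [hfin.mem_zpowers_iff_mem_range_orderOf, hxo] at hmem
    obtain ⟨k, hk, hkx⟩ := Finset.mem_image.1 hmem
    rw [Finset.mem_range] at hk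
    -- `h * x * h⁻¹ = x ^ k` gives `x⁻¹ = x ^ (k * k)`
    have h2 : x⁻¹ = x ^ (k * k) := by
      calc x⁻¹ = h * y * h⁻¹ := hhy.symm
        _ = h * x ^ k * h⁻¹ := by rw [hkx]
        _ = (h * x * h⁻¹) ^ k := by rw [conj_pow]
        _ = (x ^ k) ^ k := by rw [← hy, hkx]
        _ = x ^ (k * k) := by rw [← pow_mul]
    have h3 : x ^ (k * k + 1) = 1 := by rw [pow_succ, ← h2, inv_mul_cancel]
    have h4 := orderOf_dvd_of_pow_eq_one h3
    rw [hxo] at h4
    interval_cases k <;> omega
  have hcomm : ∀ a b : ℕ, x ^ a * y ^ b = y ^ b * x ^ a := fun a b =>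
    hPab _ (Subgroup.pow_mem _ hxP a) _ (Subgroup.pow_mem _ hyP b)
  -- coordinates on `P`
  obtain ⟨c, hc⟩ : ∃ c : F9 → G, c = fun z => x ^ z.re.val * y ^ z.im.val := ⟨_, rfl⟩
  have hcP : ∀ z, c z ∈ (P : Subgroup G) := by
    intro z
    rw [hc]
    exact Subgroup.mul_mem _ (Subgroup.pow_mem _ hxP _) (Subgroup.pow_mem _ hyP _)
  have hcadd : ∀ z w, c (z + w) = c z * c w := by
    intro z w
    rw [hc]
    simp only [QuadraticAlgebra.re_add, QuadraticAlgebra.im_add]
    rw [L2p.pow_val_add x hx3, L2p.pow_val_add y hy3]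
    calc x ^ z.re.val * x ^ w.re.val * (y ^ z.im.val * y ^ w.im.val)
        = x ^ z.re.val * (x ^ w.re.val * y ^ z.im.val) * y ^ w.im.val := by group
      _ = x ^ z.re.val * (y ^ z.im.val * x ^ w.re.val) * y ^ w.im.val := by rw [hcomm]
      _ = x ^ z.re.val * y ^ z.im.val * (x ^ w.re.val * y ^ w.im.val) := by group
  have hc0 : c 0 = 1 := by
    rw [hc]
    simp
  have hcker : ∀ z, c z = 1 → z = 0 := by
    intro z hz
    rw [hc] at hz
    have hz' : x ^ z.re.val * y ^ z.im.val = 1 := hz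
    have him : z.im = 0 := by
      by_contra him
      apply hynot
      have hyx : y ^ z.im.val ∈ Subgroup.zpowers x := by
        have : y ^ z.im.val = (x ^ z.re.val)⁻¹ := eq_inv_of_mul_eq_one_right hz'
        rw [this]
        exact Subgroup.inv_mem _ (Subgroup.pow_mem _ (Subgroup.mem_zpowers x) _)
      have hv : z.im.val = 1 ∨ z.im.val = 2 := by
        have h1 := ZMod.val_lt z.im
        have h2 : z.im.val ≠ 0 := fun h0 => him ((ZMod.val_eq_zero _).1 h0)
        omega
      rcases hv with hv | hv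
      · rw [hv, pow_one] at hyx; exact hyx
      · rw [hv] at hyx
        have : y = (y ^ 2) ^ 2 := by
          rw [← pow_mul]
          calc y = y ^ 3 * y := by rw [hy3, one_mul]
            _ = y ^ (2 * 2) := by rw [← pow_succ]
        rw [this]
        exact Subgroup.pow_mem _ hyx 2
    have hre : z.re = 0 := by
      rw [him, ZMod.val_zero, pow_zero, mul_one] at hz'
      have hxo : orderOf x = 3 := orderOf_eq_prime hx3 hx1
      have h1 := orderOf_dvd_of_pow_eq_one hz'
      rw [hxo] at h1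
      have h2 := ZMod.val_lt z.re
      have h3 : z.re.val = 0 := Nat.eq_zero_of_dvd_of_lt h1 h2
      exact (ZMod.val_eq_zero _).1 h3
    exact QuadraticAlgebra.ext hre him
  have hcinj : Function.Injective c := by
    intro z w hzw
    have h1 : c (z - w) = 1 := by
      have h2 : c (z - w) * c w = c z := by rw [← hcadd, sub_add_cancel]
      rw [hzw] at h2
      exact mul_eq_right.1 h2 |> fun h => h
    exact sub_eq_zero.1 (hcker _ h1)
  -- conjugation by `h` is multiplication by `i`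
  have hconjc : ∀ z, h * c z * h⁻¹ = c (i9 * z) := by
    intro z
    have e1 : (i9 * z).re = 2 * z.im := by
      simp only [QuadraticAlgebra.re_mul, i9]
      ring
    have e2 : (i9 * z).im = z.re := by
      simp only [QuadraticAlgebra.im_mul, i9]
      ring
    rw [hc]
    show h * (x ^ z.re.val * y ^ z.im.val) * h⁻¹ = x ^ (i9 * z).re.val * y ^ (i9 * z).im.val
    rw [e1, e2]
    have h2v : (2 : ZMod 3).val = 2 := rfl
    have hA : x ^ (2 * z.im).val = h * y ^ z.im.val * h⁻¹ := by
      rw [L2p.pow_val_mul x hx3, h2v, hxinv, ← hhy, conj_pow]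
    have hB : h * y ^ z.im.val * h⁻¹ ∈ (P : Subgroup G) := by
      rw [← hA]; exact Subgroup.pow_mem _ hxP _
    rw [hA]
    calc h * (x ^ z.re.val * y ^ z.im.val) * h⁻¹
        = (h * x ^ z.re.val * h⁻¹) * (h * y ^ z.im.val * h⁻¹) := by group
      _ = (h * x * h⁻¹) ^ z.re.val * (h * y ^ z.im.val * h⁻¹) := by rw [conj_pow]
      _ = y ^ z.re.val * (h * y ^ z.im.val * h⁻¹) := by rw [← hy]
      _ = (h * y ^ z.im.val * h⁻¹) * y ^ z.re.val :=
          hPab _ (Subgroup.pow_mem _ hyP _) _ hB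
  -- the labelling of the ten points
  let ℓ : Option F9 → Sylow 3 G := fun o => o.elim P (fun z => c z • Q₀)
  have hne : ∀ z : F9, c z • Q₀ ≠ P := by
    intro z hz
    apply hQ₀
    have h1 : Q₀ = (c z)⁻¹ • P := by rw [eq_inv_smul_iff]; exact hz
    rw [h1]
    exact hPfix _ (Subgroup.inv_mem _ (hcP z))
  have hℓinj : Function.Injective ℓ := by
    intro o₁ o₂ h'
    cases o₁ with
    | none =>
      cases o₂ with
      | none => rfl
      | some k => exact absurd h'.symm (hne k)
    | some k₁ =>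
      cases o₂ with
      | none => exact absurd h' (hne k₁)
      | some k₂ =>
        have h'' : c k₁ • Q₀ = c k₂ • Q₀ := h'
        have h2 : c (k₁ - k₂) • Q₀ = Q₀ := by
          have h3 : c (k₁ - k₂) • (c k₂ • Q₀) = c k₂ • Q₀ := by
            rw [← mul_smul, ← hcadd, sub_add_cancel, h'']
          have h4 : c (k₁ - k₂) * c k₂ = c k₂ * c (k₁ - k₂) := hPab _ (hcP _) _ (hcP _)
          rw [← mul_smul, h4, mul_smul] at h3
          exact smul_left_cancel _ h3
        have h5 := hcker _ (hfree _ (hcP _) h2)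
        exact congrArg some (sub_eq_zero.1 h5)
  have hℓbij : Function.Bijective ℓ := by
    apply hℓinj.bijective_of_nat_card_le
    rw [hn, card_option_F9]
  let e : Option F9 ≃ Sylow 3 G := Equiv.ofBijective ℓ hℓbij
  have hen : e none = P := rfl
  have hes : ∀ z, e (some z) = c z • Q₀ := fun z => rfl
  have he0 : e (some 0) = Q₀ := by rw [hes, hc0, one_smul]
  let φ : G →* Perm (Option F9) :=
    (e.symm.permCongrHom.toMonoidHom).comp (MulAction.toPermHom G (Sylow 3 G))
  have hφ : ∀ g o, φ g o = e.symm (g • e o) := by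
    intro g o
    simp [φ, Equiv.permCongr_apply]
  have hkey : ∀ g o o', g • e o = e o' → φ g o = o' := by
    intro g o o' h'
    rw [hφ, h', Equiv.symm_apply_apply]
  have hkey' : ∀ g o o', φ g o = o' → g • e o = e o' := by
    intro g o o' h'
    rw [hφ] at h'
    rw [← h', Equiv.apply_symm_apply]
  have hφc : ∀ k : F9, φ (c k) = X k := by
    intro k
    ext o : 1
    cases o with
    | none =>
      rw [X_none]
      apply hkey
      rw [hen]
      exact hPfix _ (hcP k)
    | some z =>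
      rw [X_some]
      apply hkey
      rw [hes, hes, ← mul_smul, hcadd]
  -- injectivity
  have hker : (MulAction.toPermHom G (Sylow 3 G)).ker ≠ ⊤ := by
    intro htop
    have hxk : x ∈ (MulAction.toPermHom G (Sylow 3 G)).ker := by
      rw [htop]; exact Subgroup.mem_top x
    rw [MonoidHom.mem_ker] at hxk
    have h1 : x • Q₀ = Q₀ := by
      have := congrArg (fun q : Perm (Sylow 3 G) => q Q₀) hxk
      simpa using this
    exact hx1 (hfree x hxP h1)
  have hbot : (MulAction.toPermHom G (Sylow 3 G)).ker = ⊥ :=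
    ((MulAction.toPermHom G (Sylow 3 G)).normal_ker.eq_bot_or_eq_top).resolve_right hker
  have hinj0 : Function.Injective (MulAction.toPermHom G (Sylow 3 G)) :=
    (MonoidHom.ker_eq_bot_iff _).1 hbot
  have hinj : Function.Injective φ := e.symm.permCongrHom.injective.comp hinj0
  -- the generator of the two-point stabilizer
  obtain ⟨u₀, hu₀⟩ : ∃ u₀ : F9ˣ, u₀ = Units.mk0 i9 i9_ne_zero := ⟨_, rfl⟩
  have hu₀v : (u₀ : F9) = i9 := by rw [hu₀]; rfl
  have hu₀4 : u₀ ^ 4 = 1 := by
    apply Units.ext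
    rw [Units.val_pow_eq_pow_val, hu₀v, i9_pow, Units.val_one]
  have hφh : φ h = Y u₀ := by
    ext o : 1
    cases o with
    | none =>
      rw [Y_none]
      exact hkey h none none (by rw [hen]; exact hhP)
    | some z =>
      rw [Y_some, hu₀v]
      apply hkey
      rw [hes, hes, ← hconjc, mul_smul, mul_smul, inv_smul_eq_iff.2 hhQ.symm]
  have hφhk : ∀ k : ℕ, φ (h ^ k) = Y (u₀ ^ k) := by
    intro k
    rw [map_pow, hφh, Y_pow9]
  have hHall : ∀ g : G, g • P = P → g • Q₀ = Q₀ →
      ∃ u : F9ˣ, u ^ 4 = 1 ∧ φ g = Y u := by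
    intro g hgP hgQ
    have hmem := hH g hgP hgQ
    have hfin : IsOfFinOrder h := orderOf_pos_iff.1 (by rw [hord]; norm_num)
    rw [hfin.mem_zpowers_iff_mem_range_orderOf] at hmem
    obtain ⟨k, -, hk⟩ := Finset.mem_image.1 hmem
    refine ⟨u₀ ^ k, ?_, ?_⟩
    · rw [← pow_mul, mul_comm, pow_mul, hu₀4, one_pow]
    · rw [← hk, hφhk]
  have hYall : ∀ u : F9ˣ, u ^ 4 = 1 → Y u ∈ φ.range := by
    intro u hu
    have h1 : (u : F9) ^ 4 = 1 := by
      rw [← Units.val_pow_eq_pow_val, hu, Units.val_one]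
    obtain ⟨k, -, hk⟩ := pow_four_eq_one9 _ h1
    have h2 : u = u₀ ^ k := by
      apply Units.ext
      rw [Units.val_pow_eq_pow_val, hu₀v, hk]
    exact ⟨h ^ k, by rw [hφhk, h2]⟩
  have hτ : ∃ τ ∈ φ.range, τ none = some 0 ∧ τ (some 0) = none := by
    obtain ⟨g, hg⟩ := MulAction.exists_smul_eq G P Q₀
    have h1 : g⁻¹ • P ≠ P := by
      intro h'
      apply hQ₀
      rw [← hg, ← h', smul_inv_smul, h']
    obtain ⟨o, ho⟩ := e.surjective (g⁻¹ • P)
    cases o with
    | none => exact absurd ho.symm h1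
    | some k =>
      refine ⟨φ (g * c k), ⟨_, rfl⟩, ?_, ?_⟩
      · apply hkey
        rw [hen, he0, mul_smul, hPfix _ (hcP k), hg]
      · apply hkey
        rw [hen, he0, mul_smul, ← hes, ho, smul_inv_smul]
  refine ⟨φ, hinj, ⟨fun k => ⟨c k, hφc k⟩, hYall, ?_, hτ⟩⟩
  rintro _ ⟨g, rfl⟩ h1 h2
  refine hHall g ?_ ?_
  · have := hkey' g none none h1
    rwa [hen] at this
  · have := hkey' g (some 0) (some 0) h2
    rwa [he0] at this

end Cfsg.Agent.Helper17.O360
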