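import Mathlib
import Cfsg.Agent.Lib.Helper17.Order360C

set_option autoImplicit false

namespace Cfsg.Agent.Helper17.O360

open Equiv Cfsg.Agent.Helper17 Cfsg.Agent.Helper17.Fq

/-- A simple group of order `360` is isomorphic to the canonical permutation group. -/
theorem iso_K9 {G : Type*} [Group G] [Finite G] [IsSimpleGroup G] (hG : Nat.card G = 360) :
    Nonempty (G ≃* K (F := F9) 4 (1 : F9)) := by
  obtain ⟨φ, hinj, hZ⟩ := exists_action9 hG
  have hR := hZ.eq_K i9_pow (by norm_num) gen9 two_ne_zero9 check9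
  exact ⟨(MonoidHom.ofInjective hinj).trans (MulEquiv.subgroupCongr hR)⟩

/-- Any two simple groups of order `360` are isomorphic. -/
theorem iso_of_simple360 {G₁ : Type*} {G₂ : Type*} [Group G₁] [Finite G₁] [IsSimpleGroup G₁]
    [Group G₂] [Finite G₂] [IsSimpleGroup G₂] (h₁ : Nat.card G₁ = 360)
    (h₂ : Nat.card G₂ = 360) : Nonempty (G₁ ≃* G₂) := by
  obtain ⟨e₁⟩ := iso_K9 h₁
  obtain ⟨e₂⟩ := iso_K9 h₂
  exact ⟨e₁.trans e₂.symm⟩

end Cfsg.Agent.Helper17.O360
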