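import Mathlib
import Cfsg.Agent.S1017

/-!
# Order 4032: the Sylow 7 cases `n₇ = 36` and `n₇ = 64`
-/

set_option autoImplicit false

namespace Cfsg.Agent.Helper17.Order4032

open MulAction Subgroup Cfsg.Agent.S1017

open scoped Pointwise

theorem numerics4032 (n k c : ℕ) (h : n * (k * (7 * c)) = 4032) (hk : k ∣ 7 - 1) (hk1 : k ≠ 1)
    (hn : n % 7 = 1) (hn1 : n ≠ 1) :
    (n = 8 ∧ 2 ∣ c) ∨ (n = 36 ∧ k = 2 ∧ c = 8) ∨ (n = 64 ∧ k = 3 ∧ c = 3) ∨
      (n = 288 ∧ k = 2 ∧ c = 1) := by
  have h' : k * (n * c) = 576 := by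
    have : 7 * (k * (n * c)) = 7 * 576 := by
      rw [show (7 : ℕ) * 576 = 4032 by norm_num, ← h]; ring
    exact Nat.eq_of_mul_eq_mul_left (by norm_num) this
  have hkle : k ≤ 6 := Nat.le_of_dvd (by norm_num) hk
  have hk0 : 0 < k := Nat.pos_of_dvd_of_pos hk (by norm_num)
  have hnpos : 0 < n := by
    rcases Nat.eq_zero_or_pos n with h0 | h0
    · subst h0; simp at hn
    · exact h0
  have hcpos : 0 < c := by
    rcases Nat.eq_zero_or_pos c with h0 | h0
    · subst h0; simp at h'
    · exact h0
  have hk2 : 2 ≤ k := by omega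
  have hnd : n ∣ 576 := ⟨k * c, by rw [← h']; ring⟩
  have hnmem : n ∈ Nat.divisors 576 := Nat.mem_divisors.2 ⟨hnd, by norm_num⟩
  have hncases : n = 8 ∨ n = 36 ∨ n = 64 ∨ n = 288 := by
    have : ∀ m ∈ Nat.divisors 576, m % 7 = 1 → m ≠ 1 → m = 8 ∨ m = 36 ∨ m = 64 ∨ m = 288 := by
      decide +kernel
    exact this n hnmem hn hn1
  rcases hncases with rfl | rfl | rfl | rfl
  · left
    refine ⟨rfl, ?_⟩
    have hkc : k * c = 72 := by linarith
    interval_cases k <;> omega
  · right; left
    have hkc : k * c = 16 := by linarith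
    interval_cases k <;> omega
  · right; right; left
    have hkc : k * c = 9 := by linarith
    interval_cases k <;> omega
  · right; right; right
    have hkc : k * c = 2 := by linarith
    interval_cases k <;> omega

section

variable {G : Type*} [Group G] [Finite G]

theorem case36_4032 [IsSimpleGroup G] (hG : Nat.card G = 4032) (P : Sylow 7 G)
    (hP : Nat.card (P : Subgroup G) = 7) (hn : Nat.card (Sylow 7 G) = 36)
    (hC : Nat.card (Subgroup.centralizer ((P : Subgroup G) : Set G)) = 56)
    (hN : Nat.card (Subgroup.normalizer ((P : Subgroup G) : Set G)) = 112) : False := by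
  obtain ⟨V⟩ : Nonempty (Sylow 2 ↥(Subgroup.centralizer ((P : Subgroup G) : Set G))) := inferInstance
  have hV : Nat.card (V : Subgroup ↥(Subgroup.centralizer ((P : Subgroup G) : Set G))) = 2 ^ 3 :=
    sylow_card_eq V 3 7 (by rw [hC]; norm_num) (by norm_num)
  have hVp : IsPGroup 2 ↥(V : Subgroup ↥(Subgroup.centralizer ((P : Subgroup G) : Set G))) :=
    V.isPGroup'
  have hVnt : Nontrivial ↥(V : Subgroup ↥(Subgroup.centralizer ((P : Subgroup G) : Set G))) := by
    rw [← Finite.one_lt_card_iff_nontrivial, hV]; norm_num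
  have hZnt := hVp.center_nontrivial
  have hZp : IsPGroup 2 ↥(Subgroup.center
      ↥(V : Subgroup ↥(Subgroup.centralizer ((P : Subgroup G) : Set G)))) :=
    hVp.to_subgroup _
  have h2Z : 2 ∣ Nat.card ↥(Subgroup.center
      ↥(V : Subgroup ↥(Subgroup.centralizer ((P : Subgroup G) : Set G)))) := by
    obtain ⟨j, hj⟩ := hZp.exists_card_eq
    rw [hj]
    rcases Nat.eq_zero_or_pos j with h0 | h0
    · exfalso
      rw [h0, pow_zero] at hj
      have := Finite.one_lt_card_iff_nontrivial.2 hZnt
      omega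
    · exact dvd_pow_self 2 h0.ne'
  obtain ⟨z, hz⟩ := exists_prime_orderOf_dvd_card'
    (G := ↥(Subgroup.center ↥(V : Subgroup ↥(Subgroup.centralizer ((P : Subgroup G) : Set G))))) 2 h2Z
  obtain ⟨v, hvdef⟩ : ∃ v : ↥(V : Subgroup ↥(Subgroup.centralizer ((P : Subgroup G) : Set G))),
    v = (z : ↥(V : Subgroup ↥(Subgroup.centralizer ((P : Subgroup G) : Set G)))) := ⟨_, rfl⟩
  have hv : orderOf v = 2 := by rw [hvdef, Subgroup.orderOf_coe]; exact hz
  have hvcomm : ∀ y : ↥(V : Subgroup ↥(Subgroup.centralizer ((P : Subgroup G) : Set G))),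
      v * y = y * v := by
    intro y
    have := Subgroup.mem_center_iff.1 z.2 y
    rw [hvdef]; exact this.symm
  obtain ⟨u, hudef⟩ : ∃ u : G, u = ((v : ↥(Subgroup.centralizer ((P : Subgroup G) : Set G))) : G) :=
    ⟨_, rfl⟩
  have hu : orderOf u = 2 := by
    rw [hudef, Subgroup.orderOf_coe, Subgroup.orderOf_coe]; exact hv
  have huK : u ∈ Subgroup.centralizer ((P : Subgroup G) : Set G) := by
    rw [hudef]; exact (v : ↥(Subgroup.centralizer ((P : Subgroup G) : Set G))).2
  have hPM : (P : Subgroup G) ≤ Subgroup.normalizer ((P : Subgroup G) : Set G) ⊓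
      Subgroup.centralizer ({u} : Set G) :=
    le_inf Subgroup.le_normalizer ((le_centralizer_singleton_iff _ u).2 huK)
  have hV'card : Nat.card ((V : Subgroup ↥(Subgroup.centralizer ((P : Subgroup G) : Set G))).map
      (Subgroup.centralizer ((P : Subgroup G) : Set G)).subtype) = 8 := by
    rw [Subgroup.card_map_of_injective (Subgroup.subtype_injective _)]; exact hV
  have hV'M : (V : Subgroup ↥(Subgroup.centralizer ((P : Subgroup G) : Set G))).map
      (Subgroup.centralizer ((P : Subgroup G) : Set G)).subtype ≤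
      Subgroup.normalizer ((P : Subgroup G) : Set G) ⊓ Subgroup.centralizer ({u} : Set G) := by
    rintro x ⟨y, hy, rfl⟩
    refine ⟨Subgroup.centralizer_le_normalizer _ y.2, ?_⟩
    change (y : G) ∈ Subgroup.centralizer ({u} : Set G)
    rw [Subgroup.mem_centralizer_iff]
    intro z hz
    rw [Set.mem_singleton_iff] at hz
    subst hz
    have h1 := hvcomm ⟨y, hy⟩
    have h2 := congrArg (fun t : ↥(V : Subgroup ↥(Subgroup.centralizer ((P : Subgroup G) : Set G))) =>
      ((t : ↥(Subgroup.centralizer ((P : Subgroup G) : Set G))) : G)) h1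
    rw [hudef]
    exact h2
  have h7M := Subgroup.card_dvd_of_le hPM
  have h8M := Subgroup.card_dvd_of_le hV'M
  have hM112 := Subgroup.card_dvd_of_le (inf_le_left :
    Subgroup.normalizer ((P : Subgroup G) : Set G) ⊓ Subgroup.centralizer ({u} : Set G) ≤
      Subgroup.normalizer ((P : Subgroup G) : Set G))
  rw [hP] at h7M
  rw [hV'card] at h8M
  rw [hN] at hM112
  have hu1 : u ≠ 1 := ne_one_of_orderOf_prime _ Nat.prime_two hu
  have h1 := card_fixedBy_sylow_modEq P hP u huK
  have h4 := card_fixedBy_mod_four (by rw [hG]; norm_num) (α := Sylow 7 G) u hu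
  have hle := card_fixedBy_le (α := Sylow 7 G) u
  have hne := card_fixedBy_ne (α := Sylow 7 G) (sylow_action_nontrivial (by rw [hn]; norm_num)) u hu1
  rw [hn] at h4 hle hne
  have h8 : Nat.card (fixedBy (Sylow 7 G) u) = 8 := by
    unfold Nat.ModEq at h1 h4
    omega
  have hcard := card_centralizer_eq P hP u huK (by rw [hn, h8]; norm_num)
  rw [h8] at hcard
  have hHdvd : Nat.card (Subgroup.centralizer ({u} : Set G)) ∣ 4032 := by
    rw [← hG]; exact Subgroup.card_subgroup_dvd_card _
  have hM56 : Nat.card ↥(Subgroup.normalizer ((P : Subgroup G) : Set G) ⊓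
      Subgroup.centralizer ({u} : Set G)) = 56 := by
    have h56 : 56 ∣ Nat.card ↥(Subgroup.normalizer ((P : Subgroup G) : Set G) ⊓
        Subgroup.centralizer ({u} : Set G)) :=
      Nat.Coprime.mul_dvd_of_dvd_of_dvd (by norm_num : Nat.Coprime 7 8) h7M h8M
    obtain ⟨e, he⟩ := h56
    obtain ⟨f, hf⟩ := hM112
    rw [he] at hf hcard
    have he12 : e = 1 ∨ e = 2 := by
      have : e * f = 2 := by nlinarith
      have he2 : e ∣ 2 := Dvd.intro _ this
      have hele := Nat.le_of_dvd (by norm_num) he2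
      have hepos : 0 < e := by
        rcases Nat.eq_zero_or_pos e with h0 | h0
        · subst h0; simp at this
        · exact h0
      omega
    rcases he12 with h | h
    · rw [he, h]
    · exfalso
      rw [h] at hcard
      rw [hcard] at hHdvd
      revert hHdvd
      decide
  rw [hM56] at hcard
  have hidx : Nat.card (G ⧸ Subgroup.centralizer ({u} : Set G)) = 9 := by
    have := Subgroup.card_eq_card_quotient_mul_card_subgroup (Subgroup.centralizer ({u} : Set G))
    rw [hG, hcard] at this
    omega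
  obtain ⟨g', hg'⟩ := exists_prime_orderOf_dvd_card' (G := ↥(P : Subgroup G)) 7 (by rw [hP])
  have hg : orderOf (g' : G) = 7 := by rw [Subgroup.orderOf_coe]; exact hg'
  have hc : Commute (g' : G) u := Subgroup.mem_centralizer_iff.mp huK g' g'.2
  have hgH : (g' : G) ∈ Subgroup.centralizer ({u} : Set G) := (hPM g'.2).2
  have huH : u ∈ Subgroup.centralizer ({u} : Set G) := by
    rw [Subgroup.mem_centralizer_iff]
    intro z hz
    rw [Set.mem_singleton_iff] at hz
    subst hz
    rfl
  exact endgame2016 _ hidx (g' : G) u hg hu hc hgH huH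

end

end Cfsg.Agent.Helper17.Order4032
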