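import Mathlib
import Cfsg.Agent.S1017

/-!
# Order 4032: the Sylow 7 case `n₇ = 64`
-/

set_option autoImplicit false

namespace Cfsg.Agent.Helper17.Order4032

open MulAction Subgroup Cfsg.Agent.S1017

open scoped Pointwise

section

variable {G : Type*} [Group G] [Finite G]

/-- In the case `n₇ = 64`, an element of order `3` centralizing `P` normalizes no other Sylow
`7`-subgroup. -/
theorem fix_unique_64 [IsSimpleGroup G] (hG : Nat.card G = 4032) (P : Sylow 7 G)
    (hP : Nat.card (P : Subgroup G) = 7) (hn : Nat.card (Sylow 7 G) = 64) (d : G)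
    (hd : orderOf d = 3) (hdC : d ∈ Subgroup.centralizer ((P : Subgroup G) : Set G)) :
    ∀ Q : Sylow 7 G, d • Q = Q → Q = P := by
  have hd1 : d ≠ 1 := ne_one_of_orderOf_prime _ Nat.prime_three hd
  have h7 := card_fixedBy_sylow_modEq P hP d hdC
  have h3 := card_modEq_card_fixedBy (α := Sylow 7 G) d hd
  have hle := card_fixedBy_le (α := Sylow 7 G) d
  have hne := card_fixedBy_ne (α := Sylow 7 G) (sylow_action_nontrivial (by rw [hn]; norm_num)) d hd1
  rw [hn] at h3 hle hne
  have hfix1 : Nat.card (fixedBy (Sylow 7 G) d) = 1 := by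
    by_contra hne1
    have hcases : Nat.card (fixedBy (Sylow 7 G) d) = 22 ∨ Nat.card (fixedBy (Sylow 7 G) d) = 43 := by
      unfold Nat.ModEq at h7 h3
      omega
    have hcard := card_centralizer_eq P hP d hdC (by
      rcases hcases with h | h <;> rw [hn, h] <;> norm_num)
    have hdvd : Nat.card (fixedBy (Sylow 7 G) d) ∣ 4032 := by
      rw [← hG]
      exact (Dvd.intro _ hcard.symm).trans (Subgroup.card_subgroup_dvd_card _)
    rcases hcases with h | h <;> rw [h] at hdvd <;> revert hdvd <;> decide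
  have hPfix : P ∈ fixedBy (Sylow 7 G) d :=
    Sylow.smul_eq_iff_mem_normalizer.mpr (Subgroup.centralizer_le_normalizer _ hdC)
  intro Q hQ
  have hsub : Subsingleton (fixedBy (Sylow 7 G) d) :=
    (Nat.card_eq_one_iff_unique.1 hfix1).1
  have := Subsingleton.elim (⟨Q, hQ⟩ : fixedBy (Sylow 7 G) d) ⟨P, hPfix⟩
  exact congrArg Subtype.val this

theorem case64_4032 [IsSimpleGroup G] (hG : Nat.card G = 4032) (P : Sylow 7 G)
    (hP : Nat.card (P : Subgroup G) = 7) (hn : Nat.card (Sylow 7 G) = 64)
    (hC : Nat.card (Subgroup.centralizer ((P : Subgroup G) : Set G)) = 21)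
    (hN : Nat.card (Subgroup.normalizer ((P : Subgroup G) : Set G)) = 63) : False := by
  have : Fact (Nat.Prime 3) := ⟨Nat.prime_three⟩
  obtain ⟨d', hd'⟩ := exists_prime_orderOf_dvd_card'
    (G := ↥(Subgroup.centralizer ((P : Subgroup G) : Set G))) 3 (by rw [hC]; norm_num)
  obtain ⟨d, hddef⟩ : ∃ d : G, d = (d' : G) := ⟨_, rfl⟩
  have hd : orderOf d = 3 := by rw [hddef, Subgroup.orderOf_coe]; exact hd'
  have hdC : d ∈ Subgroup.centralizer ((P : Subgroup G) : Set G) := by rw [hddef]; exact d'.2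
  have huniq := fix_unique_64 hG P hP hn d hd hdC
  have hdP : d • P = P :=
    Sylow.smul_eq_iff_mem_normalizer.mpr (Subgroup.centralizer_le_normalizer _ hdC)
  -- a Sylow 3-subgroup containing `d`
  obtain ⟨R, hdR⟩ := exists_sylow_mem_of_orderOf d hd
  have hR : Nat.card (R : Subgroup G) = 3 ^ 2 :=
    sylow_card_eq R 2 448 (by rw [hG]; norm_num) (by norm_num)
  have hRcomm : ∀ a b : ↥(R : Subgroup G), a * b = b * a := fun a b =>
    (IsPGroup.isMulCommutative_of_card_eq_prime_sq hR).is_comm.comm a b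
  -- `N(R) ≤ N(P)`
  have hNR : Subgroup.normalizer ((R : Subgroup G) : Set G) ≤
      Subgroup.normalizer ((P : Subgroup G) : Set G) := by
    intro g hg
    have hginv : g⁻¹ ∈ Subgroup.normalizer ((R : Subgroup G) : Set G) := Subgroup.inv_mem _ hg
    have heR : g⁻¹ * d * g ∈ (R : Subgroup G) := by
      have := (Subgroup.mem_normalizer_iff.1 hginv d).1 hdR
      rwa [inv_inv] at this
    have hcomm : d * (g⁻¹ * d * g) = (g⁻¹ * d * g) * d := by
      have := hRcomm ⟨d, hdR⟩ ⟨g⁻¹ * d * g, heR⟩
      exact congrArg Subtype.val this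
    -- `d` fixes `e • P`
    have h1 : d • ((g⁻¹ * d * g) • P) = (g⁻¹ * d * g) • P := by
      rw [← mul_smul, hcomm, mul_smul, hdP]
    have h2 : (g⁻¹ * d * g) • P = P := huniq _ h1
    -- hence `d` fixes `g • P`
    have h3 : d • (g • P) = g • P := by
      have : d * g = g * (g⁻¹ * d * g) := by group
      rw [← mul_smul, this, mul_smul, h2]
    have h4 : g • P = P := huniq _ h3
    exact Sylow.smul_eq_iff_mem_normalizer.mp h4
  have hRN : (R : Subgroup G) ≤ Subgroup.normalizer ((R : Subgroup G) : Set G) :=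
    Subgroup.le_normalizer
  have h9 : 9 ∣ Nat.card (Subgroup.normalizer ((R : Subgroup G) : Set G)) := by
    have := Subgroup.card_dvd_of_le hRN
    rwa [hR] at this
  have h63 : Nat.card (Subgroup.normalizer ((R : Subgroup G) : Set G)) ∣ 63 := by
    have := Subgroup.card_dvd_of_le hNR
    rwa [hN] at this
  have hcases : Nat.card (Subgroup.normalizer ((R : Subgroup G) : Set G)) = 9 ∨
      Nat.card (Subgroup.normalizer ((R : Subgroup G) : Set G)) = 63 := by
    obtain ⟨e, he⟩ := h9
    obtain ⟨f, hf⟩ := h63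
    rw [he] at hf ⊢
    have hef : e * f = 7 := by linarith
    have he7 : e ∣ 7 := Dvd.intro _ hef
    rcases (Nat.dvd_prime (by norm_num : Nat.Prime 7)).1 he7 with h | h
    · left; rw [h]
    · right; rw [h]
  rcases hcases with h9' | h63'
  · -- `N(R) = R` is abelian: Burnside
    have hEq : (R : Subgroup G) = Subgroup.normalizer ((R : Subgroup G) : Set G) :=
      Subgroup.eq_of_le_of_card_ge hRN (by rw [h9', hR]; norm_num)
    apply not_normalizer_le_centralizer R (by rw [hR]; norm_num) (by rw [hR, hG]; norm_num)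
    rw [← hEq]
    intro x hx
    rw [Subgroup.mem_centralizer_iff]
    intro y hy
    have := hRcomm ⟨y, hy⟩ ⟨x, hx⟩
    exact congrArg Subtype.val this
  · -- `N(R) = N(P)`: then `R` centralizes `P`
    have hEq : Subgroup.normalizer ((R : Subgroup G) : Set G) =
        Subgroup.normalizer ((P : Subgroup G) : Set G) :=
      Subgroup.eq_of_le_of_card_ge hNR (by rw [h63', hN])
    obtain ⟨g', hg'⟩ := exists_prime_orderOf_dvd_card' (G := ↥(P : Subgroup G)) 7 (by rw [hP])
    obtain ⟨g, hgdef⟩ : ∃ g : G, g = (g' : G) := ⟨_, rfl⟩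
    have hg : orderOf g = 7 := by rw [hgdef, Subgroup.orderOf_coe]; exact hg'
    have hgP : g ∈ (P : Subgroup G) := by rw [hgdef]; exact g'.2
    have hg1 : g ≠ 1 := ne_one_of_orderOf_prime _ (by norm_num) hg
    have hgNR : g ∈ Subgroup.normalizer ((R : Subgroup G) : Set G) := by
      rw [hEq]; exact Subgroup.le_normalizer hgP
    have hRC : (R : Subgroup G) ≤ Subgroup.centralizer ((P : Subgroup G) : Set G) := by
      intro x hx
      have hxNP : x ∈ Subgroup.normalizer ((P : Subgroup G) : Set G) := hNR (hRN hx)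
      -- the commutator lies in `R ∩ P`
      have hcR : g * x * g⁻¹ * x⁻¹ ∈ (R : Subgroup G) :=
        Subgroup.mul_mem _ ((Subgroup.mem_normalizer_iff.1 hgNR x).1 hx) (Subgroup.inv_mem _ hx)
      have hcP : g * x * g⁻¹ * x⁻¹ ∈ (P : Subgroup G) := by
        have h1 : x * g⁻¹ * x⁻¹ ∈ (P : Subgroup G) :=
          (Subgroup.mem_normalizer_iff.1 hxNP g⁻¹).1 (Subgroup.inv_mem _ hgP)
        have h2 := Subgroup.mul_mem _ hgP h1
        have h3 : g * (x * g⁻¹ * x⁻¹) = g * x * g⁻¹ * x⁻¹ := by group
        rwa [h3] at h2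
      have ho1 := Subgroup.orderOf_dvd_natCard (R : Subgroup G) hcR
      have ho2 := Subgroup.orderOf_dvd_natCard (P : Subgroup G) hcP
      rw [hR] at ho1
      rw [hP] at ho2
      have ho : orderOf (g * x * g⁻¹ * x⁻¹) = 1 := by
        have := Nat.dvd_gcd ho1 ho2
        have h' : Nat.gcd (3 ^ 2) 7 = 1 := by norm_num
        rw [h'] at this
        exact Nat.dvd_one.1 this
      have hc1 : g * x * g⁻¹ * x⁻¹ = 1 := orderOf_eq_one_iff.1 ho
      have hgx : g * x = x * g := by
        have : g * x = (g * x * g⁻¹ * x⁻¹) * (x * g) := by group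
        rw [this, hc1, one_mul]
      -- `P = ⟨g⟩`
      have hz := (zpowers_eq_of_card_prime (P : Subgroup G) hP g hgP hg1).1
      rw [Subgroup.mem_centralizer_iff]
      intro y hy
      have hy' : y ∈ Subgroup.zpowers g := by rw [hz]; exact hy
      obtain ⟨m, rfl⟩ := Subgroup.mem_zpowers_iff.1 hy'
      have hcomm : Commute g x := hgx
      exact (hcomm.zpow_left m).eq
    have := Subgroup.card_dvd_of_le hRC
    rw [hR, hC] at this
    revert this
    decide

end

end Cfsg.Agent.Helper17.Order4032
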