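import Mathlib
import Cfsg.Agent.Lib.Helper17.Simple
import Cfsg.Agent.Lib.Helper17.Burnside
import Cfsg.Agent.Lib.Helper17.IndexNormalizer
import Cfsg.Agent.Lib.Helper17.SylowInter2
import Cfsg.Agent.Lib.Helper17.SelfCent
import Cfsg.Agent.Lib.Helper17.FamilyCount

set_option autoImplicit false

namespace Cfsg.Agent.Helper17.O4080

open Cfsg.Agent.Helper17

variable {G : Type*} [Group G] [Finite G] [IsSimpleGroup G]

theorem not_comm (hG : Nat.card G = 4080) : ¬ IsMulCommutative G :=
  not_comm_of_not_prime (by rw [hG]; norm_num)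

theorem card_P17 (hG : Nat.card G = 4080) (P : Sylow 17 G) :
    Nat.card (P : Subgroup G) = 17 := by
  have : Fact (Nat.Prime 17) := ⟨by norm_num⟩
  have := sylow_card_eq P (k := 1) (m := 240) (by rw [hG]; norm_num) (by norm_num)
  simpa using this

theorem card_P5 (hG : Nat.card G = 4080) (P : Sylow 5 G) : Nat.card (P : Subgroup G) = 5 := by
  have : Fact (Nat.Prime 5) := ⟨by norm_num⟩
  have := sylow_card_eq P (k := 1) (m := 816) (by rw [hG]; norm_num) (by norm_num)
  simpa using this

theorem card_P3 (hG : Nat.card G = 4080) (P : Sylow 3 G) : Nat.card (P : Subgroup G) = 3 := by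
  have : Fact (Nat.Prime 3) := ⟨by norm_num⟩
  have := sylow_card_eq P (k := 1) (m := 1360) (by rw [hG]; norm_num) (by norm_num)
  simpa using this

theorem card_P2 (hG : Nat.card G = 4080) (P : Sylow 2 G) : Nat.card (P : Subgroup G) = 16 := by
  have : Fact (Nat.Prime 2) := ⟨by norm_num⟩
  have := sylow_card_eq P (k := 4) (m := 255) (by rw [hG]; norm_num) (by norm_num)
  simpa using this

/-- Every proper subgroup of a simple group of order `4080` has index at least `17`. -/
theorem index_ge (hG : Nat.card G = 4080) (H : Subgroup G) (hH : H ≠ ⊤) : 17 ≤ H.index := by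
  have hnc := not_comm hG
  by_contra hlt
  push Not at hlt
  have hfact := two_mul_card_dvd_factorial hnc H hH
  rw [hG] at hfact
  have hd : (H.index).factorial ∣ (16).factorial := Nat.factorial_dvd_factorial (by omega)
  have h17 : 17 ∣ (16).factorial := (Dvd.dvd.trans (by norm_num) hfact).trans hd
  have := (Nat.Prime.dvd_factorial (by norm_num : Nat.Prime 17)).1 h17
  omega

/-- The Sylow count is at least `17`. -/
theorem sylow_count_ge (hG : Nat.card G = 4080) {p : ℕ} [Fact p.Prime]
    (hne1 : Nat.card (Sylow p G) ≠ 1) : 17 ≤ Nat.card (Sylow p G) := by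
  obtain ⟨P⟩ : Nonempty (Sylow p G) := inferInstance
  have hidx : (Subgroup.normalizer ((P : Subgroup G) : Set G)).index = Nat.card (Sylow p G) :=
    P.card_eq_index_normalizer.symm
  rw [← hidx]
  apply index_ge hG
  intro htop
  rw [htop, Subgroup.index_top] at hidx
  exact hne1 hidx.symm

theorem card_sylow17 (hG : Nat.card G = 4080) : Nat.card (Sylow 17 G) = 120 := by
  have : Fact (Nat.Prime 17) := ⟨by norm_num⟩
  have hfac : Nat.card G = 17 ^ 1 * 240 := by rw [hG]; norm_num
  have h1 : ¬ 17 ∣ 240 := by norm_num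
  obtain ⟨hdvd, hmod⟩ := sylow_count (G := G) hfac h1
  have hne1 := sylow_count_ne_one (G := G) hfac h1 (by norm_num) (by norm_num)
  have hle : Nat.card (Sylow 17 G) ≤ 240 := Nat.le_of_dvd (by norm_num) hdvd
  generalize Nat.card (Sylow 17 G) = n at *
  interval_cases n <;> omega

/-- Elements of order `17` are self-centralizing. -/
theorem centralizer_17 (hG : Nat.card G = 4080) (x : G) (hx : orderOf x = 17) :
    Subgroup.centralizer ({x} : Set G) = Subgroup.zpowers x := by
  have : Fact (Nat.Prime 17) := ⟨by norm_num⟩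
  apply centralizer_singleton_eq_of_card_normalizer (p := 17) (q := 2) (card_P17 hG)
    (by rw [hG]; norm_num) Nat.prime_two _ x hx
  intro P
  have h2 := card_normalizer_mul_sylow_count P
  rw [hG, card_sylow17 hG] at h2
  omega

/-- An element commuting with an element of order `17` has order dividing `17`. -/
theorem orderOf_dvd_of_commute_17 (hG : Nat.card G = 4080) (x g : G) (hx : orderOf x = 17)
    (hc : Commute g x) : orderOf g ∣ 17 := by
  have hmem : g ∈ Subgroup.centralizer ({x} : Set G) := by
    rw [Subgroup.mem_centralizer_singleton_iff]; exact hc.eq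
  rw [centralizer_17 hG x hx] at hmem
  have := orderOf_dvd_of_mem_zpowers hmem
  rwa [hx] at this

/-- The centralizer of a nonidentity element of order prime to `17` has order prime to `17`. -/
theorem not_17_dvd_card_centralizer (hG : Nat.card G = 4080) (C : Subgroup G) (g : G)
    (hg1 : g ≠ 1) (hg : ¬ 17 ∣ orderOf g) (hC : ∀ c ∈ C, Commute g c) :
    ¬ 17 ∣ Nat.card C := by
  have : Fact (Nat.Prime 17) := ⟨by norm_num⟩
  intro h
  obtain ⟨x, hx⟩ := exists_prime_orderOf_dvd_card' (G := ↥C) 17 h
  have hxo : orderOf (x : G) = 17 := by rw [Subgroup.orderOf_coe, hx]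
  have h1 := orderOf_dvd_of_commute_17 hG (x : G) g hxo (hC _ x.2)
  rcases (Nat.dvd_prime (by norm_num : Nat.Prime 17)).1 h1 with h2 | h2
  · exact hg1 (orderOf_eq_one_iff.1 h2)
  · exact hg (h2 ▸ dvd_refl _)

end Cfsg.Agent.Helper17.O4080
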