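import Mathlib
import Cfsg.Agent.Lib.Helper17.Order4080
import Cfsg.Agent.Lib.Helper17.SylowLink

set_option autoImplicit false

namespace Cfsg.Agent.Helper17.O4080

open Cfsg.Agent.Helper17

variable {G : Type*} [Group G] [Finite G] [IsSimpleGroup G]

theorem card_normalizer_mul (hG : Nat.card G = 4080) {p : ℕ} [Fact p.Prime] (P : Sylow p G) :
    Nat.card (Subgroup.normalizer ((P : Subgroup G) : Set G)) * Nat.card (Sylow p G) = 4080 := by
  rw [← hG]; exact card_normalizer_mul_sylow_count P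

/-- The two possibilities for the Sylow `5`-subgroups. -/
theorem sylow5_cases (hG : Nat.card G = 4080) :
    (Nat.card (Sylow 5 G) = 51 ∧ ∀ P : Sylow 5 G,
      Nat.card (Subgroup.centralizer ((P : Subgroup G) : Set G)) = 20 ∨
      Nat.card (Subgroup.centralizer ((P : Subgroup G) : Set G)) = 40) ∨
    (Nat.card (Sylow 5 G) = 136 ∧ ∀ P : Sylow 5 G,
      Nat.card (Subgroup.centralizer ((P : Subgroup G) : Set G)) = 15) := by
  have hp5 : Fact (Nat.Prime 5) := ⟨by norm_num⟩
  have hfac : Nat.card G = 5 ^ 1 * 816 := by rw [hG]; norm_num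
  have h1 : ¬ 5 ∣ 816 := by norm_num
  obtain ⟨hdvd, hmod⟩ := sylow_count (G := G) hfac h1
  have hne1 := sylow_count_ne_one (G := G) hfac h1 (by norm_num) (by norm_num)
  have hge := sylow_count_ge hG hne1
  have key : ∀ n : ℕ, n ≤ 816 → n ∣ 816 → n % 5 = 1 → 17 ≤ n →
      n = 51 ∨ n = 136 ∨ n = 816 := by decide +kernel
  have hn := key _ (Nat.le_of_dvd (by norm_num) hdvd) hdvd hmod hge
  have hall : ∀ P : Sylow 5 G, ∃ e : ℕ, e ∣ 4 ∧ e ≠ 1 ∧
      Nat.card (Subgroup.centralizer ((P : Subgroup G) : Set G)) * e * Nat.card (Sylow 5 G) =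
        4080 := by
    intro P
    obtain ⟨e, he, he1, hce⟩ := exists_e P (card_P5 hG P) (by rw [hG]; norm_num)
    exact ⟨e, he, he1, by rw [hce]; exact card_normalizer_mul hG P⟩
  rcases hn with hn | hn | hn
  · left
    refine ⟨hn, fun P => ?_⟩
    obtain ⟨e, he, he1, hce⟩ := hall P
    rw [hn] at hce
    have he4 : e ≤ 4 := Nat.le_of_dvd (by norm_num) he
    generalize Nat.card (Subgroup.centralizer ((P : Subgroup G) : Set G)) = c at *
    interval_cases e <;> omega
  · right
    refine ⟨hn, fun P => ?_⟩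
    obtain ⟨e, he, he1, hce⟩ := hall P
    rw [hn] at hce
    have he4 : e ≤ 4 := Nat.le_of_dvd (by norm_num) he
    generalize Nat.card (Subgroup.centralizer ((P : Subgroup G) : Set G)) = c at *
    interval_cases e <;> omega
  · exfalso
    obtain ⟨P⟩ : Nonempty (Sylow 5 G) := inferInstance
    obtain ⟨e, he, he1, hce⟩ := hall P
    rw [hn] at hce
    have he4 : e ≤ 4 := Nat.le_of_dvd (by norm_num) he
    generalize Nat.card (Subgroup.centralizer ((P : Subgroup G) : Set G)) = c at *
    interval_cases e <;> omega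

/-- The possibilities for the Sylow `3`-subgroups. -/
theorem sylow3_cases (hG : Nat.card G = 4080) :
    ∃ c : ℕ, (c = 60 ∨ c = 24 ∨ c = 15 ∨ c = 6) ∧ Nat.card (Sylow 3 G) * c = 2040 ∧
      ∀ P : Sylow 3 G, Nat.card (Subgroup.centralizer ((P : Subgroup G) : Set G)) = c := by
  have hp3 : Fact (Nat.Prime 3) := ⟨by norm_num⟩
  have hfac : Nat.card G = 3 ^ 1 * 1360 := by rw [hG]; norm_num
  have h1 : ¬ 3 ∣ 1360 := by norm_num
  obtain ⟨hdvd, hmod⟩ := sylow_count (G := G) hfac h1
  have hne1 := sylow_count_ne_one (G := G) hfac h1 (by norm_num) (by norm_num)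
  have hge := sylow_count_ge hG hne1
  have key : ∀ n ∈ Nat.divisors 1360, n % 3 = 1 → 17 ≤ n →
      n = 34 ∨ n = 40 ∨ n = 85 ∨ n = 136 ∨ n = 340 ∨ n = 1360 := by decide +kernel
  have hn := key _ (Nat.mem_divisors.2 ⟨hdvd, by norm_num⟩) hmod hge
  have hall : ∀ P : Sylow 3 G,
      Nat.card (Subgroup.centralizer ((P : Subgroup G) : Set G)) * 2 * Nat.card (Sylow 3 G) =
        4080 ∧ ¬ 17 ∣ Nat.card (Subgroup.centralizer ((P : Subgroup G) : Set G)) := by
    intro P
    obtain ⟨e, he, he1, hce⟩ := exists_e P (card_P3 hG P) (by rw [hG]; norm_num)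
    have he2 : e = 2 := by
      have he2 : e ≤ 2 := Nat.le_of_dvd (by norm_num) he
      interval_cases e
      · simp at he
      · exact absurd rfl he1
      · rfl
    subst he2
    refine ⟨by rw [hce]; exact card_normalizer_mul hG P, ?_⟩
    obtain ⟨d', hd'⟩ := exists_prime_orderOf_dvd_card' (G := ↥(P : Subgroup G)) 3
      (by rw [card_P3 hG P])
    have hdo : orderOf (d' : G) = 3 := by rw [Subgroup.orderOf_coe, hd']
    apply not_17_dvd_card_centralizer hG _ (d' : G)
    · intro h1
      rw [h1, orderOf_one] at hdo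
      omega
    · rw [hdo]; norm_num
    · intro c hc
      exact ((Subgroup.mem_centralizer_iff.1 hc) _ d'.2)
  obtain ⟨P₀⟩ : Nonempty (Sylow 3 G) := inferInstance
  refine ⟨Nat.card (Subgroup.centralizer ((P₀ : Subgroup G) : Set G)), ?_, ?_, ?_⟩
  · obtain ⟨h1, h2⟩ := hall P₀
    generalize Nat.card (Subgroup.centralizer ((P₀ : Subgroup G) : Set G)) = c at *
    rcases hn with hn | hn | hn | hn | hn | hn <;> rw [hn] at h1 <;> omega
  · obtain ⟨h1, -⟩ := hall P₀
    generalize Nat.card (Subgroup.centralizer ((P₀ : Subgroup G) : Set G)) = c at *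
    generalize Nat.card (Sylow 3 G) = n at *
    have : c * 2 * n = 2 * (n * c) := by ring
    omega
  · intro P
    obtain ⟨h1, -⟩ := hall P₀
    obtain ⟨h2, -⟩ := hall P
    have hpos : 0 < Nat.card (Sylow 3 G) := by omega
    have : Nat.card (Subgroup.centralizer ((P : Subgroup G) : Set G)) * 2 *
        Nat.card (Sylow 3 G) =
        Nat.card (Subgroup.centralizer ((P₀ : Subgroup G) : Set G)) * 2 *
        Nat.card (Sylow 3 G) := by rw [h1, h2]
    have h3 := Nat.eq_of_mul_eq_mul_right hpos this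
    omega

end Cfsg.Agent.Helper17.O4080
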