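import Mathlib
import Cfsg.Agent.Lib.Helper17.Order4080B

set_option autoImplicit false

namespace Cfsg.Agent.Helper17.O4080

open Cfsg.Agent.Helper17

variable {G : Type*} [Group G] [Finite G] [IsSimpleGroup G]

/-- The number of Sylow `5`-subgroups is not `51`. -/
theorem not_51 (hG : Nat.card G = 4080) (h51 : Nat.card (Sylow 5 G) = 51)
    (hc5 : ∀ P : Sylow 5 G,
      Nat.card (Subgroup.centralizer ((P : Subgroup G) : Set G)) = 20 ∨
      Nat.card (Subgroup.centralizer ((P : Subgroup G) : Set G)) = 40) : False := by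
  have hp17 : Fact (Nat.Prime 17) := ⟨by norm_num⟩
  have hp5 : Fact (Nat.Prime 5) := ⟨by norm_num⟩
  have hp3 : Fact (Nat.Prime 3) := ⟨by norm_num⟩
  have hp2 : Fact (Nat.Prime 2) := ⟨by norm_num⟩
  obtain ⟨c, hc, hnc, hall⟩ := sylow3_cases hG
  -- `5 ∤ c`
  have h5c : ¬ 5 ∣ c := by
    intro h5
    obtain ⟨P₀⟩ : Nonempty (Sylow 3 G) := inferInstance
    obtain ⟨Q, hQ⟩ := sylow_link (card_P3 hG) (card_P5 hG) P₀ (by rw [hall P₀]; exact h5)
    rcases hc5 Q with h | h <;> rw [h] at hQ <;> omega
  -- family of 17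
  have f17 := card_family_le (G := G) (p := 17) 256 1 (by norm_num) (by norm_num) (card_P17 hG)
    (fun P => ⟨⊥, bot_le, by simp⟩)
  rw [card_sylow17 hG] at f17
  -- family of 5
  have f5 := card_family_le (G := G) (p := 5) 256 4 (by norm_num) (by norm_num) (card_P5 hG)
    (fun P => by
      have := exists_subgroup_le_card (Subgroup.centralizer ((P : Subgroup G) : Set G)) 2 2
        (by rcases hc5 P with h | h <;> rw [h] <;> norm_num)
      simpa using this)
  rw [h51] at f5
  -- family of 3
  have f3 : 1360 ≤ Nat.card {g : G // orderOf (g ^ 256) = 3} := by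
    have hc' : c = 24 ∨ c = 6 := by
      rcases hc with h | h | h | h
      · exact absurd (h ▸ (by norm_num : 5 ∣ 60)) h5c
      · exact Or.inl h
      · exact absurd (h ▸ (by norm_num : 5 ∣ 15)) h5c
      · exact Or.inr h
    rcases hc' with h | h
    · have f3 := card_family_le (G := G) (p := 3) 256 8 (by norm_num) (by norm_num) (card_P3 hG)
        (fun P => by
          have := exists_subgroup_le_card (Subgroup.centralizer ((P : Subgroup G) : Set G)) 2 3
            (by rw [hall P, h]; norm_num)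
          simpa using this)
      have : Nat.card (Sylow 3 G) = 85 := by subst h; omega
      rw [this] at f3
      omega
    · have f3 := card_family_le (G := G) (p := 3) 256 2 (by norm_num) (by norm_num) (card_P3 hG)
        (fun P => by
          have := exists_subgroup_le_card (Subgroup.centralizer ((P : Subgroup G) : Set G)) 2 1
            (by rw [hall P, h]; norm_num)
          simpa using this)
      have : Nat.card (Sylow 3 G) = 340 := by subst h; omega
      rw [this] at f3
      omega
  have hsum := sum_card_fiber_le (G := G) (fun g => orderOf (g ^ 256)) {17, 5, 3}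
  rw [Finset.sum_insert (by decide), Finset.sum_insert (by decide), Finset.sum_singleton,
    hG] at hsum
  omega

/-- The Sylow `5`-subgroups. -/
theorem sylow5_facts (hG : Nat.card G = 4080) :
    Nat.card (Sylow 5 G) = 136 ∧ ∀ P : Sylow 5 G,
      Nat.card (Subgroup.centralizer ((P : Subgroup G) : Set G)) = 15 := by
  rcases sylow5_cases hG with ⟨h1, h2⟩ | h
  · exact absurd (not_51 hG h1 h2) id
  · exact h

/-- The Sylow `3`-subgroups. -/
theorem sylow3_facts (hG : Nat.card G = 4080) :
    Nat.card (Sylow 3 G) = 136 ∧ ∀ P : Sylow 3 G,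
      Nat.card (Subgroup.centralizer ((P : Subgroup G) : Set G)) = 15 := by
  have hp5 : Fact (Nat.Prime 5) := ⟨by norm_num⟩
  have hp3 : Fact (Nat.Prime 3) := ⟨by norm_num⟩
  obtain ⟨h5n, h5c⟩ := sylow5_facts hG
  obtain ⟨c, hc, hnc, hall⟩ := sylow3_cases hG
  obtain ⟨P₅⟩ : Nonempty (Sylow 5 G) := inferInstance
  obtain ⟨Q, hQ⟩ := sylow_link (card_P5 hG) (card_P3 hG) P₅ (by rw [h5c P₅]; norm_num)
  rw [hall Q] at hQ
  have hc' : c = 60 ∨ c = 15 := by
    rcases hc with h | h | h | h
    · exact Or.inl h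
    · subst h; omega
    · exact Or.inr h
    · subst h; omega
  suffices h15 : c = 15 by
    subst h15
    exact ⟨by omega, hall⟩
  rcases hc' with h60 | h15
  swap
  · exact h15
  exfalso
  subst h60
  -- `M = C(Q)` has order `60`
  obtain ⟨M, hM⟩ : ∃ M : Subgroup G, M = Subgroup.centralizer ((Q : Subgroup G) : Set G) :=
    ⟨_, rfl⟩
  have hMc : Nat.card M = 60 := by rw [hM, hall Q]
  have hQab : IsMulCommutative (Q : Subgroup G) := by
    have : IsCyclic ↥(Q : Subgroup G) := isCyclic_of_prime_card (card_P3 hG Q)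
    exact ⟨⟨fun a b => IsCyclic.commGroup.mul_comm a b⟩⟩
  have hQM : (Q : Subgroup G) ≤ M := by
    rw [hM]
    exact Subgroup.le_centralizer (Q : Subgroup G)
  obtain ⟨y', hy'⟩ := exists_prime_orderOf_dvd_card' (G := ↥M) 5 (by rw [hMc]; norm_num)
  obtain ⟨y, hy⟩ : ∃ y : G, y = (y' : G) := ⟨_, rfl⟩
  have hyo : orderOf y = 5 := by rw [hy, Subgroup.orderOf_coe, hy']
  have hyM : y ∈ M := by rw [hy]; exact y'.2
  -- the Sylow `5`-subgroup containing `y`
  obtain ⟨P, hP⟩ := (IsPGroup.of_card (p := 5) (n := 1)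
    (by rw [Nat.card_zpowers, hyo, pow_one] : Nat.card (Subgroup.zpowers y) = 5 ^ 1)).exists_le_sylow
  have hPz : (P : Subgroup G) = Subgroup.zpowers y := by
    symm
    apply Subgroup.eq_of_le_of_card_ge hP
    rw [Nat.card_zpowers, hyo, card_P5 hG P]
  have hPM : (P : Subgroup G) ≤ M := by
    rw [hPz, Subgroup.zpowers_le]; exact hyM
  have hQN : (Q : Subgroup G) ≤ Subgroup.normalizer ((P : Subgroup G) : Set G) := by
    intro d hd
    apply Subgroup.centralizer_le_normalizer _
    rw [hPz]
    rw [Subgroup.mem_centralizer_iff]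
    intro z hz
    rw [SetLike.mem_coe, Subgroup.mem_zpowers_iff] at hz
    obtain ⟨k, rfl⟩ := hz
    have hyd : Commute y d := by
      rw [hM] at hyM
      exact ((Subgroup.mem_centralizer_iff.1 hyM) d hd).symm
    exact (hyd.zpow_left k).eq
  have hk := card_normalizer_subtype M P hPM
  have hmul := card_normalizer_mul_sylow_count (P.subtype hPM)
  rw [hk, hMc] at hmul
  have hmod := card_sylow_modEq_one 5 ↥M
  have h3k : 3 ∣ Nat.card ↥(Subgroup.normalizer ((P : Subgroup G) : Set G) ⊓ M) := by
    have := Subgroup.card_dvd_of_le (le_inf hQN hQM)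
    rwa [card_P3 hG Q] at this
  have h5k : 5 ∣ Nat.card ↥(Subgroup.normalizer ((P : Subgroup G) : Set G) ⊓ M) := by
    have := Subgroup.card_dvd_of_le (le_inf Subgroup.le_normalizer hPM :
      (P : Subgroup G) ≤ Subgroup.normalizer ((P : Subgroup G) : Set G) ⊓ M)
    rwa [card_P5 hG P] at this
  have hk30 : Nat.card ↥(Subgroup.normalizer ((P : Subgroup G) : Set G) ⊓ M) ∣ 30 := by
    have h1 := Subgroup.card_dvd_of_le
      (inf_le_left : Subgroup.normalizer ((P : Subgroup G) : Set G) ⊓ M ≤ _)
    have h2 := card_normalizer_mul hG P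
    rw [h5n] at h2
    have : Nat.card ↥(Subgroup.normalizer ((P : Subgroup G) : Set G)) = 30 := by omega
    rwa [this] at h1
  have hmod' : Nat.card (Sylow 5 ↥M) % 5 = 1 := hmod
  generalize Nat.card ↥(Subgroup.normalizer ((P : Subgroup G) : Set G) ⊓ M) = k at *
  generalize Nat.card (Sylow 5 ↥M) = n at *
  have hk30' : k ≤ 30 := Nat.le_of_dvd (by norm_num) hk30
  interval_cases k <;> omega

end Cfsg.Agent.Helper17.O4080
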