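import Mathlib
import Cfsg.Agent.Lib.Helper17.Order4080C
import Cfsg.Agent.Lib.Helper17.ConjCount
import Cfsg.Agent.Lib.Helper17.SylowFixed
import Cfsg.Agent.Lib.Helper17.Orbits
import Cfsg.Agent.Lib.Helper17.SylowInter
import Cfsg.Agent.Lib.Helper17.PrimeSylow

set_option autoImplicit false

namespace Cfsg.Agent.Helper17.O4080

open Cfsg.Agent.Helper17 MulAction

variable {G : Type*} [Group G] [Finite G] [IsSimpleGroup G]

omit [IsSimpleGroup G] in
/-- The centralizer of an element of prime order `p`, where Sylow `p`-subgroups have order `p`,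
is the centralizer of the Sylow subgroup containing it. -/
theorem centralizer_singleton_eq_sylow {p : ℕ} [hp : Fact p.Prime]
    (hP : ∀ P : Sylow p G, Nat.card (P : Subgroup G) = p) (d : G) (hd : orderOf d = p)
    (P : Sylow p G) (hdP : d ∈ (P : Subgroup G)) :
    Subgroup.centralizer ({d} : Set G) = Subgroup.centralizer ((P : Subgroup G) : Set G) := by
  have hPz : Subgroup.zpowers d = (P : Subgroup G) := by
    apply Subgroup.eq_of_le_of_card_ge ((Subgroup.zpowers_le).2 hdP)
    rw [Nat.card_zpowers, hd, hP P]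
  apply le_antisymm
  · intro g hg
    rw [Subgroup.mem_centralizer_singleton_iff] at hg
    rw [Subgroup.mem_centralizer_iff]
    intro z hz
    rw [SetLike.mem_coe, ← hPz, Subgroup.mem_zpowers_iff] at hz
    obtain ⟨k, rfl⟩ := hz
    have hgd : Commute g d := hg
    exact ((hgd.zpow_right k).eq).symm
  · apply Subgroup.centralizer_le
    intro z hz
    rw [Set.mem_singleton_iff] at hz
    rw [hz]; exact hdP

/-- Centralizers of elements of order `5` have order `15`. -/
theorem card_centralizer_five (hG : Nat.card G = 4080) (y : G) (hy : orderOf y = 5) :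
    Nat.card (Subgroup.centralizer ({y} : Set G)) = 15 := by
  have hp5 : Fact (Nat.Prime 5) := ⟨by norm_num⟩
  obtain ⟨P, hP⟩ := exists_sylow_mem_of_orderOf y hy
  rw [centralizer_singleton_eq_sylow (card_P5 hG) y hy P hP]
  exact (sylow5_facts hG).2 P

/-- Centralizers of elements of order `3` have order `15`. -/
theorem card_centralizer_three (hG : Nat.card G = 4080) (y : G) (hy : orderOf y = 3) :
    Nat.card (Subgroup.centralizer ({y} : Set G)) = 15 := by
  have hp3 : Fact (Nat.Prime 3) := ⟨by norm_num⟩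
  obtain ⟨P, hP⟩ := exists_sylow_mem_of_orderOf y hy
  rw [centralizer_singleton_eq_sylow (card_P3 hG) y hy P hP]
  exact (sylow3_facts hG).2 P

/-- The order of the centralizer of an involution divides `16`. -/
theorem card_centralizer_dvd (hG : Nat.card G = 4080) (t : G) (ht : orderOf t = 2) :
    Nat.card (Subgroup.centralizer ({t} : Set G)) ∣ 16 := by
  have hp5 : Fact (Nat.Prime 5) := ⟨by norm_num⟩
  have hp3 : Fact (Nat.Prime 3) := ⟨by norm_num⟩
  obtain ⟨C, hC⟩ : ∃ C : Subgroup G, C = Subgroup.centralizer ({t} : Set G) := ⟨_, rfl⟩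
  rw [← hC]
  have hmemC : ∀ y : G, y ∈ C ↔ y * t = t * y := by
    intro y; rw [hC]; exact Subgroup.mem_centralizer_singleton_iff
  have hd : Nat.card C ∣ 4080 := hG ▸ Subgroup.card_subgroup_dvd_card C
  have ht1 : t ≠ 1 := by
    rintro rfl
    rw [orderOf_one] at ht; omega
  have h17 : ¬ 17 ∣ Nat.card C := by
    apply not_17_dvd_card_centralizer hG C t ht1 (by rw [ht]; norm_num)
    intro c hc
    exact ((hmemC c).1 hc).symm
  have h3 : ¬ 3 ∣ Nat.card C := by
    intro h
    obtain ⟨x, hx⟩ := exists_prime_orderOf_dvd_card' (G := ↥C) 3 h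
    have hxo : orderOf (x : G) = 3 := by rw [Subgroup.orderOf_coe, hx]
    have hxt : t ∈ Subgroup.centralizer ({(x : G)} : Set G) := by
      rw [Subgroup.mem_centralizer_singleton_iff]
      exact ((hmemC _).1 x.2).symm
    have := Subgroup.orderOf_dvd_natCard _ hxt
    rw [ht, card_centralizer_three hG _ hxo] at this
    omega
  have h5 : ¬ 5 ∣ Nat.card C := by
    intro h
    obtain ⟨x, hx⟩ := exists_prime_orderOf_dvd_card' (G := ↥C) 5 h
    have hxo : orderOf (x : G) = 5 := by rw [Subgroup.orderOf_coe, hx]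
    have hxt : t ∈ Subgroup.centralizer ({(x : G)} : Set G) := by
      rw [Subgroup.mem_centralizer_singleton_iff]
      exact ((hmemC _).1 x.2).symm
    have := Subgroup.orderOf_dvd_natCard _ hxt
    rw [ht, card_centralizer_five hG _ hxo] at this
    omega
  have key : ∀ c ∈ Nat.divisors 4080, ¬ 17 ∣ c → ¬ 3 ∣ c → ¬ 5 ∣ c → c ∣ 16 := by
    decide +kernel
  exact key _ (Nat.mem_divisors.2 ⟨hd, by norm_num⟩) h17 h3 h5

/-- The counting bound. -/
theorem count_le (hG : Nat.card G = 4080) (T : Set G)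
    (hT : ∀ y ∈ T, y ≠ 1 ∧ orderOf y ≠ 17 ∧ orderOf (y ^ 6) ≠ 5 ∧ orderOf y ≠ 3) :
    T.ncard ≤ 255 ∧ (T.ncard = 255 → ∀ g : G, g = 1 ∨ orderOf g = 17 ∨
      orderOf (g ^ 6) = 5 ∨ orderOf g = 3 ∨ g ∈ T) := by
  have hp17 : Fact (Nat.Prime 17) := ⟨by norm_num⟩
  have hp5 : Fact (Nat.Prime 5) := ⟨by norm_num⟩
  have hp3 : Fact (Nat.Prime 3) := ⟨by norm_num⟩
  obtain ⟨A1, hA1⟩ : ∃ A1 : Set G, A1 = {1} := ⟨_, rfl⟩
  obtain ⟨A17, hA17⟩ : ∃ A17 : Set G, A17 = {g | orderOf g = 17} := ⟨_, rfl⟩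
  obtain ⟨A5, hA5⟩ : ∃ A5 : Set G, A5 = {g | orderOf (g ^ 6) = 5} := ⟨_, rfl⟩
  obtain ⟨A3, hA3⟩ : ∃ A3 : Set G, A3 = {g | orderOf g = 3} := ⟨_, rfl⟩
  have c1 : A1.ncard = 1 := by rw [hA1]; exact Set.ncard_singleton 1
  have c17 : A17.ncard = 1920 := by
    rw [hA17, ← Nat.card_coe_set_eq]
    have := card_orderOf_eq_prime (G := G) (p := 17) (card_P17 hG)
    rw [card_sylow17 hG] at this
    exact this
  have c3 : A3.ncard = 272 := by
    rw [hA3, ← Nat.card_coe_set_eq]
    have := card_orderOf_eq_prime (G := G) (p := 3) (card_P3 hG)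
    rw [(sylow3_facts hG).1] at this
    exact this
  have c5 : 1632 ≤ A5.ncard := by
    rw [hA5, ← Nat.card_coe_set_eq]
    have := card_family_le (G := G) (p := 5) 6 3 (by norm_num) (by norm_num) (card_P5 hG)
      (fun P => by
        have := exists_subgroup_le_card (Subgroup.centralizer ((P : Subgroup G) : Set G)) 3 1
          (by rw [(sylow5_facts hG).2 P]; norm_num)
        simpa using this)
    rw [(sylow5_facts hG).1] at this
    exact this
  have m1 : ∀ g, g ∈ A1 ↔ g = 1 := fun g => by rw [hA1]; exact Set.mem_singleton_iff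
  have m17 : ∀ g, g ∈ A17 ↔ orderOf g = 17 := fun g => by rw [hA17]; exact Iff.rfl
  have m5 : ∀ g, g ∈ A5 ↔ orderOf (g ^ 6) = 5 := fun g => by rw [hA5]; exact Iff.rfl
  have m3 : ∀ g, g ∈ A3 ↔ orderOf g = 3 := fun g => by rw [hA3]; exact Iff.rfl
  have d1 : Disjoint A1 A17 := by
    rw [Set.disjoint_left]
    intro g h1 h7
    rw [m1] at h1
    rw [m17, h1, orderOf_one] at h7
    omega
  have d2 : Disjoint (A1 ∪ A17) A5 := by
    rw [Set.disjoint_left]
    intro g h117 h5
    rw [m5] at h5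
    rcases h117 with h1 | h17
    · rw [(m1 g).1 h1, one_pow, orderOf_one] at h5
      omega
    · have hdvd : orderOf (g ^ 6) ∣ orderOf g := orderOf_pow_dvd 6
      rw [h5, (m17 g).1 h17] at hdvd
      omega
  have d3 : Disjoint (A1 ∪ A17 ∪ A5) A3 := by
    rw [Set.disjoint_left]
    intro g h h3
    rw [m3] at h3
    rcases h with (h1 | h17) | h5
    · rw [(m1 g).1 h1, orderOf_one] at h3
      omega
    · rw [(m17 g).1 h17] at h3
      omega
    · have hdvd : orderOf (g ^ 6) ∣ orderOf g := orderOf_pow_dvd 6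
      rw [(m5 g).1 h5, h3] at hdvd
      omega
  have d4 : Disjoint (A1 ∪ A17 ∪ A5 ∪ A3) T := by
    rw [Set.disjoint_left]
    intro g h hgT
    obtain ⟨hg1, hg17, hg5, hg3⟩ := hT g hgT
    rcases h with ((h1 | h17) | h5) | h3
    · exact hg1 ((m1 g).1 h1)
    · exact hg17 ((m17 g).1 h17)
    · exact hg5 ((m5 g).1 h5)
    · exact hg3 ((m3 g).1 h3)
  have hU : (A1 ∪ A17 ∪ A5 ∪ A3 ∪ T).ncard = 1 + 1920 + A5.ncard + 272 + T.ncard := by
    rw [Set.ncard_union_eq d4, Set.ncard_union_eq d3, Set.ncard_union_eq d2,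
      Set.ncard_union_eq d1, c1, c17, c3]
  have hle : (A1 ∪ A17 ∪ A5 ∪ A3 ∪ T).ncard ≤ Nat.card G := Set.ncard_le_card _
  rw [hU, hG] at hle
  refine ⟨by omega, fun h255 g => ?_⟩
  have huniv : A1 ∪ A17 ∪ A5 ∪ A3 ∪ T = Set.univ := by
    rw [Set.eq_univ_iff_ncard, hU, hG, h255]
    omega
  have hg : g ∈ A1 ∪ A17 ∪ A5 ∪ A3 ∪ T := by rw [huniv]; exact Set.mem_univ g
  rcases hg with (((h1 | h17) | h5) | h3) | hgT
  · exact Or.inl ((m1 g).1 h1)
  · exact Or.inr (Or.inl ((m17 g).1 h17))
  · exact Or.inr (Or.inr (Or.inl ((m5 g).1 h5)))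
  · exact Or.inr (Or.inr (Or.inr (Or.inl ((m3 g).1 h3))))
  · exact Or.inr (Or.inr (Or.inr (Or.inr hgT)))

/-- Involutions have centralizers of order `16`, and every element is the identity, of order
`17`, has sixth power of order `5`, has order `3`, or is an involution conjugate to any given
one. -/
theorem involution_facts (hG : Nat.card G = 4080) (t : G) (ht : orderOf t = 2) :
    Nat.card (Subgroup.centralizer ({t} : Set G)) = 16 ∧ ∀ g : G, g = 1 ∨ orderOf g = 17 ∨
      orderOf (g ^ 6) = 5 ∨ orderOf g = 3 ∨ IsConj g t := by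
  have h16 := card_centralizer_dvd hG t ht
  have hcl := card_carrier_mul_card_centralizer t
  rw [hG] at hcl
  have hT : ∀ y ∈ (ConjClasses.mk t).carrier,
      y ≠ 1 ∧ orderOf y ≠ 17 ∧ orderOf (y ^ 6) ≠ 5 ∧ orderOf y ≠ 3 := by
    intro y hy
    have hyg : IsConj y t :=
      ConjClasses.mk_eq_mk_iff_isConj.1 (ConjClasses.mem_carrier_iff_mk_eq.1 hy)
    have hyo : orderOf y = 2 := (orderOf_eq_of_isConj hyg).trans ht
    refine ⟨?_, ?_, ?_, ?_⟩
    · rintro rfl
      rw [orderOf_one] at hyo; omega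
    · omega
    · intro h5
      have hdvd : orderOf (y ^ 6) ∣ orderOf y := orderOf_pow_dvd 6
      rw [h5, hyo] at hdvd
      omega
    · omega
  obtain ⟨hle, hex⟩ := count_le hG _ hT
  rw [← Nat.card_coe_set_eq] at hle hex
  have hc16 : Nat.card (Subgroup.centralizer ({t} : Set G)) ≤ 16 :=
    Nat.le_of_dvd (by norm_num) h16
  have hboth : Nat.card (Subgroup.centralizer ({t} : Set G)) = 16 ∧
      Nat.card ((ConjClasses.mk t).carrier) = 255 := by
    generalize Nat.card (Subgroup.centralizer ({t} : Set G)) = c at *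
    generalize Nat.card ((ConjClasses.mk t).carrier) = k at *
    constructor <;> nlinarith
  refine ⟨hboth.1, fun g => ?_⟩
  rcases hex hboth.2 g with h | h | h | h | h
  · exact Or.inl h
  · exact Or.inr (Or.inl h)
  · exact Or.inr (Or.inr (Or.inl h))
  · exact Or.inr (Or.inr (Or.inr (Or.inl h)))
  · exact Or.inr (Or.inr (Or.inr (Or.inr
      (ConjClasses.mk_eq_mk_iff_isConj.1 (ConjClasses.mem_carrier_iff_mk_eq.1 h)))))

theorem exists_involution (hG : Nat.card G = 4080) : ∃ t : G, orderOf t = 2 := by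
  have : Fact (Nat.Prime 2) := ⟨by norm_num⟩
  exact exists_prime_orderOf_dvd_card' (G := G) 2 (by rw [hG]; norm_num)

/-- Nonidentity elements of a Sylow `2`-subgroup are involutions. -/
theorem sylow2_orderOf (hG : Nat.card G = 4080) (S : Sylow 2 G) (s : G)
    (hs : s ∈ (S : Subgroup G)) (hs1 : s ≠ 1) : orderOf s = 2 := by
  obtain ⟨t, ht⟩ := exists_involution hG
  have hd : orderOf s ∣ 16 := by
    have := Subgroup.orderOf_dvd_natCard _ hs
    rwa [card_P2 hG S] at this
  have hle : orderOf s ≤ 16 := Nat.le_of_dvd (by norm_num) hd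
  rcases (involution_facts hG t ht).2 s with h | h | h | h | h
  · exact absurd h hs1
  · rw [h] at hd; omega
  · have hdvd : orderOf (s ^ 6) ∣ orderOf s := orderOf_pow_dvd 6
    rw [h] at hdvd
    have : 5 ∣ 16 := hdvd.trans hd
    omega
  · rw [h] at hd; omega
  · exact (orderOf_eq_of_isConj h).trans ht

/-- Sylow `2`-subgroups are abelian. -/
theorem sylow2_comm (hG : Nat.card G = 4080) (S : Sylow 2 G) (a : G) (ha : a ∈ (S : Subgroup G))
    (b : G) (hb : b ∈ (S : Subgroup G)) : a * b = b * a := by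
  have hsq : ∀ x ∈ (S : Subgroup G), x * x = 1 := by
    intro x hx
    by_cases hx1 : x = 1
    · rw [hx1, one_mul]
    · have := pow_orderOf_eq_one x
      rwa [sylow2_orderOf hG S x hx hx1, pow_two] at this
  have h1 := hsq a ha
  have h2 := hsq b hb
  have h3 := hsq (a * b) (Subgroup.mul_mem _ ha hb)
  calc a * b = (b * b) * (a * b) * (a * a) := by rw [h1, h2, one_mul, mul_one]
    _ = b * (b * a) * (b * a) * a := by group
    _ = b * ((b * a) * (b * a)) * a := by group
    _ = b * a := by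
      have h4 : (b * a) * (b * a) = 1 := by
        calc (b * a) * (b * a) = b * ((a * b) * (a * b)) * b⁻¹ := by group
          _ = 1 := by rw [h3]; group
      rw [h4, mul_one]

/-- Nonidentity elements of a Sylow `2`-subgroup have it as centralizer. -/
theorem sylow2_centralizer (hG : Nat.card G = 4080) (S : Sylow 2 G) (s : G)
    (hs : s ∈ (S : Subgroup G)) (hs1 : s ≠ 1) :
    Subgroup.centralizer ({s} : Set G) = (S : Subgroup G) := by
  have ho := sylow2_orderOf hG S s hs hs1
  have hc := (involution_facts hG s ho).1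
  have hle : (S : Subgroup G) ≤ Subgroup.centralizer ({s} : Set G) := by
    intro y hy
    rw [Subgroup.mem_centralizer_singleton_iff]
    exact sylow2_comm hG S y hy s hs
  exact (Subgroup.eq_of_le_of_card_ge hle (by rw [hc, card_P2 hG S])).symm

/-- Distinct Sylow `2`-subgroups intersect trivially. -/
theorem sylow2_inf_eq_bot (hG : Nat.card G = 4080) (S S' : Sylow 2 G) (h : S ≠ S') :
    (S : Subgroup G) ⊓ (S' : Subgroup G) = ⊥ := by
  rw [Subgroup.eq_bot_iff_forall]
  intro s hs
  by_contra hs1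
  apply h
  apply Sylow.ext
  rw [← sylow2_centralizer hG S s hs.1 hs1, ← sylow2_centralizer hG S' s hs.2 hs1]

/-- Nonidentity elements of a Sylow `2`-subgroup normalize no other Sylow `2`-subgroup. -/
theorem sylow2_fix (hG : Nat.card G = 4080) (P : Sylow 2 G) (g : G) (hgP : g ∈ (P : Subgroup G))
    (hg1 : g ≠ 1) (Q : Sylow 2 G) (hgQ : g • Q = Q) : Q = P := by
  have hp2 : Fact (Nat.Prime 2) := ⟨by norm_num⟩
  by_contra hQP
  rw [Sylow.smul_eq_iff_mem_normalizer] at hgQ
  have hpg : IsPGroup 2 (Subgroup.zpowers g) :=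
    P.isPGroup'.to_le ((Subgroup.zpowers_le).2 hgP)
  have hgQ' : g ∈ (Q : Subgroup G) := mem_sylow_of_mem_normalizer Q g hpg hgQ
  have hmem : g ∈ (P : Subgroup G) ⊓ (Q : Subgroup G) := ⟨hgP, hgQ'⟩
  rw [sylow2_inf_eq_bot hG P Q (Ne.symm hQP)] at hmem
  exact hg1 (Subgroup.mem_bot.1 hmem)

theorem card_sylow2 (hG : Nat.card G = 4080) : Nat.card (Sylow 2 G) = 17 := by
  have hp2 : Fact (Nat.Prime 2) := ⟨by norm_num⟩
  have hfac : Nat.card G = 2 ^ 4 * 255 := by rw [hG]; norm_num
  have h2255 : ¬ 2 ∣ 255 := by norm_num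
  obtain ⟨hdvd, -⟩ := sylow_count (G := G) hfac h2255
  have hne1 := sylow_count_ne_one (G := G) hfac h2255 (by norm_num) (by norm_num)
  have hge := sylow_count_ge hG hne1
  obtain ⟨P⟩ : Nonempty (Sylow 2 G) := inferInstance
  have hmod : Nat.card (Sylow 2 G) ≡ 1 [MOD 16] := by
    apply card_modEq_one_of_stabilizer_index (H := ↥(P : Subgroup G)) 16 P
    · intro h
      exact Sylow.smul_eq_iff_mem_normalizer.2 (Subgroup.le_normalizer h.2)
    · intro Q hQ
      have hbot : stabilizer (↥(P : Subgroup G)) Q = ⊥ := by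
        rw [Subgroup.eq_bot_iff_forall]
        intro x hx
        by_contra hx1
        have hx1' : (x : G) ≠ 1 := fun h => hx1 (Subtype.ext h)
        exact hQ (sylow2_fix hG P x x.2 hx1' Q hx)
      rw [hbot, Subgroup.index_bot, card_P2 hG P]
  have hle : Nat.card (Sylow 2 G) ≤ 255 := Nat.le_of_dvd (by norm_num) hdvd
  unfold Nat.ModEq at hmod
  generalize Nat.card (Sylow 2 G) = n at *
  interval_cases n <;> omega

end Cfsg.Agent.Helper17.O4080
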