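import Mathlib
import Cfsg.Agent.Lib.Helper17.Order4080D

set_option autoImplicit false

namespace Cfsg.Agent.Helper17.O4080

open Equiv Cfsg.Agent.Helper17 MulAction

variable {G : Type*} [Group G] [Finite G] [IsSimpleGroup G]

/-- The relation satisfied by a generator of the two-point stabilizer acting on a Sylow
`2`-subgroup, up to inverting the generator. -/
theorem exists_relation (hG : Nat.card G = 4080) (P : Sylow 2 G) (h s₀ : G)
    (hnorm : ∀ a ∈ (P : Subgroup G), h * a * h⁻¹ ∈ (P : Subgroup G))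
    (hord : orderOf h = 15) (hs₀ : s₀ ∈ (P : Subgroup G)) (hs₀1 : s₀ ≠ 1) :
    s₀ * (h * s₀ * h⁻¹) = h ^ 4 * s₀ * (h ^ 4)⁻¹ ∨
      s₀ * (h ^ 14 * s₀ * (h ^ 14)⁻¹) = (h ^ 14) ^ 4 * s₀ * ((h ^ 14) ^ 4)⁻¹ := by
  classical
  have hp2 : Fact (Nat.Prime 2) := ⟨by norm_num⟩
  have hcP := card_P2 hG P
  have hh15 : h ^ 15 = 1 := by rw [← hord]; exact pow_orderOf_eq_one h
  obtain ⟨σ, hσ⟩ : ∃ σ : MulAut G, σ = MulAut.conj h := ⟨_, rfl⟩
  have hσn : ∀ (n : ℕ) (a : G), (σ ^ n) a = h ^ n * a * (h ^ n)⁻¹ := by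
    intro n a
    rw [hσ, ← map_pow, MulAut.conj_apply]
  have hσP : ∀ (n : ℕ) (a : G), a ∈ (P : Subgroup G) → (σ ^ n) a ∈ (P : Subgroup G) := by
    intro n
    induction n with
    | zero => intro a ha; simpa using ha
    | succ n ih =>
      intro a ha
      rw [pow_succ', MulAut.mul_apply, hσ, MulAut.conj_apply]
      exact hnorm _ (by rw [← hσ]; exact ih a ha)
  have hσ15 : σ ^ 15 = 1 := by rw [hσ, ← map_pow, hh15, map_one]
  have hsq : ∀ x ∈ (P : Subgroup G), x * x = 1 := by
    intro x hx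
    by_cases hx1 : x = 1
    · rw [hx1, one_mul]
    · have := pow_orderOf_eq_one x
      rwa [sylow2_orderOf hG P x hx hx1, pow_two] at this
  have hcomm : ∀ a ∈ (P : Subgroup G), ∀ b ∈ (P : Subgroup G), a * b = b * a :=
    fun a ha b hb => sylow2_comm hG P a ha b hb
  let instA : CommGroup ↥(P : Subgroup G) :=
    { (inferInstance : Group ↥(P : Subgroup G)) with
      mul_comm := fun a b => Subtype.ext (hcomm a a.2 b b.2) }
  have htsq : ∀ x : ↥(P : Subgroup G), x * x = 1 := fun x => Subtype.ext (hsq x x.2)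
  -- the restriction of `σ ^ n` to `P`
  obtain ⟨τ, hτ⟩ : ∃ τ : ℕ → ↥(P : Subgroup G) → ↥(P : Subgroup G),
      ∀ n x, ((τ n x : ↥(P : Subgroup G)) : G) = (σ ^ n) (x : G) :=
    ⟨fun n x => ⟨(σ ^ n) (x : G), hσP n _ x.2⟩, fun n x => rfl⟩
  have τ_mul : ∀ n x y, τ n (x * y) = τ n x * τ n y := by
    intro n x y
    apply Subtype.ext
    rw [Subgroup.coe_mul, hτ, hτ, hτ, Subgroup.coe_mul, map_mul]
  have τ_one : ∀ n, τ n 1 = 1 := by
    intro n
    apply Subtype.ext
    rw [hτ, Subgroup.coe_one, map_one]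
  have τ_inj : ∀ n x, τ n x = 1 → x = 1 := by
    intro n x hx
    have := congrArg Subtype.val hx
    rw [hτ, Subgroup.coe_one] at this
    exact Subtype.ext ((EmbeddingLike.map_eq_one_iff (f := σ ^ n)).1 this)
  -- regularity
  have hreg : ∀ n, ¬ 15 ∣ n → ∀ x : ↥(P : Subgroup G), τ n x = x → x = 1 := by
    intro n hn x hx
    by_contra hx1
    have hx1' : (x : G) ≠ 1 := fun h => hx1 (Subtype.ext h)
    have hx' := congrArg Subtype.val hx
    rw [hτ, hσn] at hx'
    have hmem : h ^ n ∈ Subgroup.centralizer ({(x : G)} : Set G) := by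
      rw [Subgroup.mem_centralizer_singleton_iff]
      calc h ^ n * (x : G) = h ^ n * (x : G) * (h ^ n)⁻¹ * h ^ n := by group
        _ = (x : G) * h ^ n := by rw [hx']
    rw [sylow2_centralizer hG P (x : G) x.2 hx1'] at hmem
    have h16 : orderOf (h ^ n) ∣ 16 := by
      have := Subgroup.orderOf_dvd_natCard _ hmem
      rwa [hcP] at this
    have h15 : orderOf (h ^ n) ∣ 15 := hord ▸ orderOf_pow_dvd n
    have h1 : orderOf (h ^ n) ∣ 1 := Nat.dvd_gcd h16 h15
    have h2 : h ^ n = 1 := orderOf_eq_one_iff.1 (Nat.dvd_one.1 h1)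
    apply hn
    rw [← hord]
    exact orderOf_dvd_of_pow_eq_one h2
  -- the orbit of `s₀`
  obtain ⟨t, ht⟩ : ∃ t : ℕ → ↥(P : Subgroup G), ∀ i, t i = τ i ⟨s₀, hs₀⟩ := ⟨_, fun i => rfl⟩
  have ht_coe : ∀ i, ((t i : ↥(P : Subgroup G)) : G) = h ^ i * s₀ * (h ^ i)⁻¹ := by
    intro i
    rw [ht, hτ, hσn]
  have τ_t : ∀ n i, τ n (t i) = t (i + n) := by
    intro n i
    apply Subtype.ext
    rw [hτ, ht_coe, ht_coe, hσn, pow_add]
    group
  have ht15 : ∀ i, t (i + 15) = t i := by
    intro i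
    apply Subtype.ext
    rw [ht_coe, ht_coe, pow_add, hh15, mul_one]
  have ht0 : ((t 0 : ↥(P : Subgroup G)) : G) = s₀ := by
    rw [ht_coe]; simp
  have ht1 : ∀ i, t i ≠ 1 := by
    intro i hi
    rw [ht] at hi
    have := τ_inj i _ hi
    exact hs₀1 (congrArg Subtype.val this)
  have hfixn : ∀ n, t n = t 0 → 15 ∣ n := by
    intro n hn
    by_contra h15
    apply ht1 0
    apply hreg n h15
    rw [τ_t, zero_add, hn]
  have hper : ∀ i j, i ≤ j → t i = t j → 15 ∣ j - i := by
    intro i j hij he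
    apply hfixn
    by_contra hne
    have h1 : τ i (t (j - i)) = τ i (t 0) := by
      rw [τ_t, τ_t, zero_add, show j - i + i = j by omega, he]
    have h2 : τ i (t (j - i) * t 0) = 1 := by
      rw [τ_mul, h1, htsq]
    have h3 := τ_inj i _ h2
    apply hne
    calc t (j - i) = t (j - i) * (t 0 * t 0) := by rw [htsq, mul_one]
      _ = (t (j - i) * t 0) * t 0 := by rw [mul_assoc]
      _ = t 0 := by rw [h3, one_mul]
  have hinj : ∀ i j, i < 15 → j < 15 → t i = t j → i = j := by
    intro i j hi hj he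
    rcases le_total i j with hij | hij
    · have := hper i j hij he
      omega
    · have := hper j i hij he.symm
      omega
  have hsurj : ∀ x : ↥(P : Subgroup G), x ≠ 1 → ∃ j < 15, x = t j := by
    intro x hx
    let f : Fin 15 → {x : ↥(P : Subgroup G) // x ≠ 1} := fun i => ⟨t i, ht1 i⟩
    have hf : Function.Injective f := by
      intro i j hij
      have : t i = t j := congrArg Subtype.val hij
      exact Fin.ext (hinj i j i.2 j.2 this)
    have hbij : Function.Bijective f := by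
      apply hf.bijective_of_nat_card_le
      rw [card_ne_subtype, hcP, Nat.card_eq_fintype_card, Fintype.card_fin]
    obtain ⟨i, hi⟩ := hbij.2 ⟨x, hx⟩
    exact ⟨i, i.2, (congrArg Subtype.val hi).symm⟩
  -- `σ¹⁰ + σ⁵ + 1 = 0`
  have hW : ∀ i, t i * t (i + 5) * t (i + 10) = 1 := by
    intro i
    apply hreg 5 (by norm_num)
    rw [τ_mul, τ_mul, τ_t, τ_t, τ_t, show i + 5 + 5 = i + 10 by omega,
      show i + 10 + 5 = i + 15 by omega, ht15]
    ac_rfl
  -- the product of the two primitive quartics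
  obtain ⟨v, hv⟩ : ∃ v : ℕ → ↥(P : Subgroup G), ∀ i, v i =
      t (i + 8) * t (i + 7) * t (i + 5) * t (i + 4) * t (i + 3) * t (i + 1) * t i :=
    ⟨_, fun i => rfl⟩
  have hv3 : ∀ i, v i * v (i + 1) * v (i + 2) = 1 := by
    intro i
    have key : v i * v (i + 1) * v (i + 2) = (t i * t (i + 5) * t (i + 10)) *
        ((t (i + 1) * t (i + 1)) * (t (i + 2) * t (i + 2)) * (t (i + 3) * t (i + 3)) *
        (t (i + 4) * t (i + 4)) * (t (i + 5) * t (i + 5)) * (t (i + 6) * t (i + 6)) *
        (t (i + 7) * t (i + 7)) * (t (i + 8) * t (i + 8)) * (t (i + 9) * t (i + 9))) := by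
      rw [hv, hv, hv]
      rw [show i + 1 + 8 = i + 9 by omega, show i + 1 + 7 = i + 8 by omega,
        show i + 1 + 5 = i + 6 by omega, show i + 1 + 4 = i + 5 by omega,
        show i + 1 + 3 = i + 4 by omega, show i + 1 + 1 = i + 2 by omega,
        show i + 2 + 8 = i + 10 by omega, show i + 2 + 7 = i + 9 by omega,
        show i + 2 + 5 = i + 7 by omega, show i + 2 + 4 = i + 6 by omega,
        show i + 2 + 3 = i + 5 by omega, show i + 2 + 1 = i + 3 by omega]
      ac_rfl
    rw [key, hW]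
    simp only [htsq]
  have τ_v : ∀ n i, τ n (v i) = v (i + n) := by
    intro n i
    rw [hv, hv]
    simp only [τ_mul, τ_t]
    rw [show i + 8 + n = i + n + 8 by omega, show i + 7 + n = i + n + 7 by omega,
      show i + 5 + n = i + n + 5 by omega, show i + 4 + n = i + n + 4 by omega,
      show i + 3 + n = i + n + 3 by omega, show i + 1 + n = i + n + 1 by omega]
  have hv0 : ∀ i, v i = 1 := by
    intro i
    apply hreg 3 (by norm_num)
    rw [τ_v]
    have h1 := hv3 i
    have h2 := hv3 (i + 1)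
    rw [show i + 1 + 1 = i + 2 by omega, show i + 1 + 2 = i + 3 by omega] at h2
    calc v (i + 3) = (v i * v (i + 1) * v (i + 2)) * v (i + 3) := by rw [h1, one_mul]
      _ = v i * (v (i + 1) * v (i + 2) * v (i + 3)) := by ac_rfl
      _ = v i := by rw [h2, mul_one]
  -- the factor `x⁴ + x³ + 1`
  obtain ⟨u, hu⟩ : ∃ u : ℕ → ↥(P : Subgroup G), ∀ i, u i = t i * t (i + 3) * t (i + 4) :=
    ⟨_, fun i => rfl⟩
  have hu3 : ∀ i, u i * u (i + 1) * u (i + 4) = 1 := by
    intro i
    have key : u i * u (i + 1) * u (i + 4) = v i * (t (i + 4) * t (i + 4)) := by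
      rw [hu, hu, hu, hv]
      rw [show i + 1 + 3 = i + 4 by omega, show i + 1 + 4 = i + 5 by omega,
        show i + 4 + 3 = i + 7 by omega, show i + 4 + 4 = i + 8 by omega]
      ac_rfl
    rw [key, hv0, htsq, mul_one]
  have τ_u : ∀ n i, τ n (u i) = u (i + n) := by
    intro n i
    rw [hu, hu]
    simp only [τ_mul, τ_t]
    rw [show i + 3 + n = i + n + 3 by omega, show i + 4 + n = i + n + 4 by omega]
  by_cases hu0 : u 0 = 1
  · -- `σ⁴ = σ³ + 1`
    right
    have h11 : u 11 = 1 := by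
      have := τ_u 11 0
      rw [hu0, τ_one, zero_add] at this
      exact this.symm
    rw [hu] at h11
    have h15' : t (11 + 4) = t 0 := ht15 0
    rw [h15'] at h11
    have h3 : t 0 * t 14 = t 11 := by
      calc t 0 * t 14 = (t 11 * t 11) * (t 0 * t 14) := by rw [htsq, one_mul]
        _ = t 11 * (t 11 * t (11 + 3) * t 0) := by ac_rfl
        _ = t 11 := by rw [h11, mul_one]
    have h4 := congrArg Subtype.val h3
    rw [Subgroup.coe_mul, ht0, ht_coe, ht_coe] at h4
    rw [h4, ← pow_mul]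
    have e : h ^ (14 * 4) = h ^ 11 := by
      rw [show 14 * 4 = 15 * 3 + 11 by norm_num, pow_add, pow_mul, hh15, one_pow, one_mul]
    rw [e]
  · -- `σ⁴ = σ + 1`
    left
    obtain ⟨j, hj, huj⟩ := hsurj (u 0) hu0
    have huall : ∀ i, u i = t (j + i) := by
      intro i
      have := τ_u i 0
      rw [huj, τ_t, zero_add] at this
      exact this.symm
    have h1 := hu3 (15 - j)
    rw [huall, huall, huall, show j + (15 - j) = 0 + 15 by omega,
      show j + (15 - j + 1) = 1 + 15 by omega, show j + (15 - j + 4) = 4 + 15 by omega,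
      ht15, ht15, ht15] at h1
    have h3 : t 0 * t 1 = t 4 := by
      calc t 0 * t 1 = (t 0 * t 1 * t 4) * t 4 := by rw [mul_assoc (t 0 * t 1), htsq, mul_one]
        _ = t 4 := by rw [h1, one_mul]
    have h4 := congrArg Subtype.val h3
    rw [Subgroup.coe_mul, ht0, ht_coe, ht_coe, pow_one] at h4
    exact h4

end Cfsg.Agent.Helper17.O4080
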