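import Mathlib
import Cfsg.Agent.Lib.Helper17.Order4080E

set_option autoImplicit false

namespace Cfsg.Agent.Helper17.O4080

open Equiv Cfsg.Agent.Helper17 MulAction

variable {G : Type*} [Group G] [Finite G] [IsSimpleGroup G]

/-- The local structure at a Sylow `2`-subgroup of a simple group of order `4080`: the two-point
stabilizer of the action on the seventeen Sylow `2`-subgroups is cyclic of order fifteen, with a
generator acting on the Sylow subgroup as multiplication by a root of `a⁴ + a + 1`. -/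
theorem exists_PQh (hG : Nat.card G = 4080) :
    ∃ (P Q₀ : Sylow 2 G) (h s₀ : G), Q₀ ≠ P ∧
      (∀ g ∈ (P : Subgroup G), g ≠ 1 → ∀ Q : Sylow 2 G, g • Q = Q → Q = P) ∧
      h • P = P ∧ h • Q₀ = Q₀ ∧ orderOf h = 15 ∧
      (∀ g : G, g • P = P → g • Q₀ = Q₀ → g ∈ Subgroup.zpowers h) ∧
      s₀ ∈ (P : Subgroup G) ∧ s₀ ≠ 1 ∧
      s₀ * (h * s₀ * h⁻¹) = h ^ 4 * s₀ * (h ^ 4)⁻¹ := by
  classical
  have hp2 : Fact (Nat.Prime 2) := ⟨by norm_num⟩
  have hp3 : Fact (Nat.Prime 3) := ⟨by norm_num⟩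
  have hp5 : Fact (Nat.Prime 5) := ⟨by norm_num⟩
  have hn := card_sylow2 hG
  obtain ⟨P⟩ : Nonempty (Sylow 2 G) := inferInstance
  have hcP := card_P2 hG P
  have hfix : ∀ g ∈ (P : Subgroup G), g ≠ 1 → ∀ Q : Sylow 2 G, g • Q = Q → Q = P :=
    fun g hgP hg1 Q hgQ => sylow2_fix hG P g hgP hg1 Q hgQ
  have hPfix : ∀ g ∈ (P : Subgroup G), g • P = P := fun g hg =>
    Sylow.smul_eq_iff_mem_normalizer.2 (Subgroup.le_normalizer hg)
  obtain ⟨Q₀, hQ₀⟩ : ∃ Q₀ : Sylow 2 G, Q₀ ≠ P := by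
    by_contra hall
    push Not at hall
    have : Nat.card (Sylow 2 G) = 1 :=
      Nat.card_eq_one_iff_unique.2 ⟨⟨fun a b => (hall a).trans (hall b).symm⟩, ⟨P⟩⟩
    omega
  have hfree : ∀ g ∈ (P : Subgroup G), g • Q₀ = Q₀ → g = 1 := by
    intro g hg hgQ
    by_contra hg1
    exact hQ₀ (hfix g hg hg1 Q₀ hgQ)
  -- the labelling by `P`
  let ℓ₀ : Option ↥(P : Subgroup G) → Sylow 2 G := fun o => o.elim P (fun g => (g : G) • Q₀)
  have hne : ∀ g : ↥(P : Subgroup G), (g : G) • Q₀ ≠ P := by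
    intro g hgP
    apply hQ₀
    have h1 : Q₀ = (g : G)⁻¹ • P := by rw [eq_inv_smul_iff]; exact hgP
    rw [h1]
    exact hPfix _ (Subgroup.inv_mem _ g.2)
  have hℓinj : Function.Injective ℓ₀ := by
    intro o₁ o₂ h
    cases o₁ with
    | none =>
      cases o₂ with
      | none => rfl
      | some k => exact absurd h.symm (hne k)
    | some k₁ =>
      cases o₂ with
      | none => exact absurd h (hne k₁)
      | some k₂ =>
        have h2 : ((k₂ : G)⁻¹ * (k₁ : G)) • Q₀ = Q₀ := by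
          have h' : (k₁ : G) • Q₀ = (k₂ : G) • Q₀ := h
          rw [mul_smul, h', inv_smul_smul]
        have h3 := hfree _ (Subgroup.mul_mem _ (Subgroup.inv_mem _ k₂.2) k₁.2) h2
        have h4 : (k₁ : G) = (k₂ : G) := by
          have := congrArg (fun z => (k₂ : G) * z) h3
          simpa using this
        exact congrArg some (Subtype.ext h4)
  have hℓbij : Function.Bijective ℓ₀ := by
    apply hℓinj.bijective_of_nat_card_le
    rw [hn, Finite.card_option, hcP]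
  have hsurj : ∀ Q : Sylow 2 G, Q ≠ P → ∃ g ∈ (P : Subgroup G), g • Q₀ = Q := by
    intro Q hQ
    obtain ⟨o, ho⟩ := hℓbij.2 Q
    cases o with
    | none => exact absurd ho.symm hQ
    | some g => exact ⟨g, g.2, ho⟩
  -- the stabilizer of `P` and the two-point stabilizer
  obtain ⟨N, hN⟩ : ∃ N : Subgroup G, N = MulAction.stabilizer G P := ⟨_, rfl⟩
  have hNc : Nat.card N = 240 := by
    have h1 := MulAction.index_stabilizer_of_transitive G P
    have h2 := N.card_mul_index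
    rw [hN, h1, hn, hG] at h2
    rw [hN]
    omega
  have hmemN : ∀ g : G, g ∈ N ↔ g • P = P := by
    intro g
    rw [hN]
    exact MulAction.mem_stabilizer_iff
  have hPN : ∀ g ∈ (P : Subgroup G), g ∈ N := fun g hg => (hmemN g).2 (hPfix g hg)
  obtain ⟨S, hS⟩ : ∃ S : Subgroup N, S = MulAction.stabilizer N Q₀ := ⟨_, rfl⟩
  have hmemS : ∀ s : ↥N, s ∈ S ↔ (s : G) • Q₀ = Q₀ := by
    intro s
    rw [hS]
    exact MulAction.mem_stabilizer_iff
  have hkinj : Function.Injective (fun g : ↥(P : Subgroup G) => (g : G) • Q₀) := by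
    intro k k' h
    exact Option.some_injective _ (hℓinj h)
  have horb : MulAction.orbit N Q₀ = Set.range (fun g : ↥(P : Subgroup G) => (g : G) • Q₀) := by
    ext Q
    constructor
    · rintro ⟨n, rfl⟩
      have hnP : (n : G) • Q₀ ≠ P := by
        intro h1
        have h2 : Q₀ = (n : G)⁻¹ • P := by rw [← h1, inv_smul_smul]
        apply hQ₀
        rw [h2]
        exact (hmemN _).1 (N.inv_mem n.2)
      obtain ⟨g, hg, hgQ⟩ := hsurj _ hnP
      exact ⟨⟨g, hg⟩, hgQ⟩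
    · rintro ⟨k, rfl⟩
      exact ⟨⟨(k : G), hPN _ k.2⟩, rfl⟩
  have hSc : Nat.card S = 15 := by
    have h1 : S.index = 16 := by
      rw [hS, MulAction.index_stabilizer, horb, Set.ncard_range_of_injective hkinj, hcP]
    have h2 := S.card_mul_index
    rw [h1, hNc] at h2
    omega
  obtain ⟨Hs, hHs⟩ : ∃ Hs : Subgroup G, Hs = N ⊓ MulAction.stabilizer G Q₀ := ⟨_, rfl⟩
  have hmemH : ∀ g : G, g ∈ Hs ↔ g • P = P ∧ g • Q₀ = Q₀ := by
    intro g
    rw [hHs, Subgroup.mem_inf, hmemN, MulAction.mem_stabilizer_iff]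
  have hcH : Nat.card Hs = 15 := by
    rw [← hSc]
    apply Nat.card_congr
    refine ⟨fun g => ⟨⟨(g : G), ?_⟩, ?_⟩, fun s => ⟨((s : N) : G), ?_⟩, ?_, ?_⟩
    · exact (hmemN _).2 ((hmemH _).1 g.2).1
    · exact (hmemS _).2 ((hmemH _).1 g.2).2
    · rw [hmemH]
      exact ⟨(hmemN _).1 (s : N).2, (hmemS _).1 s.2⟩
    · intro g; rfl
    · intro s; rfl
  have hHnorm : ∀ g ∈ Hs, ∀ a ∈ (P : Subgroup G), g * a * g⁻¹ ∈ (P : Subgroup G) := by
    intro g hg a ha
    have hgP := ((hmemH g).1 hg).1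
    rw [Sylow.smul_eq_iff_mem_normalizer] at hgP
    exact (Subgroup.mem_normalizer_iff.1 hgP a).1 ha
  -- an element of order five
  obtain ⟨y', hy'⟩ := exists_prime_orderOf_dvd_card' (G := ↥Hs) 5 (by rw [hcH]; norm_num)
  obtain ⟨y, hy⟩ : ∃ y : G, y = (y' : G) := ⟨_, rfl⟩
  have hyH : y ∈ Hs := hy ▸ y'.2
  have hyo : orderOf y = 5 := by rw [hy, Subgroup.orderOf_coe, hy']
  have hyP := ((hmemH y).1 hyH).1
  have hyQ := ((hmemH y).1 hyH).2
  -- its fixed points
  have hyfix : ∀ Q : Sylow 2 G, y • Q = Q → Q = P ∨ Q = Q₀ := by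
    intro Q hQ
    by_cases hQP : Q = P
    · exact Or.inl hQP
    right
    obtain ⟨g, hgP, hgQ⟩ := hsurj Q hQP
    by_cases hg1 : g = 1
    · rw [← hgQ, hg1, one_smul]
    exfalso
    have hk : (y⁻¹ * g⁻¹ * y * g) • Q₀ = Q₀ := by
      rw [mul_smul, hgQ, mul_smul, hQ, ← hgQ, mul_smul, inv_smul_smul, inv_smul_eq_iff, hyQ]
    have hkP : y⁻¹ * g⁻¹ * y * g ∈ (P : Subgroup G) := by
      apply Subgroup.mul_mem _ _ hgP
      have := hHnorm y⁻¹ (Hs.inv_mem hyH) g⁻¹ (Subgroup.inv_mem _ hgP)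
      rwa [inv_inv] at this
    have hk1 := hfree _ hkP hk
    have hyg : y ∈ Subgroup.centralizer ({g} : Set G) := by
      rw [Subgroup.mem_centralizer_singleton_iff]
      calc y * g = g * y * (y⁻¹ * g⁻¹ * y * g) := by group
        _ = g * y := by rw [hk1, mul_one]
    rw [sylow2_centralizer hG P g hgP hg1] at hyg
    have := Subgroup.orderOf_dvd_natCard _ hyg
    rw [hyo, hcP] at this
    omega
  -- an element of order three commuting with it
  obtain ⟨d', hd'⟩ := exists_prime_orderOf_dvd_card'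
    (G := ↥(Subgroup.centralizer ({y} : Set G))) 3 (by rw [card_centralizer_five hG y hyo]; norm_num)
  obtain ⟨d, hd⟩ : ∃ d : G, d = (d' : G) := ⟨_, rfl⟩
  have hdo : orderOf d = 3 := by rw [hd, Subgroup.orderOf_coe, hd']
  have hdy : d * y = y * d := by
    rw [hd]; exact Subgroup.mem_centralizer_singleton_iff.1 d'.2
  have hd3 : d ^ 3 = 1 := by rw [← hdo]; exact pow_orderOf_eq_one d
  have hdfix : ∀ Q : Sylow 2 G, y • Q = Q → y • (d • Q) = d • Q := by
    intro Q hQ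
    rw [← mul_smul, ← hdy, mul_smul, hQ]
  have hdH : d ∈ Hs := by
    rw [hmemH]
    rcases hyfix _ (hdfix P hyP) with h1 | h1
    · refine ⟨h1, ?_⟩
      rcases hyfix _ (hdfix Q₀ hyQ) with h2 | h2
      · exfalso
        apply hQ₀
        have : d • Q₀ = d • P := by rw [h1, h2]
        exact smul_left_cancel _ this
      · exact h2
    · exfalso
      have h2 : d • Q₀ = P := by
        rcases hyfix _ (hdfix Q₀ hyQ) with h2 | h2
        · exact h2
        · exfalso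
          apply hQ₀
          have : d • Q₀ = d • P := by rw [h1, h2]
          exact smul_left_cancel _ this
      have h3 : d ^ 3 • P = Q₀ := by
        rw [pow_succ, pow_succ, pow_one, mul_smul, mul_smul, h1, h2, h1]
      rw [hd3, one_smul] at h3
      exact hQ₀ h3.symm
  -- a generator
  obtain ⟨h, hh⟩ : ∃ h : G, h = y * d := ⟨_, rfl⟩
  have hhH : h ∈ Hs := hh ▸ Hs.mul_mem hyH hdH
  have hord : orderOf h = 15 := by
    have hc : Commute y d := hdy.symm
    rw [hh, hc.orderOf_mul_eq_mul_orderOf_of_coprime (by rw [hyo, hdo]; norm_num), hyo, hdo]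
  -- a nonidentity element of `P`
  obtain ⟨s₀, hs₀P, hs₀1⟩ : ∃ s₀ ∈ (P : Subgroup G), s₀ ≠ 1 := by
    have hne : (P : Subgroup G) ≠ ⊥ := by
      intro h
      rw [h, Subgroup.card_bot] at hcP
      omega
    obtain ⟨⟨x, hxP⟩, hx1⟩ := (Subgroup.ne_bot_iff_exists_ne_one).1 hne
    exact ⟨x, hxP, fun h => hx1 (Subtype.ext h)⟩
  have key : ∀ k : G, k ∈ Hs → orderOf k = 15 →
      s₀ * (k * s₀ * k⁻¹) = k ^ 4 * s₀ * (k ^ 4)⁻¹ →
      ∃ (P Q₀ : Sylow 2 G) (h s₀ : G), Q₀ ≠ P ∧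
      (∀ g ∈ (P : Subgroup G), g ≠ 1 → ∀ Q : Sylow 2 G, g • Q = Q → Q = P) ∧
      h • P = P ∧ h • Q₀ = Q₀ ∧ orderOf h = 15 ∧
      (∀ g : G, g • P = P → g • Q₀ = Q₀ → g ∈ Subgroup.zpowers h) ∧
      s₀ ∈ (P : Subgroup G) ∧ s₀ ≠ 1 ∧
      s₀ * (h * s₀ * h⁻¹) = h ^ 4 * s₀ * (h ^ 4)⁻¹ := by
    intro k hkH hko hrel
    have hzp : Subgroup.zpowers k = Hs := by
      apply Subgroup.eq_of_le_of_card_ge ((Subgroup.zpowers_le).2 hkH)
      rw [Nat.card_zpowers, hko, hcH]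
    refine ⟨P, Q₀, k, s₀, hQ₀, hfix, ((hmemH k).1 hkH).1, ((hmemH k).1 hkH).2, hko, ?_, hs₀P,
      hs₀1, hrel⟩
    intro g hgP hgQ
    rw [hzp]
    exact (hmemH g).2 ⟨hgP, hgQ⟩
  rcases exists_relation hG P h s₀ (hHnorm h hhH) hord hs₀P hs₀1 with hrel | hrel
  · exact key h hhH hord hrel
  · refine key (h ^ 14) (Hs.pow_mem hhH 14) ?_ hrel
    rw [orderOf_pow' h (by norm_num), hord]
    norm_num

end Cfsg.Agent.Helper17.O4080
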