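import Mathlib
import Cfsg.Agent.Lib.Helper17.Simple
import Cfsg.Agent.Lib.Helper17.Burnside
import Cfsg.Agent.Lib.Helper17.IndexNormalizer
import Cfsg.Agent.Lib.Helper17.SylowInter2
import Cfsg.Agent.Lib.Helper17.SelfCent

set_option autoImplicit false

namespace Cfsg.Agent.Helper17.O504

open Cfsg.Agent.Helper17

variable {G : Type*} [Group G] [Finite G] [IsSimpleGroup G]

theorem not_comm (hG : Nat.card G = 504) : ¬ IsMulCommutative G :=
  not_comm_of_not_prime (by rw [hG]; norm_num)

theorem card_P7 (hG : Nat.card G = 504) (P : Sylow 7 G) : Nat.card (P : Subgroup G) = 7 := by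
  have : Fact (Nat.Prime 7) := ⟨by norm_num⟩
  have := sylow_card_eq P (k := 1) (m := 72) (by rw [hG]; norm_num) (by norm_num)
  simpa using this

theorem card_P3 (hG : Nat.card G = 504) (P : Sylow 3 G) : Nat.card (P : Subgroup G) = 9 := by
  have : Fact (Nat.Prime 3) := ⟨by norm_num⟩
  have := sylow_card_eq P (k := 2) (m := 56) (by rw [hG]; norm_num) (by norm_num)
  simpa using this

theorem card_P2 (hG : Nat.card G = 504) (P : Sylow 2 G) : Nat.card (P : Subgroup G) = 8 := by
  have : Fact (Nat.Prime 2) := ⟨by norm_num⟩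
  have := sylow_card_eq P (k := 3) (m := 63) (by rw [hG]; norm_num) (by norm_num)
  simpa using this

/-- Every proper subgroup of a simple group of order `504` has index at least nine. -/
theorem index_ge_nine (hG : Nat.card G = 504) (H : Subgroup G) (hH : H ≠ ⊤) : 9 ≤ H.index := by
  have hp7 : Fact (Nat.Prime 7) := ⟨by norm_num⟩
  have hnc := not_comm hG
  by_contra hlt
  push Not at hlt
  have hfact := two_mul_card_dvd_factorial hnc H hH
  rw [hG] at hfact
  by_cases h6 : H.index ≤ 6
  · have hd : (H.index).factorial ∣ (6).factorial := Nat.factorial_dvd_factorial h6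
    have := hfact.trans hd
    revert this; decide
  · have hidx : H.index = 7 ∨ H.index = 7 + 1 := by omega
    obtain ⟨P⟩ : Nonempty (Sylow 7 G) := inferInstance
    have hcP := card_P7 hG P
    have h1 := two_mul_card_normalizer_dvd_of_index hnc (by norm_num) P hcP H hH hidx
    have h2 := card_normalizer_mul_sylow_count P
    rw [hG] at h2
    obtain ⟨-, hmod⟩ := sylow_count (G := G) (p := 7) (k := 1) (m := 72)
      (by rw [hG]; norm_num) (by norm_num)
    have h7 : 7 ∣ Nat.card (Subgroup.normalizer ((P : Subgroup G) : Set G)) := by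
      have := Subgroup.card_dvd_of_le (Subgroup.le_normalizer (H := (P : Subgroup G)))
      rwa [hcP] at this
    generalize Nat.card (Subgroup.normalizer ((P : Subgroup G) : Set G)) = c at *
    generalize Nat.card (Sylow 7 G) = n at *
    have hc : c ≤ 21 := by
      have : 2 * c ≤ 7 * (7 - 1) := Nat.le_of_dvd (by norm_num) h1
      omega
    interval_cases c <;> omega

theorem card_sylow7 (hG : Nat.card G = 504) : Nat.card (Sylow 7 G) = 36 := by
  have : Fact (Nat.Prime 7) := ⟨by norm_num⟩
  have hfac : Nat.card G = 7 ^ 1 * 72 := by rw [hG]; norm_num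
  have h772 : ¬ 7 ∣ 72 := by norm_num
  obtain ⟨hdvd, hmod⟩ := sylow_count (G := G) hfac h772
  have hne1 := sylow_count_ne_one (G := G) hfac h772 (by norm_num) (by norm_num)
  obtain ⟨P⟩ : Nonempty (Sylow 7 G) := inferInstance
  have hidx : (Subgroup.normalizer ((P : Subgroup G) : Set G)).index = Nat.card (Sylow 7 G) :=
    P.card_eq_index_normalizer.symm
  have hge : 9 ≤ Nat.card (Sylow 7 G) := by
    rw [← hidx]
    apply index_ge_nine hG
    intro htop
    rw [htop, Subgroup.index_top] at hidx
    exact hne1 hidx.symm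
  have hle : Nat.card (Sylow 7 G) ≤ 72 := Nat.le_of_dvd (by norm_num) hdvd
  generalize Nat.card (Sylow 7 G) = n at *
  interval_cases n <;> omega

theorem card_sylow3 (hG : Nat.card G = 504) : Nat.card (Sylow 3 G) = 28 := by
  have : Fact (Nat.Prime 3) := ⟨by norm_num⟩
  have hfac : Nat.card G = 3 ^ 2 * 56 := by rw [hG]; norm_num
  have h356 : ¬ 3 ∣ 56 := by norm_num
  obtain ⟨hdvd, hmod⟩ := sylow_count (G := G) hfac h356
  have hne1 := sylow_count_ne_one (G := G) hfac h356 (by norm_num) (by norm_num)
  obtain ⟨P⟩ : Nonempty (Sylow 3 G) := inferInstance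
  have hidx : (Subgroup.normalizer ((P : Subgroup G) : Set G)).index = Nat.card (Sylow 3 G) :=
    P.card_eq_index_normalizer.symm
  have hge : 9 ≤ Nat.card (Sylow 3 G) := by
    rw [← hidx]
    apply index_ge_nine hG
    intro htop
    rw [htop, Subgroup.index_top] at hidx
    exact hne1 hidx.symm
  have hle : Nat.card (Sylow 3 G) ≤ 56 := Nat.le_of_dvd (by norm_num) hdvd
  generalize Nat.card (Sylow 3 G) = n at *
  interval_cases n <;> omega

/-- Elements of order seven are self-centralizing. -/
theorem centralizer_seven (hG : Nat.card G = 504) (x : G) (hx : orderOf x = 7) :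
    Subgroup.centralizer ({x} : Set G) = Subgroup.zpowers x := by
  have : Fact (Nat.Prime 7) := ⟨by norm_num⟩
  apply centralizer_singleton_eq_of_card_normalizer (p := 7) (q := 2) (card_P7 hG)
    (by rw [hG]; norm_num) Nat.prime_two _ x hx
  intro P
  have h2 := card_normalizer_mul_sylow_count P
  rw [hG, card_sylow7 hG] at h2
  omega

/-- A group of order nine is abelian: a Sylow `3`-subgroup centralizes itself. -/
theorem P3_le_centralizer (hG : Nat.card G = 504) (P : Sylow 3 G) :
    (P : Subgroup G) ≤ Subgroup.centralizer ((P : Subgroup G) : Set G) := by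
  have : Fact (Nat.Prime 3) := ⟨by norm_num⟩
  have hc : Nat.card (P : Subgroup G) = 3 ^ 2 := by rw [card_P3 hG P]; norm_num
  have hcomm := IsPGroup.isMulCommutative_of_card_eq_prime_sq hc
  intro x hx
  rw [Subgroup.mem_centralizer_iff]
  intro y hy
  have := hcomm.is_comm.comm (⟨y, hy⟩ : ↥(P : Subgroup G)) ⟨x, hx⟩
  exact congrArg Subtype.val this

theorem card_normalizer3 (hG : Nat.card G = 504) (P : Sylow 3 G) :
    Nat.card (Subgroup.normalizer ((P : Subgroup G) : Set G)) = 18 := by
  have : Fact (Nat.Prime 3) := ⟨by norm_num⟩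
  have h2 := card_normalizer_mul_sylow_count P
  rw [hG, card_sylow3 hG] at h2
  omega

/-- Sylow `3`-subgroups are self-centralizing. -/
theorem centralizer_P3 (hG : Nat.card G = 504) (P : Sylow 3 G) :
    Subgroup.centralizer ((P : Subgroup G) : Set G) = (P : Subgroup G) := by
  have : Fact (Nat.Prime 3) := ⟨by norm_num⟩
  have hcP := card_P3 hG P
  have hN := card_normalizer3 hG P
  have hle : Subgroup.centralizer ((P : Subgroup G) : Set G) ≤
      Subgroup.normalizer ((P : Subgroup G) : Set G) := Subgroup.centralizer_le_normalizer _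
  have hd1 : 9 ∣ Nat.card (Subgroup.centralizer ((P : Subgroup G) : Set G)) :=
    hcP ▸ Subgroup.card_dvd_of_le (P3_le_centralizer hG P)
  have hd2 : Nat.card (Subgroup.centralizer ((P : Subgroup G) : Set G)) ∣ 18 :=
    hN ▸ Subgroup.card_dvd_of_le hle
  have hne18 : Nat.card (Subgroup.centralizer ((P : Subgroup G) : Set G)) ≠ 18 := by
    intro h18
    have heq : Subgroup.centralizer ((P : Subgroup G) : Set G) =
        Subgroup.normalizer ((P : Subgroup G) : Set G) :=
      Subgroup.eq_of_le_of_card_ge hle (by rw [h18, hN])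
    apply not_normalizer_le_centralizer P (by rw [hcP]; norm_num) (by rw [hcP, hG]; norm_num)
    rw [heq]
  have h9 : Nat.card (Subgroup.centralizer ((P : Subgroup G) : Set G)) = 9 := by
    have hle18 : Nat.card (Subgroup.centralizer ((P : Subgroup G) : Set G)) ≤ 18 :=
      Nat.le_of_dvd (by norm_num) hd2
    generalize Nat.card (Subgroup.centralizer ((P : Subgroup G) : Set G)) = c at *
    interval_cases c <;> omega
  exact (Subgroup.eq_of_le_of_card_ge (P3_le_centralizer hG P) (by rw [h9, hcP])).symm

end Cfsg.Agent.Helper17.O504
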