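import Mathlib
import Cfsg.Agent.Lib.Helper17.Order504

set_option autoImplicit false

namespace Cfsg.Agent.Helper17.O504

open Cfsg.Agent.Helper17

variable {G : Type*} [Group G] [Finite G] [IsSimpleGroup G]

/-- Distinct Sylow `3`-subgroups of a simple group of order `504` intersect trivially. -/
theorem sylow3_inf_eq_bot (hG : Nat.card G = 504) (P Q : Sylow 3 G) (hPQ : P ≠ Q) :
    (P : Subgroup G) ⊓ (Q : Subgroup G) = ⊥ := by
  have hp3 : Fact (Nat.Prime 3) := ⟨by norm_num⟩
  have hp2 : Fact (Nat.Prime 2) := ⟨by norm_num⟩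
  have hnc := not_comm hG
  by_contra hne
  have hcP := card_P3 hG P
  have hcQ := card_P3 hG Q
  obtain ⟨D, hD⟩ : ∃ D : Subgroup G, D = (P : Subgroup G) ⊓ (Q : Subgroup G) := ⟨_, rfl⟩
  rw [← hD] at hne
  have hDP : D ≤ (P : Subgroup G) := hD ▸ inf_le_left
  have hDQ : D ≤ (Q : Subgroup G) := hD ▸ inf_le_right
  have hcD : Nat.card D = 3 := by
    have hdvd : Nat.card D ∣ 9 := hcP ▸ Subgroup.card_dvd_of_le hDP
    have hne1 : Nat.card D ≠ 1 := fun h => hne (Subgroup.card_eq_one.1 h)
    have hne9 : Nat.card D ≠ 9 := by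
      intro h9
      have e1 : D = (P : Subgroup G) := Subgroup.eq_of_le_of_card_ge hDP (by rw [h9, hcP])
      have e2 : D = (Q : Subgroup G) := Subgroup.eq_of_le_of_card_ge hDQ (by rw [h9, hcQ])
      exact hPQ (Sylow.ext (e1.symm.trans e2))
    have hle : Nat.card D ≤ 9 := Nat.le_of_dvd (by norm_num) hdvd
    generalize Nat.card D = n at *
    interval_cases n <;> first | omega | (revert hdvd; decide)
  have hrel : (Q : Subgroup G).relIndex (P : Subgroup G) = 3 := by
    have h1 := card_inf_mul_relIndex (Q : Subgroup G) (P : Subgroup G)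
    rw [inf_comm, ← hD, hcD, hcP] at h1
    omega
  have hrel' : (P : Subgroup G).relIndex (Q : Subgroup G) = 3 := by
    rw [← sylow_relIndex_symm P Q]; exact hrel
  have hPM : (P : Subgroup G) ≤ Subgroup.normalizer (D : Set G) := by
    rw [hD]; exact le_normalizer_inf_of_relIndex_eq_prime P Q hrel
  have hQM : (Q : Subgroup G) ≤ Subgroup.normalizer (D : Set G) := by
    rw [hD, inf_comm]; exact le_normalizer_inf_of_relIndex_eq_prime Q P hrel'
  obtain ⟨M, hM⟩ : ∃ M : Subgroup G, M = Subgroup.normalizer (D : Set G) := ⟨_, rfl⟩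
  rw [← hM] at hPM hQM
  have hMtop : M ≠ ⊤ := by
    intro htop
    rw [hM] at htop
    have hn : D.Normal := Subgroup.normalizer_eq_top_iff.1 htop
    exact normal_card_absurd D hn (by rw [hcD]; norm_num) (by rw [hcD, hG]; norm_num)
  have hidxM := index_ge_nine hG M hMtop
  have hPi : (P : Subgroup G).index = 56 :=
    sylow_index_eq P (k := 2) (m := 56) (by rw [hG]; norm_num) (by norm_num)
  have h1 := Subgroup.relIndex_mul_index hPM
  rw [hPi] at h1
  have hcM : Nat.card M = 9 * (P : Subgroup G).relIndex M := by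
    have h2 := card_inf_mul_relIndex (P : Subgroup G) M
    rw [inf_of_le_left hPM, hcP] at h2
    exact h2.symm
  -- Sylow subgroups of `M`
  have hSne : P.subtype hPM ≠ Q.subtype hQM := by
    intro h
    apply hPQ
    apply Sylow.ext
    have h2 : ((P.subtype hPM : Sylow 3 ↥M) : Subgroup ↥M) = (Q.subtype hQM : Sylow 3 ↥M) := by
      rw [h]
    rw [Sylow.coe_subtype, Sylow.coe_subtype, Subgroup.subgroupOf_inj, inf_of_le_left hPM,
      inf_of_le_left hQM] at h2
    exact h2
  have hn1 : Nat.card (Sylow 3 ↥M) ≠ 1 := by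
    intro h
    have : Subsingleton (Sylow 3 ↥M) := (Nat.card_eq_one_iff_unique.1 h).1
    exact hSne (Subsingleton.elim _ _)
  have hk56 : (P : Subgroup G).relIndex M ∣ 56 := Dvd.intro _ h1
  have hk3 : ¬ 3 ∣ (P : Subgroup G).relIndex M := by
    intro h3
    have : 3 ∣ 56 := h3.trans hk56
    omega
  obtain ⟨hndvd, hnmod⟩ := sylow_count (G := ↥M) (p := 3) (k := 2)
    (m := (P : Subgroup G).relIndex M) (by rw [hcM]; norm_num) hk3
  have hkey : (P : Subgroup G).relIndex M = 4 ∧ Nat.card (Sylow 3 ↥M) = 4 := by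
    generalize (P : Subgroup G).relIndex M = k at *
    generalize Nat.card (Sylow 3 ↥M) = n at *
    generalize M.index = idx at *
    have hk6 : k ≤ 6 := by nlinarith
    have hk0 : 0 < k := Nat.pos_of_ne_zero (by rintro rfl; omega)
    have hnk : n ≤ k := Nat.le_of_dvd hk0 hndvd
    interval_cases k <;> interval_cases n <;> first | omega | (revert hndvd; decide)
  obtain ⟨hk4, hn4⟩ := hkey
  rw [hk4] at hcM
  have hcM36 : Nat.card M = 36 := by omega
  -- the normal `3`-complement of `M`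
  obtain ⟨S, hS⟩ : ∃ S : Sylow 3 ↥M, S = P.subtype hPM := ⟨_, rfl⟩
  have hcS : Nat.card (S : Subgroup ↥M) = 9 := by
    have := sylow_card_eq S (k := 2) (m := 4) (by rw [hcM36]; norm_num) (by norm_num)
    simpa using this
  have hNS := card_normalizer_mul_sylow_count S
  rw [hn4, hcM36] at hNS
  have hNS9 : Nat.card (Subgroup.normalizer ((S : Subgroup ↥M) : Set ↥M)) = 9 := by omega
  have hNSeq : (S : Subgroup ↥M) = Subgroup.normalizer ((S : Subgroup ↥M) : Set ↥M) :=
    Subgroup.eq_of_le_of_card_ge Subgroup.le_normalizer (by rw [hNS9, hcS])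
  have hSab : (S : Subgroup ↥M) ≤ Subgroup.centralizer ((S : Subgroup ↥M) : Set ↥M) := by
    have hc : Nat.card (S : Subgroup ↥M) = 3 ^ 2 := by rw [hcS]; norm_num
    have hcomm := IsPGroup.isMulCommutative_of_card_eq_prime_sq hc
    intro x hx
    rw [Subgroup.mem_centralizer_iff]
    intro y hy
    have := hcomm.is_comm.comm (⟨y, hy⟩ : ↥(S : Subgroup ↥M)) ⟨x, hx⟩
    exact congrArg Subtype.val this
  obtain ⟨K, hKn, hKc, -⟩ := exists_normal_pcomplement S (by rw [← hNSeq]; exact hSab)
  rw [hcS, hcM36] at hKc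
  have hcK : Nat.card K = 4 := by omega
  obtain ⟨K', hK'⟩ : ∃ K' : Subgroup G, K' = K.map M.subtype := ⟨_, rfl⟩
  have hcK' : Nat.card K' = 4 := by
    rw [hK', Subgroup.card_map_of_injective M.subtype_injective, hcK]
  have hMN : M ≤ Subgroup.normalizer (K' : Set G) := by
    intro g hg
    have h2 : (⟨g, hg⟩ : ↥M) ∈ Subgroup.normalizer (K : Set ↥M) := by
      rw [Subgroup.normalizer_eq_top]; exact Subgroup.mem_top _
    have h3 := Subgroup.le_normalizer_map M.subtype (Subgroup.mem_map_of_mem M.subtype h2)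
    rw [hK']
    exact h3
  -- a Sylow `2`-subgroup containing `K'`
  have hK2 : IsPGroup 2 K' := IsPGroup.of_card (n := 2) (by rw [hcK']; norm_num)
  obtain ⟨T, hT⟩ := hK2.exists_le_sylow
  have hcT : Nat.card (T : Subgroup G) = 8 := card_P2 hG T
  have hTN : (T : Subgroup G) ≤ Subgroup.normalizer (K' : Set G) := by
    rw [← Subgroup.normal_subgroupOf_iff_le_normalizer hT]
    apply Subgroup.normal_of_index_eq_two
    have h2 := card_inf_mul_relIndex K' (T : Subgroup G)
    rw [inf_of_le_left hT, hcK', hcT] at h2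
    change K'.relIndex (T : Subgroup G) = 2
    omega
  obtain ⟨N', hN'⟩ : ∃ N' : Subgroup G, N' = Subgroup.normalizer (K' : Set G) := ⟨_, rfl⟩
  rw [← hN'] at hMN hTN
  have h36 : 36 ∣ Nat.card N' := hcM36 ▸ Subgroup.card_dvd_of_le hMN
  have h8 : 8 ∣ Nat.card N' := hcT ▸ Subgroup.card_dvd_of_le hTN
  have h72 : 72 ∣ Nat.card N' := by
    have h9 : 9 ∣ Nat.card N' := Dvd.dvd.trans (by norm_num) h36
    exact Nat.Coprime.mul_dvd_of_dvd_of_dvd (by norm_num : Nat.Coprime 9 8) h9 h8
  have hidx := N'.card_mul_index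
  rw [hG] at hidx
  by_cases htop : N' = ⊤
  · rw [hN'] at htop
    have hn : K'.Normal := Subgroup.normalizer_eq_top_iff.1 htop
    exact normal_card_absurd K' hn (by rw [hcK']; norm_num) (by rw [hcK', hG]; norm_num)
  · have hge := index_ge_nine hG N' htop
    obtain ⟨c, hc⟩ := h72
    rw [hc] at hidx
    have hc0 : 0 < c := Nat.pos_of_ne_zero (by rintro rfl; omega)
    nlinarith

end Cfsg.Agent.Helper17.O504
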