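import Mathlib
import Cfsg.Agent.Lib.Helper17.Order504B
import Cfsg.Agent.Lib.Helper17.ConjCount
import Cfsg.Agent.Lib.Helper17.SylowFixed

set_option autoImplicit false

namespace Cfsg.Agent.Helper17.O504

open Cfsg.Agent.Helper17

variable {G : Type*} [Group G] [Finite G] [IsSimpleGroup G]

/-- The counting bound: elements other than the identity, the elements of order seven and the
`3`-elements number at most `63`. -/
theorem count_le (hG : Nat.card G = 504) (T : Set G)
    (hT : ∀ y ∈ T, y ≠ 1 ∧ orderOf y ≠ 7 ∧ ¬ orderOf y ∣ 9) :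
    T.ncard ≤ 63 ∧ (T.ncard = 63 → ∀ g : G, g = 1 ∨ orderOf g = 7 ∨
      (g ≠ 1 ∧ ∃ P : Sylow 3 G, g ∈ (P : Subgroup G)) ∨ g ∈ T) := by
  have hp7 : Fact (Nat.Prime 7) := ⟨by norm_num⟩
  have hp3 : Fact (Nat.Prime 3) := ⟨by norm_num⟩
  obtain ⟨A1, hA1⟩ : ∃ A1 : Set G, A1 = {1} := ⟨_, rfl⟩
  obtain ⟨A7, hA7⟩ : ∃ A7 : Set G, A7 = {g | orderOf g = 7} := ⟨_, rfl⟩
  obtain ⟨A3, hA3⟩ : ∃ A3 : Set G,
    A3 = {g | g ≠ 1 ∧ ∃ P : Sylow 3 G, g ∈ (P : Subgroup G)} := ⟨_, rfl⟩
  have c1 : A1.ncard = 1 := by rw [hA1]; exact Set.ncard_singleton 1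
  have c7 : A7.ncard = 216 := by
    rw [hA7, ← Nat.card_coe_set_eq]
    have := card_orderOf_eq_prime (G := G) (p := 7) (card_P7 hG)
    rw [card_sylow7 hG] at this
    exact this
  have c3 : A3.ncard = 224 := by
    rw [hA3, ← Nat.card_coe_set_eq]
    have := card_nonidentity_of_TI (G := G) (p := 3) 9 (card_P3 hG) (sylow3_inf_eq_bot hG)
    rw [card_sylow3 hG] at this
    exact this
  have m1 : ∀ g, g ∈ A1 ↔ g = 1 := fun g => by rw [hA1]; exact Set.mem_singleton_iff
  have m7 : ∀ g, g ∈ A7 ↔ orderOf g = 7 := fun g => by rw [hA7]; exact Iff.rfl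
  have m3 : ∀ g, g ∈ A3 ↔ g ≠ 1 ∧ ∃ P : Sylow 3 G, g ∈ (P : Subgroup G) := fun g => by
    rw [hA3]; exact Iff.rfl
  have ho3 : ∀ g, g ∈ A3 → orderOf g ∣ 9 := by
    intro g hg
    obtain ⟨-, P, hP⟩ := (m3 g).1 hg
    have := Subgroup.orderOf_dvd_natCard _ hP
    rwa [card_P3 hG P] at this
  have d17 : Disjoint A1 A7 := by
    rw [Set.disjoint_left]
    intro g h1 h7
    rw [m1] at h1
    rw [m7, h1, orderOf_one] at h7
    omega
  have d173 : Disjoint (A1 ∪ A7) A3 := by
    rw [Set.disjoint_left]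
    intro g h17 h3
    rcases h17 with h1 | h7
    · exact ((m3 g).1 h3).1 ((m1 g).1 h1)
    · have := ho3 g h3
      rw [(m7 g).1 h7] at this
      omega
  have d173T : Disjoint (A1 ∪ A7 ∪ A3) T := by
    rw [Set.disjoint_left]
    intro g h173 hgT
    obtain ⟨hg1, hg7, hg9⟩ := hT g hgT
    rcases h173 with (h1 | h7) | h3
    · exact hg1 ((m1 g).1 h1)
    · exact hg7 ((m7 g).1 h7)
    · exact hg9 (ho3 g h3)
  have hU : (A1 ∪ A7 ∪ A3 ∪ T).ncard = 1 + 216 + 224 + T.ncard := by
    rw [Set.ncard_union_eq d173T, Set.ncard_union_eq d173, Set.ncard_union_eq d17, c1, c7, c3]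
  have hle : (A1 ∪ A7 ∪ A3 ∪ T).ncard ≤ Nat.card G := Set.ncard_le_card _
  rw [hU, hG] at hle
  refine ⟨by omega, fun h63 g => ?_⟩
  have huniv : A1 ∪ A7 ∪ A3 ∪ T = Set.univ := by
    rw [Set.eq_univ_iff_ncard, hU, hG, h63]
  have hg : g ∈ A1 ∪ A7 ∪ A3 ∪ T := by rw [huniv]; exact Set.mem_univ g
  rcases hg with ((h1 | h7) | h3) | hgT
  · exact Or.inl ((m1 g).1 h1)
  · exact Or.inr (Or.inl ((m7 g).1 h7))
  · exact Or.inr (Or.inr (Or.inl ((m3 g).1 h3)))
  · exact Or.inr (Or.inr (Or.inr hgT))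

/-- The order of the centralizer of an involution divides `24`. -/
theorem card_centralizer_dvd (hG : Nat.card G = 504) (t : G) (ht : orderOf t = 2) :
    Nat.card (Subgroup.centralizer ({t} : Set G)) ∣ 24 := by
  have hp7 : Fact (Nat.Prime 7) := ⟨by norm_num⟩
  have hp3 : Fact (Nat.Prime 3) := ⟨by norm_num⟩
  obtain ⟨C, hC⟩ : ∃ C : Subgroup G, C = Subgroup.centralizer ({t} : Set G) := ⟨_, rfl⟩
  rw [← hC]
  have hmemC : ∀ y : G, y ∈ C ↔ y * t = t * y := by
    intro y; rw [hC]; exact Subgroup.mem_centralizer_singleton_iff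
  have hd : Nat.card C ∣ 504 := hG ▸ Subgroup.card_subgroup_dvd_card C
  have h7 : ¬ 7 ∣ Nat.card C := by
    intro h
    obtain ⟨x, hx⟩ := exists_prime_orderOf_dvd_card' (G := ↥C) 7 h
    have hxo : orderOf (x : G) = 7 := by rw [Subgroup.orderOf_coe, hx]
    have hxt : t ∈ Subgroup.centralizer ({(x : G)} : Set G) := by
      rw [Subgroup.mem_centralizer_singleton_iff]
      exact ((hmemC _).1 x.2).symm
    rw [centralizer_seven hG _ hxo] at hxt
    have := orderOf_dvd_of_mem_zpowers hxt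
    rw [ht, hxo] at this
    omega
  have h9 : ¬ 9 ∣ Nat.card C := by
    intro h
    obtain ⟨K, hK⟩ := Sylow.exists_subgroup_card_pow_prime (G := ↥C) 3 (n := 2)
      (by simpa using h)
    obtain ⟨K', hK'⟩ : ∃ K' : Subgroup G, K' = K.map C.subtype := ⟨_, rfl⟩
    have hcK' : Nat.card K' = 9 := by
      rw [hK', Subgroup.card_map_of_injective C.subtype_injective, hK]; norm_num
    have hK3 : IsPGroup 3 K' := IsPGroup.of_card (n := 2) (by rw [hcK']; norm_num)
    obtain ⟨P, hP⟩ := hK3.exists_le_sylow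
    have hKP : K' = (P : Subgroup G) :=
      Subgroup.eq_of_le_of_card_ge hP (by rw [card_P3 hG P, hcK'])
    have hPC : (P : Subgroup G) ≤ C := by
      rw [← hKP, hK']
      exact Subgroup.map_subtype_le K
    have htP : t ∈ Subgroup.centralizer ((P : Subgroup G) : Set G) := by
      rw [Subgroup.mem_centralizer_iff]
      intro y hy
      exact (hmemC y).1 (hPC hy)
    rw [centralizer_P3 hG P] at htP
    have := Subgroup.orderOf_dvd_natCard _ htP
    rw [ht, card_P3 hG P] at this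
    omega
  have key : ∀ c : ℕ, c ≤ 504 → c ∣ 504 → ¬ 7 ∣ c → ¬ 9 ∣ c → c ∣ 24 := by decide +kernel
  exact key _ (Nat.le_of_dvd (by norm_num) hd) hd h7 h9

/-- The centralizer of a nonidentity `3`-element normalizes its Sylow subgroup. -/
theorem centralizer_three_le (hG : Nat.card G = 504) (d : G) (P : Sylow 3 G)
    (hdP : d ∈ (P : Subgroup G)) (hd1 : d ≠ 1) :
    Subgroup.centralizer ({d} : Set G) ≤ Subgroup.normalizer ((P : Subgroup G) : Set G) := by
  intro y hy
  apply Sylow.smul_eq_iff_mem_normalizer.1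
  by_contra hne
  rw [Subgroup.mem_centralizer_singleton_iff] at hy
  have hmem : d ∈ ((y • P : Sylow 3 G) : Subgroup G) := by
    rw [mem_smul_sylow_iff]
    have : y⁻¹ * d * y = d := by
      calc y⁻¹ * d * y = y⁻¹ * (d * y) := by group
        _ = y⁻¹ * (y * d) := by rw [hy]
        _ = d := by group
    rw [this]; exact hdP
  have h1 := sylow3_inf_eq_bot hG (y • P) P hne
  have h2 : d ∈ ((y • P : Sylow 3 G) : Subgroup G) ⊓ (P : Subgroup G) := ⟨hmem, hdP⟩
  rw [h1] at h2
  exact hd1 (Subgroup.mem_bot.1 h2)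

/-- No element of order three commutes with an involution. -/
theorem not_three_dvd_card_centralizer (hG : Nat.card G = 504) (t : G) (ht : orderOf t = 2) :
    ¬ 3 ∣ Nat.card (Subgroup.centralizer ({t} : Set G)) := by
  have hp3 : Fact (Nat.Prime 3) := ⟨by norm_num⟩
  intro h3
  obtain ⟨d', hd'⟩ := exists_prime_orderOf_dvd_card'
    (G := ↥(Subgroup.centralizer ({t} : Set G))) 3 h3
  obtain ⟨d, hd⟩ : ∃ d : G, d = (d' : G) := ⟨_, rfl⟩
  have hdo : orderOf d = 3 := by rw [hd, Subgroup.orderOf_coe, hd']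
  have hdt : d * t = t * d := by
    rw [hd]; exact Subgroup.mem_centralizer_singleton_iff.1 d'.2
  have hcomm : Commute t d := hdt.symm
  have ht2 : t ^ 2 = 1 := by rw [← ht]; exact pow_orderOf_eq_one t
  have hd3 : d ^ 3 = 1 := by rw [← hdo]; exact pow_orderOf_eq_one d
  have hd1 : d ≠ 1 := by
    rintro rfl
    rw [orderOf_one] at hdo; omega
  obtain ⟨g, hg⟩ : ∃ g : G, g = t * d := ⟨_, rfl⟩
  have hgo : orderOf g = 6 := by
    rw [hg, hcomm.orderOf_mul_eq_mul_orderOf_of_coprime (by rw [ht, hdo]; norm_num), ht, hdo]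
  have hg3 : g ^ 3 = t := by
    rw [hg, hcomm.mul_pow, hd3, mul_one]
    calc t ^ 3 = t ^ 2 * t := by rw [← pow_succ]
      _ = t := by rw [ht2, one_mul]
  have hg4 : g ^ 4 = d := by
    rw [hg, hcomm.mul_pow]
    have e1 : t ^ 4 = 1 := by
      calc t ^ 4 = (t ^ 2) ^ 2 := by rw [← pow_mul]
        _ = 1 := by rw [ht2, one_pow]
    have e2 : d ^ 4 = d := by
      calc d ^ 4 = d ^ 3 * d := by rw [← pow_succ]
        _ = d := by rw [hd3, one_mul]
    rw [e1, e2, one_mul]
  have hCt : Subgroup.centralizer ({g} : Set G) ≤ Subgroup.centralizer ({t} : Set G) := by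
    intro y hy
    rw [Subgroup.mem_centralizer_singleton_iff] at hy ⊢
    have : Commute y g := hy
    rw [← hg3]
    exact (this.pow_right 3)
  have hCd : Subgroup.centralizer ({g} : Set G) ≤ Subgroup.centralizer ({d} : Set G) := by
    intro y hy
    rw [Subgroup.mem_centralizer_singleton_iff] at hy ⊢
    have : Commute y g := hy
    rw [← hg4]
    exact (this.pow_right 4)
  obtain ⟨P, hdP⟩ := exists_sylow_mem_of_orderOf d hdo
  have h18 : Nat.card (Subgroup.centralizer ({g} : Set G)) ∣ 18 := by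
    have := Subgroup.card_dvd_of_le (hCd.trans (centralizer_three_le hG d P hdP hd1))
    rwa [card_normalizer3 hG P] at this
  have h24 : Nat.card (Subgroup.centralizer ({g} : Set G)) ∣ 24 :=
    (Subgroup.card_dvd_of_le hCt).trans (card_centralizer_dvd hG t ht)
  have h6 : Nat.card (Subgroup.centralizer ({g} : Set G)) ∣ 6 := Nat.dvd_gcd h18 h24
  have hcl := card_carrier_mul_card_centralizer g
  rw [hG] at hcl
  have hT : ∀ y ∈ (ConjClasses.mk g).carrier, y ≠ 1 ∧ orderOf y ≠ 7 ∧ ¬ orderOf y ∣ 9 := by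
    intro y hy
    have hyg : IsConj y g :=
      ConjClasses.mk_eq_mk_iff_isConj.1 (ConjClasses.mem_carrier_iff_mk_eq.1 hy)
    have hyo : orderOf y = 6 := (orderOf_eq_of_isConj hyg).trans hgo
    refine ⟨?_, ?_, ?_⟩
    · rintro rfl
      rw [orderOf_one] at hyo; omega
    · omega
    · rw [hyo]; norm_num
  have hle := (count_le hG _ hT).1
  rw [← Nat.card_coe_set_eq] at hle
  have hc6 : Nat.card (Subgroup.centralizer ({g} : Set G)) ≤ 6 := Nat.le_of_dvd (by norm_num) h6
  generalize Nat.card (Subgroup.centralizer ({g} : Set G)) = c at *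
  generalize Nat.card ((ConjClasses.mk g).carrier) = k at *
  nlinarith

/-- Involutions have centralizers of order eight, and every element is the identity, of order
seven, a `3`-element, or an involution conjugate to any given one. -/
theorem involution_facts (hG : Nat.card G = 504) (t : G) (ht : orderOf t = 2) :
    Nat.card (Subgroup.centralizer ({t} : Set G)) = 8 ∧ ∀ g : G, g = 1 ∨ orderOf g = 7 ∨
      (g ≠ 1 ∧ ∃ P : Sylow 3 G, g ∈ (P : Subgroup G)) ∨ IsConj g t := by
  have h24 := card_centralizer_dvd hG t ht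
  have h3 := not_three_dvd_card_centralizer hG t ht
  have hcl := card_carrier_mul_card_centralizer t
  rw [hG] at hcl
  have hT : ∀ y ∈ (ConjClasses.mk t).carrier, y ≠ 1 ∧ orderOf y ≠ 7 ∧ ¬ orderOf y ∣ 9 := by
    intro y hy
    have hyg : IsConj y t :=
      ConjClasses.mk_eq_mk_iff_isConj.1 (ConjClasses.mem_carrier_iff_mk_eq.1 hy)
    have hyo : orderOf y = 2 := (orderOf_eq_of_isConj hyg).trans ht
    refine ⟨?_, ?_, ?_⟩
    · rintro rfl
      rw [orderOf_one] at hyo; omega
    · omega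
    · rw [hyo]; norm_num
  obtain ⟨hle, hex⟩ := count_le hG _ hT
  rw [← Nat.card_coe_set_eq] at hle hex
  have key : ∀ c : ℕ, c ≤ 24 → c ∣ 24 → ¬ 3 ∣ c → c ∣ 8 := by decide +kernel
  have h8 := key _ (Nat.le_of_dvd (by norm_num) h24) h24 h3
  have hc8 : Nat.card (Subgroup.centralizer ({t} : Set G)) ≤ 8 := Nat.le_of_dvd (by norm_num) h8
  have hboth : Nat.card (Subgroup.centralizer ({t} : Set G)) = 8 ∧
      Nat.card ((ConjClasses.mk t).carrier) = 63 := by
    generalize Nat.card (Subgroup.centralizer ({t} : Set G)) = c at *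
    generalize Nat.card ((ConjClasses.mk t).carrier) = k at *
    constructor <;> nlinarith
  refine ⟨hboth.1, fun g => ?_⟩
  rcases hex hboth.2 g with h | h | h | h
  · exact Or.inl h
  · exact Or.inr (Or.inl h)
  · exact Or.inr (Or.inr (Or.inl h))
  · exact Or.inr (Or.inr (Or.inr
      (ConjClasses.mk_eq_mk_iff_isConj.1 (ConjClasses.mem_carrier_iff_mk_eq.1 h))))

end Cfsg.Agent.Helper17.O504
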