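import Mathlib
import Cfsg.Agent.Lib.Helper17.Order504C
import Cfsg.Agent.Lib.Helper17.Orbits
import Cfsg.Agent.Lib.Helper17.SylowInter

set_option autoImplicit false

namespace Cfsg.Agent.Helper17.O504

open Cfsg.Agent.Helper17 MulAction

variable {G : Type*} [Group G] [Finite G] [IsSimpleGroup G]

theorem exists_involution (hG : Nat.card G = 504) : ∃ t : G, orderOf t = 2 := by
  have : Fact (Nat.Prime 2) := ⟨by norm_num⟩
  exact exists_prime_orderOf_dvd_card' (G := G) 2 (by rw [hG]; norm_num)

/-- Nonidentity elements of a Sylow `2`-subgroup are involutions. -/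
theorem sylow2_orderOf (hG : Nat.card G = 504) (S : Sylow 2 G) (s : G)
    (hs : s ∈ (S : Subgroup G)) (hs1 : s ≠ 1) : orderOf s = 2 := by
  obtain ⟨t, ht⟩ := exists_involution hG
  have hd : orderOf s ∣ 8 := by
    have := Subgroup.orderOf_dvd_natCard _ hs
    rwa [card_P2 hG S] at this
  rcases (involution_facts hG t ht).2 s with h | h | h | h
  · exact absurd h hs1
  · rw [h] at hd; omega
  · obtain ⟨-, P, hP⟩ := h
    have h9 : orderOf s ∣ 9 := by
      have := Subgroup.orderOf_dvd_natCard _ hP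
      rwa [card_P3 hG P] at this
    have h1 : orderOf s ∣ 1 := Nat.dvd_gcd h9 hd
    exact absurd (orderOf_eq_one_iff.1 (Nat.dvd_one.1 h1)) hs1
  · exact (orderOf_eq_of_isConj h).trans ht

/-- Sylow `2`-subgroups are abelian. -/
theorem sylow2_comm (hG : Nat.card G = 504) (S : Sylow 2 G) (a : G) (ha : a ∈ (S : Subgroup G))
    (b : G) (hb : b ∈ (S : Subgroup G)) : a * b = b * a := by
  have hsq : ∀ x ∈ (S : Subgroup G), x * x = 1 := by
    intro x hx
    by_cases hx1 : x = 1
    · rw [hx1, one_mul]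
    · have := pow_orderOf_eq_one x
      rwa [sylow2_orderOf hG S x hx hx1, pow_two] at this
  have h1 := hsq a ha
  have h2 := hsq b hb
  have h3 := hsq (a * b) (Subgroup.mul_mem _ ha hb)
  calc a * b = (b * b) * (a * b) * (a * a) := by rw [h1, h2, one_mul, mul_one]
    _ = b * (b * a) * (b * a) * a := by group
    _ = b * ((b * a) * (b * a)) * a := by group
    _ = b * a := by
      have h4 : (b * a) * (b * a) = 1 := by
        calc (b * a) * (b * a) = b * ((a * b) * (a * b)) * b⁻¹ := by group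
          _ = 1 := by rw [h3]; group
      rw [h4, mul_one]

/-- Nonidentity elements of a Sylow `2`-subgroup have it as centralizer. -/
theorem sylow2_centralizer (hG : Nat.card G = 504) (S : Sylow 2 G) (s : G)
    (hs : s ∈ (S : Subgroup G)) (hs1 : s ≠ 1) :
    Subgroup.centralizer ({s} : Set G) = (S : Subgroup G) := by
  have ho := sylow2_orderOf hG S s hs hs1
  have hc := (involution_facts hG s ho).1
  have hle : (S : Subgroup G) ≤ Subgroup.centralizer ({s} : Set G) := by
    intro y hy
    rw [Subgroup.mem_centralizer_singleton_iff]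
    exact sylow2_comm hG S y hy s hs
  exact (Subgroup.eq_of_le_of_card_ge hle (by rw [hc, card_P2 hG S])).symm

/-- Distinct Sylow `2`-subgroups intersect trivially. -/
theorem sylow2_inf_eq_bot (hG : Nat.card G = 504) (S S' : Sylow 2 G) (h : S ≠ S') :
    (S : Subgroup G) ⊓ (S' : Subgroup G) = ⊥ := by
  rw [Subgroup.eq_bot_iff_forall]
  intro s hs
  by_contra hs1
  apply h
  apply Sylow.ext
  rw [← sylow2_centralizer hG S s hs.1 hs1, ← sylow2_centralizer hG S' s hs.2 hs1]

/-- Nonidentity elements of a Sylow `2`-subgroup normalize no other Sylow `2`-subgroup. -/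
theorem sylow2_fix (hG : Nat.card G = 504) (P : Sylow 2 G) (g : G) (hgP : g ∈ (P : Subgroup G))
    (hg1 : g ≠ 1) (Q : Sylow 2 G) (hgQ : g • Q = Q) : Q = P := by
  have hp2 : Fact (Nat.Prime 2) := ⟨by norm_num⟩
  by_contra hQP
  rw [Sylow.smul_eq_iff_mem_normalizer] at hgQ
  have hpg : IsPGroup 2 (Subgroup.zpowers g) :=
    P.isPGroup'.to_le ((Subgroup.zpowers_le).2 hgP)
  have hgQ' : g ∈ (Q : Subgroup G) := mem_sylow_of_mem_normalizer Q g hpg hgQ
  have hmem : g ∈ (P : Subgroup G) ⊓ (Q : Subgroup G) := ⟨hgP, hgQ'⟩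
  rw [sylow2_inf_eq_bot hG P Q (Ne.symm hQP)] at hmem
  exact hg1 (Subgroup.mem_bot.1 hmem)

theorem card_sylow2 (hG : Nat.card G = 504) : Nat.card (Sylow 2 G) = 9 := by
  have hp2 : Fact (Nat.Prime 2) := ⟨by norm_num⟩
  have hfac : Nat.card G = 2 ^ 3 * 63 := by rw [hG]; norm_num
  have h263 : ¬ 2 ∣ 63 := by norm_num
  obtain ⟨hdvd, -⟩ := sylow_count (G := G) hfac h263
  have hne1 := sylow_count_ne_one (G := G) hfac h263 (by norm_num) (by norm_num)
  obtain ⟨P⟩ : Nonempty (Sylow 2 G) := inferInstance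
  have hmod : Nat.card (Sylow 2 G) ≡ 1 [MOD 8] := by
    apply card_modEq_one_of_stabilizer_index (H := ↥(P : Subgroup G)) 8 P
    · intro h
      exact Sylow.smul_eq_iff_mem_normalizer.2 (Subgroup.le_normalizer h.2)
    · intro Q hQ
      have hbot : stabilizer (↥(P : Subgroup G)) Q = ⊥ := by
        rw [Subgroup.eq_bot_iff_forall]
        intro x hx
        by_contra hx1
        have hx1' : (x : G) ≠ 1 := fun h => hx1 (Subtype.ext h)
        exact hQ (sylow2_fix hG P x x.2 hx1' Q hx)
      rw [hbot, Subgroup.index_bot, card_P2 hG P]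
  have hle : Nat.card (Sylow 2 G) ≤ 63 := Nat.le_of_dvd (by norm_num) hdvd
  unfold Nat.ModEq at hmod
  generalize Nat.card (Sylow 2 G) = n at *
  interval_cases n <;> omega

end Cfsg.Agent.Helper17.O504
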