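import Mathlib
import Cfsg.Agent.Lib.Helper17.Order504D

set_option autoImplicit false

namespace Cfsg.Agent.Helper17.O504

open Equiv Cfsg.Agent.Helper17 MulAction

variable {G : Type*} [Group G] [Finite G] [IsSimpleGroup G]

/-- The relation satisfied by a generator of the two-point stabilizer acting on a Sylow
`2`-subgroup, up to inverting the generator. -/
theorem exists_relation (hG : Nat.card G = 504) (P : Sylow 2 G) (h s₀ : G)
    (hnorm : ∀ a ∈ (P : Subgroup G), h * a * h⁻¹ ∈ (P : Subgroup G))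
    (hord : orderOf h = 7) (hs₀ : s₀ ∈ (P : Subgroup G)) (hs₀1 : s₀ ≠ 1) :
    s₀ * (h * s₀ * h⁻¹) = h ^ 3 * s₀ * (h ^ 3)⁻¹ ∨
      s₀ * (h ^ 6 * s₀ * (h ^ 6)⁻¹) = (h ^ 6) ^ 3 * s₀ * ((h ^ 6) ^ 3)⁻¹ := by
  classical
  have hp2 : Fact (Nat.Prime 2) := ⟨by norm_num⟩
  have hcP := card_P2 hG P
  have hh7 : h ^ 7 = 1 := by rw [← hord]; exact pow_orderOf_eq_one h
  obtain ⟨σ, hσ⟩ : ∃ σ : MulAut G, σ = MulAut.conj h := ⟨_, rfl⟩
  have hσn : ∀ (n : ℕ) (a : G), (σ ^ n) a = h ^ n * a * (h ^ n)⁻¹ := by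
    intro n a
    rw [hσ, ← map_pow, MulAut.conj_apply]
  have hσP : ∀ (n : ℕ) (a : G), a ∈ (P : Subgroup G) → (σ ^ n) a ∈ (P : Subgroup G) := by
    intro n
    induction n with
    | zero => intro a ha; simpa using ha
    | succ n ih =>
      intro a ha
      rw [pow_succ', MulAut.mul_apply, hσ, MulAut.conj_apply]
      exact hnorm _ (by rw [← hσ]; exact ih a ha)
  have hσ7 : σ ^ 7 = 1 := by rw [hσ, ← map_pow, hh7, map_one]
  have hsq : ∀ x ∈ (P : Subgroup G), x * x = 1 := by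
    intro x hx
    by_cases hx1 : x = 1
    · rw [hx1, one_mul]
    · have := pow_orderOf_eq_one x
      rwa [sylow2_orderOf hG P x hx hx1, pow_two] at this
  have hcomm : ∀ a ∈ (P : Subgroup G), ∀ b ∈ (P : Subgroup G), a * b = b * a :=
    fun a ha b hb => sylow2_comm hG P a ha b hb
  obtain ⟨s, hs⟩ : ∃ s : ℕ → G, s = fun i => (σ ^ i) s₀ := ⟨_, rfl⟩
  have hsdef : ∀ i, s i = (σ ^ i) s₀ := fun i => by rw [hs]
  have hs0 : s 0 = s₀ := by rw [hsdef, pow_zero, MulAut.one_apply]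
  have hsP : ∀ i, s i ∈ (P : Subgroup G) := fun i => by rw [hsdef]; exact hσP i s₀ hs₀
  have hs1 : ∀ i, s i ≠ 1 := by
    intro i hi
    rw [hsdef] at hi
    exact hs₀1 ((EmbeddingLike.map_eq_one_iff (f := σ ^ i)).1 hi)
  have hshift : ∀ i n, s (i + n) = (σ ^ n) (s i) := by
    intro i n
    rw [hsdef, hsdef, add_comm, pow_add, MulAut.mul_apply]
  have hs7 : ∀ i, s (i + 7) = s i := by
    intro i
    rw [hshift, hσ7, MulAut.one_apply]
  have hfixn : ∀ n, s n = s₀ → 7 ∣ n := by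
    intro n hn
    rw [hsdef, hσn] at hn
    have hmem : h ^ n ∈ Subgroup.centralizer ({s₀} : Set G) := by
      rw [Subgroup.mem_centralizer_singleton_iff]
      calc h ^ n * s₀ = h ^ n * s₀ * (h ^ n)⁻¹ * h ^ n := by group
        _ = s₀ * h ^ n := by rw [hn]
    rw [sylow2_centralizer hG P s₀ hs₀ hs₀1] at hmem
    have h8 : orderOf (h ^ n) ∣ 8 := by
      have := Subgroup.orderOf_dvd_natCard _ hmem
      rwa [hcP] at this
    have h7 : orderOf (h ^ n) ∣ 7 := hord ▸ orderOf_pow_dvd n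
    have h1 : orderOf (h ^ n) ∣ 1 := Nat.dvd_gcd h8 h7
    have h2 : h ^ n = 1 := orderOf_eq_one_iff.1 (Nat.dvd_one.1 h1)
    rw [← hord]
    exact orderOf_dvd_of_pow_eq_one h2
  have hper : ∀ i j, i ≤ j → s i = s j → 7 ∣ j - i := by
    intro i j hij he
    apply hfixn
    have h1 : s j = (σ ^ i) (s (j - i)) := by
      rw [← hshift]; congr 1; omega
    have h2 : s i = (σ ^ i) s₀ := hsdef i
    rw [h1, h2] at he
    exact ((σ ^ i).injective he).symm
  have hinj : ∀ i j, i < 7 → j < 7 → s i = s j → i = j := by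
    intro i j hi hj he
    rcases le_total i j with hij | hij
    · have := hper i j hij he
      omega
    · have := hper j i hij he.symm
      omega
  -- `s₀ * s 1` is some `s k`
  have hprod1 : s₀ * s 1 ≠ 1 := by
    intro h1
    have h2 : s 1 = s₀ := by
      calc s 1 = (s₀ * s₀) * s 1 := by rw [hsq s₀ hs₀, one_mul]
        _ = s₀ * (s₀ * s 1) := by group
        _ = s₀ := by rw [h1, mul_one]
    have := hfixn 1 h2
    omega
  obtain ⟨k, hk7, hk⟩ : ∃ k < 7, s₀ * s 1 = s k := by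
    let f : Fin 7 → {x : ↥(P : Subgroup G) // x ≠ 1} := fun i =>
      ⟨⟨s i, hsP i⟩, fun h1 => hs1 i (congrArg Subtype.val h1)⟩
    have hf : Function.Injective f := by
      intro i j hij
      have : s i = s j := congrArg (fun x => ((x.1 : ↥(P : Subgroup G)) : G)) hij
      exact Fin.ext (hinj i j i.2 j.2 this)
    have hbij : Function.Bijective f := by
      apply hf.bijective_of_nat_card_le
      rw [card_ne_subtype, hcP, Nat.card_eq_fintype_card, Fintype.card_fin]
    obtain ⟨i, hi⟩ := hbij.2 ⟨⟨s₀ * s 1, Subgroup.mul_mem _ hs₀ (hsP 1)⟩,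
      fun h1 => hprod1 (congrArg Subtype.val h1)⟩
    refine ⟨i, i.2, ?_⟩
    have : s i = s₀ * s 1 := congrArg (fun x => ((x.1 : ↥(P : Subgroup G)) : G)) hi
    exact this.symm
  have hrel : ∀ n, s n * s (n + 1) = s (k + n) := by
    intro n
    have h1 := congrArg (σ ^ n) hk
    rw [map_mul, ← hs0, ← hshift, ← hshift, ← hshift] at h1
    rw [zero_add, add_comm 1 n] at h1
    exact h1
  have hsi : ∀ i, s i * s i = 1 := fun i => hsq _ (hsP i)
  have hc : ∀ i j, s i * s j = s j * s i := fun i j => hcomm _ (hsP i) _ (hsP j)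
  interval_cases k
  · -- `k = 0`
    exfalso
    rw [← hs0] at hk
    exact hs1 1 (mul_eq_left.1 hk)
  · exfalso
    exact hs₀1 (mul_eq_right.1 hk)
  · -- `k = 2`
    exfalso
    have h0 := hrel 0
    have h1 := hrel 1
    norm_num at h0 h1
    have h3 : s 3 = s 0 := by
      calc s 3 = s 1 * s 2 := h1.symm
        _ = s 1 * (s 0 * s 1) := by rw [h0]
        _ = s 0 * (s 1 * s 1) := by rw [← mul_assoc, hc 1 0, mul_assoc]
        _ = s 0 := by rw [hsi, mul_one]
    have := hinj 3 0 (by norm_num) (by norm_num) h3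
    omega
  · -- `k = 3`
    left
    rw [hs0.symm] at hk ⊢
    have e1 : s 1 = h * s 0 * h⁻¹ := by
      rw [hsdef 1, hσn, pow_one, hs0]
    have e3 : s 3 = h ^ 3 * s 0 * (h ^ 3)⁻¹ := by
      rw [hsdef 3, hσn, hs0]
    rw [← e1, ← e3]
    exact hk
  · -- `k = 4`
    exfalso
    have h0 := hrel 0
    have h3 := hrel 3
    norm_num at h0 h3
    have h7 : s 7 = s 0 := hs7 0
    rw [h7, ← h0] at h3
    have h31 : s 3 = s 1 := by
      have e : s 3 * s 1 = 1 := by
        have : s 3 * (s 0 * s 1) = s 0 := h3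
        calc s 3 * s 1 = s 0 * (s 3 * (s 0 * s 1)) := by
              rw [← mul_assoc (s 3), hc 3 0, mul_assoc (s 0), ← mul_assoc (s 0), hsi, one_mul]
          _ = 1 := by rw [this, hsi]
      calc s 3 = s 3 * (s 1 * s 1) := by rw [hsi, mul_one]
        _ = (s 3 * s 1) * s 1 := by group
        _ = s 1 := by rw [e, one_mul]
    have := hinj 3 1 (by norm_num) (by norm_num) h31
    omega
  · -- `k = 5`
    right
    have h6 := hrel 6
    norm_num at h6
    have h7 : s 7 = s 0 := hs7 0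
    have h11 : s 11 = s 4 := hs7 4
    rw [h7, h11] at h6
    have e6 : s 6 = h ^ 6 * s₀ * (h ^ 6)⁻¹ := by rw [hsdef 6, hσn]
    have e18 : s 4 = (h ^ 6) ^ 3 * s₀ * ((h ^ 6) ^ 3)⁻¹ := by
      have h18 : s 18 = s 4 := by
        have a1 : s 18 = s 11 := hs7 11
        rw [a1, h11]
      rw [← h18, hsdef 18, hσn, ← pow_mul]
    rw [← e6, ← e18, ← hs0, hc 0 6]
    exact h6
  · -- `k = 6`
    exfalso
    have h0 := hrel 0
    have h6 := hrel 6
    norm_num at h0 h6
    have h7 : s 7 = s 0 := hs7 0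
    have h12 : s 12 = s 5 := hs7 5
    rw [h7, h12, ← h0] at h6
    have h15 : s 1 = s 5 := by
      calc s 1 = (s 0 * s 0) * s 1 := by rw [hsi, one_mul]
        _ = s 0 * s 1 * s 0 := by rw [mul_assoc, mul_assoc, hc 0 1]
        _ = s 5 := h6
    have := hinj 1 5 (by norm_num) (by norm_num) h15
    omega

end Cfsg.Agent.Helper17.O504
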