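import Mathlib
import Cfsg.Agent.Lib.Helper17.Order504F
import Cfsg.Agent.Lib.Helper17.F8
import Cfsg.Agent.Lib.Helper17.FqPin2
import Cfsg.Agent.Lib.Helper17.L2pAction
import Cfsg.Agent.Lib.Helper17.Order360C

set_option autoImplicit false

namespace Cfsg.Agent.Helper17.O504

open Equiv Cfsg.Agent.Helper17 Cfsg.Agent.Helper17.Fq MulAction

theorem card_option_F8 : Nat.card (Option F8) = 9 := by
  rw [Finite.card_option, Nat.card_eq_fintype_card, card_F8]

variable {G : Type*} [Group G] [Finite G] [IsSimpleGroup G]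

/-- The labelled action of a simple group of order `504` on its nine Sylow `2`-subgroups. -/
theorem exists_action8 (hG : Nat.card G = 504) :
    ∃ φ : G →* Perm (Option F8), Function.Injective φ ∧ ZAct 7 φ.range := by
  classical
  have hp2 : Fact (Nat.Prime 2) := ⟨by norm_num⟩
  obtain ⟨P, Q₀, h, s₀, hQ₀, hfix, hhP, hhQ, hord, hH, hs₀P, hs₀1, hrel⟩ := exists_PQh hG
  have hn := card_sylow2 hG
  have hPab : ∀ a ∈ (P : Subgroup G), ∀ b ∈ (P : Subgroup G), a * b = b * a :=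
    fun a ha b hb => sylow2_comm hG P a ha b hb
  have hsq : ∀ x ∈ (P : Subgroup G), x ^ 2 = 1 := by
    intro x hx
    by_cases hx1 : x = 1
    · rw [hx1, one_pow]
    · have := pow_orderOf_eq_one x
      rwa [sylow2_orderOf hG P x hx hx1] at this
  have hPfix : ∀ g ∈ (P : Subgroup G), g • P = P := fun g hg =>
    Sylow.smul_eq_iff_mem_normalizer.2 (Subgroup.le_normalizer hg)
  have hfree : ∀ g ∈ (P : Subgroup G), g • Q₀ = Q₀ → g = 1 := by
    intro g hg hgQ
    by_contra hg1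
    exact hQ₀ (hfix g hg hg1 Q₀ hgQ)
  have hhN : h ∈ Subgroup.normalizer ((P : Subgroup G) : Set G) :=
    Sylow.smul_eq_iff_mem_normalizer.1 hhP
  have hnorm : ∀ a ∈ (P : Subgroup G), h * a * h⁻¹ ∈ (P : Subgroup G) := fun a ha =>
    (Subgroup.mem_normalizer_iff.1 hhN a).1 ha
  obtain ⟨s₁, hs₁⟩ : ∃ s₁ : G, s₁ = h * s₀ * h⁻¹ := ⟨_, rfl⟩
  obtain ⟨s₂, hs₂⟩ : ∃ s₂ : G, s₂ = h * s₁ * h⁻¹ := ⟨_, rfl⟩
  have hs₁P : s₁ ∈ (P : Subgroup G) := hs₁ ▸ hnorm _ hs₀P
  have hs₂P : s₂ ∈ (P : Subgroup G) := hs₂ ▸ hnorm _ hs₁P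
  have hs₃ : h * s₂ * h⁻¹ = s₀ * s₁ := by
    rw [hs₁] at hs₂ ⊢
    rw [hs₂, hrel]
    simp only [pow_succ, pow_zero, one_mul, mul_inv_rev, mul_assoc]
  -- coordinates on `P`
  obtain ⟨c, hc⟩ : ∃ c : F8 → G,
    c = fun z => s₀ ^ z.x0.val * s₁ ^ z.x1.val * s₂ ^ z.x2.val := ⟨_, rfl⟩
  have hcdef : ∀ z : F8, c z = s₀ ^ z.x0.val * s₁ ^ z.x1.val * s₂ ^ z.x2.val := fun z => by
    rw [hc]
  have hcP : ∀ z, c z ∈ (P : Subgroup G) := by
    intro z
    rw [hcdef]
    exact Subgroup.mul_mem _ (Subgroup.mul_mem _ (Subgroup.pow_mem _ hs₀P _)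
      (Subgroup.pow_mem _ hs₁P _)) (Subgroup.pow_mem _ hs₂P _)
  have hcadd : ∀ z w, c (z + w) = c z * c w := by
    intro z w
    rw [hcdef, hcdef, hcdef, F8.x0_add, F8.x1_add, F8.x2_add,
      L2p.pow_val_add s₀ (hsq _ hs₀P), L2p.pow_val_add s₁ (hsq _ hs₁P),
      L2p.pow_val_add s₂ (hsq _ hs₂P)]
    have c1 : Commute (s₀ ^ w.x0.val) (s₁ ^ z.x1.val) :=
      hPab _ (Subgroup.pow_mem _ hs₀P _) _ (Subgroup.pow_mem _ hs₁P _)
    have c2 : Commute (s₀ ^ w.x0.val * s₁ ^ w.x1.val) (s₂ ^ z.x2.val) :=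
      hPab _ (Subgroup.mul_mem _ (Subgroup.pow_mem _ hs₀P _) (Subgroup.pow_mem _ hs₁P _)) _
        (Subgroup.pow_mem _ hs₂P _)
    rw [c1.mul_mul_mul_comm, c2.mul_mul_mul_comm]
  have hc0 : c 0 = 1 := by
    have h1 := hcadd 0 0
    rw [add_zero] at h1
    exact (mul_eq_left.1 h1.symm)
  have hc1 : c 1 = s₀ := by
    rw [hcdef]
    have e1 : ((1 : F8).x0).val = 1 := rfl
    have e2 : ((1 : F8).x1).val = 0 := rfl
    have e3 : ((1 : F8).x2).val = 0 := rfl
    rw [e1, e2, e3, pow_one, pow_zero, pow_zero, mul_one, mul_one]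
  -- conjugation by `h` is multiplication by `a`
  have hconjc : ∀ z, h * c z * h⁻¹ = c (a8 * z) := by
    intro z
    rw [a8_mul, hcdef, hcdef, F8.x0_mk, F8.x1_mk, F8.x2_mk, L2p.pow_val_add s₁ (hsq _ hs₁P)]
    have e1 : h * (s₀ ^ z.x0.val * s₁ ^ z.x1.val * s₂ ^ z.x2.val) * h⁻¹ =
        (h * s₀ * h⁻¹) ^ z.x0.val * (h * s₁ * h⁻¹) ^ z.x1.val * (h * s₂ * h⁻¹) ^ z.x2.val := by
      rw [conj_pow, conj_pow, conj_pow]; group
    have c0 : Commute s₀ s₁ := hPab _ hs₀P _ hs₁P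
    rw [e1, ← hs₁, ← hs₂, hs₃, c0.mul_pow]
    have cA : Commute (s₁ ^ z.x0.val * s₂ ^ z.x1.val) (s₀ ^ z.x2.val) :=
      hPab _ (Subgroup.mul_mem _ (Subgroup.pow_mem _ hs₁P _) (Subgroup.pow_mem _ hs₂P _)) _
        (Subgroup.pow_mem _ hs₀P _)
    have cB : Commute (s₂ ^ z.x1.val) (s₁ ^ z.x2.val) :=
      hPab _ (Subgroup.pow_mem _ hs₂P _) _ (Subgroup.pow_mem _ hs₁P _)
    calc s₁ ^ z.x0.val * s₂ ^ z.x1.val * (s₀ ^ z.x2.val * s₁ ^ z.x2.val)
        = (s₁ ^ z.x0.val * s₂ ^ z.x1.val) * s₀ ^ z.x2.val * s₁ ^ z.x2.val := by group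
      _ = s₀ ^ z.x2.val * (s₁ ^ z.x0.val * s₂ ^ z.x1.val) * s₁ ^ z.x2.val := by rw [cA.eq]
      _ = s₀ ^ z.x2.val * s₁ ^ z.x0.val * (s₂ ^ z.x1.val * s₁ ^ z.x2.val) := by group
      _ = s₀ ^ z.x2.val * s₁ ^ z.x0.val * (s₁ ^ z.x2.val * s₂ ^ z.x1.val) := by rw [cB.eq]
      _ = s₀ ^ z.x2.val * (s₁ ^ z.x0.val * s₁ ^ z.x2.val) * s₂ ^ z.x1.val := by group
  have hconjn : ∀ (n : ℕ) z, c (a8 ^ n * z) = h ^ n * c z * (h ^ n)⁻¹ := by
    intro n
    induction n with
    | zero => intro z; simp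
    | succ n ih =>
      intro z
      rw [pow_succ', mul_assoc, ← hconjc, ih, pow_succ']
      group
  have hcker : ∀ z, c z = 1 → z = 0 := by
    intro z hz
    by_contra hz0
    obtain ⟨i, hi, hzi⟩ := gen8 z hz0
    have hzi' : z = a8 ^ i := by
      rcases hzi with h1 | h1
      · exact h1
      · rw [h1, one_mul]
    have h1 : c (a8 ^ (7 - i) * z) = 1 := by
      rw [hconjn, hz]; group
    rw [hzi', ← pow_add, show 7 - i + i = 7 by omega, a8_pow, hc1] at h1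
    exact hs₀1 h1
  have hcinj : Function.Injective c := by
    intro z w hzw
    have h1 : c (z - w) = 1 := by
      have h2 : c (z - w) * c w = c z := by rw [← hcadd, sub_add_cancel]
      rw [hzw] at h2
      exact mul_eq_right.1 h2
    exact sub_eq_zero.1 (hcker _ h1)
  -- the labelling of the nine points
  let ℓ : Option F8 → Sylow 2 G := fun o => o.elim P (fun z => c z • Q₀)
  have hne : ∀ z : F8, c z • Q₀ ≠ P := by
    intro z hz
    apply hQ₀
    have h1 : Q₀ = (c z)⁻¹ • P := by rw [eq_inv_smul_iff]; exact hz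
    rw [h1]
    exact hPfix _ (Subgroup.inv_mem _ (hcP z))
  have hℓinj : Function.Injective ℓ := by
    intro o₁ o₂ h'
    cases o₁ with
    | none =>
      cases o₂ with
      | none => rfl
      | some k => exact absurd h'.symm (hne k)
    | some k₁ =>
      cases o₂ with
      | none => exact absurd h' (hne k₁)
      | some k₂ =>
        have h'' : c k₁ • Q₀ = c k₂ • Q₀ := h'
        have h2 : c (k₁ - k₂) • Q₀ = Q₀ := by
          have h3 : c (k₁ - k₂) • (c k₂ • Q₀) = c k₂ • Q₀ := by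
            rw [← mul_smul, ← hcadd, sub_add_cancel, h'']
          have h4 : c (k₁ - k₂) * c k₂ = c k₂ * c (k₁ - k₂) := hPab _ (hcP _) _ (hcP _)
          rw [← mul_smul, h4, mul_smul] at h3
          exact smul_left_cancel _ h3
        have h5 := hcker _ (hfree _ (hcP _) h2)
        exact congrArg some (sub_eq_zero.1 h5)
  have hℓbij : Function.Bijective ℓ := by
    apply hℓinj.bijective_of_nat_card_le
    rw [hn, card_option_F8]
  let e : Option F8 ≃ Sylow 2 G := Equiv.ofBijective ℓ hℓbij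
  have hen : e none = P := rfl
  have hes : ∀ z, e (some z) = c z • Q₀ := fun z => rfl
  have he0 : e (some 0) = Q₀ := by rw [hes, hc0, one_smul]
  let φ : G →* Perm (Option F8) :=
    (e.symm.permCongrHom.toMonoidHom).comp (MulAction.toPermHom G (Sylow 2 G))
  have hφ : ∀ g o, φ g o = e.symm (g • e o) := by
    intro g o
    simp [φ, Equiv.permCongr_apply]
  have hkey : ∀ g o o', g • e o = e o' → φ g o = o' := by
    intro g o o' h'
    rw [hφ, h', Equiv.symm_apply_apply]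
  have hkey' : ∀ g o o', φ g o = o' → g • e o = e o' := by
    intro g o o' h'
    rw [hφ] at h'
    rw [← h', Equiv.apply_symm_apply]
  have hφc : ∀ k : F8, φ (c k) = X k := by
    intro k
    ext o : 1
    cases o with
    | none =>
      rw [X_none]
      apply hkey
      rw [hen]
      exact hPfix _ (hcP k)
    | some z =>
      rw [X_some]
      apply hkey
      rw [hes, hes, ← mul_smul, hcadd]
  -- injectivity
  have hker : (MulAction.toPermHom G (Sylow 2 G)).ker ≠ ⊤ := by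
    intro htop
    have hxk : s₀ ∈ (MulAction.toPermHom G (Sylow 2 G)).ker := by
      rw [htop]; exact Subgroup.mem_top s₀
    rw [MonoidHom.mem_ker] at hxk
    have h1 : s₀ • Q₀ = Q₀ := by
      have := congrArg (fun q : Perm (Sylow 2 G) => q Q₀) hxk
      simpa using this
    exact hs₀1 (hfree s₀ hs₀P h1)
  have hbot : (MulAction.toPermHom G (Sylow 2 G)).ker = ⊥ :=
    ((MulAction.toPermHom G (Sylow 2 G)).normal_ker.eq_bot_or_eq_top).resolve_right hker
  have hinj0 : Function.Injective (MulAction.toPermHom G (Sylow 2 G)) :=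
    (MonoidHom.ker_eq_bot_iff _).1 hbot
  have hinj : Function.Injective φ := e.symm.permCongrHom.injective.comp hinj0
  -- the generator of the two-point stabilizer
  obtain ⟨u₀, hu₀⟩ : ∃ u₀ : F8ˣ, u₀ = Units.mk0 a8 a8_ne_zero := ⟨_, rfl⟩
  have hu₀v : (u₀ : F8) = a8 := by rw [hu₀]; rfl
  have hu₀7 : u₀ ^ 7 = 1 := by
    apply Units.ext
    rw [Units.val_pow_eq_pow_val, hu₀v, a8_pow, Units.val_one]
  have hφh : φ h = Y u₀ := by
    ext o : 1
    cases o with
    | none =>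
      rw [Y_none]
      exact hkey h none none (by rw [hen]; exact hhP)
    | some z =>
      rw [Y_some, hu₀v]
      apply hkey
      rw [hes, hes, ← hconjc, mul_smul, mul_smul, inv_smul_eq_iff.2 hhQ.symm]
  have hφhk : ∀ k : ℕ, φ (h ^ k) = Y (u₀ ^ k) := by
    intro k
    rw [map_pow, hφh, O360.Y_pow9]
  have hHall : ∀ g : G, g • P = P → g • Q₀ = Q₀ →
      ∃ u : F8ˣ, u ^ 7 = 1 ∧ φ g = Y u := by
    intro g hgP hgQ
    have hmem := hH g hgP hgQ
    have hfin : IsOfFinOrder h := orderOf_pos_iff.1 (by rw [hord]; norm_num)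
    rw [hfin.mem_zpowers_iff_mem_range_orderOf] at hmem
    obtain ⟨k, -, hk⟩ := Finset.mem_image.1 hmem
    refine ⟨u₀ ^ k, ?_, ?_⟩
    · rw [← pow_mul, mul_comm, pow_mul, hu₀7, one_pow]
    · rw [← hk, hφhk]
  have hYall : ∀ u : F8ˣ, u ^ 7 = 1 → Y u ∈ φ.range := by
    intro u hu
    have h1 : (u : F8) ^ 7 = 1 := by
      rw [← Units.val_pow_eq_pow_val, hu, Units.val_one]
    obtain ⟨k, -, hk⟩ := pow_seven_eq_one8 _ h1
    have h2 : u = u₀ ^ k := by
      apply Units.ext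
      rw [Units.val_pow_eq_pow_val, hu₀v, hk]
    exact ⟨h ^ k, by rw [hφhk, h2]⟩
  have hτ : ∃ τ ∈ φ.range, τ none = some 0 ∧ τ (some 0) = none := by
    obtain ⟨g, hg⟩ := MulAction.exists_smul_eq G P Q₀
    have h1 : g⁻¹ • P ≠ P := by
      intro h'
      apply hQ₀
      rw [← hg, ← h', smul_inv_smul, h']
    obtain ⟨o, ho⟩ := e.surjective (g⁻¹ • P)
    cases o with
    | none => exact absurd ho.symm h1
    | some k =>
      refine ⟨φ (g * c k), ⟨_, rfl⟩, ?_, ?_⟩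
      · apply hkey
        rw [hen, he0, mul_smul, hPfix _ (hcP k), hg]
      · apply hkey
        rw [hen, he0, mul_smul, ← hes, ho, smul_inv_smul]
  refine ⟨φ, hinj, ⟨fun k => ⟨c k, hφc k⟩, hYall, ?_, hτ⟩⟩
  rintro _ ⟨g, rfl⟩ h1 h2
  refine hHall g ?_ ?_
  · have := hkey' g none none h1
    rwa [hen] at this
  · have := hkey' g (some 0) (some 0) h2
    rwa [he0] at this

end Cfsg.Agent.Helper17.O504
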