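import Mathlib
import Cfsg.Agent.Lib.Helper17.Order504G
import Cfsg.Agent.Lib.Helper17.F8Check
import Cfsg.Agent.Lib.Helper5.PSL2Small

set_option autoImplicit false

namespace Cfsg.Agent.Helper17.O504

open Equiv Cfsg.Agent.Helper17 Cfsg.Agent.Helper17.Fq

/-- A simple group of order `504` is isomorphic to the canonical permutation group. -/
theorem iso_K8 {G : Type*} [Group G] [Finite G] [IsSimpleGroup G] (hG : Nat.card G = 504) :
    Nonempty (G ≃* K (F := F8) 7 (1 : F8)) := by
  obtain ⟨φ, hinj, hZ⟩ := exists_action8 hG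
  have hR := hZ.eq_K_A a8_pow (by norm_num) gen8 check8
  exact ⟨(MonoidHom.ofInjective hinj).trans (MulEquiv.subgroupCongr hR)⟩

/-- Any two simple groups of order `504` are isomorphic. -/
theorem iso_of_simple504 {G₁ : Type*} {G₂ : Type*} [Group G₁] [Finite G₁] [IsSimpleGroup G₁]
    [Group G₂] [Finite G₂] [IsSimpleGroup G₂] (h₁ : Nat.card G₁ = 504)
    (h₂ : Nat.card G₂ = 504) : Nonempty (G₁ ≃* G₂) := by
  obtain ⟨e₁⟩ := iso_K8 h₁
  obtain ⟨e₂⟩ := iso_K8 h₂
  exact ⟨e₁.trans e₂.symm⟩

/-- A simple group of order `504` is isomorphic to `PSL(2, 8)`. -/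
theorem iso_PSL8 {G : Type*} [Group G] [Finite G] [IsSimpleGroup G] (hG : Nat.card G = 504)
    {F : Type*} [Field F] [Fintype F] (hcF : Fintype.card F = 8) :
    Nonempty (G ≃* Matrix.ProjectiveSpecialLinearGroup (Fin 2) F) := by
  have hsimple : IsSimpleGroup (Matrix.ProjectiveSpecialLinearGroup (Fin 2) F) :=
    Matrix.ProjectiveSpecialLinearGroup.rank_two_simple
      (by rw [Nat.card_eq_fintype_card, hcF]; norm_num)
  have hcard : Nat.card (Matrix.ProjectiveSpecialLinearGroup (Fin 2) F) = 504 := by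
    have h1 := Cfsg.Agent.Helper5.card_PSL2_mul hcF
    norm_num at h1
    omega
  have : Finite (Matrix.ProjectiveSpecialLinearGroup (Fin 2) F) :=
    Nat.finite_of_card_ne_zero (by rw [hcard]; norm_num)
  exact iso_of_simple504 hG hcard

end Cfsg.Agent.Helper17.O504
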