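import Mathlib

set_option autoImplicit false

namespace Cfsg.Agent.Helper17

open MulAction

/-- A nontrivial normal subgroup of a faithful transitive group of prime degree is transitive. -/
theorem normal_pretransitive_of_prime {X α : Type*} [Group X] [MulAction X α]
    [IsPretransitive X α] (hfaith : ∀ x : X, (∀ a : α, x • a = a) → x = 1)
    (hp : (Nat.card α).Prime) (N : Subgroup X) [N.Normal] (hN : N ≠ ⊥) :
    IsPretransitive ↥N α := by
  have : IsPreprimitive X α := IsPreprimitive.of_prime_card hp
  apply IsQuasiPreprimitive.isPretransitive_of_normal (G := X) (N := N)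
  obtain ⟨n, hnN, hn1⟩ := (N.bot_or_exists_ne_one).resolve_left hN
  have : ∃ a : α, n • a ≠ a := by
    by_contra hcon
    push Not at hcon
    exact hn1 (hfaith n hcon)
  obtain ⟨a, ha⟩ := this
  intro huniv
  have : a ∈ fixedPoints ↥N α := by rw [huniv]; trivial
  exact ha (this ⟨n, hnN⟩)

/-- The degree of a transitive action divides the group order. -/
theorem card_dvd_of_pretransitive {X α : Type*} [Group X] [Finite X] [MulAction X α]
    [IsPretransitive X α] [Nonempty α] : Nat.card α ∣ Nat.card X := by
  obtain ⟨a⟩ : Nonempty α := inferInstance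
  rw [← index_stabilizer_of_transitive X a]
  exact Subgroup.index_dvd_card _

end Cfsg.Agent.Helper17
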