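import Mathlib
import Cfsg.Agent.S0995
import Cfsg.Agent.S4488
import Cfsg.Agent.Lib.Helper17.PrimeTIApp
import Cfsg.Agent.Lib.Helper17.EmbedNormalizer

/-!
# Self-centralizing Sylow subgroup of prime order `p` with normalizer of order `p (p - 1)`

All elements of order `p` are conjugate, the irreducible characters are rational integers on them,
and the degree equation holds.
-/

set_option autoImplicit false
set_option linter.unusedSectionVars false

namespace Cfsg.Agent.Helper17.RationalTI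

open Cfsg Cfsg.Agent.Helper17 Cfsg.Agent.Helper17.PrimeTI
open scoped ComplexConjugate

universe u

/-- If a Sylow subgroup of prime order `p` of a perfect group is self-centralizing and its normalizer
has order `p (p - 1)`, then all elements of order `p` are conjugate. -/
theorem isConj_of_orderOf {G : Type*} [Group G] [Finite G] (hperf : commutator G = ⊤) {p : ℕ}
    [hp : Fact p.Prime] (P : Sylow p G) (hP : Nat.card (P : Subgroup G) = p)
    (hC : Subgroup.centralizer ((P : Subgroup G) : Set G) = (P : Subgroup G))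
    (hN : Nat.card (Subgroup.normalizer ((P : Subgroup G) : Set G)) = p * (p - 1))
    (k k' : G) (hk : orderOf k = p) (hk' : orderOf k' = p) : IsConj k k' := by
  obtain ⟨z, hz, hz1⟩ := exists_ne_one_of_prime_card (P : Subgroup G) hP
  obtain ⟨hzP, hzo⟩ := zpowers_eq_of_card_prime (P : Subgroup G) hP z hz hz1
  have hCz : Subgroup.centralizer ({z} : Set G) = Subgroup.zpowers z := by
    rw [← Subgroup.centralizer_closure, ← Subgroup.zpowers_eq_closure, hzP, hC]
  obtain ⟨n, t, ht, _, hnp, hGt⟩ := Cfsg.Agent.S0995.result hperf p z hzo hCz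
  have hNd := card_normalizer_mul_sylow_count P
  rw [hN, hnp] at hNd
  have ht1 : t = 1 := by
    have hpos : 0 < Nat.card G := Nat.card_pos
    have : Nat.card G * t = Nat.card G * 1 := by
      rw [hGt, mul_one, ← hNd]; ring
    exact Nat.eq_of_mul_eq_mul_left hpos this
  rw [ht1] at ht
  have hsub : Subsingleton {c : ConjClasses G // ∃ g : G, ConjClasses.mk g = c ∧ orderOf g = p} :=
    (Nat.card_eq_one_iff_unique.1 ht.symm).1
  have := hsub.elim ⟨ConjClasses.mk k, k, rfl, hk⟩ ⟨ConjClasses.mk k', k', rfl, hk'⟩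
  exact ConjClasses.mk_eq_mk_iff_isConj.1 (congrArg Subtype.val this)

/-- **Degree equation, rational case**: the irreducible characters take rational integer values
`a ψ` on `P ∖ {1}`, with `∑ (a ψ)² = p`, `∑ a ψ · ψ(1) = 0` and `ψ(1) ≡ a ψ (mod p)`. -/
theorem rational_degree_equation {G : Type u} [Group G] [Fintype G] (hperf : commutator G = ⊤)
    {p : ℕ} [hp : Fact p.Prime] (P : Sylow p G) (hP : Nat.card (P : Subgroup G) = p)
    (hC : Subgroup.centralizer ((P : Subgroup G) : Set G) = (P : Subgroup G))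
    (hN : Nat.card (Subgroup.normalizer ((P : Subgroup G) : Set G)) = p * (p - 1)) :
    ∃ a : IrrCharacter G → ℤ,
      (∀ ψ : IrrCharacter G, ∀ k ∈ (P : Subgroup G), k ≠ 1 → (ψ : G → ℂ) k = (a ψ : ℂ)) ∧
      (∀ ψ : IrrCharacter G, (p : ℤ) ∣ (charDegree (ψ : G → ℂ) : ℤ) - a ψ) ∧
      (∑ ψ : IrrCharacter G, (a ψ) ^ 2 = p) ∧
      (∑ ψ : IrrCharacter G, a ψ * (charDegree (ψ : G → ℂ) : ℤ) = 0) := by
  classical
  obtain ⟨z, hz, hz1⟩ := exists_ne_one_of_prime_card (P : Subgroup G) hP
  obtain ⟨hzP, hzo⟩ := zpowers_eq_of_card_prime (P : Subgroup G) hP z hz hz1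
  have hCz : Subgroup.centralizer ({z} : Set G) = Subgroup.zpowers z := by
    rw [← Subgroup.centralizer_closure, ← Subgroup.zpowers_eq_closure, hzP, hC]
  have hconj := isConj_of_orderOf hperf P hP hC hN
  have key : ∀ ψ : IrrCharacter G, ∃ m : ℤ, (ψ : G → ℂ) z = (m : ℂ) ∧
      (p : ℤ) ∣ (charDegree (ψ : G → ℂ) : ℤ) - m := by
    intro ψ
    obtain ⟨n, ρ, _, hρ⟩ := ψ.2
    have hgal : ∀ i : ℕ, ¬ p ∣ i → ρ.character (z ^ i) = ρ.character z := by
      intro i hi
      have hcop : Nat.Coprime (orderOf z) i := by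
        rw [hzo]; exact (Nat.Prime.coprime_iff_not_dvd hp.out).2 hi
      have hoi : orderOf (z ^ i) = p := by
        rw [hcop.orderOf_pow, hzo]
      obtain ⟨c, hc⟩ := isConj_iff.1 (hconj z (z ^ i) hzo hoi)
      rw [← hc, Representation.char_conj]
    have hzp : z ^ p ^ 1 = 1 := by
      rw [pow_one, ← hzo]; exact pow_orderOf_eq_one z
    obtain ⟨m, hm1, hm2, _⟩ := Cfsg.Agent.S4488.int_value ρ p hp.out z 1 hzp hgal
    refine ⟨m, ?_, ?_⟩
    · rw [← hρ]; exact hm1
    · have h1 := (Cfsg.Agent.Helper79.irr_one_eq ψ).1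
      have h2 : (ψ : G → ℂ) 1 = (Module.finrank ℂ (Fin n → ℂ) : ℂ) := by
        rw [← hρ]; exact Representation.char_one ρ
      have h3 : charDegree (ψ : G → ℂ) = Module.finrank ℂ (Fin n → ℂ) := by
        have : (charDegree (ψ : G → ℂ) : ℂ) = (Module.finrank ℂ (Fin n → ℂ) : ℂ) := by
          rw [← h1, h2]
        exact_mod_cast this
      rw [h3]; exact hm2
  choose a ha1 ha2 using key
  refine ⟨a, ?_, ha2, ?_, ?_⟩
  · intro ψ k hk hk1
    obtain ⟨_, hko⟩ := zpowers_eq_of_card_prime (P : Subgroup G) hP k hk hk1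
    obtain ⟨c, hc⟩ := isConj_iff.1 (hconj z k hzo hko)
    rw [← hc, Cfsg.Agent.Helper79.irr_class, ha1]
  · have h := Cfsg.Agent.Helper79.col_orth_self z
    rw [hCz, Nat.card_zpowers, hzo] at h
    have h' : ∑ ψ : IrrCharacter G, ((a ψ : ℤ) : ℂ) ^ 2 = (p : ℂ) := by
      rw [← h]
      apply Finset.sum_congr rfl
      intro ψ _
      rw [ha1 ψ, map_intCast (starRingEnd ℂ) (a ψ), sq]
    exact_mod_cast h'
  · have h := Cfsg.Agent.Helper79.sum_degree_mul z hz1
    have h' : ∑ ψ : IrrCharacter G, ((a ψ : ℤ) : ℂ) * ((charDegree (ψ : G → ℂ) : ℤ) : ℂ) = 0 := by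
      rw [← h]
      apply Finset.sum_congr rfl
      intro ψ _
      rw [ha1 ψ, (Cfsg.Agent.Helper79.irr_one_eq ψ).1, mul_comm]
      push_cast
      ring
    exact_mod_cast h'

end Cfsg.Agent.Helper17.RationalTI
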