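import Mathlib

/-!
# S4017: shared definitions (front end helper17, middle helper64, last case helper3 / helper61)

`Setting a p Q x` is the boundary configuration left by the front end of S4017 (case `p = q ^ a - 1`, which
forces `q = 2`): `G` is simple, `Q` is an elementary abelian Sylow `2`-subgroup of order `2 ^ a = p + 1`,
`x` is a `p`-element of `N(Q)` permuting `Q \ {1}` transitively, every proper subgroup of even order is a
`{2, p}`-group, the Sylow `p`-subgroups are abelian, and some third prime divides `|G|`.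
The middle of the proof shows `Setting a p Q x → False`.
-/

set_option autoImplicit false

namespace Cfsg.Agent.Helper17.S4017

/-- The boundary configuration of S4017 (interface fixed with helper64, board #5170; `third` added). -/
structure Setting {G : Type*} [Group G] [Finite G] (a p : ℕ) (Q : Subgroup G) (x : G) : Prop where
  simple : IsSimpleGroup G
  two_le : 2 ≤ a
  prime : p.Prime
  p_eq : p + 1 = 2 ^ a
  card_Q : Nat.card Q = 2 ^ a
  sylow : ¬ (2 ^ (a + 1) ∣ Nat.card G)
  elem : ∀ g ∈ Q, g * g = 1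
  star : ∀ H : Subgroup G, H ≠ ⊤ → 2 ∣ Nat.card H →
    ∀ r : ℕ, r.Prime → r ∣ Nat.card H → r = 2 ∨ r = p
  abel : ∀ P : Sylow p G, ∀ g ∈ P, ∀ h ∈ P, g * h = h * g
  x_mem : x ∈ Subgroup.normalizer (Q : Set G)
  x_pel : ∃ j, orderOf x = p ^ j
  x_trans : ∀ t ∈ Q, t ≠ 1 → ∀ s ∈ Q, s ≠ 1 → ∃ i : ℕ, x ^ i * t * (x ^ i)⁻¹ = s
  third : ∃ r : ℕ, r.Prime ∧ r ∣ Nat.card G ∧ r ≠ 2 ∧ r ≠ p

end Cfsg.Agent.Helper17.S4017
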