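import Mathlib
import Cfsg.Agent.Lib.Helper17.S4017Defs
import Cfsg.Agent.Lib.Helper64.S4017Defs
import Cfsg.Agent.S0144

/-!
# S4017: bridge between the two `Setting` structures

helper64's `Cfsg.Agent.Helper64.S4017.Setting` (middle part) has no field `third`; helper17's
`Cfsg.Agent.Helper17.S4017.Setting` (front end) has it.  The field is derivable: `G` is simple and not of
prime order, so by Burnside's two-prime theorem (`Cfsg.Agent.S0144.simple_case`, on main) `|G|` has a prime
divisor other than `2` and `p`.  Hence the two structures are equivalent.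
-/

set_option autoImplicit false

namespace Cfsg.Agent.Helper17.S4017M

open Subgroup

universe u

variable {G : Type u} [Group G] [Finite G] {a p : ℕ} {Q : Subgroup G} {x : G}

/-- helper17's setting gives helper64's setting (drop `third`). -/
theorem h64_of_h17 (h : Cfsg.Agent.Helper17.S4017.Setting a p Q x) :
    Cfsg.Agent.Helper64.S4017.Setting a p Q x where
  simple := h.simple
  two_le := h.two_le
  prime := h.prime
  p_eq := h.p_eq
  card_Q := h.card_Q
  sylow := h.sylow
  elem := h.elem
  star := h.star
  abel := h.abel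
  x_norm := fun s hs => (Subgroup.mem_normalizer_iff.mp h.x_mem s).1 hs
  x_pel := h.x_pel
  x_trans := h.x_trans

/-- In helper64's setting some third prime divides `|G|` (Burnside `p^a q^b`). -/
theorem exists_third (h : Cfsg.Agent.Helper64.S4017.Setting a p Q x) :
    ∃ r : ℕ, r.Prime ∧ r ∣ Nat.card G ∧ r ≠ 2 ∧ r ≠ p := by
  classical
  by_contra hno
  push Not at hno
  have := h.simple
  have hsol : Group.IsSolvable G := by
    apply Cfsg.Agent.S0144.simple_case 2 p Nat.prime_two h.prime
    intro r hr hrG
    by_cases h2 : r = 2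
    · exact Or.inl h2
    · exact Or.inr (hno r hr hrG h2)
  have hcomm : ∀ g k : G, g * k = k * g := IsSimpleGroup.comm_iff_isSolvable.mpr hsol
  have ha := h.two_le
  have h4 : 4 ≤ 2 ^ a := by
    calc 4 = 2 ^ 2 := by norm_num
      _ ≤ 2 ^ a := Nat.pow_le_pow_right (by norm_num) ha
  -- a nontrivial element of `Q`
  have hQne : ∃ t ∈ Q, t ≠ 1 := by
    by_contra hnone
    push Not at hnone
    have hbot : Q = ⊥ := (Subgroup.eq_bot_iff_forall Q).2 hnone
    have h1 := h.card_Q
    rw [hbot, Subgroup.card_bot] at h1
    omega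
  obtain ⟨t, ht, ht1⟩ := hQne
  have hZn : (Subgroup.zpowers t).Normal :=
    ⟨fun n hn g => by rw [hcomm g n, mul_inv_cancel_right]; exact hn⟩
  have hZtop : Subgroup.zpowers t = ⊤ := by
    rcases hZn.eq_bot_or_eq_top with h0 | h0
    · exfalso
      apply ht1
      have : t ∈ Subgroup.zpowers t := Subgroup.mem_zpowers t
      rw [h0, Subgroup.mem_bot] at this
      exact this
    · exact h0
  have hcardG : Nat.card G = orderOf t := by
    rw [← Nat.card_zpowers, hZtop, Subgroup.card_top]
  have ho : orderOf t ∣ 2 := by
    apply orderOf_dvd_of_pow_eq_one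
    rw [pow_two]
    exact h.elem t ht
  have hle : orderOf t ≤ 2 := Nat.le_of_dvd (by norm_num) ho
  have hQle : Nat.card Q ≤ Nat.card G := Subgroup.card_le_card_group Q
  rw [h.card_Q, hcardG] at hQle
  omega

/-- helper64's setting gives helper17's setting. -/
theorem h17_of_h64 (h : Cfsg.Agent.Helper64.S4017.Setting a p Q x) :
    Cfsg.Agent.Helper17.S4017.Setting a p Q x where
  simple := h.simple
  two_le := h.two_le
  prime := h.prime
  p_eq := h.p_eq
  card_Q := h.card_Q
  sylow := h.sylow
  elem := h.elem
  star := h.star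
  abel := h.abel
  x_mem := by
    have hcl : ∀ n : ℕ, ∀ s ∈ Q, x ^ n * s * (x ^ n)⁻¹ ∈ Q := by
      intro n
      induction n with
      | zero => intro s hs; simpa using hs
      | succ n ih =>
        intro s hs
        have h1 := h.x_norm _ (ih s hs)
        have h2 : x ^ (n + 1) * s * (x ^ (n + 1))⁻¹ = x * (x ^ n * s * (x ^ n)⁻¹) * x⁻¹ := by
          rw [pow_succ']; group
        rw [h2]; exact h1
    rw [Subgroup.mem_normalizer_iff]
    intro s
    constructor
    · exact h.x_norm s
    · intro hs
      -- x⁻¹ is a power of x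
      obtain ⟨n, hn⟩ : ∃ n : ℕ, x ^ n = x⁻¹ := by
        have hfin : IsOfFinOrder x := isOfFinOrder_of_finite x
        refine ⟨orderOf x - 1, ?_⟩
        have hpos : 0 < orderOf x := hfin.orderOf_pos
        have h1 : x ^ (orderOf x - 1) * x = 1 := by
          rw [← pow_succ, Nat.sub_add_cancel hpos, pow_orderOf_eq_one]
        exact eq_inv_of_mul_eq_one_left h1
      have h1 := hcl n _ hs
      rw [hn] at h1
      have h2 : x⁻¹ * (x * s * x⁻¹) * x⁻¹⁻¹ = s := by group
      rw [h2] at h1
      exact h1
  x_pel := h.x_pel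
  x_trans := h.x_trans
  third := exists_third h

end Cfsg.Agent.Helper17.S4017M
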