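import Mathlib

/-!
# S4017 front end: definitions for the lemma server "S4017F" (helper17)

`Hyp p q G` packages the hypotheses of S4017 in the form used for the induction on `|G|`: the second
alternative of `hlarge` is stated for ALL `p`-subgroups (it follows from the frozen form because every
`p`-subgroup lies in a Sylow `p`-subgroup, and it passes to subgroups and to quotients by normal `p`-subgroups).
-/

set_option autoImplicit false

namespace Cfsg.Agent.Helper17.S4017

/-- The hypotheses of S4017, in inductive form. -/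
structure Hyp (p q : ℕ) (G : Type*) [Group G] [Finite G] : Prop where
  hp : p.Prime
  hq : q.Prime
  hpq : p ≠ q
  hp2 : p ≠ 2
  hpG : p ∣ Nat.card G
  hqG : q ∣ Nat.card G
  hmix : ∀ H : Subgroup G, H ≠ ⊤ → ¬ IsPGroup q H → q ∣ Nat.card H → p ∣ Nat.card H
  hlarge : q ^ (Nat.card G).factorization q - 1 < p ∨
    (p = q ^ (Nat.card G).factorization q - 1 ∧
      ∀ P : Subgroup G, IsPGroup p P → ∀ g ∈ P, ∀ h ∈ P, g * h = h * g)

/-- The conclusion of S4017: `G` is a `{p, q}`-group. -/
def Concl (p q : ℕ) (G : Type*) [Group G] [Finite G] : Prop :=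
  ∀ r : ℕ, r.Prime → r ∣ Nat.card G → r = p ∨ r = q

/-- Every proper subgroup of order divisible by `q` is a `{p, q}`-group. -/
def Star (p q : ℕ) (G : Type*) [Group G] [Finite G] : Prop :=
  ∀ H : Subgroup G, H ≠ ⊤ → q ∣ Nat.card H → ∀ r : ℕ, r.Prime → r ∣ Nat.card H → r = p ∨ r = q

/-- No nontrivial `q`-subgroup is normal. -/
def NoNormalQ (q : ℕ) (G : Type*) [Group G] : Prop :=
  ∀ U : Subgroup G, IsPGroup q U → U ≠ ⊥ → Subgroup.normalizer (U : Set G) ≠ ⊤

/-- No normal subgroup is a complement of a Sylow `q`-subgroup (no normal `q`-complement). -/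
def NoNormalCompl (q : ℕ) (G : Type*) [Group G] : Prop :=
  ∀ K : Subgroup G, K.Normal → Nat.card K * q ^ (Nat.card G).factorization q = Nat.card G → False

end Cfsg.Agent.Helper17.S4017
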