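import Mathlib
import Cfsg.Agent.Lib.Helper17.S4017Bridge
import Cfsg.Agent.Lib.Helper24.S4017FCT2
import Cfsg.Agent.Lib.Helper33.S4017FCT1

/-!
Pieces (CT) `ct` and (M2) `m2` of helper64's lemma server "S4017M" (row S4017), delivered by helper17:
both are the front-end pieces (CT2) (helper24) and (CT1) (helper33) transported along the bridge
`h17_of_h64`.
-/

set_option autoImplicit false

namespace Cfsg.Agent.Helper17.S4017M

open Cfsg.Agent.Helper64.S4017

variable {G : Type*} [Group G] [Finite G] {a p : ℕ} {Q : Subgroup G} {x : G}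

/-- (M2) `N(Q) ∩ C(t) ≤ C(Q)`. -/
theorem m2 (h : Setting a p Q x) {t : G} (ht : t ∈ Q) (ht1 : t ≠ 1) {g : G}
    (hg : ∀ s ∈ Q, g * s * g⁻¹ ∈ Q) (hgt : g * t = t * g) : ∀ s ∈ Q, g * s = s * g := by
  classical
  have h' := h17_of_h64 h
  -- `g` normalises `Q`: conjugation by `g` is injective on the finite set `Q`
  have hgN : g ∈ Subgroup.normalizer (Q : Set G) := by
    have : Finite Q := Nat.finite_of_card_ne_zero (by rw [h.card_Q]; positivity)
    let f : Q → Q := fun s => ⟨g * s * g⁻¹, hg s s.2⟩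
    have hinj : Function.Injective f := by
      intro s s' hss
      have h1 : g * (s : G) * g⁻¹ = g * (s' : G) * g⁻¹ := congrArg Subtype.val hss
      apply Subtype.ext
      exact mul_left_cancel (mul_right_cancel h1)
    have hsurj : Function.Surjective f := Finite.surjective_of_injective hinj
    rw [Subgroup.mem_normalizer_iff]
    intro s
    constructor
    · exact hg s
    · intro hs
      obtain ⟨s', hs'⟩ := hsurj ⟨g * s * g⁻¹, hs⟩
      have h1 : g * (s' : G) * g⁻¹ = g * s * g⁻¹ := congrArg Subtype.val hs'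
      have h2 : (s' : G) = s := mul_left_cancel (mul_right_cancel h1)
      rw [← h2]; exact s'.2
  have hc := Cfsg.Agent.Helper33.S4017F.ct_centralizes h' ht ht1 g hgN hgt
  intro s hs
  exact ((Subgroup.mem_centralizer_iff.mp hc) s hs).symm

/-- (CT) the `p`-elements of `C(t)` form an abelian subgroup. -/
theorem ct (h : Setting a p Q x) {t : G} (ht : t ∈ Q) (ht1 : t ≠ 1) :
    ∃ Z : Subgroup G, (∀ z, z ∈ Z ↔ (z * t = t * z ∧ IsPel p z)) ∧
      ∀ z ∈ Z, ∀ z' ∈ Z, z * z' = z' * z := by
  have h' := h17_of_h64 h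
  exact Cfsg.Agent.Helper24.S4017F.ct_of_centralizes h' ht ht1
    (fun g hg hgt => Cfsg.Agent.Helper33.S4017F.ct_centralizes h' ht ht1 g hg hgt)

end Cfsg.Agent.Helper17.S4017M
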