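import Mathlib
import Cfsg.Agent.Lib.Helper64.S4017Defs
import Cfsg.Agent.Lib.Helper41.S4017DIH1
import Cfsg.Agent.Lib.Helper41.S4017DIH2
import Cfsg.Agent.Lib.Helper22.S4017S1

/-!
Piece (E23) `isPel_mul_of_not_comm` of helper64's lemma server "S4017M" (row S4017), delivered by helper17
(second seat).
-/

set_option autoImplicit false

namespace Cfsg.Agent.Helper17.S4017M

open Cfsg.Agent.Helper64.S4017

variable {G : Type*} [Group G] [Finite G] {a p : ℕ} {Q : Subgroup G} {x : G}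

omit [Finite G] in
/-- A subgroup of exponent 2 is abelian. -/
theorem h17_comm_of_sq {Q : Subgroup G} (helem : ∀ g ∈ Q, g * g = 1) {g k : G} (hg : g ∈ Q)
    (hk : k ∈ Q) : g * k = k * g := by
  have h1 := helem g hg
  have h2 := helem k hk
  have h3 := helem (g * k) (Q.mul_mem hg hk)
  have hg' : g⁻¹ = g := inv_eq_of_mul_eq_one_right h1
  have hk' : k⁻¹ = k := inv_eq_of_mul_eq_one_right h2
  have h4 : (g * k)⁻¹ = g * k := inv_eq_of_mul_eq_one_right h3
  rw [mul_inv_rev, hg', hk'] at h4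
  exact h4.symm

/-- (E23) if every involution commuting with `t ∈ Q' \ {1}` lies in `Q'` (all settings), then two
non-commuting involutions have product a `p`-element. -/
theorem isPel_mul_of_not_comm (h : Setting a p Q x)
    (h2c : ∀ (Q' : Subgroup G) (x' : G), Setting a p Q' x' →
      ∀ t ∈ Q', t ≠ 1 → ∀ u : G, IsInv u → u * t = t * u → u ∈ Q')
    {u v : G} (hu : IsInv u) (hv : IsInv v) (huv : u * v ≠ v * u) : IsPel p (u * v) := by
  have hodd : ¬ 2 ∣ orderOf (u * v) := by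
    intro h2
    obtain ⟨z, hz, hzu, hzv⟩ := Cfsg.Agent.Helper41.S4017M.exists_central_inv hu hv h2
    obtain ⟨Q', x', hS, hzQ⟩ := Cfsg.Agent.Helper22.S4017M.exists_setting h hz
    have huQ : u ∈ Q' := h2c Q' x' hS z hzQ hz.1 u hu hzu.symm
    have hvQ : v ∈ Q' := h2c Q' x' hS z hzQ hz.1 v hv hzv.symm
    exact huv (h17_comm_of_sq hS.elem huQ hvQ)
  refine ⟨_, Nat.eq_prime_pow_of_unique_prime_dvd (orderOf_pos (u * v)).ne' ?_⟩
  intro r hr hdvd
  rcases Cfsg.Agent.Helper41.S4017M.prime_dvd_orderOf_mul h hu hv hr hdvd with h2 | hp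
  · exact absurd (h2 ▸ hdvd) hodd
  · exact hp

end Cfsg.Agent.Helper17.S4017M
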