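import Mathlib
import Cfsg.Agent.Lib.Helper17.S4017Defs
import Cfsg.Agent.Lib.Helper17.S4017FDefs
import Cfsg.Agent.Lib.Helper17.Counting

/-!
# S4017F (SO): a nontrivial proper normal subgroup of order prime to `q` is impossible
-/

set_option autoImplicit false

namespace Cfsg.Agent.Helper17.S4017F

open Subgroup Cfsg.Agent.Helper17.S4017

universe u

variable {G : Type u} [Group G] [Finite G] {p q : ℕ}

theorem no_odd_normal (h : Hyp p q G) (hstar : Star p q G) (hK : NoNormalCompl q G) (r : ℕ)
    (hr : r.Prime) (hrG : r ∣ Nat.card G) (hrp : r ≠ p) (hrq : r ≠ q)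
    (hquot : ∀ N : Subgroup G, ∀ _ : N.Normal, N ≠ ⊥ → IsPGroup p N → p ∣ Nat.card (G ⧸ N) →
      Concl p q (G ⧸ N))
    (N : Subgroup G) [N.Normal] (hN1 : N ≠ ⊥) (hN : N ≠ ⊤) (hqN : ¬ q ∣ Nat.card N) : False := by
  haveI : Fact q.Prime := ⟨h.hq⟩
  obtain ⟨Q⟩ : Nonempty (Sylow q G) := inferInstance
  have hQcard : Nat.card (Q : Subgroup G) = q ^ (Nat.card G).factorization q :=
    Q.card_eq_multiplicity
  have hco : (Nat.card (Q : Subgroup G)).Coprime (Nat.card N) := by
    rw [hQcard]
    exact Nat.Coprime.pow_left _ ((Nat.Prime.coprime_iff_not_dvd h.hq).2 hqN)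
  have hsup : Nat.card ((Q : Subgroup G) ⊔ N : Subgroup G) =
      Nat.card N * Nat.card (Q : Subgroup G) :=
    Cfsg.Agent.Helper17.card_sup_of_normal_coprime (Q : Subgroup G) N hco
  by_cases htop : (Q : Subgroup G) ⊔ N = ⊤
  · apply hK N inferInstance
    rw [← hQcard, ← hsup, htop, Subgroup.card_top]
  · have ha : (Nat.card G).factorization q ≠ 0 :=
      (Nat.Prime.factorization_pos_of_dvd h.hq Nat.card_pos.ne' h.hqG).ne'
    have hqdvd : q ∣ Nat.card ((Q : Subgroup G) ⊔ N : Subgroup G) := by
      rw [hsup, hQcard]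
      exact Dvd.dvd.mul_left (dvd_pow_self q ha) _
    have hNp : ∀ s : ℕ, s.Prime → s ∣ Nat.card N → s = p := by
      intro s hs hsN
      have hd : s ∣ Nat.card ((Q : Subgroup G) ⊔ N : Subgroup G) :=
        hsN.trans (Subgroup.card_dvd_of_le le_sup_right)
      rcases hstar _ htop hqdvd s hs hd with rfl | rfl
      · rfl
      · exact absurd hsN hqN
    obtain ⟨k, hk⟩ : ∃ k, Nat.card N = p ^ k :=
      ⟨_, Nat.eq_prime_pow_of_unique_prime_dvd Nat.card_pos.ne' (fun hd hdn => hNp _ hd hdn)⟩
    haveI : Fact p.Prime := ⟨h.hp⟩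
    have hNpg : IsPGroup p N := IsPGroup.of_card hk
    have hmul := Subgroup.card_eq_card_quotient_mul_card_subgroup N
    have hrN : ¬ r ∣ Nat.card N := by
      intro hd
      rw [hk] at hd
      exact hrp ((Nat.prime_dvd_prime_iff_eq hr h.hp).1 (hr.dvd_of_dvd_pow hd))
    by_cases hpN : p ∣ Nat.card (G ⧸ N)
    · have hc := hquot N inferInstance hN1 hNpg hpN
      have hrQ : r ∣ Nat.card (G ⧸ N) := by
        rw [hmul] at hrG
        rcases (Nat.Prime.dvd_mul hr).1 hrG with h1 | h1
        · exact h1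
        · exact absurd h1 hrN
      rcases hc r hr hrQ with h1 | h1
      · exact hrp h1
      · exact hrq h1
    · have hcop : Nat.Coprime (Nat.card N) N.index := by
        rw [hk, Subgroup.index_eq_card]
        exact Nat.Coprime.pow_left _ ((Nat.Prime.coprime_iff_not_dvd h.hp).2 hpN)
      obtain ⟨L, hL⟩ := Subgroup.exists_right_complement'_of_coprime hcop
      have hLc := hL.card_mul_card
      have hLtop : L ≠ ⊤ := by
        intro ht
        rw [ht, Subgroup.card_top] at hLc
        have h1 : 1 < Nat.card N := (Subgroup.one_lt_card_iff_ne_bot N).2 hN1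
        have h2 : 0 < Nat.card G := Nat.card_pos
        nlinarith
      have hqL : q ∣ Nat.card L := by
        have h1 := h.hqG
        rw [← hLc] at h1
        rcases (Nat.Prime.dvd_mul h.hq).1 h1 with h2 | h2
        · exact absurd h2 hqN
        · exact h2
      have hrL : r ∣ Nat.card L := by
        rw [← hLc] at hrG
        rcases (Nat.Prime.dvd_mul hr).1 hrG with h1 | h1
        · exact absurd h1 hrN
        · exact h1
      rcases hstar L hLtop hqL r hr hrL with h1 | h1
      · exact hrp h1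
      · exact hrq h1

end Cfsg.Agent.Helper17.S4017F
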