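import Mathlib
import Cfsg.Agent.Lib.Helper17.S4017Defs
import Cfsg.Agent.Lib.Helper17.S4017FDefs
import Cfsg.Agent.Lib.Helper17.S4017FSO
import Cfsg.Agent.Lib.Helper24.S4017FCT2
import Cfsg.Agent.Lib.Helper33.S4017FCT1
import Cfsg.Agent.Lib.Helper33.S4017FQUOT
import Cfsg.Agent.Lib.Helper34.S4017FSUB
import Cfsg.Agent.Lib.Helper57.S4017FORB1
import Cfsg.Agent.Lib.Helper57.S4017FORB2
import Cfsg.Agent.Lib.Helper57.S4017FORB3
import Cfsg.Agent.Lib.Helper58.S4017FFRAT
import Cfsg.Agent.Lib.Helper58.S4017FSE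
import Cfsg.Agent.Lib.Helper58.S4017FU

/-! Collector of the S4017F pieces (each signature restated verbatim and closed by the delivered theorem). -/

set_option autoImplicit false

namespace Cfsg.Agent.Helper17.S4017P

open Subgroup Cfsg.Agent.Helper17.S4017

universe u

variable {G : Type u} [Group G] [Finite G] {p q : ℕ}

/-! ### (SUB) the hypotheses pass to subgroups of order divisible by p and q.  hmix: a proper K ≤ ↥H maps to a proper subgroup
`K.map H.subtype` of G of the same order (and IsPGroup transfers along the isomorphism `K ≃* K.map H.subtype`).  hlarge: b := the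
q-adic valuation of |H| ≤ a := that of |G| (|H| ∣ |G|, `Nat.factorization_le_iff_dvd`); if q^a - 1 < p then q^b - 1 ≤ q^a - 1 < p;
if p = q^a - 1: b < a gives q^b - 1 < q^a - 1 = p (left alternative), b = a gives the right alternative (a p-subgroup P of ↥H maps to a
p-subgroup of G, which is abelian). -/
theorem hyp_subgroup (h : Hyp p q G) (H : Subgroup G) (hpH : p ∣ Nat.card H) (hqH : q ∣ Nat.card H) :
    Hyp p q H := by
  exact Cfsg.Agent.Helper34.S4017F.hyp_subgroup h H hpH hqH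

/-! ### (QUOT) the hypotheses pass to G ⧸ N for a normal p-subgroup N, PROVIDED (*) holds in G and p still divides |G ⧸ N|.
|G| = |G ⧸ N| * |N| and |N| = p^k, so q ∣ |G ⧸ N| and the q-adic valuations of |G| and |G ⧸ N| agree.
hmix: K' ≠ ⊤ in G ⧸ N, not a q-group, q ∣ |K'|; H := K'.comap (QuotientGroup.mk' N) ≠ ⊤, |H| = |K'| * |N| (`Subgroup.card_comap`-type /
`Subgroup.index`...), q ∣ |H|, so by (*) every prime dividing |H| is p or q; K' is not a q-group so some prime s ≠ q divides |K'| ∣ |H|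
(else |K'| is a power of q, `IsPGroup.of_card`), s = p.  hlarge right: a p-subgroup P' of G ⧸ N has p-group preimage H (order |P'| * |N|),
abelian by hypothesis, and P' = H.map (mk' N) (surjectivity) is abelian. -/
theorem hyp_quotient (h : Hyp p q G) (hstar : Star p q G) (N : Subgroup G) [N.Normal]
    (hN : IsPGroup p N) (hpN : p ∣ Nat.card (G ⧸ N)) : Hyp p q (G ⧸ N) := by
  exact Cfsg.Agent.Helper33.S4017F.hyp_quotient h hstar N hN hpN

/-! ### (U) no nontrivial q-subgroup U is normal.  Else take R a Sylow r-subgroup of G: |U ⊔ R| = |U| * |R| (U normal, coprime orders: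
`Cfsg.Agent.Helper17.card_sup_of_normal_coprime`), a number q^i * r^j with i, j ≥ 1.  So q ∣ |U ⊔ R|, U ⊔ R is not a q-group (r ∣ its order),
p does not divide |U ⊔ R|.  If U ⊔ R ≠ ⊤ this contradicts hmix; if U ⊔ R = ⊤ then p ∣ |G| = q^i r^j, no. -/
theorem noNormalQ (h : Hyp p q G) (r : ℕ) (hr : r.Prime) (hrG : r ∣ Nat.card G) (hrp : r ≠ p)
    (hrq : r ≠ q) : NoNormalQ q G := by
  exact Cfsg.Agent.Helper58.S4017F.noNormalQ h r hr hrG hrp hrq

/-! ### (FRAT) no normal q-complement.  Let K be normal with |K| * q^a = |G|.  r ∣ |K| (r ∣ |G|, r ≠ q).  R0 : Sylow r K, R := R0.map K.subtype.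
Frattini (`Sylow.normalizer_sup_eq_top R0`): N(R) ⊔ K = ⊤.  For K normal |N(R) ⊔ K| * |N(R) ⊓ K| = |N(R)| * |K|
(`Subgroup.relIndex_sup_right` + `Subgroup.card_inf_mul_relIndex`... as in Lib/Helper17/Counting `card_sup_of_normal_coprime`), so
|N(R)| = q^a * |N(R) ⊓ K|: q^a ∣ |N(R)|.  Take Q' a Sylow q-subgroup of N(R), pushed to G: |Q'| = q^a (its order is q^b with q^a ∣ q^b ∣ |G|),
Q' ≤ N(R).  `Cfsg.Agent.Helper90.CYC.card_sup_dvd_of_le_normalizer`: |Q' ⊔ R| ∣ q^a * |R|, a {q,r}-number: p does not divide it; q divides it;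
not a q-group (r ∣ |R| ∣ |Q' ⊔ R|, R ≠ ⊥ since r ∣ |K|).  hmix forces Q' ⊔ R = ⊤, then p ∣ |G| ∣ q^a |R|, impossible. -/
theorem noNormalCompl (h : Hyp p q G) (r : ℕ) (hr : r.Prime) (hrG : r ∣ Nat.card G) (hrp : r ≠ p)
    (hrq : r ≠ q) : NoNormalCompl q G := by
  exact Cfsg.Agent.Helper58.S4017F.noNormalCompl h r hr hrG hrp hrq

/-! ### (ORB1) a p-element g normalising a subgroup U of order ≤ p + 1 centralises U, or |U| = p + 1 and C_U(g) = 1.
`Cfsg.Agent.Helper9.card_modEq_card_inf_centralizer U g _ p j _` : |U| ≡ |U ⊓ C(g)| mod p, and |U ⊓ C(g)| ∣ |U|.  If U ⊓ C(g) ≠ U then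
|U| - |U ⊓ C(g)| is a positive multiple of p, so |U| ≥ p + |U ⊓ C(g)| ≥ p + 1: |U| = p + 1 and |U ⊓ C(g)| = 1. -/
theorem centralizes_or_fpf (hp : p.Prime) (U : Subgroup G) (g : G)
    (hg : g ∈ normalizer (U : Set G)) (hgp : ∃ j, orderOf g = p ^ j) (hU : Nat.card U ≤ p + 1) :
    g ∈ centralizer (U : Set G) ∨ (Nat.card U = p + 1 ∧ ∀ u ∈ U, g * u = u * g → u = 1) := by
  exact Cfsg.Agent.Helper57.S4017F.centralizes_or_fpf hp U g hg hgp hU

/-! ### (ORB2) a p-element x normalising Q (|Q| = p + 1) with C_Q(x) = 1 permutes Q \ {1} transitively.  The group zpowers x (a p-group) acts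
on Q by conjugation; the orbit of t ≠ 1 has p-power size (`IsPGroup.card_orbit`), is not a singleton (x does not fix t), lies in Q \ {1}
(p elements): so it has exactly p elements and is all of Q \ {1}.  Convert the integer exponent to a natural one (mod orderOf x).
(Alternative: `Function.minimalPeriod` of conjugation by x at t divides orderOf x, is ≠ 1, and `Function.iterate_injOn_Iio_minimalPeriod`.) -/
theorem trans_of_fpf (hp : p.Prime) (Q : Subgroup G) (hQ : Nat.card Q = p + 1) (x : G)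
    (hx : x ∈ normalizer (Q : Set G)) (hxp : ∃ j, orderOf x = p ^ j)
    (hfpf : ∀ u ∈ Q, x * u = u * x → u = 1) :
    ∀ t ∈ Q, t ≠ 1 → ∀ s ∈ Q, s ≠ 1 → ∃ i : ℕ, x ^ i * t * (x ^ i)⁻¹ = s := by
  exact Cfsg.Agent.Helper57.S4017F.trans_of_fpf hp Q hQ x hx hxp hfpf

/-! ### (ORB3) if all nonidentity elements of the nontrivial 2-group Q are conjugate then Q has exponent 2: Cauchy gives u ∈ Q of order 2,
every t ≠ 1 is a conjugate of u so t has order 2. -/
theorem sq_eq_one_of_trans (Q : Subgroup G) (a : ℕ) (ha : 1 ≤ a) (hQ : Nat.card Q = 2 ^ a) (x : G)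
    (htr : ∀ t ∈ Q, t ≠ 1 → ∀ s ∈ Q, s ≠ 1 → ∃ i : ℕ, x ^ i * t * (x ^ i)⁻¹ = s) :
    ∀ g ∈ Q, g * g = 1 := by
  exact Cfsg.Agent.Helper57.S4017F.sq_eq_one_of_trans Q a ha hQ x htr

/-! ### (SE) a proper normal subgroup N of order divisible by q is impossible.  T0 : Sylow q N, T := T0.map N.subtype ≠ ⊥ is a q-subgroup of G,
N(T) ≠ ⊤ (hU), q ∣ |N(T)| (T ≤ N(T)), so N(T) and N are {p,q}-groups by (*).  Frattini: N(T) ⊔ N = ⊤ and |N(T) ⊔ N| ∣ |N(T)| * |N|
(`Cfsg.Agent.Helper90.CYC.card_sup_dvd_of_le_normalizer` with N ≤ N(N) = ⊤... or the product formula for normal N), so r ∣ |N(T)| * |N|,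
r ∈ {p, q}: contradiction. -/
theorem no_even_normal (hq : q.Prime) (hstar : Star p q G) (hU : NoNormalQ q G) (r : ℕ) (hr : r.Prime)
    (hrG : r ∣ Nat.card G) (hrp : r ≠ p) (hrq : r ≠ q) (N : Subgroup G) [N.Normal] (hN : N ≠ ⊤)
    (hqN : q ∣ Nat.card N) : False := by
  exact Cfsg.Agent.Helper58.S4017F.no_even_normal hq hstar hU r hr hrG hrp hrq N hN hqN

/-! ### (SO) a nontrivial proper normal subgroup N of order prime to q is impossible.  Q : Sylow q G, |N ⊔ Q| = |N| * |Q|
(`card_sup_of_normal_coprime`), |Q| = q^a.  If N ⊔ Q = ⊤: |N| * q^a = |G|, contradiction with hK.  Else N ⊔ Q is a proper subgroup of order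
divisible by q, a {p,q}-group by (*), so |N| (prime to q) is a power of p: N is a p-group, p ∣ |N| (N ≠ ⊥).  If p ∣ |G ⧸ N|: hquot gives that
G ⧸ N is a {p,q}-group, but r ∣ |G| = |G ⧸ N| * |N| and r ∤ |N|, so r ∣ |G ⧸ N|: contradiction.  If p ∤ |G ⧸ N| = N.index: |N| and N.index are
coprime (|N| = p^k), Schur-Zassenhaus (`Subgroup.exists_right_complement'_of_coprime`) gives L with |N| * |L| = |G|; L ≠ ⊤ (|N| > 1);
q ∣ |L| and r ∣ |L| (both prime to |N|): contradiction with (*). -/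
theorem no_odd_normal (h : Hyp p q G) (hstar : Star p q G) (hK : NoNormalCompl q G) (r : ℕ)
    (hr : r.Prime) (hrG : r ∣ Nat.card G) (hrp : r ≠ p) (hrq : r ≠ q)
    (hquot : ∀ N : Subgroup G, ∀ _ : N.Normal, N ≠ ⊥ → IsPGroup p N → p ∣ Nat.card (G ⧸ N) →
      Concl p q (G ⧸ N))
    (N : Subgroup G) [N.Normal] (hN1 : N ≠ ⊥) (hN : N ≠ ⊤) (hqN : ¬ q ∣ Nat.card N) : False := by
  exact Cfsg.Agent.Helper17.S4017F.no_odd_normal h hstar hK r hr hrG hrp hrq hquot N hN1 hN hqN

/-! ### (CT1) in the boundary Setting: an element g of N(Q) commuting with an involution t of Q centralises Q.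
G is simple and Q ≠ ⊥ is not normal (|Q| = 2^a < |G| because of `third`; or: a normal Q with the p-element x would make ... simply
Q = ⊤ contradicts `third`, Q = ⊥ contradicts card_Q), so N(Q) ≠ ⊤ has even order: a {2,p}-group by `star`.  Write g = u * v with u, v ∈ zpowers g,
u a 2-element, v of odd order (`Cfsg.Agent.Helper4.CYC.h4_decomp 2 g`).  u ∈ N(Q) is a 2-element and Q is a Sylow 2-subgroup (card_Q + sylow),
so u ∈ Q (`IsPGroup.inf_normalizer_sylow` / Lib/Helper17/SylowFixed `mem_sylow_of_mem_normalizer`), and Q is abelian (exponent 2): u centralises Q.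
v ∈ N(Q) has odd order dividing |N(Q)| = 2^i p^j: v is a p-element; v commutes with t (a power of g).  `centralizes_or_fpf` (ORB1, |Q| = p + 1):
v centralises Q, or C_Q(v) = 1; the latter is false as t ∈ C_Q(v), t ≠ 1.  So g = u * v centralises Q. -/
theorem ct_centralizes {a : ℕ} {Q : Subgroup G} {x : G} (h : Setting a p Q x) {t : G} (ht : t ∈ Q)
    (ht1 : t ≠ 1) (g : G) (hg : g ∈ normalizer (Q : Set G)) (hgt : g * t = t * g) :
    g ∈ centralizer (Q : Set G) := by
  exact Cfsg.Agent.Helper33.S4017F.ct_centralizes h ht ht1 g hg hgt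

/-! ### (CT2) C(t) = Z_t : Q with Z_t the set of p-elements of C(t), an abelian subgroup.  C := centralizer {t} ≠ ⊤ (else t is central, the centre of the
simple group G is ⊥ or ⊤, and G abelian simple has prime order, but 4 ∣ |G|), 2 ∣ |C| (t ∈ C), so C is a {2,p}-group (`star`).  Q ≤ C (Q abelian),
Q is a Sylow 2-subgroup of C (order 2^a, the full 2-part of |G|).  By hcent, N_C(Q) ≤ C_C(Q): Burnside transfer
(`MonoidHom.ker_transferSylow_isComplement'` in the group ↥C) gives a normal complement K of Q in C; |K| = |C| / 2^a is a power of p, K is a normal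
Sylow p-subgroup of C, so K contains every p-element of C (a normal Sylow subgroup is the unique one).  Z := K.map C.subtype.  Z is a p-subgroup of G,
contained in a Sylow p-subgroup (`IsPGroup.exists_le_sylow`), hence abelian (`abel`). -/
theorem ct_of_centralizes {a : ℕ} {Q : Subgroup G} {x : G} (h : Setting a p Q x) {t : G} (ht : t ∈ Q)
    (ht1 : t ≠ 1)
    (hcent : ∀ g : G, g ∈ normalizer (Q : Set G) → g * t = t * g → g ∈ centralizer (Q : Set G)) :
    ∃ Z : Subgroup G, (∀ z, z ∈ Z ↔ (z * t = t * z ∧ ∃ j, orderOf z = p ^ j)) ∧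
      (∀ z ∈ Z, ∀ z' ∈ Z, z * z' = z' * z) := by
  exact Cfsg.Agent.Helper24.S4017F.ct_of_centralizes h ht ht1 hcent

end Cfsg.Agent.Helper17.S4017P
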