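import Mathlib
import Cfsg.Agent.S0071
import Cfsg.Agent.Lib.Helper17.S4017Defs
import Cfsg.Agent.Lib.Helper17.S4017FDefs
import Cfsg.Agent.Lib.Helper17.S4017Pieces

/-!
# S4017: the front-end assembly (induction on `|G|`, main case via Frobenius' criterion S0071, reduction of the
boundary case to `Setting`).
-/

set_option autoImplicit false

namespace Cfsg.Agent.Helper17.S4017

open Subgroup

universe u

variable {G : Type u} [Group G] [Finite G] {p q : ℕ}

theorem card_lt_of_ne_top (H : Subgroup G) (hH : H ≠ ⊤) : Nat.card H < Nat.card G := by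
  rcases (Subgroup.card_le_card_group H).lt_or_eq with h | h
  · exact h
  · exact absurd ((Subgroup.card_eq_iff_eq_top H).1 h) hH

/-- `(*)` from the induction hypothesis. -/
theorem star_of_ih (h : Hyp p q G)
    (ih : ∀ H : Subgroup G, H ≠ ⊤ → Hyp p q H → Concl p q H) : Star p q G := by
  intro H hH hqH s hs hsH
  haveI : Fact q.Prime := ⟨h.hq⟩
  by_cases hpg : IsPGroup q H
  · obtain ⟨k, hk⟩ := IsPGroup.iff_card.1 hpg
    rw [hk] at hsH
    right
    exact (Nat.prime_dvd_prime_iff_eq hs h.hq).1 (hs.dvd_of_dvd_pow hsH)
  · have hpH := h.hmix H hH hpg hqH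
    exact ih H hH (S4017P.hyp_subgroup h H hpH hqH) s hs hsH

/-- The induction step. -/
theorem step (h : Hyp p q G)
    (ih : ∀ (G' : Type u) [Group G'] [Finite G'], Nat.card G' < Nat.card G → Hyp p q G' →
      Concl p q G')
    (hmid : ∀ (a : ℕ) (Q : Subgroup G) (x : G), Setting a p Q x → False) : Concl p q G := by
  intro r hr hrG
  by_contra hne
  push Not at hne
  obtain ⟨hrp, hrq⟩ := hne
  haveI : Fact q.Prime := ⟨h.hq⟩
  have hstar : Star p q G :=
    star_of_ih h (fun H hH hyp => ih H (card_lt_of_ne_top H hH) hyp)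
  have hU : NoNormalQ q G := S4017P.noNormalQ h r hr hrG hrp hrq
  have hK : NoNormalCompl q G := S4017P.noNormalCompl h r hr hrG hrp hrq
  obtain ⟨Q⟩ : Nonempty (Sylow q G) := inferInstance
  have hQcard : Nat.card (Q : Subgroup G) = q ^ (Nat.card G).factorization q :=
    Q.card_eq_multiplicity
  by_cases hcrit : ∀ U : Subgroup G, U ≤ (Q : Subgroup G) →
      ∀ g ∈ Subgroup.normalizer (U : Set G), Nat.Coprime (orderOf g) q →
        g ∈ Subgroup.centralizer (U : Set G)
  · obtain ⟨N, hN, hc⟩ := (Cfsg.Agent.S0071.result Q).2 hcrit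
    have hmul := hc.card_mul_card
    exact hK N hN (by rw [← hQcard]; exact hmul)
  · push Not at hcrit
    obtain ⟨U, hUQ, g, hgN, hgq, hgC⟩ := hcrit
    have hU1 : U ≠ ⊥ := by
      rintro rfl
      apply hgC
      rw [Subgroup.mem_centralizer_iff]
      intro y hy
      rw [Subgroup.coe_bot, Set.mem_singleton_iff] at hy
      subst hy
      simp
    have hUq : IsPGroup q U := Q.2.to_le hUQ
    have hNU : normalizer (U : Set G) ≠ ⊤ := hU U hUq hU1
    have hqU : q ∣ Nat.card U := by
      obtain ⟨k, hk⟩ := IsPGroup.iff_card.1 hUq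
      have hk0 : k ≠ 0 := by
        rintro rfl
        rw [pow_zero] at hk
        exact hU1 (Subgroup.card_eq_one.1 hk)
      rw [hk]
      exact dvd_pow_self q hk0
    have hqN : q ∣ Nat.card (normalizer (U : Set G)) :=
      hqU.trans (Subgroup.card_dvd_of_le Subgroup.le_normalizer)
    have hgord : ∃ j, orderOf g = p ^ j := by
      have hdvd : orderOf g ∣ Nat.card (normalizer (U : Set G)) := by
        have := orderOf_dvd_natCard (⟨g, hgN⟩ : normalizer (U : Set G))
        rwa [Subgroup.orderOf_mk] at this
      have hall : ∀ s : ℕ, s.Prime → s ∣ orderOf g → s = p := by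
        intro s hs hsd
        rcases hstar _ hNU hqN s hs (hsd.trans hdvd) with rfl | rfl
        · rfl
        · exfalso
          have h1 : s ∣ Nat.gcd (orderOf g) s := Nat.dvd_gcd hsd dvd_rfl
          rw [hgq] at h1
          exact hs.one_lt.ne' (Nat.dvd_one.1 h1)
      exact ⟨_, Nat.eq_prime_pow_of_unique_prime_dvd (orderOf_pos g).ne'
        (fun hd hdn => hall _ hd hdn)⟩
    have hUle : Nat.card U ≤ q ^ (Nat.card G).factorization q := by
      rw [← hQcard]
      exact Nat.le_of_dvd Nat.card_pos (Subgroup.card_dvd_of_le hUQ)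
    have hpow1 : 1 ≤ q ^ (Nat.card G).factorization q := Nat.one_le_pow _ _ h.hq.pos
    rcases h.hlarge with hl | ⟨hpe, habel⟩
    · rcases S4017P.centralizes_or_fpf h.hp U g hgN hgord (by omega) with hc | ⟨hc, -⟩
      · exact hgC hc
      · omega
    · have hp3 := h.hp.two_le
      have hqa : q ^ (Nat.card G).factorization q = p + 1 := by omega
      rcases S4017P.centralizes_or_fpf h.hp U g hgN hgord (by omega) with hc | ⟨hc, hfpf⟩
      · exact hgC hc
      · have hUeq : U = (Q : Subgroup G) :=
          Subgroup.eq_of_le_of_card_ge hUQ (by rw [hc, hQcard, hqa])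
        have hq2 : q = 2 := by
          have hpodd : Odd p := h.hp.odd_of_ne_two h.hp2
          have h2 : 2 ∣ q ^ (Nat.card G).factorization q := by
            rw [hqa]
            obtain ⟨k, hk⟩ := hpodd
            omega
          have h3 := Nat.Prime.dvd_of_dvd_pow Nat.prime_two h2
          exact ((Nat.prime_dvd_prime_iff_eq Nat.prime_two h.hq).1 h3).symm
        subst hq2
        have hgN' : g ∈ normalizer ((Q : Subgroup G) : Set G) := hUeq ▸ hgN
        have hfpf' : ∀ u ∈ (Q : Subgroup G), g * u = u * g → u = 1 := hUeq ▸ hfpf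
        have ha2 : 2 ≤ (Nat.card G).factorization 2 := by
          by_contra hlt
          have h01 : (Nat.card G).factorization 2 = 0 ∨ (Nat.card G).factorization 2 = 1 := by omega
          have hp2' := h.hp2
          rcases h01 with h0 | h1
          · rw [h0] at hqa; simp at hqa; omega
          · rw [h1] at hqa; omega
        have hQc : Nat.card (Q : Subgroup G) = p + 1 := by rw [hQcard, hqa]
        have htr := S4017P.trans_of_fpf h.hp (Q : Subgroup G) hQc g hgN' hgord hfpf'
        have helem := S4017P.sq_eq_one_of_trans (Q : Subgroup G) _ (by omega) hQcard g htr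
        have hquot : ∀ N : Subgroup G, ∀ _ : N.Normal, N ≠ ⊥ → IsPGroup p N →
            p ∣ Nat.card (G ⧸ N) → Concl p 2 (G ⧸ N) := by
          intro N hN hN1 hNp hpN
          haveI := hN
          apply ih (G ⧸ N) ?_ (S4017P.hyp_quotient h hstar N hNp hpN)
          have hmul := Subgroup.card_eq_card_quotient_mul_card_subgroup N
          have hN2 : 1 < Nat.card N := by
            rw [Subgroup.one_lt_card_iff_ne_bot]; exact hN1
          have hpos : 0 < Nat.card (G ⧸ N) := Nat.card_pos
          nlinarith
        have hsimple : IsSimpleGroup G := by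
          haveI : Nontrivial G := by
            rw [← Finite.one_lt_card_iff_nontrivial]
            have := Nat.le_of_dvd Nat.card_pos h.hpG
            omega
          refine { toNontrivial := inferInstance, eq_bot_or_eq_top_of_normal := fun N hN => ?_ }
          haveI := hN
          by_contra hcon
          push Not at hcon
          by_cases hqN : 2 ∣ Nat.card N
          · exact S4017P.no_even_normal h.hq hstar hU r hr hrG hrp hrq N hcon.2 hqN
          · exact S4017P.no_odd_normal h hstar hK r hr hrG hrp hrq hquot N hcon.1 hcon.2 hqN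
        exact hmid _ (Q : Subgroup G) g
          { simple := hsimple
            two_le := ha2
            prime := h.hp
            p_eq := hqa.symm
            card_Q := hQcard
            sylow := Nat.pow_succ_factorization_not_dvd Nat.card_pos.ne' Nat.prime_two
            elem := helem
            star := fun H hH h2 s hs hsH => (hstar H hH h2 s hs hsH).symm
            abel := fun P g' hg' k hk => habel (P : Subgroup G) P.isPGroup' g' hg' k hk
            x_mem := hgN'
            x_pel := hgord
            x_trans := htr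
            third := ⟨r, hr, hrG, hrq, hrp⟩ }

/-- S4017 for `Hyp`, given the contradiction in the boundary setting. -/
theorem concl_of_hyp
    (hmid : ∀ (G : Type u) [Group G] [Finite G] (a : ℕ) (Q : Subgroup G) (x : G),
      Setting a p Q x → False) :
    ∀ (n : ℕ) (G : Type u) [Group G] [Finite G], Nat.card G = n → Hyp p q G → Concl p q G := by
  intro n
  induction n using Nat.strong_induction_on with
  | _ n ih =>
    intro G _ _ hn h
    apply step h
    · intro G' _ _ hlt h'
      exact ih (Nat.card G') (by rw [← hn]; exact hlt) G' rfl h'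
    · intro a Q x
      exact hmid G a Q x

/-- The frozen hypotheses give `Hyp`. -/
theorem hyp_of_frozen (hp : p.Prime) (hq : q.Prime) (hpq : p ≠ q) (hp2 : p ≠ 2)
    (hpG : p ∣ Nat.card G) (hqG : q ∣ Nat.card G)
    (hmix : ∀ H : Subgroup G, H ≠ ⊤ → ¬ IsPGroup q H → q ∣ Nat.card H → p ∣ Nat.card H)
    (hlarge : q ^ (Nat.card G).factorization q - 1 < p ∨
      (p = q ^ (Nat.card G).factorization q - 1 ∧ ∀ P : Sylow p G, IsMulCommutative P)) :
    Hyp p q G := by
  refine { hp := hp, hq := hq, hpq := hpq, hp2 := hp2, hpG := hpG, hqG := hqG, hmix := hmix,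
           hlarge := ?_ }
  rcases hlarge with h1 | ⟨h1, h2⟩
  · left; exact h1
  · right
    refine ⟨h1, fun P hP g hg k hk => ?_⟩
    haveI : Fact p.Prime := ⟨hp⟩
    obtain ⟨S, hS⟩ := hP.exists_le_sylow
    have := (h2 S).is_comm.comm ⟨g, hS hg⟩ ⟨k, hS hk⟩
    exact congrArg Subtype.val this

end Cfsg.Agent.Helper17.S4017
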