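import Mathlib
import Cfsg.Agent.Lib.Helper17.S4017Main
import Cfsg.Agent.Lib.Helper17.S4017Bridge

/-!
# S4017: the statement, reduced to the middle part `Cfsg.Agent.Helper64.S4017.Setting a p Q x → False`
(front end `Cfsg.Agent.Helper17.S4017.concl_of_hyp` + bridge `h64_of_h17`).
-/

set_option autoImplicit false

namespace Cfsg.Agent.Helper17.S4017

universe u

/-- S4017, given the contradiction in helper64's boundary setting (in the universe of `G`). -/
theorem result_of_middle
    (hmid : ∀ (G : Type u) [Group G] [Finite G] (a p : ℕ) (Q : Subgroup G) (x : G),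
      Cfsg.Agent.Helper64.S4017.Setting a p Q x → False)
    {G : Type u} [Group G] [Finite G]
    {p q : ℕ} (hp : p.Prime) (hq : q.Prime) (hpq : p ≠ q) (hp2 : p ≠ 2)
    (hpG : p ∣ Nat.card G) (hqG : q ∣ Nat.card G)
    (hmix : ∀ H : Subgroup G, H ≠ ⊤ → ¬ IsPGroup q H → q ∣ Nat.card H → p ∣ Nat.card H)
    (hlarge : q ^ (Nat.card G).factorization q - 1 < p ∨
      (p = q ^ (Nat.card G).factorization q - 1 ∧ ∀ P : Sylow p G, IsMulCommutative P)) :
    ∀ r : ℕ, r.Prime → r ∣ Nat.card G → r = p ∨ r = q :=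
  concl_of_hyp (fun G' _ _ a Q x hs => hmid G' a p Q x (Cfsg.Agent.Helper17.S4017M.h64_of_h17 hs))
    _ G rfl (hyp_of_frozen hp hq hpq hp2 hpG hqG hmix hlarge)

end Cfsg.Agent.Helper17.S4017
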