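import Mathlib
import Cfsg.Agent.Lib.Helper64.S4017Defs
import Cfsg.Agent.Lib.Helper3.S4017DDefs
import Cfsg.Agent.Lib.Helper17.S4017CT
import Cfsg.Agent.Lib.Helper19.S4017HLEM
import Cfsg.Agent.Lib.Helper56.S4017CT1
import Cfsg.Agent.Lib.Helper60.S4017M3
import Cfsg.Agent.Lib.Helper22.S4017N2
import Cfsg.Agent.Lib.Helper22.S4017SIMP
import Cfsg.Agent.Lib.Helper22.S4017S1
import Cfsg.Agent.Lib.Helper60.S4017P1C
import Cfsg.Agent.Lib.Helper41.S4017E1
import Cfsg.Agent.Lib.Helper17.S4017E23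
import Cfsg.Agent.Lib.Helper30.S4017SYLC
import Cfsg.Agent.Lib.Helper33.S4017B1b
import Cfsg.Agent.Lib.Helper33.S4017B1c
import Cfsg.Agent.Lib.Helper33.S4017B1d
import Cfsg.Agent.Lib.Helper86.S4017A0
import Cfsg.Agent.Lib.Helper47.S4017A4
import Cfsg.Agent.Lib.Helper90.S4017A7
import Cfsg.Agent.Lib.Helper30.S4017C3

/-!
# S4017, middle part: `Setting a p Q x → False` assembled from the pieces of helper64's lemma server S4017M

`false_core` takes the three pieces (A5), (A6), (D5) as hypotheses (they were the last to land); everything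
else is cited from main.
-/

set_option autoImplicit false

namespace Cfsg.Agent.Helper17.S4017Mid

open Cfsg.Agent.Helper64.S4017
open scoped Pointwise

variable {G : Type*} [Group G] [Finite G] {a p : ℕ} {Q : Subgroup G} {x : G}

/-- The toolkit of a setting. -/
theorem tools (h : Setting a p Q x) : Tools a p Q x where
  lemmaH := fun H hH hQ hx => Cfsg.Agent.Helper19.S4017M.lemmaH h H hH hQ hx
  ct := fun _ ht ht1 => Cfsg.Agent.Helper17.S4017M.ct h ht ht1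
  ct1 := fun t ht ht1 g hg => by
    obtain ⟨Z, hZ, _⟩ := Cfsg.Agent.Helper17.S4017M.ct h ht ht1
    exact Cfsg.Agent.Helper56.S4017M.Setting.ct1 h ht ht1 Z hZ hg
  m2 := fun _ ht ht1 _ hg hgt => Cfsg.Agent.Helper17.S4017M.m2 h ht ht1 hg hgt
  m3 := fun _ hc hcQ => Cfsg.Agent.Helper60.S4017M.Setting.m3 h
    (fun _ ht ht1 => Cfsg.Agent.Helper17.S4017M.ct h ht ht1) hc hcQ
  n2 := fun g hg hg2 => Cfsg.Agent.Helper22.S4017M.n2 h g hg hg2

theorem tools_all : ∀ (Q' : Subgroup G) (x' : G), Setting a p Q' x' → Tools a p Q' x' :=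
  fun _ _ h' => tools h'

omit [Finite G] in
theorem isInv_conj {u : G} (hu : IsInv u) (g : G) : IsInv (g * u * g⁻¹) := by
  refine ⟨?_, ?_⟩
  · intro h1
    apply hu.1
    have : u = g⁻¹ * (g * u * g⁻¹) * g := by group
    rw [this, h1]; group
  · calc g * u * g⁻¹ * (g * u * g⁻¹) = g * (u * u) * g⁻¹ := by group
      _ = 1 := by rw [hu.2]; group

/-- `x ≠ 1`, so `p ∣ |G|`. -/
theorem p_dvd_card (h : Setting a p Q x) : p ∣ Nat.card G := by
  obtain ⟨t, ht, ht1, s, hs, hs1, hst⟩ := Cfsg.Agent.Helper22.S4017M.h22_exists_two h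
  have hx1 : x ≠ 1 := by
    rintro rfl
    obtain ⟨i, hi⟩ := h.x_trans t ht ht1 s hs hs1
    apply hst
    rw [← hi]; simp
  obtain ⟨j, hj⟩ := h.x_pel
  have hj0 : j ≠ 0 := by
    rintro rfl
    rw [pow_zero, orderOf_eq_one_iff] at hj
    exact hx1 hj
  have h1 : p ∣ orderOf x := by rw [hj]; exact dvd_pow_self p hj0
  exact dvd_trans h1 (orderOf_dvd_natCard x)

theorem p_ne_two (h : Setting a p Q x) : p ≠ 2 := by
  intro hp2
  have h1 := Cfsg.Agent.Helper30.S4017M.h30_p_odd h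
  rw [hp2] at h1
  omega

/-- Case B1: `P₁ ≠ 1`. -/
theorem false_of_p1ne (h : Setting a p Q x) (hP1 : P1ne p Q) : False := by
  have hall : ∀ (Q' : Subgroup G) (x' : G), Setting a p Q' x' → Tools a p Q' x' := tools_all
  have h2c : ∀ (Q' : Subgroup G) (x' : G), Setting a p Q' x' →
      ∀ t ∈ Q', t ≠ 1 → ∀ u : G, IsInv u → u * t = t * u → u ∈ Q' :=
    fun Q' x' h' t ht ht1 u hu hut =>
      Cfsg.Agent.Helper33.S4017M.twoClosed_of_p1ne h' (hall Q' x' h')
        (Cfsg.Agent.Helper60.S4017M.Setting.p1ne_of_p1ne h h' hP1) ht ht1 hu hut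
  obtain ⟨u, v, hu, hv, huv⟩ := Cfsg.Agent.Helper41.S4017M.exists_invs_not_comm h
  have hy : IsPel p (u * v) := Cfsg.Agent.Helper17.S4017M.isPel_mul_of_not_comm h h2c hu hv huv
  have hy1 : u * v ≠ 1 := by
    intro h1
    apply huv
    have h2 : u = v⁻¹ := eq_inv_of_mul_eq_one_left h1
    rw [h2]; group
  have huy : u * (u * v) * u⁻¹ = (u * v)⁻¹ := Cfsg.Agent.Helper41.S4017M.dih_conj_left hu hv
  have hodd : ∀ s : G, IsInv s → s * (u * v) ≠ (u * v) * s := fun s hs hsy =>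
    Cfsg.Agent.Helper33.S4017M.B1_claim1 hall h hP1 hu hy hy1 huy hs hsy
  obtain ⟨P, hP⟩ := Cfsg.Agent.Helper30.S4017M.centralizer_eq_sylow h hu hy hy1 huy hodd
  have hinv := Cfsg.Agent.Helper33.S4017M.B1_inverts hall h hP1 hu hy hy1 huy P hP
  obtain ⟨c, hc1, hc, hcQ⟩ := hP1
  have : Fact p.Prime := ⟨h.prime⟩
  -- `c` lies in a Sylow `p`-subgroup, conjugate to `P`
  obtain ⟨j, hj⟩ := hc
  have hZ : IsPGroup p (Subgroup.zpowers c) := IsPGroup.of_card (n := j) (by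
    rw [Nat.card_zpowers, hj])
  obtain ⟨P0, hP0⟩ := hZ.exists_le_sylow
  obtain ⟨g, hg⟩ := MulAction.exists_smul_eq G P0 P
  have hcP : g * c * g⁻¹ ∈ P := by
    have h1 : c ∈ P0 := hP0 (Subgroup.mem_zpowers c)
    rw [← hg]
    have h2 : (MulAut.conj g) • c ∈ (MulAut.conj g) • (P0 : Subgroup G) :=
      Subgroup.smul_mem_pointwise_smul _ _ _ h1
    rw [MulAut.smul_def, MulAut.conj_apply] at h2
    exact h2
  obtain ⟨t, ht, ht1, -⟩ := Cfsg.Agent.Helper22.S4017M.h22_exists_two h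
  have htinv : IsInv t := ⟨ht1, h.elem t ht⟩
  have hs : IsInv (g * t * g⁻¹) := isInv_conj htinv g
  have hc' : IsPel p (g * c * g⁻¹) := Cfsg.Agent.Helper86.S4017M.h86_isPel_conj ⟨j, hj⟩ g
  have hc'1 : g * c * g⁻¹ ≠ 1 := by
    intro h1
    apply hc1
    have : c = g⁻¹ * (g * c * g⁻¹) * g := by group
    rw [this, h1]; group
  have hsc : g * t * g⁻¹ * (g * c * g⁻¹) = g * c * g⁻¹ * (g * t * g⁻¹) := by
    have h1 := hcQ t ht
    calc g * t * g⁻¹ * (g * c * g⁻¹) = g * (t * c) * g⁻¹ := by group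
      _ = g * (c * t) * g⁻¹ := by rw [h1]
      _ = g * c * g⁻¹ * (g * t * g⁻¹) := by group
  exact Cfsg.Agent.Helper33.S4017M.B1_claim1 hall h ⟨c, hc1, ⟨j, hj⟩, hcQ⟩ hu hc' hc'1
    (hinv _ hcP) hs hsc

/-- The middle part, with (A5), (A6), (D5) as hypotheses. -/
theorem false_core (h : Setting a p Q x)
    (hA5 : (∀ u z : G, IsInv u → IsPel p z → z * u = u * z → z = 1) → ∀ P : Sylow p G,
      Nat.card {y : G // y ≠ 1 ∧ IsPel p y} * (2 * Nat.card P) = Nat.card G * (Nat.card P - 1))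
    (hA6 : (∀ u z : G, IsInv u → IsPel p z → z * u = u * z → z = 1) → ∀ P : Sylow p G,
      Nat.card {u : G // IsInv u} * Nat.card {u : G // IsInv u} =
        Nat.card {u : G // IsInv u} * p + Nat.card {y : G // y ≠ 1 ∧ IsPel p y} * Nat.card P)
    (hD5 : a = 2 → ¬ P1ne p Q →
      (∃ t ∈ Q, t ≠ 1 ∧ ∃ z : G, z ≠ 1 ∧ IsPel p z ∧ z * t = t * z) →
      ∃ (P : Subgroup G) (t : G) (w : ℕ), Cfsg.Agent.Helper3.S4017.CaseD G Q P t w)
    (hDfalse : ∀ (P : Subgroup G) (t : G) (w : ℕ), Cfsg.Agent.Helper3.S4017.CaseD G Q P t w → False) :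
    False := by
  have T := tools h
  by_cases hP1 : P1ne p Q
  · exact false_of_p1ne h hP1
  by_cases hZ : ∃ t ∈ Q, t ≠ 1 ∧ ∃ z : G, z ≠ 1 ∧ IsPel p z ∧ z * t = t * z
  · by_cases h3 : 3 ≤ a
    · exact Cfsg.Agent.Helper30.S4017M.false_of_three_le h T h3 hP1 hZ
    · have ha : a = 2 := by have := h.two_le; omega
      obtain ⟨P, t, w, hD⟩ := hD5 ha hP1 hZ
      exact hDfalse P t w hD
  · -- case A
    have hloc : ∀ t ∈ Q, t ≠ 1 → ∀ z : G, IsPel p z → z * t = t * z → z = 1 := by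
      intro t ht ht1 z hz hzt
      by_contra hz1
      exact hZ ⟨t, ht, ht1, z, hz1, hz, hzt⟩
    have hA := Cfsg.Agent.Helper86.S4017M.hA_global h hloc
    have : Fact p.Prime := ⟨h.prime⟩
    obtain ⟨P⟩ : Nonempty (Sylow p G) := inferInstance
    have hpG := p_dvd_card h
    have hcP : ∃ b : ℕ, 1 ≤ b ∧ Nat.card P = p ^ b := by
      refine ⟨(Nat.card G).factorization p, ?_, Sylow.card_eq_multiplicity P⟩
      exact (h.prime.dvd_iff_one_le_factorization Nat.card_pos.ne').1 hpG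
    exact Cfsg.Agent.Helper90.S4017M.A_arith h.prime (p_ne_two h) h.p_eq
      (Cfsg.Agent.Helper47.S4017M.card_inv h T hA) (hA5 hA P) (hA6 hA P) hcP hpG Nat.card_pos

end Cfsg.Agent.Helper17.S4017Mid
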