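import Mathlib
import Cfsg.Agent.Lib.Helper17.S4017Mid
import Cfsg.Agent.Lib.Helper86.S4017A2
import Cfsg.Agent.Lib.Helper86.S4017A3
import Cfsg.Agent.Lib.Helper47.S4017A5Core
import Cfsg.Agent.Lib.Helper47.S4017A6Core
import Cfsg.Agent.Lib.Helper38.S4017D5
import Cfsg.Agent.Lib.Helper3.S4017D

/-!
# S4017, middle part: `Setting a p Q x → False` (all pieces cited from main)
-/

set_option autoImplicit false

namespace Cfsg.Agent.Helper17.S4017Mid

open Cfsg.Agent.Helper64.S4017

variable {G : Type*} [Group G] [Finite G] {a p : ℕ} {Q : Subgroup G} {x : G}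

/-- The boundary setting of S4017 is contradictory. -/
theorem false_of_setting (h : Setting a p Q x) : False := by
  have hall : ∀ (Q' : Subgroup G) (x' : G), Setting a p Q' x' → Tools a p Q' x' := tools_all
  refine false_core h ?_ ?_ ?_ ?_
  · intro hA P
    exact Cfsg.Agent.Helper47.S4017M.h47_a5_core h
      (fun P' => (Cfsg.Agent.Helper86.S4017M.A_sylow hall h hA P').2)
      (fun P' => Cfsg.Agent.Helper86.S4017M.A_normalizer hall h hA P') P
  · intro hA P
    refine Cfsg.Agent.Helper47.S4017M.h47_a6_core hall h hA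
      (fun u hu => Cfsg.Agent.Helper22.S4017M.exists_setting h hu) ?_
      (fun P' => Cfsg.Agent.Helper86.S4017M.A_sylow hall h hA P') P
    intro u v hu hv huv
    refine Cfsg.Agent.Helper17.S4017M.isPel_mul_of_not_comm h ?_ hu hv huv
    intro Q' x' h' t ht ht1 u' hu' hut
    exact (Cfsg.Agent.Helper47.S4017M.h47_a4_cent h' (hall Q' x' h') hA ht ht1 u').1 hut
  · intro ha hP1 hZ
    exact Cfsg.Agent.Helper38.S4017M.caseD h (tools h) ha hP1 hZ
  · intro P t w hD
    exact hD.false

end Cfsg.Agent.Helper17.S4017Mid
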