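import Mathlib
import Cfsg.Agent.Lib.Helper62.SUO0

/-!
# SUO piece (U1) `superdiag_mul` (lemma server of helper62 for S2282)

In the hyperbolic basis `b`, the superdiagonal entries of a product of two elements of the
unitriangular subgroup `Usub hb` are the sums of the superdiagonal entries of the factors.
-/

set_option autoImplicit false
set_option linter.unusedSectionVars false
set_option linter.unusedVariables false
set_option quotPrecheck false

namespace Cfsg.Agent.Helper17.SUO

open Matrix Cfsg Cfsg.Agent.Helper13 Cfsg.Agent.Helper87.PsuA Cfsg.Agent.Helper62.SUO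

section U
variable {F : Type*} [Field F] [Fintype F] {q n : ℕ} (hF : Fintype.card F = q ^ 2)
  {b : Fin n → Fin n → F}

local notation "V" => Fin n → F
local notation "G" => ↥(Cfsg.SU n F q)
local notation "H" => Cfsg.hermForm n F q

include hF

/-- (U1) `rhoM_mul`, `mem_Usub`: superdiagonal entries add -/
theorem superdiag_mul (hb : HB q b) {g h : G} (hg : g ∈ Usub hb) (hh : h ∈ Usub hb)
    (i j : Fin n) (hij : i.val + 1 = j.val) :
    co q b (actv (g * h) (b j)) i = co q b (actv g (b j)) i + co q b (actv h (b j)) i := by
  have hg' := (mem_Usub hb).1 hg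
  have hh' := (mem_Usub hb).1 hh
  rw [← rhoM_apply, ← rhoM_apply, ← rhoM_apply, rhoM_mul hb, Matrix.mul_apply]
  have hne : i ≠ j := by
    intro e
    rw [e] at hij
    omega
  rw [Finset.sum_eq_add_of_mem i j (Finset.mem_univ _) (Finset.mem_univ _) hne]
  · rw [hg' i i le_rfl, if_pos rfl, one_mul, hh' j j le_rfl, if_pos rfl, mul_one, add_comm]
  · intro k _ hk
    rcases lt_or_gt_of_ne hk.1 with h1 | h1
    · rw [hg' i k h1.le, if_neg (ne_of_gt h1), zero_mul]
    · have h2 : j < k := by
        have h3 : i.val < k.val := h1
        have h4 : k.val ≠ j.val := fun e => hk.2 (Fin.ext e)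
        show j.val < k.val
        omega
      rw [hh' k j h2.le, if_neg (ne_of_gt h2), mul_zero]

end U

end Cfsg.Agent.Helper17.SUO
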