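import Mathlib
import Cfsg.Agent.Lib.Helper17.Simple
import Cfsg.Agent.Lib.Helper17.SylowLink
import Cfsg.Agent.Lib.Helper17.EmbedNormalizer
import Cfsg.Agent.Lib.Helper17.SylowCount

/-!
# Special orders below `1092`, part B: `1008` and `1080`
-/

set_option autoImplicit false

namespace Cfsg.Agent.Helper17.Sieve

open Nat MulAction Cfsg.Agent.Helper17 Cfsg.Agent.Helper17.SylowCount

/-- An element of order two has only itself as non-identity power. -/
theorem eq_of_mem_zpowers_two {G : Type*} [Group G] {u g : G} (hu : orderOf u = 2)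
    (hg : g ∈ Subgroup.zpowers u) (hg1 : g ≠ 1) : g = u := by
  obtain ⟨k, rfl⟩ := Subgroup.mem_zpowers_iff.1 hg
  rw [← zpow_mod_orderOf, hu] at hg1 ⊢
  push_cast at hg1 ⊢
  rcases Int.emod_two_eq_zero_or_one k with h | h
  · rw [h, zpow_zero] at hg1; exact absurd rfl hg1
  · rw [h]; exact zpow_one u

/-- **Central involution trick**: if the centralizer of a Sylow subgroup `P` of prime order `p` has
order `2p`, and the involution `u` of this centralizer fixes `f` Sylow `p`-subgroups with
`n_p - 1 < p (f - 1)`, then `f` divides `n_p`. -/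
theorem central_involution_dvd {G : Type*} [Group G] [Finite G] {p : ℕ} [hp : Fact p.Prime]
    (hp2 : p ≠ 2) (P : Sylow p G) (hP : Nat.card (P : Subgroup G) = p)
    (hC : Nat.card (Subgroup.centralizer ((P : Subgroup G) : Set G)) = p * 2) (u : G)
    (hu : u ∈ Subgroup.centralizer ((P : Subgroup G) : Set G)) (huo : orderOf u = 2)
    (hbig : Nat.card (Sylow p G) - 1 < p * (Nat.card (fixedBy (Sylow p G) u) - 1)) :
    Nat.card (fixedBy (Sylow p G) u) ∣ Nat.card (Sylow p G) := by
  have hcount := card_fixedBy_sylow_mul_card_conj P u
  have hsub : Nat.card {g : G // IsConj u g ∧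
      g ∈ Subgroup.normalizer ((P : Subgroup G) : Set G)} = 1 := by
    rw [Nat.card_eq_one_iff_unique]
    constructor
    · constructor
      rintro ⟨g, hg1, hg2⟩ ⟨g', hg1', hg2'⟩
      have key : ∀ y : G, IsConj u y → y ∈ Subgroup.normalizer ((P : Subgroup G) : Set G) →
          y = u := by
        intro y hy1 hy2
        have hfy := card_fixedBy_of_isConj (α := Sylow p G) hy1
        have hyC : y ∈ Subgroup.centralizer ((P : Subgroup G) : Set G) := by
          by_contra hyC
          have := Cfsg.Agent.S1017.fix_bound P hP y hy2 hyC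
          rw [hfy] at this
          omega
        have hyo : orderOf y = 2 := by rw [← orderOf_eq_of_isConj hy1]; exact huo
        have hy2' : y ^ 2 = 1 := by rw [← hyo]; exact pow_orderOf_eq_one y
        have hmem := mem_zpowers_of_pow_eq_one Nat.prime_two hp2 (P : Subgroup G) hP hC u hu huo
          y hyC hy2'
        apply eq_of_mem_zpowers_two huo hmem
        intro h1
        rw [h1, orderOf_one] at hyo
        omega
      apply Subtype.ext
      show g = g'
      rw [key g hg1 hg2, key g' hg1' hg2']
    · exact ⟨⟨u, IsConj.refl u, Subgroup.centralizer_le_normalizer _ hu⟩⟩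
  rw [hsub, mul_one] at hcount
  exact Dvd.intro _ hcount

theorem count1008_aux : ∀ n ∈ Nat.divisors 144, n % 7 = 1 → n ≠ 1 → n = 8 ∨ n = 36 := by
  decide +kernel

/-- No simple group has order `1008 = 2^4 * 3^2 * 7`. -/
theorem no_1008 {G : Type*} [Group G] [Finite G] [IsSimpleGroup G] : Nat.card G ≠ 1008 := by
  intro hG
  have hna : ¬ IsMulCommutative G := not_comm_of_not_prime (by rw [hG]; norm_num)
  have : Fact (Nat.Prime 7) := ⟨by norm_num⟩
  have hfac : Nat.card G = 7 ^ 1 * 144 := by rw [hG]; norm_num
  have h7 : ¬ 7 ∣ 144 := by norm_num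
  obtain ⟨hdvd, hmod⟩ := sylow_count (G := G) hfac h7
  have hne1 := sylow_count_ne_one (G := G) hfac h7 one_ne_zero (by norm_num)
  obtain ⟨P⟩ : Nonempty (Sylow 7 G) := inferInstance
  have hP : Nat.card (P : Subgroup G) = 7 := by
    have := sylow_card_eq P hfac h7; rwa [pow_one] at this
  have hNd := card_normalizer_mul_sylow_count P
  rcases count1008_aux _ (Nat.mem_divisors.2 ⟨hdvd, by norm_num⟩) hmod hne1 with h8 | h36
  · have h2 := two_mul_card_normalizer_dvd hna (by norm_num) P hP h8
    rw [h8, hG] at hNd
    have : Nat.card ↥(Subgroup.normalizer ((P : Subgroup G) : Set G)) = 126 := by omega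
    rw [this] at h2
    revert h2; decide
  · rw [h36, hG] at hNd
    have hN : Nat.card ↥(Subgroup.normalizer ((P : Subgroup G) : Set G)) = 28 := by omega
    obtain ⟨e, he1, he2, he3⟩ := exists_e P hP (by rw [hG]; norm_num)
    rw [hN] at he3
    have he28 : e ∣ 28 := Dvd.intro_left _ he3
    have hele : e ≤ 6 := Nat.le_of_dvd (by norm_num) he1
    have he : e = 2 := by
      interval_cases e <;> omega
    rw [he] at he3
    have hC : Nat.card (Subgroup.centralizer ((P : Subgroup G) : Set G)) = 7 * 2 := by omega
    have : Fact (Nat.Prime 2) := ⟨Nat.prime_two⟩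
    obtain ⟨u, hu⟩ := exists_prime_orderOf_dvd_card'
      (G := ↥(Subgroup.centralizer ((P : Subgroup G) : Set G))) 2 (by rw [hC]; norm_num)
    have huo : orderOf (u : G) = 2 := by rw [Subgroup.orderOf_coe]; exact hu
    have hu1 : (u : G) ≠ 1 := by
      intro h; rw [h, orderOf_one] at huo; omega
    have m1 := Cfsg.Agent.S1017.card_fixedBy_sylow_modEq P hP (u : G) u.2
    have m2 := Cfsg.Agent.S1017.card_fixedBy_mod_four (G := G) (by rw [hG]; norm_num)
      (α := Sylow 7 G) (u : G) huo
    have hle := Cfsg.Agent.S1017.card_fixedBy_le (α := Sylow 7 G) (u : G)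
    have hnt := Cfsg.Agent.S1017.sylow_action_nontrivial (G := G) (p := 7) (by rw [h36]; norm_num)
    have hne := Cfsg.Agent.S1017.card_fixedBy_ne hnt (u : G) hu1
    rw [h36] at m2 hle hne
    have hf : Nat.card (fixedBy (Sylow 7 G) (u : G)) = 8 := by
      unfold Nat.ModEq at m1 m2
      generalize Nat.card (fixedBy (Sylow 7 G) (u : G)) = f at *
      interval_cases f <;> omega
    have hdiv := central_involution_dvd (by norm_num) P hP hC (u : G) u.2 huo
      (by rw [h36, hf]; norm_num)
    rw [h36, hf] at hdiv
    revert hdiv; decide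


theorem count1080_aux : ∀ n ∈ Nat.divisors 216, n % 5 = 1 → n ≠ 1 → n = 6 ∨ n = 36 ∨ n = 216 := by
  decide +kernel

/-- An element of order three has exactly two non-identity powers. -/
theorem card_zpowers_three_le {G : Type*} [Group G] {v : G} (hv : orderOf v = 3) :
    Nat.card {g : G // g ∈ Subgroup.zpowers v ∧ g ≠ 1} = 2 := by
  have h1 : Nat.card (Subgroup.zpowers v) = 3 := by rw [Nat.card_zpowers, hv]
  have : Finite (Subgroup.zpowers v) := Nat.finite_of_card_ne_zero (by rw [h1]; norm_num)
  have h2 := card_ne_subtype (1 : Subgroup.zpowers v)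
  rw [h1] at h2
  have h2' : Nat.card {x : Subgroup.zpowers v // x ≠ 1} = 2 := by rw [h2]
  rw [← h2']
  apply Nat.card_congr
  exact
    { toFun := fun g => ⟨⟨g.1, g.2.1⟩, fun h => g.2.2 (congrArg Subtype.val h)⟩
      invFun := fun g => ⟨g.1.1, g.1.2, fun h => g.2 (Subtype.ext h)⟩
      left_inv := fun g => rfl
      right_inv := fun g => rfl }

/-- No simple group has order `1080 = 2^3 * 3^3 * 5`. -/
theorem no_1080 {G : Type*} [Group G] [Finite G] [IsSimpleGroup G] : Nat.card G ≠ 1080 := by
  intro hG
  have hna : ¬ IsMulCommutative G := not_comm_of_not_prime (by rw [hG]; norm_num)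
  have : Fact (Nat.Prime 5) := ⟨by norm_num⟩
  have hfac : Nat.card G = 5 ^ 1 * 216 := by rw [hG]; norm_num
  have h5 : ¬ 5 ∣ 216 := by norm_num
  obtain ⟨hdvd, hmod⟩ := sylow_count (G := G) hfac h5
  have hne1 := sylow_count_ne_one (G := G) hfac h5 one_ne_zero (by norm_num)
  obtain ⟨P⟩ : Nonempty (Sylow 5 G) := inferInstance
  have hP : Nat.card (P : Subgroup G) = 5 := by
    have := sylow_card_eq P hfac h5; rwa [pow_one] at this
  have hNd := card_normalizer_mul_sylow_count P
  obtain ⟨e, he1, he2, he3⟩ := exists_e P hP (by rw [hG]; norm_num)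
  have hele : e ≤ 4 := Nat.le_of_dvd (by norm_num) he1
  rcases count1080_aux _ (Nat.mem_divisors.2 ⟨hdvd, by norm_num⟩) hmod hne1 with h6 | h36 | h216
  · have hfact := sylow_count_factorial (p := 5) hna hne1
    rw [h6, hG] at hfact
    revert hfact; decide
  · rw [h36, hG] at hNd
    have hN : Nat.card ↥(Subgroup.normalizer ((P : Subgroup G) : Set G)) = 30 := by omega
    rw [hN] at he3
    have he30 : e ∣ 30 := Dvd.intro_left _ he3
    have he : e = 2 := by
      interval_cases e <;> omega
    rw [he] at he3
    have hC : Nat.card (Subgroup.centralizer ((P : Subgroup G) : Set G)) = 5 * 3 := by omega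
    have : Fact (Nat.Prime 3) := ⟨Nat.prime_three⟩
    obtain ⟨v, hv⟩ := exists_prime_orderOf_dvd_card'
      (G := ↥(Subgroup.centralizer ((P : Subgroup G) : Set G))) 3 (by rw [hC]; norm_num)
    have hvo : orderOf (v : G) = 3 := by rw [Subgroup.orderOf_coe]; exact hv
    have hv1 : (v : G) ≠ 1 := by
      intro h; rw [h, orderOf_one] at hvo; omega
    have m1 := Cfsg.Agent.S1017.card_fixedBy_sylow_modEq P hP (v : G) v.2
    have m3 := Cfsg.Agent.S1017.card_modEq_card_fixedBy (α := Sylow 5 G) (v : G) hvo
    have hle := Cfsg.Agent.S1017.card_fixedBy_le (α := Sylow 5 G) (v : G)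
    have hnt := Cfsg.Agent.S1017.sylow_action_nontrivial (G := G) (p := 5) (by rw [h36]; norm_num)
    have hne := Cfsg.Agent.S1017.card_fixedBy_ne hnt (v : G) hv1
    rw [h36] at m3 hle hne
    have hf : Nat.card (fixedBy (Sylow 5 G) (v : G)) = 6 ∨
        Nat.card (fixedBy (Sylow 5 G) (v : G)) = 21 := by
      unfold Nat.ModEq at m1 m3
      generalize Nat.card (fixedBy (Sylow 5 G) (v : G)) = f at *
      interval_cases f <;> omega
    -- elements of the normalizer conjugate to `v` are powers of `v`
    have hrel : (Subgroup.centralizer ((P : Subgroup G) : Set G)).relIndex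
        (Subgroup.normalizer ((P : Subgroup G) : Set G)) = 2 := by
      have := card_centralizer_mul_relIndex (P : Subgroup G)
      rw [hC, hN] at this
      omega
    have key : ∀ y : G, IsConj (v : G) y →
        y ∈ Subgroup.normalizer ((P : Subgroup G) : Set G) → y ∈ Subgroup.zpowers (v : G) := by
      intro y hy1 hy2
      have hyo : orderOf y = 3 := by rw [← orderOf_eq_of_isConj hy1]; exact hvo
      have hy3 : y ^ 3 = 1 := by rw [← hyo]; exact pow_orderOf_eq_one y
      have hsq := Subgroup.mul_self_mem_of_index_two hrel
        (⟨y, hy2⟩ : ↥(Subgroup.normalizer ((P : Subgroup G) : Set G)))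
      rw [Subgroup.mem_subgroupOf] at hsq
      have hsq' : y * y ∈ Subgroup.centralizer ((P : Subgroup G) : Set G) := hsq
      have hyC : y ∈ Subgroup.centralizer ((P : Subgroup G) : Set G) := by
        have h4 : y = (y * y) * (y * y) := by
          have : y * y * (y * y) = y ^ 3 * y := by
            rw [pow_succ, pow_succ, pow_one]; simp only [mul_assoc]
          rw [this, hy3, one_mul]
        rw [h4]
        exact Subgroup.mul_mem _ hsq' hsq'
      exact mem_zpowers_of_pow_eq_one Nat.prime_three (by norm_num) (P : Subgroup G) hP hC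
        (v : G) v.2 hvo y hyC hy3
    have hcount := card_fixedBy_sylow_mul_card_conj P (v : G)
    have hcent := card_conj_mul_card_centralizer (v : G)
    rw [h36] at hcount
    rw [hG] at hcent
    have hc2 : Nat.card {g : G // IsConj (v : G) g ∧
        g ∈ Subgroup.normalizer ((P : Subgroup G) : Set G)} ≤ 2 := by
      rw [← card_zpowers_three_le hvo]
      have : Finite {g : G // g ∈ Subgroup.zpowers (v : G) ∧ g ≠ 1} := Subtype.finite
      apply Nat.card_le_card_of_injective
        (fun g : {g : G // IsConj (v : G) g ∧
            g ∈ Subgroup.normalizer ((P : Subgroup G) : Set G)} =>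
          (⟨g.1, key g.1 g.2.1 g.2.2, fun h => by
            have := orderOf_eq_of_isConj g.2.1
            rw [h, orderOf_one, hvo] at this
            omega⟩ : {g : G // g ∈ Subgroup.zpowers (v : G) ∧ g ≠ 1}))
      intro a b hab
      apply Subtype.ext
      exact congrArg (fun t : {g : G // g ∈ Subgroup.zpowers (v : G) ∧ g ≠ 1} => t.1) hab
    have hc1 : 1 ≤ Nat.card {g : G // IsConj (v : G) g ∧
        g ∈ Subgroup.normalizer ((P : Subgroup G) : Set G)} := by
      have : Nonempty {g : G // IsConj (v : G) g ∧
          g ∈ Subgroup.normalizer ((P : Subgroup G) : Set G)} :=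
        ⟨⟨(v : G), IsConj.refl _, Subgroup.centralizer_le_normalizer _ v.2⟩⟩
      exact Nat.card_pos
    -- the index of the centralizer of `v`
    have hidx : (Subgroup.centralizer ({(v : G)} : Set G)).index =
        Nat.card {g : G // IsConj (v : G) g} := by
      have h1 := (Subgroup.centralizer ({(v : G)} : Set G)).card_mul_index
      rw [hG, ← hcent, mul_comm] at h1
      exact Nat.eq_of_mul_eq_mul_right Nat.card_pos h1
    rcases hf with hf | hf
    · rw [hf] at hcount
      -- `K = 6 c`
      by_cases hK6 : Nat.card {g : G // IsConj (v : G) g} = 6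
      · have hCtop : Subgroup.centralizer ({(v : G)} : Set G) ≠ ⊤ := by
          intro h
          rw [h, Subgroup.index_top] at hidx
          omega
        have := two_mul_card_dvd_factorial hna _ hCtop
        rw [hidx, hK6, hG] at this
        revert this; decide
      · -- `c = 2`: some other power of `v` is conjugate to `v`
        have hc : Nat.card {g : G // IsConj (v : G) g ∧
            g ∈ Subgroup.normalizer ((P : Subgroup G) : Set G)} = 2 := by omega
        have hK : Nat.card {g : G // IsConj (v : G) g} = 12 := by omega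
        have hCc : Nat.card (Subgroup.centralizer ({(v : G)} : Set G)) = 90 := by
          rw [hK] at hcent; omega
        obtain ⟨g, hgne⟩ : ∃ g : {g : G // IsConj (v : G) g ∧
            g ∈ Subgroup.normalizer ((P : Subgroup G) : Set G)}, g.1 ≠ (v : G) := by
          by_contra hall
          push Not at hall
          have : Subsingleton {g : G // IsConj (v : G) g ∧
              g ∈ Subgroup.normalizer ((P : Subgroup G) : Set G)} :=
            ⟨fun a b => Subtype.ext ((hall a).trans (hall b).symm)⟩
          have := Finite.card_le_one_iff_subsingleton.2 this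
          omega
        obtain ⟨a, ha⟩ := isConj_iff.1 g.2.1
        have hgz := key g.1 g.2.1 g.2.2
        set M : Subgroup G := Subgroup.normalizer ((Subgroup.zpowers (v : G) : Subgroup G) : Set G)
          with hM
        have haM : a ∈ M := by
          have : Finite (Subgroup.zpowers (v : G)) :=
            Nat.finite_of_card_ne_zero (by rw [Nat.card_zpowers, hvo]; norm_num)
          apply Subgroup.mem_normalizer_fintype
          intro n hn
          obtain ⟨j, rfl⟩ := Subgroup.mem_zpowers_iff.1 hn
          have : a * (v : G) ^ j * a⁻¹ = (a * (v : G) * a⁻¹) ^ j := by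
            rw [conj_zpow]
          rw [this, ha]
          exact Subgroup.zpow_mem _ hgz j
        have haC : a ∉ Subgroup.centralizer ({(v : G)} : Set G) := by
          intro haC
          apply hgne
          rw [← ha]
          have := Subgroup.mem_centralizer_iff.1 haC (v : G) rfl
          rw [← this, mul_inv_cancel_right]
        have hCM : Subgroup.centralizer ({(v : G)} : Set G) ≤ M := by
          rw [hM, ← Subgroup.centralizer_closure, ← Subgroup.zpowers_eq_closure]
          exact Subgroup.centralizer_le_normalizer _
        have hMtop : M ≠ ⊤ := by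
          intro htop
          have hnorm : (Subgroup.zpowers (v : G)).Normal := Subgroup.normalizer_eq_top_iff.1 htop
          apply normal_card_absurd _ hnorm
          · rw [Nat.card_zpowers, hvo]; norm_num
          · rw [Nat.card_zpowers, hvo, hG]; norm_num
        have hfactM := two_mul_card_dvd_factorial hna M hMtop
        have hdM : 90 ∣ Nat.card M := by rw [← hCc]; exact Subgroup.card_dvd_of_le hCM
        have hneM : Nat.card M ≠ 90 := by
          intro h
          apply haC
          have := Subgroup.eq_of_le_of_card_ge hCM (by rw [h, hCc])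
          rw [this]; exact haM
        have hMi := M.card_mul_index
        rw [hG] at hMi
        have hidx6 : M.index ≤ 6 := by
          obtain ⟨j, hj⟩ := hdM
          rw [hj] at hMi hneM
          have hj2 : 2 ≤ j := by
            rcases j with _ | _ | j
            · simp at hMi
            · simp at hneM
            · omega
          by_contra hgt
          push Not at hgt
          have : 90 * 2 * 7 ≤ 90 * j * M.index := by
            apply Nat.mul_le_mul (Nat.mul_le_mul_left 90 hj2) hgt
          omega
        have hdvd6 : (M.index)! ∣ (6)! := Nat.factorial_dvd_factorial hidx6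
        have := hfactM.trans hdvd6
        rw [hG] at this
        revert this; decide
    · rw [hf] at hcount
      omega
  · rw [h216, hG] at hNd
    have hN : Nat.card ↥(Subgroup.normalizer ((P : Subgroup G) : Set G)) = 5 := by omega
    rw [hN] at he3
    have he5 : e ∣ 5 := Dvd.intro_left _ he3
    interval_cases e <;> omega

end Cfsg.Agent.Helper17.Sieve
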