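import Mathlib
import Cfsg.Agent.Lib.Helper17.Small1092B
import Cfsg.Agent.Lib.Helper17.RationalTI
import Cfsg.Agent.Lib.Helper17.Frob20

/-!
# Special orders below `1092`, part C: `720`
-/

set_option autoImplicit false
set_option linter.style.haveILetI false
set_option linter.unusedTactic false

namespace Cfsg.Agent.Helper17.Sieve

open Nat MulAction Cfsg Cfsg.Agent.Helper17 Cfsg.Agent.Helper17.SylowCount
  Cfsg.Agent.Helper17.PrimeTI

universe u

/-- Peeling off one term of a sum of squares equal to `4`. -/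
theorem peel_four {ι : Type*} [DecidableEq ι] (s : Finset ι) (a : ι → ℤ)
    (h : ∑ i ∈ s, (a i) ^ 2 = 4) :
    (∃ j ∈ s, (a j = 2 ∨ a j = -2) ∧ ∑ i ∈ s.erase j, (a i) ^ 2 = 0) ∨
    (∃ j ∈ s, (a j = 1 ∨ a j = -1) ∧ ∑ i ∈ s.erase j, (a i) ^ 2 = 3) := by
  have hex : ∃ j ∈ s, a j ≠ 0 := by
    by_contra hno
    push Not at hno
    rw [Finset.sum_eq_zero (fun i hi => by rw [hno i hi]; ring)] at h
    omega
  obtain ⟨j, hj, hj0⟩ := hex
  have hsplit := Finset.add_sum_erase s (fun i => (a i) ^ 2) hj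
  have hnonneg : 0 ≤ ∑ i ∈ s.erase j, (a i) ^ 2 := Finset.sum_nonneg (fun i _ => sq_nonneg _)
  have hsum : (a j) ^ 2 + ∑ i ∈ s.erase j, (a i) ^ 2 = 4 := by rw [hsplit, h]
  have hle : a j ≤ 2 := by nlinarith
  have hge : -2 ≤ a j := by nlinarith
  have hc : a j = -2 ∨ a j = -1 ∨ a j = 1 ∨ a j = 2 := by omega
  rcases hc with hc | hc | hc | hc
  · left; refine ⟨j, hj, Or.inr hc, ?_⟩; rw [hc] at hsum; linarith
  · right; refine ⟨j, hj, Or.inr hc, ?_⟩; rw [hc] at hsum; linarith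
  · right; refine ⟨j, hj, Or.inl hc, ?_⟩; rw [hc] at hsum; linarith
  · left; refine ⟨j, hj, Or.inl hc, ?_⟩; rw [hc] at hsum; linarith

theorem arith720_aux : ∀ x ∈ Nat.divisors 720, 1 < x → x ≤ 26 →
    (5 ∣ x - 1 → x = 6 ∨ x = 16) ∧ (5 ∣ x + 1 → x = 4 ∨ x = 9 ∨ x = 24) := by decide +kernel

/-- The possible (value, degree) pairs. -/
theorem pair720 (a : ℤ) (x : ℕ) (ha : a = 1 ∨ a = -1) (hx : x ∣ 720) (hx1 : 1 < x) (hx26 : x ≤ 26)
    (hc : (5 : ℤ) ∣ (x : ℤ) - a) :
    (a = 1 ∧ (x = 6 ∨ x = 16)) ∨ (a = -1 ∧ (x = 4 ∨ x = 9 ∨ x = 24)) := by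
  obtain ⟨h1, h2⟩ := arith720_aux x (Nat.mem_divisors.2 ⟨hx, by norm_num⟩) hx1 hx26
  rcases ha with ha | ha
  · left
    refine ⟨ha, h1 ?_⟩
    rw [ha] at hc
    omega
  · right
    refine ⟨ha, h2 ?_⟩
    rw [ha] at hc
    omega

theorem final720 (a1 a2 a3 a4 : ℤ) (x1 x2 x3 x4 : ℕ)
    (h1 : (a1 = 1 ∧ (x1 = 6 ∨ x1 = 16)) ∨ (a1 = -1 ∧ (x1 = 9 ∨ x1 = 24)))
    (h2 : (a2 = 1 ∧ (x2 = 6 ∨ x2 = 16)) ∨ (a2 = -1 ∧ (x2 = 9 ∨ x2 = 24)))
    (h3 : (a3 = 1 ∧ (x3 = 6 ∨ x3 = 16)) ∨ (a3 = -1 ∧ (x3 = 9 ∨ x3 = 24)))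
    (h4 : (a4 = 1 ∧ (x4 = 6 ∨ x4 = 16)) ∨ (a4 = -1 ∧ (x4 = 9 ∨ x4 = 24)))
    (hdeg : 1 + a1 * x1 + a2 * x2 + a3 * x3 + a4 * x4 = 0)
    (hsq : 1 + x1 ^ 2 + x2 ^ 2 + x3 ^ 2 + x4 ^ 2 ≤ 720) : False := by
  rcases h1 with ⟨rfl, rfl | rfl⟩ | ⟨rfl, rfl | rfl⟩ <;>
  rcases h2 with ⟨rfl, rfl | rfl⟩ | ⟨rfl, rfl | rfl⟩ <;>
  rcases h3 with ⟨rfl, rfl | rfl⟩ | ⟨rfl, rfl | rfl⟩ <;>
  rcases h4 with ⟨rfl, rfl | rfl⟩ | ⟨rfl, rfl | rfl⟩ <;>
  first
    | (norm_num at hsq; done)
    | (norm_num at hdeg; done)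


set_option maxHeartbeats 1000000 in
/-- The case of a Frobenius normalizer of order `20` in a perfect group of order `720`. -/
theorem case_frob20_720 {G : Type u} [Group G] [Fintype G] (hperf : commutator G = ⊤)
    (hG : Nat.card G = 720) (P : Sylow 5 G) (hP : Nat.card (P : Subgroup G) = 5)
    (hC : Subgroup.centralizer ((P : Subgroup G) : Set G) = (P : Subgroup G))
    (hN : Nat.card (Subgroup.normalizer ((P : Subgroup G) : Set G)) = 20) : False := by
  classical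
  have : Fact (Nat.Prime 5) := ⟨by norm_num⟩
  obtain ⟨a, ha1, ha2, ha3, ha4⟩ := Cfsg.Agent.Helper17.RationalTI.rational_degree_equation hperf P hP hC
    (by rw [hN])
  set ψ1 : IrrCharacter G := ⟨fun _ => 1, Cfsg.Agent.Helper81.isIrrCharacter_one⟩ with hψ1
  obtain ⟨k, hk, hk1⟩ := exists_ne_one_of_prime_card (P : Subgroup G) hP
  have hCk : ∀ k ∈ (P : Subgroup G), k ≠ 1 →
      Subgroup.centralizer ({k} : Set G) ≤ (P : Subgroup G) := by
    intro k hk hk1
    obtain ⟨hz, _⟩ := zpowers_eq_of_card_prime (P : Subgroup G) hP k hk hk1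
    rw [← Subgroup.centralizer_closure, ← Subgroup.zpowers_eq_closure, hz, hC]
  have haψ1 : a ψ1 = 1 := by
    have h := ha1 ψ1 k hk hk1
    have h' : ((1 : ℤ) : ℂ) = ((a ψ1 : ℤ) : ℂ) := by
      rw [← h]; simp [hψ1]
    exact_mod_cast h'.symm
  have hdeg1 : charDegree (ψ1 : G → ℂ) = 1 := charDegree_one
  have hsq := Cfsg.Agent.Helper79.sum_sq_degree_nat (G := G)
  rw [hG] at hsq
  have hdeg_gt : ∀ Z : IrrCharacter G, Z ≠ ψ1 → 1 < charDegree (Z : G → ℂ) := by
    intro Z hZ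
    have hpos : 0 < charDegree (Z : G → ℂ) := (Cfsg.Agent.Helper79.irr_one_eq Z).2
    have hne1 : charDegree (Z : G → ℂ) ≠ 1 := by
      intro h
      apply hZ
      apply Subtype.ext
      exact linear_trivial_of_perfect hperf Z h
    omega
  have hdvd : ∀ Z : IrrCharacter G, charDegree (Z : G → ℂ) ∣ 720 := by
    intro Z
    rw [← hG]; exact Cfsg.Agent.Helper79.irr_degree_dvd_card Z
  -- a character of degree 4 with value -1 is impossible
  have kill4 : ∀ Z : IrrCharacter G, a Z = -1 → charDegree (Z : G → ℂ) = 4 → False := by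
    intro Z haZ hdZ
    obtain ⟨n, ρ, _, hρ⟩ := Z.2
    have h1 := (Cfsg.Agent.Helper79.irr_one_eq Z).1
    have h2 : (Z : G → ℂ) 1 = (Module.finrank ℂ (Fin n → ℂ) : ℂ) := by
      rw [← hρ]; exact Representation.char_one ρ
    have hn4 : n = 4 := by
      have : (charDegree (Z : G → ℂ) : ℂ) = (n : ℂ) := by
        rw [← h1, h2, Module.finrank_fin_fun]
      have : charDegree (Z : G → ℂ) = n := by exact_mod_cast this
      omega
    subst hn4
    apply Cfsg.Agent.Helper17.Det4.no_degree_four hperf (P : Subgroup G) hP hCk hN ρ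
    intro k hk hk1
    rw [hρ, ha1 Z k hk hk1, haZ]
    norm_num
  -- split off the trivial character
  have hs1 := Finset.add_sum_erase Finset.univ (fun ψ => (a ψ) ^ 2) (Finset.mem_univ ψ1)
  have hd1 := Finset.add_sum_erase Finset.univ
    (fun ψ => a ψ * (charDegree (ψ : G → ℂ) : ℤ)) (Finset.mem_univ ψ1)
  have hq1 := Finset.add_sum_erase Finset.univ
    (fun ψ : IrrCharacter G => (charDegree (ψ : G → ℂ)) ^ 2) (Finset.mem_univ ψ1)
  simp only [haψ1, hdeg1] at hs1 hd1 hq1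
  rw [← hs1] at ha3
  rw [← hd1] at ha4
  rw [← hq1] at hsq
  have h4 : ∑ ψ ∈ Finset.univ.erase ψ1, (a ψ) ^ 2 = 4 := by
    have : ((5 : ℕ) : ℤ) = 5 := by norm_num
    rw [this] at ha3
    linarith
  rcases peel_four _ a h4 with ⟨X, hX, haX, hrest⟩ | ⟨X1, hX1, haX1, hrest1⟩
  · -- a value ±2: parity contradiction
    have hz := all_zero _ a hrest
    have hd2 := Finset.add_sum_erase (Finset.univ.erase ψ1)
      (fun ψ => a ψ * (charDegree (ψ : G → ℂ) : ℤ)) hX
    have hs0 : ∑ ψ ∈ (Finset.univ.erase ψ1).erase X, a ψ * (charDegree (ψ : G → ℂ) : ℤ) = 0 :=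
      Finset.sum_eq_zero (fun ψ hψ => by rw [hz ψ hψ, zero_mul])
    rw [hs0, add_zero] at hd2
    rw [← hd2] at ha4
    rcases haX with h | h <;> rw [h] at ha4 <;> omega
  · obtain ⟨X2, hX2, haX2, hrest2⟩ := peel ((Finset.univ.erase ψ1).erase X1) a 2 (by norm_num)
      (by rw [hrest1]; norm_num)
    obtain ⟨X3, hX3, haX3, hrest3⟩ := peel (((Finset.univ.erase ψ1).erase X1).erase X2) a 1
      (by norm_num) (by rw [hrest2]; norm_num)
    obtain ⟨X4, hX4, haX4, hrest4⟩ :=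
      peel ((((Finset.univ.erase ψ1).erase X1).erase X2).erase X3) a 0
      (by norm_num) (by rw [hrest3]; norm_num)
    have hz := all_zero _ a (by exact_mod_cast hrest4)
    have hX1ne : X1 ≠ ψ1 := (Finset.mem_erase.1 hX1).1
    have hX2ne : X2 ≠ ψ1 := (Finset.mem_erase.1 (Finset.mem_erase.1 hX2).2).1
    have hX3ne : X3 ≠ ψ1 :=
      (Finset.mem_erase.1 (Finset.mem_erase.1 (Finset.mem_erase.1 hX3).2).2).1
    have hX4ne : X4 ≠ ψ1 :=
      (Finset.mem_erase.1 (Finset.mem_erase.1 (Finset.mem_erase.1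
        (Finset.mem_erase.1 hX4).2).2).2).1
    -- degree equation
    have e1 := Finset.add_sum_erase (Finset.univ.erase ψ1)
      (fun ψ => a ψ * (charDegree (ψ : G → ℂ) : ℤ)) hX1
    have e2 := Finset.add_sum_erase ((Finset.univ.erase ψ1).erase X1)
      (fun ψ => a ψ * (charDegree (ψ : G → ℂ) : ℤ)) hX2
    have e3 := Finset.add_sum_erase (((Finset.univ.erase ψ1).erase X1).erase X2)
      (fun ψ => a ψ * (charDegree (ψ : G → ℂ) : ℤ)) hX3
    have e4 := Finset.add_sum_erase ((((Finset.univ.erase ψ1).erase X1).erase X2).erase X3)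
      (fun ψ => a ψ * (charDegree (ψ : G → ℂ) : ℤ)) hX4
    have hs0 : ∑ ψ ∈ ((((Finset.univ.erase ψ1).erase X1).erase X2).erase X3).erase X4,
        a ψ * (charDegree (ψ : G → ℂ) : ℤ) = 0 :=
      Finset.sum_eq_zero (fun ψ hψ => by rw [hz ψ hψ, zero_mul])
    rw [hs0, add_zero] at e4
    rw [← e4] at e3
    rw [← e3] at e2
    rw [← e2] at e1
    rw [← e1] at ha4
    -- sum of squares of degrees
    have q1 := Finset.add_sum_erase (Finset.univ.erase ψ1)
      (fun ψ : IrrCharacter G => (charDegree (ψ : G → ℂ)) ^ 2) hX1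
    have q2 := Finset.add_sum_erase ((Finset.univ.erase ψ1).erase X1)
      (fun ψ : IrrCharacter G => (charDegree (ψ : G → ℂ)) ^ 2) hX2
    have q3 := Finset.add_sum_erase (((Finset.univ.erase ψ1).erase X1).erase X2)
      (fun ψ : IrrCharacter G => (charDegree (ψ : G → ℂ)) ^ 2) hX3
    have q4 := Finset.add_sum_erase ((((Finset.univ.erase ψ1).erase X1).erase X2).erase X3)
      (fun ψ : IrrCharacter G => (charDegree (ψ : G → ℂ)) ^ 2) hX4
    rw [← q4] at q3
    rw [← q3] at q2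
    rw [← q2] at q1
    rw [← q1] at hsq
    have g1 := hdeg_gt X1 hX1ne
    have g2 := hdeg_gt X2 hX2ne
    have g3 := hdeg_gt X3 hX3ne
    have g4 := hdeg_gt X4 hX4ne
    have d1 := hdvd X1
    have d2 := hdvd X2
    have d3 := hdvd X3
    have d4 := hdvd X4
    have c1 := ha2 X1
    have c2 := ha2 X2
    have c3 := ha2 X3
    have c4 := ha2 X4
    have k1 := kill4 X1
    have k2 := kill4 X2
    have k3 := kill4 X3
    have k4 := kill4 X4
    generalize charDegree (X1 : G → ℂ) = x1 at *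
    generalize charDegree (X2 : G → ℂ) = x2 at *
    generalize charDegree (X3 : G → ℂ) = x3 at *
    generalize charDegree (X4 : G → ℂ) = x4 at *
    generalize ∑ ψ ∈ ((((Finset.univ.erase ψ1).erase X1).erase X2).erase X3).erase X4,
      (charDegree (ψ : G → ℂ)) ^ 2 = R at hsq
    generalize a X1 = a1 at *
    generalize a X2 = a2 at *
    generalize a X3 = a3 at *
    generalize a X4 = a4 at *
    have b1 : x1 ≤ 26 := by nlinarith
    have b2 : x2 ≤ 26 := by nlinarith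
    have b3 : x3 ≤ 26 := by nlinarith
    have b4 : x4 ≤ 26 := by nlinarith
    have p1 := pair720 a1 x1 haX1 d1 g1 b1 c1
    have p2 := pair720 a2 x2 haX2 d2 g2 b2 c2
    have p3 := pair720 a3 x3 haX3 d3 g3 b3 c3
    have p4 := pair720 a4 x4 haX4 d4 g4 b4 c4
    have r1 : (a1 = 1 ∧ (x1 = 6 ∨ x1 = 16)) ∨ (a1 = -1 ∧ (x1 = 9 ∨ x1 = 24)) := by
      rcases p1 with h | ⟨h, h' | h'⟩
      · exact Or.inl h
      · exact (k1 h h').elim
      · exact Or.inr ⟨h, h'⟩
    have r2 : (a2 = 1 ∧ (x2 = 6 ∨ x2 = 16)) ∨ (a2 = -1 ∧ (x2 = 9 ∨ x2 = 24)) := by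
      rcases p2 with h | ⟨h, h' | h'⟩
      · exact Or.inl h
      · exact (k2 h h').elim
      · exact Or.inr ⟨h, h'⟩
    have r3 : (a3 = 1 ∧ (x3 = 6 ∨ x3 = 16)) ∨ (a3 = -1 ∧ (x3 = 9 ∨ x3 = 24)) := by
      rcases p3 with h | ⟨h, h' | h'⟩
      · exact Or.inl h
      · exact (k3 h h').elim
      · exact Or.inr ⟨h, h'⟩
    have r4 : (a4 = 1 ∧ (x4 = 6 ∨ x4 = 16)) ∨ (a4 = -1 ∧ (x4 = 9 ∨ x4 = 24)) := by
      rcases p4 with h | ⟨h, h' | h'⟩
      · exact Or.inl h
      · exact (k4 h h').elim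
      · exact Or.inr ⟨h, h'⟩
    apply final720 a1 a2 a3 a4 x1 x2 x3 x4 r1 r2 r3 r4
    · push_cast at ha4; linarith
    · omega


theorem count720_aux : ∀ n ∈ Nat.divisors 144, n % 5 = 1 → n ≠ 1 → n = 6 ∨ n = 16 ∨ n = 36 := by
  decide +kernel

/-- No simple group has order `720 = 2^4 * 3^2 * 5`. -/
theorem no_720 {G : Type*} [Group G] [Finite G] [IsSimpleGroup G] : Nat.card G ≠ 720 := by
  intro hG
  have hna : ¬ IsMulCommutative G := not_comm_of_not_prime (by rw [hG]; norm_num)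
  have : Fact (Nat.Prime 5) := ⟨by norm_num⟩
  have hfac : Nat.card G = 5 ^ 1 * 144 := by rw [hG]; norm_num
  have h5 : ¬ 5 ∣ 144 := by norm_num
  obtain ⟨hdvd, hmod⟩ := sylow_count (G := G) hfac h5
  have hne1 := sylow_count_ne_one (G := G) hfac h5 one_ne_zero (by norm_num)
  obtain ⟨P⟩ : Nonempty (Sylow 5 G) := inferInstance
  have hP : Nat.card (P : Subgroup G) = 5 := by
    have := sylow_card_eq P hfac h5; rwa [pow_one] at this
  have hNd := card_normalizer_mul_sylow_count P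
  obtain ⟨e, he1, he2, he3⟩ := exists_e P hP (by rw [hG]; norm_num)
  have hele : e ≤ 4 := Nat.le_of_dvd (by norm_num) he1
  rcases count720_aux _ (Nat.mem_divisors.2 ⟨hdvd, by norm_num⟩) hmod hne1 with h6 | h16 | h36
  · have hfact := sylow_count_factorial (p := 5) hna hne1
    rw [h6, hG] at hfact
    revert hfact; decide
  · rw [h16, hG] at hNd
    have hN : Nat.card ↥(Subgroup.normalizer ((P : Subgroup G) : Set G)) = 45 := by omega
    rw [hN] at he3
    have he45 : e ∣ 45 := Dvd.intro_left _ he3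
    interval_cases e <;> omega
  · rw [h36, hG] at hNd
    have hN : Nat.card ↥(Subgroup.normalizer ((P : Subgroup G) : Set G)) = 20 := by omega
    rw [hN] at he3
    have he20 : e ∣ 20 := Dvd.intro_left _ he3
    have he : e = 2 ∨ e = 4 := by
      interval_cases e <;> omega
    rcases he with he | he
    · -- centralizer of order 10
      rw [he] at he3
      have hC : Nat.card (Subgroup.centralizer ((P : Subgroup G) : Set G)) = 5 * 2 := by omega
      have : Fact (Nat.Prime 2) := ⟨Nat.prime_two⟩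
      obtain ⟨u, hu⟩ := exists_prime_orderOf_dvd_card'
        (G := ↥(Subgroup.centralizer ((P : Subgroup G) : Set G))) 2 (by rw [hC]; norm_num)
      have huo : orderOf (u : G) = 2 := by rw [Subgroup.orderOf_coe]; exact hu
      have hu1 : (u : G) ≠ 1 := by
        intro h; rw [h, orderOf_one] at huo; omega
      have m1 := Cfsg.Agent.S1017.card_fixedBy_sylow_modEq P hP (u : G) u.2
      have m2 := Cfsg.Agent.S1017.card_fixedBy_mod_four (G := G) (by rw [hG]; norm_num)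
        (α := Sylow 5 G) (u : G) huo
      have hle := Cfsg.Agent.S1017.card_fixedBy_le (α := Sylow 5 G) (u : G)
      have hnt := Cfsg.Agent.S1017.sylow_action_nontrivial (G := G) (p := 5)
        (by rw [h36]; norm_num)
      have hne := Cfsg.Agent.S1017.card_fixedBy_ne hnt (u : G) hu1
      rw [h36] at m2 hle hne
      have hf : Nat.card (fixedBy (Sylow 5 G) (u : G)) = 16 := by
        unfold Nat.ModEq at m1 m2
        generalize Nat.card (fixedBy (Sylow 5 G) (u : G)) = f at *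
        interval_cases f <;> omega
      have hdiv := central_involution_dvd (by norm_num) P hP hC (u : G) u.2 huo
        (by rw [h36, hf]; norm_num)
      rw [h36, hf] at hdiv
      revert hdiv; decide
    · -- Frobenius normalizer of order 20
      rw [he] at he3
      have hCc : Nat.card (Subgroup.centralizer ((P : Subgroup G) : Set G)) = 5 := by omega
      have hcyc : IsCyclic ↥(P : Subgroup G) := isCyclic_of_prime_card hP
      have hcomm : IsMulCommutative ↥(P : Subgroup G) := ⟨⟨IsCyclic.commGroup.mul_comm⟩⟩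
      have hPC : (P : Subgroup G) ≤ Subgroup.centralizer ((P : Subgroup G) : Set G) :=
        Subgroup.le_centralizer_iff_isMulCommutative.2 hcomm
      have hC : Subgroup.centralizer ((P : Subgroup G) : Set G) = (P : Subgroup G) :=
        (Subgroup.eq_of_le_of_card_ge hPC (by rw [hCc, hP])).symm
      have hperf : commutator G = ⊤ := perfect_of_simple (by rw [hG]; norm_num)
      have := Fintype.ofFinite G
      exact case_frob20_720 hperf hG P hP hC hN

end Cfsg.Agent.Helper17.Sieve
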