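import Mathlib
import Cfsg.Agent.Lib.Helper17.SylowSub

set_option autoImplicit false

namespace Cfsg.Agent.Helper17

/-- Normalizers grow in `p`-groups: a proper subgroup `D` of a finite `p`-subgroup `P` is properly contained in
its normalizer in `P`. -/
theorem exists_mem_normalizer_not_mem {G : Type*} [Group G] [Finite G] {p : ℕ} [Fact p.Prime]
    (P D : Subgroup G) (hP : IsPGroup p P) (hDP : D < P) :
    ∃ x ∈ P, x ∈ Subgroup.normalizer (D : Set G) ∧ x ∉ D := by
  have hnil : Group.IsNilpotent ↥P := hP.isNilpotent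
  have hnc : NormalizerCondition ↥P := Group.normalizerCondition_of_isNilpotent
  have hlt : D.subgroupOf P < ⊤ := by
    rw [lt_top_iff_ne_top]
    intro h
    rw [Subgroup.subgroupOf_eq_top] at h
    exact absurd (le_antisymm hDP.le h) hDP.ne
  have h1 := hnc _ hlt
  obtain ⟨x, hx, hxn⟩ := SetLike.exists_of_lt h1
  rw [← Subgroup.subgroupOf_normalizer_eq hDP.le, Subgroup.mem_subgroupOf] at hx
  rw [Subgroup.mem_subgroupOf] at hxn
  exact ⟨x.1, x.2, hx, hxn⟩

/-- A normal `p`-subgroup is contained in every Sylow `p`-subgroup. -/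
theorem normal_pgroup_le_sylow {N : Type*} [Group N] [Finite N] {p : ℕ} [Fact p.Prime]
    (D : Subgroup N) [hn : D.Normal] (hD : IsPGroup p D) (S : Sylow p N) :
    D ≤ (S : Subgroup N) := by
  obtain ⟨S0, hS0⟩ := hD.exists_le_sylow
  obtain ⟨n, rfl⟩ := MulAction.exists_smul_eq N S0 S
  intro d hd
  rw [mem_smul_sylow_iff]
  apply hS0
  have := hn.conj_mem d hd n⁻¹
  simpa using this

end Cfsg.Agent.Helper17
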