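import Mathlib
import Cfsg.Agent.Lib.Helper17.Order168H

set_option autoImplicit false

namespace Cfsg.Agent.Helper17.U168

open Cfsg.Agent.Helper17 Cfsg.Agent.Helper17.O168

variable {G : Type*} [Group G] [Finite G] [IsSimpleGroup G]

/-- Elements `x`, `y`, `t` of orders `7`, `3`, `2` with `y x y⁻¹ = x²` and `t y t⁻¹ = y⁻¹`. -/
theorem exists_xyt (h : Nat.card G = 168) : ∃ x y t : G, orderOf x = 7 ∧ orderOf y = 3 ∧
    orderOf t = 2 ∧ y * x * y⁻¹ = x ^ 2 ∧ t * y * t⁻¹ = y⁻¹ := by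
  classical
  obtain ⟨x, hx⟩ := exists_prime_orderOf_dvd_card' (G := G) 7 (by rw [h]; norm_num)
  have hx7 : x ^ 7 = 1 := by rw [← hx]; exact pow_orderOf_eq_one x
  have hx1 : x ≠ 1 := by
    rintro rfl
    rw [orderOf_one] at hx; omega
  obtain ⟨P, hxP⟩ := exists_sylow_mem_of_orderOf x hx
  have hzP : Subgroup.zpowers x = (P : Subgroup G) :=
    (zpowers_eq_of_card_prime (P : Subgroup G) (card_P7 h P) x hxP hx1).1
  set N : Subgroup G := Subgroup.normalizer ((P : Subgroup G) : Set G) with hN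
  obtain ⟨y₁', hy₁'⟩ := exists_prime_orderOf_dvd_card' (G := ↥N) 3
    (by rw [card_normalizer7 h P]; norm_num)
  set y₁ : G := (y₁' : G) with hy₁def
  have hy₁ : orderOf y₁ = 3 := by rw [hy₁def, Subgroup.orderOf_coe, hy₁']
  have hy₁3 : y₁ ^ 3 = 1 := by rw [← hy₁]; exact pow_orderOf_eq_one y₁
  have hy₁N : y₁ ∈ N := y₁'.2
  have hconjP : y₁ * x * y₁⁻¹ ∈ Subgroup.zpowers x := by
    rw [hzP]
    exact (Subgroup.mem_normalizer_iff.1 hy₁N x).1 hxP
  have hfin : IsOfFinOrder x := orderOf_pos_iff.1 (by rw [hx]; norm_num)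
  rw [hfin.mem_zpowers_iff_mem_range_orderOf, hx] at hconjP
  obtain ⟨k, hk, hkx⟩ := Finset.mem_image.1 hconjP
  rw [Finset.mem_range] at hk
  have hkx' : y₁ * x * y₁⁻¹ = x ^ k := hkx.symm
  -- iterate
  have h2 : y₁ ^ 2 * x * (y₁ ^ 2)⁻¹ = x ^ (k * k) := by
    calc y₁ ^ 2 * x * (y₁ ^ 2)⁻¹ = y₁ * (y₁ * x * y₁⁻¹) * y₁⁻¹ := by
          simp only [pow_two, mul_inv_rev, mul_assoc]
      _ = y₁ * x ^ k * y₁⁻¹ := by rw [hkx']
      _ = (y₁ * x * y₁⁻¹) ^ k := by rw [conj_pow]
      _ = x ^ (k * k) := by rw [hkx', ← pow_mul]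
  have h3 : x = x ^ (k * k * k) := by
    calc x = y₁ ^ 3 * x * (y₁ ^ 3)⁻¹ := by rw [hy₁3]; simp
      _ = y₁ * (y₁ ^ 2 * x * (y₁ ^ 2)⁻¹) * y₁⁻¹ := by
          simp only [pow_succ, pow_zero, one_mul, mul_inv_rev, mul_assoc]
      _ = y₁ * x ^ (k * k) * y₁⁻¹ := by rw [h2]
      _ = (y₁ * x * y₁⁻¹) ^ (k * k) := by rw [conj_pow]
      _ = x ^ (k * k * k) := by rw [hkx', ← pow_mul, mul_comm k (k * k)]
  have hmod : k * k * k % 7 = 1 := by
    have h4 : x ^ (k * k * k) = x ^ 1 := by rw [pow_one]; exact h3.symm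
    have := (pow_eq_pow_iff_modEq).1 h4
    rw [hx] at this
    exact this
  -- `y₁` does not commute with `x`
  have hk1 : k ≠ 1 := by
    rintro rfl
    rw [pow_one] at hkx'
    have hmem : y₁ ∈ Subgroup.centralizer ({x} : Set G) := by
      rw [Subgroup.mem_centralizer_iff]
      intro z hz
      rw [Set.mem_singleton_iff] at hz
      subst hz
      calc z * y₁ = y₁ * z * y₁⁻¹ * y₁ := by rw [hkx']
        _ = y₁ * z := by group
    rw [centralizer7 h x hx] at hmem
    have := orderOf_dvd_of_mem_zpowers hmem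
    rw [hx, hy₁] at this
    exact absurd this (by decide)
  have hk24 : k = 2 ∨ k = 4 := by
    clear hkx hkx' h2 h3 hconjP
    interval_cases k
    · exact absurd hmod (by decide)
    · exact absurd rfl hk1
    · exact Or.inl rfl
    · exact absurd hmod (by decide)
    · exact Or.inr rfl
    · exact absurd hmod (by decide)
    · exact absurd hmod (by decide)
  -- the involution, for a given `y` of order three
  have hinv : ∀ y : G, orderOf y = 3 → ∃ t : G, orderOf t = 2 ∧ t * y * t⁻¹ = y⁻¹ := by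
    intro y hy
    have hy1 : y ≠ 1 := by
      rintro rfl
      rw [orderOf_one] at hy; omega
    have hy3 : y ^ 3 = 1 := by rw [← hy]; exact pow_orderOf_eq_one y
    obtain ⟨Q, hyQ⟩ := exists_sylow_mem_of_orderOf y hy
    have hzQ : Subgroup.zpowers y = (Q : Subgroup G) :=
      (zpowers_eq_of_card_prime (Q : Subgroup G) (card_P3 h Q) y hyQ hy1).1
    obtain ⟨t', ht'⟩ := exists_prime_orderOf_dvd_card'
      (G := ↥(Subgroup.normalizer ((Q : Subgroup G) : Set G))) 2
      (by rw [card_normalizer3 h Q]; norm_num)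
    have ht : orderOf (t' : G) = 2 := by rw [Subgroup.orderOf_coe, ht']
    refine ⟨(t' : G), ht, ?_⟩
    have hconjQ : (t' : G) * y * (t' : G)⁻¹ ∈ Subgroup.zpowers y := by
      rw [hzQ]
      exact (Subgroup.mem_normalizer_iff.1 t'.2 y).1 hyQ
    have hfy : IsOfFinOrder y := orderOf_pos_iff.1 (by rw [hy]; norm_num)
    rw [hfy.mem_zpowers_iff_mem_range_orderOf, hy] at hconjQ
    obtain ⟨j, hj, hjy⟩ := Finset.mem_image.1 hconjQ
    rw [Finset.mem_range] at hj
    have hjy' : (t' : G) * y * (t' : G)⁻¹ = y ^ j := hjy.symm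
    interval_cases j
    · exfalso
      rw [pow_zero] at hjy'
      apply hy1
      calc y = (t' : G)⁻¹ * ((t' : G) * y * (t' : G)⁻¹) * (t' : G) := by group
        _ = 1 := by rw [hjy']; group
    · exfalso
      rw [pow_one] at hjy'
      have hmem : (t' : G) ∈ Subgroup.centralizer ({y} : Set G) := by
        rw [Subgroup.mem_centralizer_iff]
        intro z hz
        rw [Set.mem_singleton_iff] at hz
        subst hz
        calc z * (t' : G) = (t' : G) * z * (t' : G)⁻¹ * (t' : G) := by rw [hjy']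
          _ = (t' : G) * z := by group
      rw [centralizer3 h y hy] at hmem
      have := orderOf_dvd_of_mem_zpowers hmem
      rw [hy, ht] at this
      exact absurd this (by decide)
    · rw [hjy']
      exact eq_inv_of_mul_eq_one_left (by rw [← pow_succ]; exact hy3)
  rcases hk24 with rfl | rfl
  · obtain ⟨t, ht, hty⟩ := hinv y₁ hy₁
    exact ⟨x, y₁, t, hx, hy₁, ht, hkx', hty⟩
  · have hy2 : orderOf (y₁ ^ 2) = 3 := by
      rw [orderOf_pow' y₁ (by norm_num), hy₁]; norm_num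
    obtain ⟨t, ht, hty⟩ := hinv (y₁ ^ 2) hy2
    refine ⟨x, y₁ ^ 2, t, hx, hy2, ht, ?_, hty⟩
    rw [h2]
    calc x ^ (4 * 4) = (x ^ 7) ^ 2 * x ^ 2 := by rw [← pow_mul, ← pow_add]
      _ = x ^ 2 := by rw [hx7, one_pow, one_mul]

end Cfsg.Agent.Helper17.U168
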