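import Mathlib

set_option autoImplicit false

namespace Cfsg.Agent.Helper17.U168

open Equiv

/-- `z ↦ z + 1` on `ZMod 7`. -/
def x₀ : Perm (ZMod 7) := ⟨fun z => z + 1, fun z => z - 1, fun z => by ring, fun z => by ring⟩
/-- `z ↦ 2 z` on `ZMod 7`. -/
def y₀ : Perm (ZMod 7) := ⟨fun z => 2 * z, fun z => 4 * z, by decide, by decide⟩
/-- `z ↦ -z` on `ZMod 7`. -/
def σ₀ : Perm (ZMod 7) := ⟨fun z => -z, fun z => -z, fun z => neg_neg z, fun z => neg_neg z⟩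
def t₁ : Perm (ZMod 7) := swap 2 4 * swap 5 6
def t₂ : Perm (ZMod 7) := swap 2 4 * swap 3 6
def t₃ : Perm (ZMod 7) := swap 2 4 * swap 3 5

@[simp] theorem x₀_apply (z : ZMod 7) : x₀ z = z + 1 := rfl
@[simp] theorem y₀_apply (z : ZMod 7) : y₀ z = 2 * z := rfl
@[simp] theorem y₀_symm_apply (z : ZMod 7) : y₀.symm z = 4 * z := rfl

set_option maxRecDepth 1000000 in
theorem cands : ∀ τ : Perm (ZMod 7), τ 0 = 0 → (∀ z, τ (2 * z) = 4 * τ z) → τ * τ = 1 →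
    Perm.sign τ = 1 → τ ≠ 1 →
    ∃ k : Fin 3, y₀ ^ (k : ℕ) * τ * (y₀ ^ (k : ℕ))⁻¹ = t₁ ∨
      y₀ ^ (k : ℕ) * τ * (y₀ ^ (k : ℕ))⁻¹ = t₂ ∨
      y₀ ^ (k : ℕ) * τ * (y₀ ^ (k : ℕ))⁻¹ = t₃ := by
  decide +kernel

theorem bad_word : (t₃ * x₀ ^ 2) ^ 5 = 1 ∧ t₃ * x₀ ^ 2 ≠ 1 := by decide +kernel

theorem conj_σ₀_x₀ : σ₀ * x₀ * σ₀⁻¹ = x₀⁻¹ := by decide +kernel

theorem conj_σ₀_y₀ : σ₀ * y₀ * σ₀⁻¹ = y₀ := by decide +kernel

theorem conj_σ₀_t₂ : y₀ ^ 2 * (σ₀ * t₂ * σ₀⁻¹) * (y₀ ^ 2)⁻¹ = t₁ := by decide +kernel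

theorem y₀_fixed : ∀ z : ZMod 7, y₀ z = z → z = 0 := by decide

theorem orderOf_x₀ : orderOf x₀ = 7 := by
  have : Fact (Nat.Prime 7) := ⟨by norm_num⟩
  apply orderOf_eq_prime
  · decide +kernel
  · decide +kernel

theorem orderOf_y₀ : orderOf y₀ = 3 := by
  have : Fact (Nat.Prime 3) := ⟨by norm_num⟩
  apply orderOf_eq_prime
  · decide +kernel
  · decide +kernel

theorem orderOf_t₁ : orderOf t₁ = 2 := by
  have : Fact (Nat.Prime 2) := ⟨by norm_num⟩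
  apply orderOf_eq_prime
  · decide +kernel
  · decide +kernel

end Cfsg.Agent.Helper17.U168
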