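import Mathlib
import Cfsg.Agent.Lib.Helper17.Uniq168A
import Cfsg.Agent.Lib.Helper17.Uniq168Perm

set_option autoImplicit false

namespace Cfsg.Agent.Helper17.U168

open Cfsg.Agent.Helper17 Cfsg.Agent.Helper17.O168 Equiv

variable {G : Type*} [Group G] [Finite G] [IsSimpleGroup G]

omit [Finite G] [IsSimpleGroup G] in
theorem pw_add (x : G) (hx7 : x ^ 7 = 1) (a b : ZMod 7) :
    x ^ (a + b).val = x ^ a.val * x ^ b.val := by
  rw [ZMod.val_add, ← pow_add, pow_eq_pow_mod (a.val + b.val) hx7]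

omit [Finite G] [IsSimpleGroup G] in
theorem pw_two_mul (x : G) (hx7 : x ^ 7 = 1) (a : ZMod 7) :
    x ^ (2 * a).val = (x ^ 2) ^ a.val := by
  rw [ZMod.val_mul, ← pow_mul]
  have h2 : (2 : ZMod 7).val = 2 := rfl
  rw [h2]
  exact (pow_eq_pow_mod (2 * a.val) hx7).symm

/-- The labelled permutation representation on seven points. -/
theorem exists_hom_of_action (h : Nat.card G = 168) {Ω : Type*} [MulAction G Ω]
    [MulAction.IsPretransitive G Ω] (hΩ : Nat.card Ω = 7) (x y t : G) (hx : orderOf x = 7)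
    (hy : orderOf y = 3) (ht : orderOf t = 2) (hyx : y * x * y⁻¹ = x ^ 2)
    (hty : t * y * t⁻¹ = y⁻¹) (ω₀ : Ω) (hω₀ : y • ω₀ = ω₀) :
    ∃ φ : G →* Perm (ZMod 7), Function.Injective φ ∧ φ x = x₀ ∧ φ y = y₀ := by
  classical
  have hfinΩ : Finite Ω := Nat.finite_of_card_ne_zero (by rw [hΩ]; norm_num)
  have hx7 : x ^ 7 = 1 := by rw [← hx]; exact pow_orderOf_eq_one x
  have hstab : ∀ ω : Ω, Nat.card ↥(MulAction.stabilizer G ω) = 24 := by
    intro ω
    have h1 := MulAction.index_stabilizer_of_transitive G ω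
    have h2 := (MulAction.stabilizer G ω).card_mul_index
    rw [h1, hΩ, h] at h2
    omega
  let ℓ : ZMod 7 → Ω := fun z => x ^ z.val • ω₀
  have hℓinj : Function.Injective ℓ := by
    intro a b hab
    have h1 : x ^ a.val • ω₀ = x ^ b.val • ω₀ := hab
    have h2 : x ^ (a - b).val • (x ^ b.val • ω₀) = x ^ b.val • ω₀ := by
      rw [← mul_smul, ← pw_add x hx7, sub_add_cancel, h1]
    have hmem : x ^ (a - b).val ∈ MulAction.stabilizer G (x ^ b.val • ω₀) := h2
    have hd1 : orderOf (x ^ (a - b).val) ∣ 24 := by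
      rw [← hstab (x ^ b.val • ω₀)]; exact Subgroup.orderOf_dvd_natCard _ hmem
    have hd2 : orderOf (x ^ (a - b).val) ∣ 7 := by
      apply orderOf_dvd_of_pow_eq_one
      rw [← pow_mul, mul_comm, pow_mul, hx7, one_pow]
    have hd3 : orderOf (x ^ (a - b).val) ∣ Nat.gcd 24 7 := Nat.dvd_gcd hd1 hd2
    have hone : x ^ (a - b).val = 1 := by
      rw [← orderOf_eq_one_iff]
      exact Nat.dvd_one.1 (by simpa using hd3)
    have hd4 : 7 ∣ (a - b).val := by
      have := orderOf_dvd_of_pow_eq_one hone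
      rwa [hx] at this
    have hlt : (a - b).val < 7 := ZMod.val_lt _
    have hz : (a - b).val = 0 := by omega
    have : a - b = 0 := (ZMod.val_eq_zero _).1 hz
    exact sub_eq_zero.1 this
  have hℓbij : Function.Bijective ℓ := by
    exact (Nat.bijective_iff_injective_and_card ℓ).2 ⟨hℓinj, by rw [hΩ]; simp⟩
  let e : ZMod 7 ≃ Ω := Equiv.ofBijective ℓ hℓbij
  have he : ∀ z, e z = x ^ z.val • ω₀ := fun z => rfl
  let φ : G →* Perm (ZMod 7) :=
    (e.symm.permCongrHom.toMonoidHom).comp (MulAction.toPermHom G Ω)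
  have hφ : ∀ g z, φ g z = e.symm (g • e z) := by
    intro g z
    simp [φ, Equiv.permCongr_apply]
  have hkey : ∀ g z w, g • e z = e w → φ g z = w := by
    intro g z w hgw
    rw [hφ, hgw, Equiv.symm_apply_apply]
  have hφx : φ x = x₀ := by
    ext z
    rw [hkey x z (z + 1)]
    · rfl
    · rw [he, he, ← mul_smul, add_comm z 1, pw_add x hx7]
      have : (1 : ZMod 7).val = 1 := rfl
      rw [this, pow_one]
  have hφy : φ y = y₀ := by
    ext z
    rw [hkey y z (2 * z)]
    · rfl
    · rw [he, he, pw_two_mul x hx7, ← hyx, conj_pow, mul_smul, mul_smul, inv_smul_eq_iff.2 hω₀.symm]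
  refine ⟨φ, ?_, hφx, hφy⟩
  -- injectivity
  have hker : (MulAction.toPermHom G Ω).ker ≠ ⊤ := by
    intro htop
    have hxk : x ∈ (MulAction.toPermHom G Ω).ker := by rw [htop]; exact Subgroup.mem_top x
    rw [MonoidHom.mem_ker] at hxk
    have h1 : x • ω₀ = ω₀ := by
      have := congrArg (fun p : Perm Ω => p ω₀) hxk
      simpa using this
    have h2 : e 1 = e 0 := by
      rw [he, he]
      have h10 : (1 : ZMod 7).val = 1 := rfl
      have h00 : (0 : ZMod 7).val = 0 := rfl
      rw [h10, h00, pow_one, pow_zero, one_smul, h1]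
    have := e.injective h2
    exact absurd this (by decide)
  have hbot : (MulAction.toPermHom G Ω).ker = ⊥ :=
    ((MulAction.toPermHom G Ω).normal_ker.eq_bot_or_eq_top).resolve_right hker
  have hinj0 : Function.Injective (MulAction.toPermHom G Ω) :=
    (MonoidHom.ker_eq_bot_iff _).1 hbot
  exact e.symm.permCongrHom.injective.comp hinj0

end Cfsg.Agent.Helper17.U168
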