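import Mathlib
import Cfsg.Agent.Lib.Helper17.Uniq168B
import Cfsg.Agent.Lib.Helper17.Embed

set_option autoImplicit false

namespace Cfsg.Agent.Helper17.U168

open Cfsg.Agent.Helper17 Cfsg.Agent.Helper17.O168 Equiv

variable {G : Type*} [Group G] [Finite G] [IsSimpleGroup G]

theorem exists_hom_with_t₁ (h : Nat.card G = 168) (φ : G →* Perm (ZMod 7))
    (hinj : Function.Injective φ) (x y t : G) (hφx : φ x = x₀) (hφy : φ y = y₀)
    (ht : orderOf t = 2) (hty : t * y * t⁻¹ = y⁻¹) :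
    ∃ φ' : G →* Perm (ZMod 7), Function.Injective φ' ∧ x₀ ∈ φ'.range ∧ y₀ ∈ φ'.range ∧
      t₁ ∈ φ'.range := by
  set τ : Perm (ZMod 7) := φ t with hτ
  have ht2 : t * t = 1 := by
    have := pow_orderOf_eq_one t
    rwa [ht, pow_two] at this
  have ht1 : t ≠ 1 := by
    rintro rfl
    rw [orderOf_one] at ht; omega
  have hττ : τ * τ = 1 := by rw [hτ, ← map_mul, ht2, map_one]
  have hτ1 : τ ≠ 1 := by
    intro h1
    apply ht1
    apply hinj
    rw [map_one]; exact h1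
  have hsign : Perm.sign τ = 1 := hom_to_comm_trivial (not_comm h) (Perm.sign.comp φ) t
  have hyt : y * t = t * y⁻¹ := by
    have h1 : (t * y * t⁻¹)⁻¹ = y := by rw [hty, inv_inv]
    calc y * t = (t * y * t⁻¹)⁻¹ * t := by rw [h1]
      _ = t * y⁻¹ := by group
  have hty' : t * y = y⁻¹ * t := by
    calc t * y = t * y * t⁻¹ * t := by group
      _ = y⁻¹ * t := by rw [hty]
  have hτ0 : τ 0 = 0 := by
    apply y₀_fixed
    have h1 : y₀ (τ 0) = (φ y * φ t) 0 := by rw [hφy]; rfl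
    rw [h1, ← map_mul, hyt, map_mul, map_inv, hφy]
    show τ (y₀.symm 0) = τ 0
    rw [y₀_symm_apply, mul_zero]
  have hτ2 : ∀ z, τ (2 * z) = 4 * τ z := by
    intro z
    have h1 : τ (2 * z) = (φ t * φ y) z := by rw [hφy]; rfl
    rw [h1, ← map_mul, hty', map_mul, map_inv, hφy]
    show y₀.symm (τ z) = 4 * τ z
    rw [y₀_symm_apply]
  obtain ⟨k, hk⟩ := cands τ hτ0 hτ2 hττ hsign hτ1
  set g : G := y ^ (k : ℕ) * t * (y ^ (k : ℕ))⁻¹ with hg
  have hφg : φ g = y₀ ^ (k : ℕ) * τ * (y₀ ^ (k : ℕ))⁻¹ := by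
    rw [hg, map_mul, map_mul, map_inv, map_pow, hφy]
  rcases hk with hk | hk | hk
  · exact ⟨φ, hinj, ⟨x, hφx⟩, ⟨y, hφy⟩, ⟨g, by rw [hφg, hk]⟩⟩
  · refine ⟨(MulAut.conj σ₀).toMonoidHom.comp φ, (MulAut.conj σ₀).injective.comp hinj, ?_, ?_, ?_⟩
    · refine ⟨x⁻¹, ?_⟩
      simp only [MonoidHom.comp_apply, map_inv, hφx, MulEquiv.coe_toMonoidHom,
        MulAut.conj_apply]
      rw [conj_σ₀_x₀, inv_inv]
    · refine ⟨y, ?_⟩
      simp only [MonoidHom.comp_apply, hφy, MulEquiv.coe_toMonoidHom, MulAut.conj_apply]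
      exact conj_σ₀_y₀
    · refine ⟨y ^ 2 * g * (y ^ 2)⁻¹, ?_⟩
      simp only [MonoidHom.comp_apply, map_mul, map_inv, map_pow, hφy, hφg, hk,
        MulEquiv.coe_toMonoidHom, MulAut.conj_apply]
      rw [← conj_σ₀_t₂]
      rw [conj_σ₀_y₀]
  · exfalso
    have : Fact (Nat.Prime 5) := ⟨by norm_num⟩
    have hw : orderOf (t₃ * x₀ ^ 2) = 5 := orderOf_eq_prime bad_word.1 bad_word.2
    have hφw : φ (g * x ^ 2) = t₃ * x₀ ^ 2 := by
      rw [map_mul, map_pow, hφx, hφg, hk]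
    have ho : orderOf (g * x ^ 2) = 5 := by
      rw [← orderOf_injective φ hinj, hφw, hw]
    rcases orderOf_mem h (g * x ^ 2) with h' | h' | h' | h' | h' <;> omega

end Cfsg.Agent.Helper17.U168
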