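import Mathlib
import Cfsg.Agent.Lib.Helper17.Uniq168C

set_option autoImplicit false

namespace Cfsg.Agent.Helper17.U168

open Cfsg.Agent.Helper17 Cfsg.Agent.Helper17.O168 Equiv

theorem exists_hom {G : Type*} [Group G] [Finite G] [IsSimpleGroup G] (h : Nat.card G = 168) :
    ∃ φ : G →* Perm (ZMod 7), Function.Injective φ ∧ x₀ ∈ φ.range ∧ y₀ ∈ φ.range ∧
      t₁ ∈ φ.range := by
  obtain ⟨x, y, t, hx, hy, ht, hyx, hty⟩ := exists_xyt h
  obtain ⟨T⟩ : Nonempty (Sylow 2 G) := inferInstance
  obtain ⟨U, -, hU⟩ := exists_klein_in_sylow h T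
  set M : Subgroup G := Subgroup.normalizer (U : Set G) with hM
  have hMc : Nat.card M = 24 := card_normalizer_klein h U hU
  have hΩ : Nat.card (G ⧸ M) = 7 := by
    have h1 := M.card_mul_index
    rw [hMc, h] at h1
    have : M.index = 7 := by omega
    rw [← this]; rfl
  obtain ⟨y', hy'⟩ := exists_prime_orderOf_dvd_card' (G := ↥M) 3 (by rw [hMc]; norm_num)
  have hy'3 : orderOf (y' : G) = 3 := by rw [Subgroup.orderOf_coe, hy']
  obtain ⟨c, hc⟩ := isConj_iff.1 (isConj_order3 h (y' : G) y hy'3 hy)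
  have hω₀ : y • (QuotientGroup.mk c : G ⧸ M) = QuotientGroup.mk c := by
    show (QuotientGroup.mk (y * c) : G ⧸ M) = QuotientGroup.mk c
    rw [QuotientGroup.eq]
    have : (y * c)⁻¹ * c = c⁻¹ * y⁻¹ * c := by group
    rw [this, ← hc]
    have : c⁻¹ * (c * (y' : G) * c⁻¹)⁻¹ * c = (y' : G)⁻¹ := by group
    rw [this]
    exact M.inv_mem y'.2
  obtain ⟨φ, hinj, hφx, hφy⟩ := exists_hom_of_action h hΩ x y t hx hy ht hyx hty _ hω₀
  exact exists_hom_with_t₁ h φ hinj x y t hφx hφy ht hty

/-- The image of such a representation is the subgroup generated by the three permutations. -/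
theorem range_eq_closure {G : Type*} [Group G] [Finite G] [IsSimpleGroup G]
    (h : Nat.card G = 168) (φ : G →* Perm (ZMod 7)) (hinj : Function.Injective φ)
    (hx : x₀ ∈ φ.range) (hy : y₀ ∈ φ.range) (ht : t₁ ∈ φ.range) :
    φ.range = Subgroup.closure ({x₀, y₀, t₁} : Set (Perm (ZMod 7))) := by
  set K : Subgroup (Perm (ZMod 7)) := Subgroup.closure ({x₀, y₀, t₁} : Set (Perm (ZMod 7)))
    with hK
  have hKle : K ≤ φ.range := by
    rw [hK, Subgroup.closure_le]
    intro p hp
    rcases hp with rfl | rfl | rfl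
    · exact hx
    · exact hy
    · exact ht
  apply le_antisymm _ hKle
  set H : Subgroup G := K.comap φ with hH
  obtain ⟨gx, hgx⟩ := hx
  obtain ⟨gy, hgy⟩ := hy
  obtain ⟨gt, hgt⟩ := ht
  have hgxH : gx ∈ H := by
    rw [hH, Subgroup.mem_comap, hgx]; exact Subgroup.subset_closure (by simp)
  have hgyH : gy ∈ H := by
    rw [hH, Subgroup.mem_comap, hgy]; exact Subgroup.subset_closure (by simp)
  have hgtH : gt ∈ H := by
    rw [hH, Subgroup.mem_comap, hgt]; exact Subgroup.subset_closure (by simp)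
  have hox : orderOf gx = 7 := by rw [← orderOf_injective φ hinj, hgx, orderOf_x₀]
  have hoy : orderOf gy = 3 := by rw [← orderOf_injective φ hinj, hgy, orderOf_y₀]
  have hot : orderOf gt = 2 := by rw [← orderOf_injective φ hinj, hgt, orderOf_t₁]
  have h7 : 7 ∣ Nat.card H := hox ▸ Subgroup.orderOf_dvd_natCard H hgxH
  have h3 : 3 ∣ Nat.card H := hoy ▸ Subgroup.orderOf_dvd_natCard H hgyH
  have h2 : 2 ∣ Nat.card H := hot ▸ Subgroup.orderOf_dvd_natCard H hgtH
  have h42 : 42 ∣ Nat.card H := by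
    have h6 : 6 ∣ Nat.card H := Nat.Coprime.mul_dvd_of_dvd_of_dvd (by norm_num) h2 h3
    exact Nat.Coprime.mul_dvd_of_dvd_of_dvd (by norm_num) h6 h7
  have hd : Nat.card H ∣ 168 := h ▸ Subgroup.card_subgroup_dvd_card H
  have htop : H = ⊤ := by
    by_contra hne
    have hfac := two_mul_card_dvd_factorial (not_comm h) H hne
    have hidx := H.card_mul_index
    rw [h] at hidx hfac
    obtain ⟨k, hk⟩ := h42
    rw [hk] at hd hidx
    have hk4 : k ∣ 4 := by
      have : 42 * k ∣ 42 * 4 := by simpa using hd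
      exact Nat.dvd_of_mul_dvd_mul_left (by norm_num) this
    have hle := Nat.le_of_dvd (by norm_num) hk4
    have hi : H.index * k = 4 := by
      have : 42 * (k * H.index) = 42 * 4 := by rw [← mul_assoc]; exact hidx
      have := Nat.eq_of_mul_eq_mul_left (by norm_num : 0 < 42) this
      rw [mul_comm]; exact this
    have hile : H.index ≤ 4 := by
      rcases Nat.eq_zero_or_pos k with h0 | h0
      · rw [h0] at hi; omega
      · calc H.index ≤ H.index * k := Nat.le_mul_of_pos_right _ h0
          _ = 4 := hi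
    generalize H.index = i at *
    interval_cases i <;> first | omega | (revert hfac; decide)
  rintro p ⟨g, rfl⟩
  have : g ∈ H := by rw [htop]; exact Subgroup.mem_top g
  exact this

/-- Any two simple groups of order `168` are isomorphic. -/
theorem iso_of_simple_168 {G G' : Type*} [Group G] [Finite G] [IsSimpleGroup G] [Group G']
    [Finite G'] [IsSimpleGroup G'] (h : Nat.card G = 168) (h' : Nat.card G' = 168) :
    Nonempty (G ≃* G') := by
  obtain ⟨φ, hinj, hx, hy, ht⟩ := exists_hom h
  obtain ⟨φ', hinj', hx', hy', ht'⟩ := exists_hom h'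
  have e1 := range_eq_closure h φ hinj hx hy ht
  have e2 := range_eq_closure h' φ' hinj' hx' hy' ht'
  exact ⟨(MonoidHom.ofInjective hinj).trans
    ((MulEquiv.subgroupCongr (e1.trans e2.symm)).trans (MonoidHom.ofInjective hinj').symm)⟩

end Cfsg.Agent.Helper17.U168
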